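import Mathlib
import Cfsg.Agent.Lib.Helper1.MEO.Defs

/-!
# Project MEO (S2264), piece C : `exists_orbit`
-/

set_option autoImplicit false

namespace Cfsg.Agent.Lib.Helper1.MEO

/-- iterated Frobenius is injective -/
theorem h19_meo_inj {K : Type*} [Field K] (q : ℕ)
    (hinj : ∀ x y : K, x ^ q = y ^ q → x = y) :
    ∀ (j : ℕ) (x y : K), x ^ (q ^ j) = y ^ (q ^ j) → x = y
  | 0, x, y, h => by simpa using h
  | j + 1, x, y, h => by
    rw [pow_succ, pow_mul, pow_mul] at h
    exact h19_meo_inj q hinj j x y (hinj _ _ h)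

/-- MEO-C -/
theorem exists_orbit {K : Type*} [Field K] [DecidableEq K] (q : ℕ)
    (hinj : ∀ x y : K, x ^ q = y ^ q → x = y)
    (lam : K) (h0 : lam ≠ 0) (h1 : lam ^ 2 ≠ 1) (hfin : ∃ n : ℕ, 1 ≤ n ∧ lam ^ (q ^ n) = lam) :
    ∃ (c : ℕ) (ε : Bool) (O : Finset K), 1 ≤ c ∧ lam ∈ O ∧ O.card = 2 * c ∧
      (∀ x ∈ O, x ^ q ∈ O ∧ x⁻¹ ∈ O) ∧
      (∀ x ∈ O, ∃ j : ℕ, x = lam ^ (q ^ j) ∨ x = (lam ^ (q ^ j))⁻¹) ∧
      (∀ x ∈ O, x ^ (q ^ c) = if ε then x⁻¹ else x) := by
  classical
  -- minimal period
  set n : ℕ := Nat.find hfin with hn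
  obtain ⟨hn1, hnlam⟩ : 1 ≤ n ∧ lam ^ (q ^ n) = lam := Nat.find_spec hfin
  have hmin : ∀ m : ℕ, 1 ≤ m → m < n → lam ^ (q ^ m) ≠ lam := by
    intro m hm1 hmn hm
    exact Nat.find_min hfin hmn ⟨hm1, hm⟩
  -- the Frobenius orbit map
  set f : ℕ → K := fun j => lam ^ (q ^ j) with hf
  have hf0 : f 0 = lam := by simp [hf]
  have hfadd : ∀ i j : ℕ, f (i + j) = (f i) ^ (q ^ j) := by
    intro i j
    simp only [hf]
    rw [pow_add, pow_mul]
  have hfn : f n = lam := hnlam
  have hfper : ∀ j : ℕ, f (j + n) = f j := by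
    intro j
    rw [add_comm, hfadd, hfn]
  have hfmod : ∀ j : ℕ, f j = f (j % n) := by
    intro j
    induction j using Nat.strong_induction_on with
    | _ j ih =>
      by_cases hj : j < n
      · rw [Nat.mod_eq_of_lt hj]
      · have hle : n ≤ j := Nat.le_of_not_lt hj
        have h2 : j = (j - n) + n := (Nat.sub_add_cancel hle).symm
        have h3 : f j = f (j - n) := by
          conv_lhs => rw [h2]
          exact hfper _
        rw [h3, ih (j - n) (by omega)]
        congr 1
        conv_rhs => rw [h2]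
        exact (Nat.add_mod_right _ _).symm
  have hfinv : ∀ j : ℕ, (f j)⁻¹ = (lam⁻¹) ^ (q ^ j) := by
    intro j
    simp only [hf]
    rw [inv_pow]
  -- injectivity on `range n`
  have hfinj : ∀ i j : ℕ, i < n → j < n → f i = f j → i = j := by
    have key : ∀ i j : ℕ, i < j → j < n → f i ≠ f j := by
      intro i j hij hjn heq
      have h2 : j = i + (j - i) := by omega
      rw [h2, add_comm, hfadd] at heq
      -- f i = lam^(q^i), (f (j-i))^(q^i)
      have h3 : lam ^ (q ^ i) = (f (j - i)) ^ (q ^ i) := heq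
      have h4 := h19_meo_inj q hinj i _ _ h3
      exact hmin (j - i) (by omega) (by omega) h4.symm
    intro i j hi hj heq
    rcases Nat.lt_trichotomy i j with h | h | h
    · exact absurd heq (key i j h hj)
    · exact h
    · exact absurd heq.symm (key j i h hi)
  set FO : Finset K := (Finset.range n).image f with hFO
  have hFOcard : FO.card = n := by
    rw [hFO, Finset.card_image_of_injOn, Finset.card_range]
    intro i hi j hj heq
    exact hfinj i j (Finset.mem_range.1 hi) (Finset.mem_range.1 hj) heq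
  have hmemFO : ∀ j : ℕ, f j ∈ FO := by
    intro j
    rw [hfmod j]
    exact Finset.mem_image_of_mem f (Finset.mem_range.2 (Nat.mod_lt _ hn1))
  have hFOform : ∀ x ∈ FO, ∃ j : ℕ, x = f j := by
    intro x hx
    obtain ⟨j, -, rfl⟩ := Finset.mem_image.1 hx
    exact ⟨j, rfl⟩
  have hfq : ∀ j : ℕ, (f j) ^ q = f (j + 1) := by
    intro j
    rw [hfadd, pow_one]
  by_cases hcase : ∃ k : ℕ, k < n ∧ lam⁻¹ = f k
  · -- case (i)
    obtain ⟨k, hkn, hk⟩ := hcase
    have hk0 : k ≠ 0 := by
      intro hk0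
      rw [hk0, hf0] at hk
      apply h1
      rw [pow_two]
      calc lam * lam = lam * lam⁻¹ := by rw [hk]
        _ = 1 := mul_inv_cancel₀ h0
    have hf2k : f (k + k) = lam := by
      rw [hfadd, ← hk, inv_pow]
      have : lam ^ (q ^ k) = f k := rfl
      rw [this, ← hk, inv_inv]
    have hmod0 : (k + k) % n = 0 := by
      have h2 : f ((k + k) % n) = f 0 := by
        rw [← hfmod, hf2k, hf0]
      exact hfinj _ _ (Nat.mod_lt _ hn1) hn1 h2
    have hn2k : n = 2 * k := by
      obtain ⟨d, hd⟩ := Nat.dvd_of_mod_eq_zero hmod0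
      have hd1 : d = 1 := by
        rcases Nat.lt_trichotomy d 1 with h | h | h
        · have : d = 0 := by omega
          rw [this] at hd
          omega
        · exact h
        · have : n * 2 ≤ n * d := Nat.mul_le_mul_left n h
          omega
      rw [hd1] at hd
      omega
    have hinvf : ∀ j : ℕ, (f j)⁻¹ = f (k + j) := by
      intro j
      rw [hfinv, hk, hfadd]
    refine ⟨k, true, FO, Nat.one_le_iff_ne_zero.2 hk0, ?_, ?_, ?_, ?_, ?_⟩
    · rw [← hf0]
      exact hmemFO 0
    · rw [hFOcard, hn2k]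
    · intro x hx
      obtain ⟨j, rfl⟩ := hFOform x hx
      refine ⟨?_, ?_⟩
      · rw [hfq]
        exact hmemFO _
      · rw [hinvf]
        exact hmemFO _
    · intro x hx
      obtain ⟨j, rfl⟩ := hFOform x hx
      exact ⟨j, Or.inl rfl⟩
    · intro x hx
      obtain ⟨j, rfl⟩ := hFOform x hx
      simp only [if_true]
      rw [← hfadd, add_comm, hinvf]
  · -- case (ii)
    push Not at hcase
    set FI : Finset K := FO.image (fun x => x⁻¹) with hFI
    have hFIcard : FI.card = n := by
      rw [hFI, Finset.card_image_of_injective _ inv_injective, hFOcard]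
    have hdisj : Disjoint FO FI := by
      rw [Finset.disjoint_left]
      intro x hx hx'
      obtain ⟨i, rfl⟩ := hFOform x hx
      obtain ⟨y, hy, hyx⟩ := Finset.mem_image.1 hx'
      obtain ⟨j, rfl⟩ := hFOform y hy
      -- (f j)⁻¹ = f i ; apply Frobenius^(n - j % n) ...
      have hjn : j % n < n := Nat.mod_lt _ hn1
      have h2 : (f (j % n)) ^ (q ^ (n - j % n)) = lam := by
        rw [← hfadd]
        have : j % n + (n - j % n) = n := by omega
        rw [this, hfn]
      have h3 : lam⁻¹ = f (i + (n - j % n)) := by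
        rw [hfadd, ← hyx, ← h2, hfmod j, inv_pow]
      rw [hfmod (i + (n - j % n))] at h3
      exact hcase _ (Nat.mod_lt _ hn1) h3
    refine ⟨n, false, FO ∪ FI, hn1, ?_, ?_, ?_, ?_, ?_⟩
    · rw [← hf0]
      exact Finset.mem_union_left _ (hmemFO 0)
    · rw [Finset.card_union_of_disjoint hdisj, hFOcard, hFIcard]
      ring
    · intro x hx
      rcases Finset.mem_union.1 hx with hx | hx
      · obtain ⟨j, rfl⟩ := hFOform x hx
        refine ⟨Finset.mem_union_left _ ?_, Finset.mem_union_right _ ?_⟩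
        · rw [hfq]
          exact hmemFO _
        · exact Finset.mem_image_of_mem _ (hmemFO j)
      · obtain ⟨y, hy, rfl⟩ := Finset.mem_image.1 hx
        obtain ⟨j, rfl⟩ := hFOform y hy
        refine ⟨Finset.mem_union_right _ ?_, Finset.mem_union_left _ ?_⟩
        · rw [inv_pow, hfq]
          exact Finset.mem_image_of_mem _ (hmemFO _)
        · rw [inv_inv]
          exact hmemFO j
    · intro x hx
      rcases Finset.mem_union.1 hx with hx | hx
      · obtain ⟨j, rfl⟩ := hFOform x hx
        exact ⟨j, Or.inl rfl⟩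
      · obtain ⟨y, hy, rfl⟩ := Finset.mem_image.1 hx
        obtain ⟨j, rfl⟩ := hFOform y hy
        exact ⟨j, Or.inr rfl⟩
    · intro x hx
      simp only [Bool.false_eq_true, if_false]
      rcases Finset.mem_union.1 hx with hx | hx
      · obtain ⟨j, rfl⟩ := hFOform x hx
        rw [← hfadd, hfper]
      · obtain ⟨y, hy, rfl⟩ := Finset.mem_image.1 hx
        obtain ⟨j, rfl⟩ := hFOform y hy
        rw [inv_pow, ← hfadd, hfper]

end Cfsg.Agent.Lib.Helper1.MEO
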