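import Mathlib
import Cfsg.Agent.Lib.Helper1.MEO.Defs

/-!
# Project MEO (S2264), piece D : `exists_types`
-/

set_option autoImplicit false

namespace Cfsg.Agent.Lib.Helper1.MEO

/-- iterated Frobenius is injective (copy local to piece D) -/
theorem h19_meod_inj {K : Type*} [Field K] (q : ℕ)
    (hinj : ∀ x y : K, x ^ q = y ^ q → x = y) :
    ∀ (j : ℕ) (x y : K), x ^ (q ^ j) = y ^ (q ^ j) → x = y
  | 0, x, y, h => by simpa using h
  | j + 1, x, y, h => by
    rw [pow_succ, pow_mul, pow_mul] at h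
    exact h19_meod_inj q hinj j x y (hinj _ _ h)

/-- a Frobenius-closed finite set is closed under iterated Frobenius -/
theorem h19_meod_iter {K : Type*} [Field K] (q : ℕ) (X : Finset K)
    (hXq : ∀ x ∈ X, x ^ q ∈ X) : ∀ (j : ℕ), ∀ x ∈ X, x ^ (q ^ j) ∈ X
  | 0, x, hx => by simpa using hx
  | j + 1, x, hx => by
    rw [pow_succ, pow_mul]
    exact hXq _ (h19_meod_iter q X hXq j x hx)

/-- every element of a Frobenius-closed finite set is periodic -/
theorem h19_meod_periodic {K : Type*} [Field K] [DecidableEq K] (q : ℕ)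
    (hinj : ∀ x y : K, x ^ q = y ^ q → x = y) (X : Finset K)
    (hXq : ∀ x ∈ X, x ^ q ∈ X) (lam : K) (hlam : lam ∈ X) :
    ∃ n : ℕ, 1 ≤ n ∧ lam ^ (q ^ n) = lam := by
  have hmaps : ∀ j ∈ Finset.range (X.card + 1), lam ^ (q ^ j) ∈ X :=
    fun j _ => h19_meod_iter q X hXq j lam hlam
  have hcard : X.card < (Finset.range (X.card + 1)).card := by
    rw [Finset.card_range]
    exact Nat.lt_succ_self _
  obtain ⟨i, -, j, -, hij, heq⟩ := Finset.exists_ne_map_eq_of_card_lt_of_maps_to hcard hmaps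
  have key : ∀ i j : ℕ, i < j → lam ^ (q ^ i) = lam ^ (q ^ j) →
      ∃ n : ℕ, 1 ≤ n ∧ lam ^ (q ^ n) = lam := by
    intro i j hlt heq
    refine ⟨j - i, by omega, ?_⟩
    have h2 : j = (j - i) + i := by omega
    rw [h2, pow_add, pow_mul] at heq
    exact (h19_meod_inj q hinj i _ _ heq).symm
  rcases Nat.lt_or_gt_of_ne hij with h | h
  · exact key i j h heq
  · exact key j i h heq.symm

/-- MEO-D -/
theorem exists_types {K : Type*} [Field K] [DecidableEq K] (q : ℕ)
    (hinj : ∀ x y : K, x ^ q = y ^ q → x = y)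
    (horb : ∀ lam : K, lam ≠ 0 → lam ^ 2 ≠ 1 → (∃ n : ℕ, 1 ≤ n ∧ lam ^ (q ^ n) = lam) →
      ∃ (c : ℕ) (ε : Bool) (O : Finset K), 1 ≤ c ∧ lam ∈ O ∧ O.card = 2 * c ∧
        (∀ x ∈ O, x ^ q ∈ O ∧ x⁻¹ ∈ O) ∧
        (∀ x ∈ O, ∃ j : ℕ, x = lam ^ (q ^ j) ∨ x = (lam ^ (q ^ j))⁻¹) ∧
        (∀ x ∈ O, x ^ (q ^ c) = if ε then x⁻¹ else x))
    (X : Finset K) (hX0 : ∀ x ∈ X, x ≠ 0) (hX1 : ∀ x ∈ X, x ^ 2 ≠ 1)
    (hXq : ∀ x ∈ X, x ^ q ∈ X) (hXi : ∀ x ∈ X, x⁻¹ ∈ X) :
    ∃ D : Finset (ℕ × Bool), (∀ d ∈ D, 1 ≤ d.1) ∧ 2 * D.sum (fun d => d.1) ≤ X.card ∧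
      ∀ x ∈ X, ∃ d ∈ D, x ^ (q ^ d.1) = if d.2 then x⁻¹ else x := by
  classical
  induction hN : X.card using Nat.strong_induction_on generalizing X with
  | _ N ih =>
    by_cases hXe : X = ∅
    · refine ⟨∅, ?_, ?_, ?_⟩
      · intro d hd
        exact absurd hd (Finset.notMem_empty d)
      · simp
      · intro x hx
        rw [hXe] at hx
        exact absurd hx (Finset.notMem_empty x)
    · obtain ⟨lam, hlam⟩ := Finset.nonempty_iff_ne_empty.2 hXe
      obtain ⟨c, ε, O, hc1, hlamO, hOcard, hOcl, hOform, hOpow⟩ :=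
        horb lam (hX0 lam hlam) (hX1 lam hlam) (h19_meod_periodic q hinj X hXq lam hlam)
      -- `O ⊆ X`
      have hOX : O ⊆ X := by
        intro x hx
        obtain ⟨j, hj | hj⟩ := hOform x hx
        · rw [hj]
          exact h19_meod_iter q X hXq j lam hlam
        · rw [hj]
          exact hXi _ (h19_meod_iter q X hXq j lam hlam)
      -- Frobenius is onto `O`
      have hOimg : O.image (fun x => x ^ q) = O := by
        apply Finset.eq_of_subset_of_card_le
        · intro y hy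
          obtain ⟨x, hx, rfl⟩ := Finset.mem_image.1 hy
          exact (hOcl x hx).1
        · rw [Finset.card_image_of_injOn]
          intro x _ y _ hxy
          exact hinj x y hxy
      set X' : Finset K := X \ O with hX'
      have hX'sub : X' ⊆ X := Finset.sdiff_subset
      have hX'card : X'.card + 2 * c = X.card := by
        rw [hX', ← hOcard]
        exact Finset.card_sdiff_add_card_eq_card hOX
      have hX'q : ∀ x ∈ X', x ^ q ∈ X' := by
        intro x hx
        obtain ⟨hxX, hxO⟩ := Finset.mem_sdiff.1 hx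
        refine Finset.mem_sdiff.2 ⟨hXq x hxX, ?_⟩
        intro hmem
        rw [← hOimg] at hmem
        obtain ⟨y, hy, hyx⟩ := Finset.mem_image.1 hmem
        have : y = x := hinj y x hyx
        rw [this] at hy
        exact hxO hy
      have hX'i : ∀ x ∈ X', x⁻¹ ∈ X' := by
        intro x hx
        obtain ⟨hxX, hxO⟩ := Finset.mem_sdiff.1 hx
        refine Finset.mem_sdiff.2 ⟨hXi x hxX, ?_⟩
        intro hmem
        have := (hOcl _ hmem).2
        rw [inv_inv] at this
        exact hxO this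
      obtain ⟨D', hD'1, hD'sum, hD'pow⟩ := ih X'.card (by omega) X'
        (fun x hx => hX0 x (hX'sub hx)) (fun x hx => hX1 x (hX'sub hx)) hX'q hX'i rfl
      refine ⟨insert (c, ε) D', ?_, ?_, ?_⟩
      · intro d hd
        rcases Finset.mem_insert.1 hd with rfl | hd
        · exact hc1
        · exact hD'1 d hd
      · by_cases hmem : (c, ε) ∈ D'
        · rw [Finset.insert_eq_of_mem hmem]
          omega
        · rw [Finset.sum_insert hmem]
          show 2 * (c + D'.sum (fun d => d.1)) ≤ N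
          omega
      · intro x hx
        by_cases hxO : x ∈ O
        · exact ⟨(c, ε), Finset.mem_insert_self _ _, hOpow x hxO⟩
        · obtain ⟨d, hd, hdx⟩ := hD'pow x (Finset.mem_sdiff.2 ⟨hx, hxO⟩)
          exact ⟨d, Finset.mem_insert_of_mem hd, hdx⟩

end Cfsg.Agent.Lib.Helper1.MEO
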