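import Mathlib
import Cfsg.Prelude.Def_Solvable
import Cfsg.Agent.S4253
import Cfsg.Agent.Lib.Helper20.Derangement

set_option autoImplicit false

namespace Cfsg.Agent.Lib.Helper19

open MulAction Cfsg.Agent.Lib.Helper20
open scoped Pointwise

variable {G : Type*} [Group G]

theorem mem_conj_smul_iff' (g : G) (M : Subgroup G) (y : G) :
    y ∈ MulAut.conj g • M ↔ g⁻¹ * y * g ∈ M := Cfsg.Agent.S4253.mem_conj_smul g M y

/-- `g` fixes the coset `xH` iff `g` lies in the conjugate `x H x⁻¹`. -/
theorem smul_mk_eq_iff (H : Subgroup G) (g x : G) :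
    g • (QuotientGroup.mk x : G ⧸ H) = QuotientGroup.mk x ↔ g ∈ MulAut.conj x • H := by
  rw [mem_conj_smul_iff']
  have h1 : g • (QuotientGroup.mk x : G ⧸ H) = QuotientGroup.mk (g * x) := rfl
  rw [h1, QuotientGroup.eq]
  have e : x⁻¹ * g * x = ((g * x)⁻¹ * x)⁻¹ := by group
  rw [e, inv_mem_iff]

theorem mem_frobeniusKernel_iff (H : Subgroup G) (g : G) :
    g ∈ Cfsg.frobeniusKernel H ↔ g = 1 ∨ ∀ a : G ⧸ H, g • a ≠ a := by
  constructor
  · rintro (h | h)
    · exact Or.inl h
    · right
      intro a
      obtain ⟨x, rfl⟩ := QuotientGroup.mk_surjective a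
      intro hfix
      exact h x ((smul_mk_eq_iff H g x).mp hfix)
  · rintro (h | h)
    · exact Or.inl h
    · right
      intro x hx
      exact h _ ((smul_mk_eq_iff H g x).mpr hx)

theorem one_mem_frobeniusKernel (H : Subgroup G) : (1 : G) ∈ Cfsg.frobeniusKernel H := Or.inl rfl

open Classical in
/-- The number of fixed cosets of `g` acting on `G ⧸ H`, for a Frobenius complement `H`. -/
theorem card_fixedBy_frobenius [Finite G] (H : Subgroup G) (hH : Cfsg.IsFrobeniusComplement H) (g : G) :
    Nat.card (fixedBy (G ⧸ H) g) =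
      (if g = 1 then H.index else 0) + (if g ∈ Cfsg.frobeniusKernel H then 0 else 1) := by
  classical
  by_cases hg : g = 1
  · subst hg
    rw [if_pos rfl, if_pos (one_mem_frobeniusKernel H), add_zero]
    have : fixedBy (G ⧸ H) (1 : G) = Set.univ := by
      ext a; simp [mem_fixedBy]
    rw [this, Nat.card_congr (Equiv.Set.univ _)]
    rfl
  · rw [if_neg hg, zero_add]
    by_cases hk : g ∈ Cfsg.frobeniusKernel H
    · rw [if_pos hk]
      rcases (mem_frobeniusKernel_iff H g).mp hk with h | h
      · exact absurd h hg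
      · have : IsEmpty (fixedBy (G ⧸ H) g) := ⟨fun a => h a.1 a.2⟩
        exact Nat.card_of_isEmpty
    · rw [if_neg hk]
      have hex : ∃ a : G ⧸ H, g • a = a := by
        by_contra hne
        apply hk
        rw [mem_frobeniusKernel_iff]
        right
        intro a ha
        exact hne ⟨a, ha⟩
      obtain ⟨a, ha⟩ := hex
      have : Subsingleton (fixedBy (G ⧸ H) g) :=
        ⟨fun b c => Subtype.ext (Cfsg.Agent.S4253.result H hH g hg b.1 c.1 b.2 c.2)⟩
      have : Nonempty (fixedBy (G ⧸ H) g) := ⟨⟨a, ha⟩⟩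
      exact Nat.card_unique

/-- The Frobenius kernel has exactly `[G : H]` elements. -/
theorem card_frobeniusKernel [Finite G] (H : Subgroup G) (hH : Cfsg.IsFrobeniusComplement H) :
    Nat.card (Cfsg.frobeniusKernel H) = H.index := by
  classical
  have : Fintype G := Fintype.ofFinite G
  have hB := burnside_top (G := G) (Ω := G ⧸ H)
  rw [card_orbits_eq_one_of_pretransitive, one_mul] at hB
  simp_rw [card_fixedBy_frobenius H hH] at hB
  rw [Finset.sum_add_distrib, Finset.sum_ite_eq' Finset.univ (1 : G), if_pos (Finset.mem_univ _)] at hB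
  have hsplit : ∑ g : G, (if g ∈ Cfsg.frobeniusKernel H then 1 else 0) +
      ∑ g : G, (if g ∈ Cfsg.frobeniusKernel H then 0 else 1) = Nat.card G := by
    rw [← Finset.sum_add_distrib, Nat.card_eq_fintype_card, ← Finset.card_univ, Finset.card_eq_sum_ones]
    apply Finset.sum_congr rfl
    intro g _
    split_ifs <;> rfl
  have hK : ∑ g : G, (if g ∈ Cfsg.frobeniusKernel H then 1 else 0) = Nat.card (Cfsg.frobeniusKernel H) := by
    rw [Finset.sum_boole, Nat.card_eq_fintype_card, Fintype.card_subtype]
    simp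
  omega

open Classical in
/-- The number of elements outside the Frobenius kernel plus `[G : H]` is `|G|`. -/
theorem card_compl_frobeniusKernel [Fintype G] (H : Subgroup G) (hH : Cfsg.IsFrobeniusComplement H) :
    ∑ g : G, (if g ∈ Cfsg.frobeniusKernel H then 0 else 1) + H.index = Nat.card G := by
  have hsplit : ∑ g : G, (if g ∈ Cfsg.frobeniusKernel H then 1 else 0) +
      ∑ g : G, (if g ∈ Cfsg.frobeniusKernel H then 0 else 1) = Nat.card G := by
    rw [← Finset.sum_add_distrib, Nat.card_eq_fintype_card, ← Finset.card_univ, Finset.card_eq_sum_ones]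
    apply Finset.sum_congr rfl
    intro g _
    split_ifs <;> rfl
  have hK : ∑ g : G, (if g ∈ Cfsg.frobeniusKernel H then 1 else 0) = Nat.card (Cfsg.frobeniusKernel H) := by
    rw [Finset.sum_boole, Nat.card_eq_fintype_card, Fintype.card_subtype]
    simp
  rw [hK, card_frobeniusKernel H hH] at hsplit
  omega

theorem mem_frobeniusKernel_of_mem (H : Subgroup G) {g : G} (hg : g ∈ H)
    (hk : g ∈ Cfsg.frobeniusKernel H) : g = 1 := by
  rcases hk with h | h
  · exact h
  · exfalso
    apply h 1
    rw [mem_conj_smul_iff']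
    simpa using hg

/-- `[G : H] ≡ 1 (mod |H|)` for a Frobenius complement `H`. -/
theorem index_mod_card [Finite G] (H : Subgroup G) (hH : Cfsg.IsFrobeniusComplement H) :
    H.index % Nat.card H = 1 % Nat.card H := by
  classical
  have : Fintype G := Fintype.ofFinite G
  have hB := burnside_sub (G := G) (Ω := G ⧸ H) H
  simp_rw [card_fixedBy_frobenius H hH] at hB
  rw [Finset.sum_add_distrib, Finset.sum_ite_eq' _ (1 : G),
    if_pos (by simp [H.one_mem] : (1 : G) ∈ Finset.univ.filter (· ∈ H))] at hB
  have h2 : ∀ g ∈ Finset.univ.filter (· ∈ H),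
      (if g ∈ Cfsg.frobeniusKernel H then 0 else 1) = (if g = 1 then 0 else 1) := by
    intro g hg
    have hgH : g ∈ H := (Finset.mem_filter.mp hg).2
    by_cases h1 : g = 1
    · rw [if_pos h1, if_pos (h1 ▸ one_mem_frobeniusKernel H)]
    · rw [if_neg h1, if_neg (fun hk => h1 (mem_frobeniusKernel_of_mem H hgH hk))]
  rw [Finset.sum_congr rfl h2] at hB
  have hsplit : ∑ g ∈ Finset.univ.filter (· ∈ H), (if g = 1 then 1 else 0) +
      ∑ g ∈ Finset.univ.filter (· ∈ H), (if g = 1 then 0 else 1) = Nat.card H := by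
    rw [← Finset.sum_add_distrib]
    have : ∀ g ∈ Finset.univ.filter (· ∈ H),
        ((if g = 1 then 1 else 0) + (if g = 1 then 0 else 1) : ℕ) = 1 := by
      intro g _; split_ifs <;> rfl
    rw [Finset.sum_congr rfl this, Finset.sum_const, smul_eq_mul, mul_one,
      Nat.card_eq_fintype_card, Fintype.card_subtype]
  rw [Finset.sum_ite_eq' _ (1 : G),
    if_pos (by simp [H.one_mem] : (1 : G) ∈ Finset.univ.filter (· ∈ H))] at hsplit
  obtain ⟨r, hr⟩ : ∃ r : ℕ, H.index +
      ∑ g ∈ Finset.univ.filter (· ∈ H), (if g = 1 then 0 else 1) = r * Nat.card H := ⟨_, hB⟩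
  have h3 : H.index + Nat.card H = r * Nat.card H + 1 := by omega
  calc H.index % Nat.card H = (H.index + Nat.card H) % Nat.card H := by rw [Nat.add_mod_right]
    _ = (r * Nat.card H + 1) % Nat.card H := by rw [h3]
    _ = 1 % Nat.card H := by rw [Nat.mul_add_mod_self_right]

/-- `[G : H]` and `|H|` are coprime for a Frobenius complement `H`. -/
theorem index_coprime_card [Finite G] (H : Subgroup G) (hH : Cfsg.IsFrobeniusComplement H) :
    Nat.Coprime H.index (Nat.card H) := by
  have h := index_mod_card H hH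
  unfold Nat.Coprime
  rw [Nat.gcd_comm, Nat.gcd_rec, h, ← Nat.gcd_rec]
  exact Nat.gcd_one_right _

end Cfsg.Agent.Lib.Helper19
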