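import Mathlib

set_option autoImplicit false

namespace Cfsg.Agent.Lib.Helper19

variable {G : Type*} [Group G]

/-- A cyclic group of order `2 ^ k` has a unique involution. -/
theorem unique_involution_zpowers (a : G) (k : ℕ) (hk : 1 ≤ k) (hao : orderOf a = 2 ^ k)
    (y : G) (hy : y ∈ Subgroup.zpowers a) (hy2 : y * y = 1) (hy1 : y ≠ 1) :
    y = a ^ (2 ^ (k - 1)) := by
  obtain ⟨j, rfl⟩ := Subgroup.mem_zpowers_iff.mp hy
  have hk' : a ^ j = a ^ (j % (2 ^ k : ℕ) : ℤ) := by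
    have := zpow_mod_orderOf a j
    rw [hao] at this
    exact this.symm
  set m : ℕ := (j % (2 ^ k : ℕ) : ℤ).toNat with hm
  have hmnn : (0 : ℤ) ≤ j % (2 ^ k : ℕ) := Int.emod_nonneg _ (by positivity)
  have hmk : (j % (2 ^ k : ℕ) : ℤ) = (m : ℤ) := by rw [hm, Int.toNat_of_nonneg hmnn]
  have hmlt : m < 2 ^ k := by
    have : (j % (2 ^ k : ℕ) : ℤ) < (2 ^ k : ℕ) := Int.emod_lt_of_pos _ (by positivity)
    rw [hmk] at this
    exact_mod_cast this
  have hkm : a ^ j = a ^ m := by rw [hk', hmk, zpow_natCast]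
  rw [hkm] at hy2 hy1 ⊢
  have h2m : 2 ^ k ∣ m + m := by
    rw [← hao]
    apply orderOf_dvd_of_pow_eq_one
    rw [pow_add]; exact hy2
  have hm0 : m ≠ 0 := by
    intro h; apply hy1; rw [h, pow_zero]
  have hk1 : 2 ^ k = 2 ^ (k - 1) * 2 := by
    rw [← pow_succ]; congr 1; omega
  have : m + m = 2 ^ k := by
    obtain ⟨c, hc⟩ := h2m
    have hc1 : c = 1 := by
      rcases Nat.lt_or_ge c 2 with h | h
      · interval_cases c
        · omega
        · rfl
      · exfalso
        have : 2 ^ k * 2 ≤ 2 ^ k * c := Nat.mul_le_mul_left _ h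
        omega
    rw [hc1, mul_one] at hc
    exact hc
  have : m = 2 ^ (k - 1) := by omega
  rw [this]

end Cfsg.Agent.Lib.Helper19
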