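import Mathlib
import Cfsg.Agent.Lib.Helper19.TwoGroup
import Cfsg.Agent.Lib.Helper1.Nilp

set_option autoImplicit false

namespace Cfsg.Agent.Lib.Helper19

variable {P : Type*} [Group P]

/-- order of a square of a nontrivial 2-element -/
theorem orderOf_sq_of_two_pow (b : P) (e : ℕ) (hb : orderOf b = 2 ^ (e + 1)) :
    orderOf (b * b) = 2 ^ e := by
  rw [← pow_two, orderOf_pow' b (by norm_num), hb]
  have : Nat.gcd (2 ^ (e + 1)) 2 = 2 := by
    apply Nat.gcd_eq_right
    exact dvd_pow_self 2 (by omega)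
  rw [this, pow_succ]
  simp

/-- In a finite 2-group with a unique involution `z`, every commutative subgroup is cyclic. -/
theorem cyclic_of_comm_unique_involution [Finite P] (hP : IsPGroup 2 P) (z : P)
    (huniq : ∀ u : P, u * u = 1 → u = 1 ∨ u = z)
    (A : Subgroup P) (hA : ∀ a ∈ A, ∀ b ∈ A, a * b = b * a) :
    ∃ a ∈ A, A = Subgroup.zpowers a := by
  classical
  have : Fact (Nat.Prime 2) := ⟨Nat.prime_two⟩
  have hord : ∀ g : P, ∃ e : ℕ, orderOf g = 2 ^ e := fun g => (IsPGroup.iff_orderOf.mp hP) g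
  -- element of maximal order in A
  obtain ⟨a, haA, hamax⟩ : ∃ a ∈ A, ∀ b ∈ A, orderOf b ≤ orderOf a := by
    have hne : (Set.univ : Set A).Nonempty := ⟨1, trivial⟩
    obtain ⟨a, -, ha⟩ := Set.exists_max_image (Set.univ : Set A) (fun b : A => orderOf (b : P))
      Set.finite_univ hne
    exact ⟨a.1, a.2, fun b hb => ha ⟨b, hb⟩ trivial⟩
  refine ⟨a, haA, ?_⟩
  have hle : Subgroup.zpowers a ≤ A := by rw [Subgroup.zpowers_le]; exact haA
  apply le_antisymm _ hle
  by_contra hnot
  -- choose b ∈ A \ ⟨a⟩ of minimal order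
  have hex : ∃ b : P, b ∈ A ∧ b ∉ Subgroup.zpowers a := by
    by_contra h
    push Not at h
    exact hnot h
  obtain ⟨b, ⟨hbA, hbna⟩, hbmin⟩ : ∃ b : P, (b ∈ A ∧ b ∉ Subgroup.zpowers a) ∧
      ∀ c : P, (c ∈ A ∧ c ∉ Subgroup.zpowers a) → orderOf b ≤ orderOf c := by
    obtain ⟨b0, hb0⟩ := hex
    have hne : ({c : P | c ∈ A ∧ c ∉ Subgroup.zpowers a}).Nonempty := ⟨b0, hb0⟩
    obtain ⟨b, hb, hbm⟩ := Set.exists_min_image {c : P | c ∈ A ∧ c ∉ Subgroup.zpowers a}
      (fun c => orderOf c) (Set.toFinite _) hne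
    exact ⟨b, hb, fun c hc => hbm c hc⟩
  have hb1 : b ≠ 1 := fun h => hbna (by rw [h]; exact Subgroup.one_mem _)
  obtain ⟨eb, heb⟩ := hord b
  have heb0 : eb ≠ 0 := by
    intro h
    rw [h, pow_zero] at heb
    exact hb1 (orderOf_eq_one_iff.mp heb)
  obtain ⟨eb', rfl⟩ := Nat.exists_eq_succ_of_ne_zero heb0
  have hbb_ord : orderOf (b * b) = 2 ^ eb' := orderOf_sq_of_two_pow b eb' heb
  have hbbA : b * b ∈ A := A.mul_mem hbA hbA
  have hbb : b * b ∈ Subgroup.zpowers a := by
    by_contra h
    have := hbmin (b * b) ⟨hbbA, h⟩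
    rw [heb, hbb_ord] at this
    have : 2 ^ eb' < 2 ^ (eb' + 1) := Nat.pow_lt_pow_right (by norm_num) (by omega)
    omega
  obtain ⟨j, hj⟩ := Subgroup.mem_zpowers_iff.mp hbb
  -- z ∈ ⟨a⟩
  have hzmem : ∀ u : P, u * u = 1 → u ∈ Subgroup.zpowers a := by
    intro u hu
    rcases huniq u hu with h | h
    · rw [h]; exact Subgroup.one_mem _
    · -- z is a power of a because a ≠ 1 has an involution power
      obtain ⟨ea, hea⟩ := hord a
      have hea0 : ea ≠ 0 := by
        intro h0
        rw [h0, pow_zero] at hea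
        have ha1 : a = 1 := orderOf_eq_one_iff.mp hea
        have := hamax b hbA
        rw [hea, heb] at this
        have : 1 < 2 ^ (eb' + 1) := Nat.one_lt_two_pow (by omega)
        omega
      obtain ⟨ea', rfl⟩ := Nat.exists_eq_succ_of_ne_zero hea0
      have hinv : (a ^ (2 ^ ea')) * (a ^ (2 ^ ea')) = 1 := by
        rw [← pow_add, ← two_mul, mul_comm, ← pow_succ, ← hea, pow_orderOf_eq_one]
      have hne1 : a ^ (2 ^ ea') ≠ 1 := by
        intro h1
        have := orderOf_dvd_of_pow_eq_one h1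
        rw [hea] at this
        have h2 := Nat.le_of_dvd (by positivity) this
        have : 2 ^ ea' < 2 ^ (ea' + 1) := Nat.pow_lt_pow_right (by norm_num) (by omega)
        omega
      rcases huniq _ hinv with h1 | h1
      · exact absurd h1 hne1
      · rw [h, ← h1]; exact Subgroup.pow_mem _ (Subgroup.mem_zpowers a) _
  rcases Int.even_or_odd j with ⟨i, hi⟩ | ⟨i, hi⟩
  · -- b * a^(-i) is an involution or trivial
    have hai : a ^ (-i) ∈ A := Subgroup.zpow_mem _ haA _
    have hc2 : (b * a ^ (-i)) * (b * a ^ (-i)) = 1 := by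
      calc (b * a ^ (-i)) * (b * a ^ (-i)) = b * (a ^ (-i) * b) * a ^ (-i) := by group
        _ = b * (b * a ^ (-i)) * a ^ (-i) := by rw [hA _ hai b hbA]
        _ = (b * b) * (a ^ (-i) * a ^ (-i)) := by group
        _ = a ^ j * a ^ (-i + -i) := by rw [← hj, zpow_add]
        _ = 1 := by rw [← zpow_add, hi]; simp
    have hmem := hzmem _ hc2
    apply hbna
    have : b = (b * a ^ (-i)) * a ^ i := by group
    rw [this]
    exact Subgroup.mul_mem _ hmem (Subgroup.zpow_mem_zpowers a i)
  · -- a is the square of c = b * a^(-i), which then has larger order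
    have hai : a ^ (-i) ∈ A := Subgroup.zpow_mem _ haA _
    set c := b * a ^ (-i) with hc
    have hcA : c ∈ A := A.mul_mem hbA hai
    have hcc : c * c = a := by
      calc (b * a ^ (-i)) * (b * a ^ (-i)) = b * (a ^ (-i) * b) * a ^ (-i) := by group
        _ = b * (b * a ^ (-i)) * a ^ (-i) := by rw [hA _ hai b hbA]
        _ = (b * b) * (a ^ (-i) * a ^ (-i)) := by group
        _ = a ^ j * a ^ (-i + -i) := by rw [← hj, zpow_add]
        _ = a := by
          rw [← zpow_add, hi]
          have : 2 * i + 1 + (-i + -i) = 1 := by ring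
          rw [this, zpow_one]
    obtain ⟨ea, hea⟩ := hord a
    have hea0 : ea ≠ 0 := by
      intro h0
      rw [h0, pow_zero] at hea
      have := hamax b hbA
      rw [hea, heb] at this
      have : 1 < 2 ^ (eb' + 1) := Nat.one_lt_two_pow (by omega)
      omega
    obtain ⟨ec, hec⟩ := hord c
    have hec0 : ec ≠ 0 := by
      intro h0
      rw [h0, pow_zero] at hec
      have hc1 : c = 1 := orderOf_eq_one_iff.mp hec
      rw [hc1, one_mul] at hcc
      rw [← hcc, orderOf_one] at hea
      have : 1 < 2 ^ ea := Nat.one_lt_two_pow hea0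
      omega
    obtain ⟨ec', rfl⟩ := Nat.exists_eq_succ_of_ne_zero hec0
    have h1 := orderOf_sq_of_two_pow c ec' hec
    rw [hcc, hea] at h1
    have := hamax c hcA
    rw [hec, hea, h1] at this
    have : 2 ^ ec' < 2 ^ (ec' + 1) := Nat.pow_lt_pow_right (by norm_num) (by omega)
    omega

section QStructure

variable [Finite P]

/-- the unique involution is central -/
theorem unique_involution_central (z : P) (hz1 : z ≠ 1) (hz2 : z * z = 1)
    (huniq : ∀ u : P, u * u = 1 → u = 1 ∨ u = z) (g : P) : g * z * g⁻¹ = z := by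
  have h2 : (g * z * g⁻¹) * (g * z * g⁻¹) = 1 := by
    calc (g * z * g⁻¹) * (g * z * g⁻¹) = g * (z * z) * g⁻¹ := by group
      _ = 1 := by rw [hz2]; group
  rcases huniq _ h2 with h | h
  · exfalso
    apply hz1
    have : z = g⁻¹ * (g * z * g⁻¹) * g := by group
    rw [this, h]; group
  · exact h

/-- the element of order four in a cyclic subgroup of order `2 ^ n`, `n ≥ 2`, is a power of any element
of that subgroup whose square is nontrivial. -/
theorem order_four_mem_zpowers (hP : IsPGroup 2 P) (z : P) (hz1 : z ≠ 1) (hz2 : z * z = 1)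
    (huniq : ∀ u : P, u * u = 1 → u = 1 ∨ u = z)
    (a : P) (w : P) (hwA : w ∈ Subgroup.zpowers a) (hww : w * w = z)
    (c : P) (hc : c ∈ Subgroup.zpowers a) (hcc : c * c ≠ 1) : ∃ i : ℕ, c ^ i = w := by
  have : Fact (Nat.Prime 2) := ⟨Nat.prime_two⟩
  obtain ⟨e, he⟩ := (IsPGroup.iff_orderOf.mp hP) c
  have he2 : 2 ≤ e := by
    by_contra hlt
    apply hcc
    have : e = 0 ∨ e = 1 := by omega
    rcases this with h | h
    · rw [h, pow_zero] at he
      rw [orderOf_eq_one_iff.mp he, mul_one]
    · rw [h, pow_one] at he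
      rw [← pow_two, ← he, pow_orderOf_eq_one]
  set c' := c ^ (2 ^ (e - 2)) with hc'
  have hc'A : c' ∈ Subgroup.zpowers a := Subgroup.pow_mem _ hc _
  have hcomm : c' * w⁻¹ = w⁻¹ * c' := by
    obtain ⟨k, hk⟩ := Subgroup.mem_zpowers_iff.mp hc'A
    obtain ⟨l, hl⟩ := Subgroup.mem_zpowers_iff.mp hwA
    rw [← hk, ← hl, ← zpow_neg, ← zpow_add, ← zpow_add, add_comm]
  have hc'2 : c' * c' = z := by
    have h1 : c' * c' = c ^ (2 ^ (e - 1)) := by
      rw [hc', ← pow_add]
      congr 1
      have : e - 1 = (e - 2) + 1 := by omega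
      rw [this, pow_succ]; ring
    have h2 : (c ^ (2 ^ (e - 1))) * (c ^ (2 ^ (e - 1))) = 1 := by
      rw [← pow_add]
      have : 2 ^ (e - 1) + 2 ^ (e - 1) = 2 ^ e := by
        have : e = (e - 1) + 1 := by omega
        conv_rhs => rw [this, pow_succ]
        ring
      rw [this, ← he, pow_orderOf_eq_one]
    have h3 : c ^ (2 ^ (e - 1)) ≠ 1 := by
      intro h
      have := orderOf_dvd_of_pow_eq_one h
      rw [he] at this
      have h4 := Nat.le_of_dvd (by positivity) this
      have : 2 ^ (e - 1) < 2 ^ e := Nat.pow_lt_pow_right (by norm_num) (by omega)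
      omega
    rw [h1]
    rcases huniq _ h2 with h | h
    · exact absurd h h3
    · exact h
  have hsq : (c' * w⁻¹) * (c' * w⁻¹) = 1 := by
    calc (c' * w⁻¹) * (c' * w⁻¹) = c' * (w⁻¹ * c') * w⁻¹ := by group
      _ = c' * (c' * w⁻¹) * w⁻¹ := by rw [hcomm]
      _ = (c' * c') * (w * w)⁻¹ := by group
      _ = 1 := by rw [hc'2, hww, mul_inv_cancel]
  rcases huniq _ hsq with h | h
  · refine ⟨2 ^ (e - 2), ?_⟩
    rw [← hc']
    exact mul_inv_eq_one.mp h
  · refine ⟨3 * 2 ^ (e - 2), ?_⟩
    have h1 : c' = z * w := by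
      have : c' = (c' * w⁻¹) * w := by group
      rw [this, h]
    rw [mul_comm, pow_mul, ← hc', h1, ← hww]
    have hw4 : w * w * (w * w) = 1 := by rw [hww, hz2]
    calc (w * w * w) ^ 3 = (w * w * (w * w)) * (w * w * (w * w)) * w := by
          simp only [pow_succ, pow_zero, one_mul, mul_assoc]
      _ = w := by rw [hw4, one_mul, one_mul]

/-- Structure lemma: in a finite 2-group with unique involution `z`, an element `y` outside a
cyclic subgroup `⟨a⟩` of order at least four which normalizes it, has square in it, and does not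
centralize it, inverts `a` and squares to `z`. -/
theorem inverts_of_unique_involution (hP : IsPGroup 2 P) (z : P) (hz1 : z ≠ 1) (hz2 : z * z = 1)
    (huniq : ∀ u : P, u * u = 1 → u = 1 ∨ u = z)
    (a : P) (n : ℕ) (hn : 2 ≤ n) (hao : orderOf a = 2 ^ n)
    (y : P) (hyA : y ∉ Subgroup.zpowers a) (hya : y * a * y⁻¹ ∈ Subgroup.zpowers a)
    (hyy : y * y ∈ Subgroup.zpowers a) (hnc : y * a ≠ a * y) :
    y * a * y⁻¹ = a⁻¹ ∧ y * y = z := by
  have : Fact (Nat.Prime 2) := ⟨Nat.prime_two⟩
  have hzc := unique_involution_central z hz1 hz2 huniq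
  have hzinv : z⁻¹ = z := inv_eq_of_mul_eq_one_left hz2
  have hAcomm : ∀ c ∈ Subgroup.zpowers a, ∀ d ∈ Subgroup.zpowers a, c * d = d * c := by
    intro c hc d hd
    obtain ⟨k, rfl⟩ := Subgroup.mem_zpowers_iff.mp hc
    obtain ⟨l, rfl⟩ := Subgroup.mem_zpowers_iff.mp hd
    rw [← zpow_add, ← zpow_add, add_comm]
  have hconjA : ∀ c ∈ Subgroup.zpowers a, y * c * y⁻¹ ∈ Subgroup.zpowers a := by
    intro c hc
    obtain ⟨k, rfl⟩ := Subgroup.mem_zpowers_iff.mp hc
    have : y * a ^ k * y⁻¹ = (y * a * y⁻¹) ^ k := (conj_zpow (a := y) (b := a) (i := k)).symm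
    rw [this]
    exact Subgroup.zpow_mem _ hya k
  have hmemz : ∀ u : P, u * u = 1 → u ∈ Subgroup.zpowers a := by
    intro u hu
    have hzA : z ∈ Subgroup.zpowers a := by
      have hinv : (a ^ (2 ^ (n - 1))) * (a ^ (2 ^ (n - 1))) = 1 := by
        rw [← pow_add]
        have : 2 ^ (n - 1) + 2 ^ (n - 1) = 2 ^ n := by
          have : n = (n - 1) + 1 := by omega
          conv_rhs => rw [this, pow_succ]
          ring
        rw [this, ← hao, pow_orderOf_eq_one]
      have hne : a ^ (2 ^ (n - 1)) ≠ 1 := by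
        intro h
        have := orderOf_dvd_of_pow_eq_one h
        rw [hao] at this
        have h4 := Nat.le_of_dvd (by positivity) this
        have : 2 ^ (n - 1) < 2 ^ n := Nat.pow_lt_pow_right (by norm_num) (by omega)
        omega
      rcases huniq _ hinv with h | h
      · exact absurd h hne
      · rw [← h]; exact Subgroup.pow_mem _ (Subgroup.mem_zpowers a) _
    rcases huniq u hu with h | h
    · rw [h]; exact Subgroup.one_mem _
    · rw [h]; exact hzA
  -- w of order four
  set w := a ^ (2 ^ (n - 2)) with hw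
  have hwA : w ∈ Subgroup.zpowers a := Subgroup.pow_mem _ (Subgroup.mem_zpowers a) _
  have hww : w * w = z := by
    have h1 : w * w = a ^ (2 ^ (n - 1)) := by
      rw [hw, ← pow_add]
      congr 1
      have : n - 1 = (n - 2) + 1 := by omega
      rw [this, pow_succ]; ring
    have hinv : (a ^ (2 ^ (n - 1))) * (a ^ (2 ^ (n - 1))) = 1 := by
      rw [← pow_add]
      have : 2 ^ (n - 1) + 2 ^ (n - 1) = 2 ^ n := by
        have : n = (n - 1) + 1 := by omega
        conv_rhs => rw [this, pow_succ]
        ring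
      rw [this, ← hao, pow_orderOf_eq_one]
    have hne : a ^ (2 ^ (n - 1)) ≠ 1 := by
      intro h
      have := orderOf_dvd_of_pow_eq_one h
      rw [hao] at this
      have h4 := Nat.le_of_dvd (by positivity) this
      have : 2 ^ (n - 1) < 2 ^ n := Nat.pow_lt_pow_right (by norm_num) (by omega)
      omega
    rw [h1]
    rcases huniq _ hinv with h | h
    · exact absurd h hne
    · exact h
  have hwne : w ≠ w⁻¹ := by
    intro h
    apply hz1
    rw [← hww]
    nth_rewrite 2 [h]
    exact mul_inv_cancel w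
  have hwinv : w⁻¹ = z * w := by
    have hw4 : w * (z * w) = 1 := by
      rw [← hww]
      have : w * (w * w * w) = (w * w) * (w * w) := by group
      rw [this, hww, hz2]
    exact inv_eq_of_mul_eq_one_right hw4
  -- action of y on w
  have hyw : y * w * y⁻¹ = w ∨ y * w * y⁻¹ = w⁻¹ := by
    set v := y * w * y⁻¹ with hv
    have hvA : v ∈ Subgroup.zpowers a := hconjA w hwA
    have hvv : v * v = z := by
      calc v * v = y * (w * w) * y⁻¹ := by rw [hv]; group
        _ = z := by rw [hww]; exact hzc y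
    have hsq : (v * w⁻¹) * (v * w⁻¹) = 1 := by
      have hc := hAcomm w⁻¹ (Subgroup.inv_mem _ hwA) v hvA
      calc (v * w⁻¹) * (v * w⁻¹) = v * (w⁻¹ * v) * w⁻¹ := by group
        _ = v * (v * w⁻¹) * w⁻¹ := by rw [hc]
        _ = (v * v) * (w * w)⁻¹ := by group
        _ = 1 := by rw [hvv, hww, mul_inv_cancel]
    rcases huniq _ hsq with h | h
    · left; exact mul_inv_eq_one.mp h
    · right
      have : v = (v * w⁻¹) * w := by group
      rw [this, h, hwinv]
  -- key transfer from an element with nontrivial square to w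
  have hK1 : ∀ c ∈ Subgroup.zpowers a, c * c ≠ 1 → y * c * y⁻¹ = c → y * w * y⁻¹ = w := by
    intro c hc hcc h
    obtain ⟨i, hi⟩ := order_four_mem_zpowers hP z hz1 hz2 huniq a w hwA hww c hc hcc
    rw [← hi]
    have : y * c ^ i * y⁻¹ = (y * c * y⁻¹) ^ i := (conj_pow (a := y) (b := c) (i := i)).symm
    rw [this, h]
  have hK2 : ∀ c ∈ Subgroup.zpowers a, c * c ≠ 1 → y * c * y⁻¹ = c⁻¹ → y * w * y⁻¹ = w⁻¹ := by
    intro c hc hcc h
    obtain ⟨i, hi⟩ := order_four_mem_zpowers hP z hz1 hz2 huniq a w hwA hww c hc hcc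
    rw [← hi]
    have : y * c ^ i * y⁻¹ = (y * c * y⁻¹) ^ i := (conj_pow (a := y) (b := c) (i := i)).symm
    rw [this, h, inv_pow]
  have hy_not : ∀ u : P, u * u = 1 → y ≠ u := by
    intro u hu h
    apply hyA
    rw [h]; exact hmemz u hu
  rcases hyw with hcase | hcase
  · -- case (ii): contradiction
    exfalso
    set ψ := a⁻¹ * (y * a * y⁻¹) with hψ
    have hψA : ψ ∈ Subgroup.zpowers a :=
      Subgroup.mul_mem _ (Subgroup.inv_mem _ (Subgroup.mem_zpowers a)) hya
    have hψ1 : ψ ≠ 1 := by
      intro h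
      apply hnc
      have : y * a * y⁻¹ = a := by
        have := inv_mul_eq_one.mp h
        exact this.symm
      calc y * a = (y * a * y⁻¹) * y := by group
        _ = a * y := by rw [this]
    have hyya : (y * y) * a = a * (y * y) := hAcomm _ hyy a (Subgroup.mem_zpowers a)
    have hψinv : y * ψ * y⁻¹ = ψ⁻¹ := by
      have h2 : (y * y) * a * (y * y)⁻¹ = a := by rw [hyya]; group
      calc y * ψ * y⁻¹ = (y * a * y⁻¹)⁻¹ * ((y * y) * a * (y * y)⁻¹) := by rw [hψ]; group
        _ = (y * a * y⁻¹)⁻¹ * a := by rw [h2]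
        _ = ψ⁻¹ := by rw [hψ]; group
    have hψψ : ψ * ψ = 1 := by
      by_contra hne
      have := hK2 ψ hψA hne hψinv
      rw [hcase] at this
      exact hwne this
    have hψz : ψ = z := by
      rcases huniq _ hψψ with h | h
      · exact absurd h hψ1
      · exact h
    have hyaz : y * a * y⁻¹ = a * z := by
      have : y * a * y⁻¹ = a * ψ := by rw [hψ]; group
      rw [this, hψz]
    -- n = 2 is immediate
    rcases Nat.lt_or_ge n 3 with hn3 | hn3
    · have hn2 : n = 2 := by omega
      apply hnc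
      have hwa : w = a := by rw [hw, hn2]; simp
      rw [hwa] at hcase
      calc y * a = (y * a * y⁻¹) * y := by group
        _ = a * y := by rw [hcase]
    · -- n ≥ 3
      obtain ⟨k, hk⟩ : ∃ k, n = k + 3 := ⟨n - 3, by omega⟩
      obtain ⟨i, hi⟩ := Subgroup.mem_zpowers_iff.mp hyy
      have hza : z = a ^ (2 ^ (n - 1)) := by
        rw [← hww, hw, ← pow_add]
        congr 1
        have : n - 1 = (n - 2) + 1 := by omega
        rw [this, pow_succ]; ring
      have hconj_pow : ∀ j : ℤ, y * a ^ j * y⁻¹ = a ^ j * z ^ j := by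
        intro j
        have h1 : y * a ^ j * y⁻¹ = (y * a * y⁻¹) ^ j := (conj_zpow (a := y) (b := a) (i := j)).symm
        rw [h1, hyaz]
        have hcz : Commute a z := by
          have := hzc a
          show a * z = z * a
          calc a * z = (a * z * a⁻¹) * a := by group
            _ = z * a := by rw [this]
        exact hcz.mul_zpow j
      -- y commutes with y*y = a^i, so z^i = 1, so i is even
      have hzi : z ^ i = 1 := by
        have h1 := hconj_pow i
        rw [hi] at h1
        have h2 : y * (y * y) * y⁻¹ = y * y := by group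
        rw [h2] at h1
        have : (y * y) * 1 = (y * y) * z ^ i := by rw [mul_one]; exact h1
        exact (mul_left_cancel this).symm
      have hieven : Even i := by
        rcases Int.even_or_odd i with h | ⟨m, hm⟩
        · exact h
        · exfalso
          rw [hm, zpow_add, zpow_mul, zpow_two, hz2, one_zpow, one_mul, zpow_one] at hzi
          exact hz1 hzi
      obtain ⟨m, hm⟩ := hieven
      -- v = y * a^j with j = -m * (2^(n-2) + 1)
      set j : ℤ := -m * (2 ^ (n - 2) + 1) with hj
      have hv2 : (y * a ^ j) * (y * a ^ j) = 1 := by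
        have h1 : (y * a ^ j) * (y * a ^ j) = (y * a ^ j * y⁻¹) * (y * y) * a ^ j := by group
        rw [h1, hconj_pow, ← hi, hza, ← zpow_natCast, ← zpow_mul, ← zpow_add, ← zpow_add, ← zpow_add]
        have hexp : j + ((2 ^ (n - 1) : ℕ) : ℤ) * j + i + j = (2 ^ n : ℕ) * (-m * (2 ^ k + 1)) := by
          rw [hj, hm, hk]
          have e1 : k + 3 - 2 = k + 1 := by omega
          have e2 : k + 3 - 1 = k + 2 := by omega
          rw [e1, e2]
          push_cast
          ring
        rw [hexp, zpow_mul, zpow_natCast, ← hao, pow_orderOf_eq_one, one_zpow]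
      apply hyA
      have hv := hmemz _ hv2
      have : y = (y * a ^ j) * a ^ (-j) := by group
      rw [this]
      exact Subgroup.mul_mem _ hv (Subgroup.zpow_mem_zpowers a _)
  · -- case (i)
    have hyy2 : (y * y) * (y * y) = 1 := by
      by_contra hne
      have h1 : y * (y * y) * y⁻¹ = y * y := by group
      have := hK1 (y * y) hyy hne h1
      rw [hcase] at this
      exact hwne this.symm
    have hyz : y * y = z := by
      rcases huniq _ hyy2 with h | h
      · exfalso
        exact hy_not y h rfl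
      · exact h
    set φ := a * (y * a * y⁻¹) with hφ
    have hφA : φ ∈ Subgroup.zpowers a := Subgroup.mul_mem _ (Subgroup.mem_zpowers a) hya
    have hφfix : y * φ * y⁻¹ = φ := by
      have h1 : y * φ * y⁻¹ = (y * a * y⁻¹) * ((y * y) * a * (y * y)⁻¹) := by
        rw [hφ]; group
      rw [h1, hyz, hzinv]
      have : z * a * z = a := by
        have := hzc a⁻¹
        calc z * a * z = z * (a * z * a⁻¹) * a := by group
          _ = z * (a⁻¹⁻¹ * z * a⁻¹) * a := by rw [inv_inv]
          _ = z * ((a⁻¹)⁻¹ * z * a⁻¹) * a := rfl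
          _ = a := by
            have h5 : (a⁻¹)⁻¹ * z * a⁻¹ = z := by
              have := hzc a
              rw [inv_inv]; exact this
            rw [h5, hz2, one_mul]
      rw [this, hφ]
      exact hAcomm _ hya a (Subgroup.mem_zpowers a)
    have hφφ : φ * φ = 1 := by
      by_contra hne
      have := hK1 φ hφA hne hφfix
      rw [hcase] at this
      exact hwne this.symm
    have hφ1 : φ = 1 := by
      rcases huniq _ hφφ with h | h
      · exact h
      · exfalso
        -- (y a)^2 = 1
        have h2 : (y * a) * (y * a) = 1 := by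
          have h1 : (y * a) * (y * a) = (y * a * y⁻¹) * (y * y) * a := by group
          rw [h1, hyz]
          have hc : (y * a * y⁻¹) * z = z * (y * a * y⁻¹) := by
            have := hzc (y * a * y⁻¹)
            calc (y * a * y⁻¹) * z = ((y * a * y⁻¹) * z * (y * a * y⁻¹)⁻¹) * (y * a * y⁻¹) := by group
              _ = z * (y * a * y⁻¹) := by rw [this]
          rw [hc, mul_assoc, hAcomm _ hya a (Subgroup.mem_zpowers a), ← hφ, h, hz2]
        apply hyA
        have hv := hmemz _ h2
        have : y = (y * a) * a⁻¹ := by group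
        rw [this]
        exact Subgroup.mul_mem _ hv (Subgroup.inv_mem _ (Subgroup.mem_zpowers a))
    refine ⟨?_, hyz⟩
    have : a * (y * a * y⁻¹) = 1 := hφ1
    exact (eq_inv_of_mul_eq_one_right this)

end QStructure

/-- **Generalized quaternion structure.** A finite nonabelian 2-group with a unique involution `z`
has a cyclic subgroup `⟨a⟩` of index two, of order `2 ^ n ≥ 4`, and an element `y` outside it
inverting `a`, with `y ^ 2 = a ^ (2 ^ (n-1)) = z`. -/
theorem quaternion_structure [Finite P] (hP : IsPGroup 2 P) (z : P) (hz1 : z ≠ 1) (hz2 : z * z = 1)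
    (huniq : ∀ u : P, u * u = 1 → u = 1 ∨ u = z) (hnab : ¬ ∀ g h : P, g * h = h * g) :
    ∃ n : ℕ, 2 ≤ n ∧ ∃ a y : P, orderOf a = 2 ^ n ∧ y ∉ Subgroup.zpowers a ∧
      y * a * y⁻¹ = a⁻¹ ∧ y * y = z ∧ a ^ (2 ^ (n - 1)) = z ∧
      (∀ g : P, g ∈ Subgroup.zpowers a ∨ g * y⁻¹ ∈ Subgroup.zpowers a) ∧
      Nat.card P = 2 ^ (n + 1) := by
  classical
  have : Fact (Nat.Prime 2) := ⟨Nat.prime_two⟩
  have hnil : Group.IsNilpotent P := hP.isNilpotent
  have hzc := unique_involution_central z hz1 hz2 huniq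
  -- maximal normal abelian subgroup
  obtain ⟨N, -, hNmax⟩ := Finite.exists_le_maximal
    (p := fun M : Subgroup P => M.Normal ∧ IsMulCommutative M) (a := ⊥)
    ⟨inferInstance, ⟨⟨fun a b => by
      apply Subtype.ext
      have ha := Subgroup.mem_bot.mp a.2
      have hb := Subgroup.mem_bot.mp b.2
      simp [ha, hb]⟩⟩⟩
  obtain ⟨⟨hNn, hNc⟩, hNm⟩ := hNmax
  have hCN : Subgroup.centralizer (N : Set P) = N := by
    apply Cfsg.Agent.Lib.Helper1.centralizer_eq_self_of_max_abelian_normal N
    intro M hMn hMc hle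
    exact le_antisymm (hNm ⟨hMn, hMc⟩ hle) hle
  have hNcomm : ∀ a ∈ N, ∀ b ∈ N, a * b = b * a :=
    (Cfsg.Agent.Lib.Helper1.isMulCommutative_subgroup_iff N).mp hNc
  obtain ⟨a, haN, hNa⟩ := cyclic_of_comm_unique_involution hP z huniq N hNcomm
  obtain ⟨n, hao⟩ := (IsPGroup.iff_orderOf.mp hP) a
  -- an element centralizing a lies in N
  have hcentN : ∀ g : P, g * a = a * g → g ∈ N := by
    intro g hg
    rw [← hCN, Subgroup.mem_centralizer_iff]
    intro c hc
    rw [hNa] at hc
    obtain ⟨k, rfl⟩ := Subgroup.mem_zpowers_iff.mp hc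
    have hc' : Commute g a := hg
    exact ((hc'.zpow_right k).eq).symm
  -- N ≠ ⊤
  have hNtop : ∃ y0 : P, y0 ∉ N := by
    by_contra h
    push Not at h
    apply hnab
    intro g k
    exact hNcomm g (h g) k (h k)
  have hn : 2 ≤ n := by
    by_contra hlt
    obtain ⟨y0, hy0⟩ := hNtop
    apply hy0
    apply hcentN
    have ha2 : a * a = 1 := by
      have : n = 0 ∨ n = 1 := by omega
      rcases this with h | h
      · rw [h, pow_zero] at hao
        rw [orderOf_eq_one_iff.mp hao, mul_one]
      · rw [h, pow_one] at hao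
        rw [← pow_two, ← hao, pow_orderOf_eq_one]
    rcases huniq a ha2 with h | h
    · rw [h, mul_one, one_mul]
    · rw [h]
      have := hzc y0
      calc y0 * z = (y0 * z * y0⁻¹) * y0 := by group
        _ = z * y0 := by rw [this]
  have hnormA : ∀ g : P, g * a * g⁻¹ ∈ Subgroup.zpowers a := by
    intro g
    rw [← hNa]
    exact hNn.conj_mem a haN g
  have ha2ne : a * a ≠ 1 := by
    intro h
    have := orderOf_dvd_of_pow_eq_one (show a ^ 2 = 1 by rw [pow_two]; exact h)
    rw [hao] at this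
    have h4 := Nat.le_of_dvd (by norm_num) this
    have : 2 ^ 2 ≤ 2 ^ n := Nat.pow_le_pow_right (by norm_num) hn
    omega
  -- every element outside N has its square in N
  have hsqN : ∀ g : P, g ∉ N → g * g ∈ N := by
    intro g hg
    have hex : ∃ e : ℕ, g ^ (2 ^ e) ∈ N := by
      obtain ⟨e, he⟩ := (IsPGroup.iff_orderOf.mp hP) g
      exact ⟨e, by rw [← he, pow_orderOf_eq_one]; exact N.one_mem⟩
    have hmin : ∀ {m : ℕ}, m < Nat.find hex → ¬ g ^ (2 ^ m) ∈ N := fun {m} hm => Nat.find_min hex hm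
    have hspec := Nat.find_spec hex
    set e := Nat.find hex with he
    have he0 : e ≠ 0 := by
      intro h0
      rw [h0, pow_zero, pow_one] at hspec
      exact hg hspec
    obtain ⟨e', he'⟩ := Nat.exists_eq_succ_of_ne_zero he0
    rcases Nat.eq_zero_or_pos e' with h0 | hpos
    · rw [he', h0] at hspec
      simpa [pow_two] using hspec
    · exfalso
      obtain ⟨e'', he''⟩ := Nat.exists_eq_succ_of_ne_zero hpos.ne'
      set y := g ^ (2 ^ e') with hy
      have hyN : y ∉ N := hmin (by omega)
      have hyy : y * y ∈ N := by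
        have : y * y = g ^ (2 ^ e) := by
          rw [hy, ← pow_add, he']
          congr 1
          rw [pow_succ]; ring
        rw [this]; exact hspec
      have hync : y * a ≠ a * y := fun h => hyN (hcentN y h)
      have hyA : y ∉ Subgroup.zpowers a := by rw [← hNa]; exact hyN
      have hyyA : y * y ∈ Subgroup.zpowers a := by rw [← hNa]; exact hyy
      obtain ⟨hinv, -⟩ := inverts_of_unique_involution hP z hz1 hz2 huniq a n hn hao y hyA
        (hnormA y) hyyA hync
      set g' := g ^ (2 ^ e'') with hg'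
      have hg'2 : g' * g' = y := by
        rw [hg', hy, ← pow_add, he'']
        congr 1
        rw [pow_succ]; ring
      obtain ⟨r, hr⟩ := Subgroup.mem_zpowers_iff.mp (hnormA g')
      have h1 : y * a * y⁻¹ = a ^ (r * r) := by
        have : y * a * y⁻¹ = g' * (g' * a * g'⁻¹) * g'⁻¹ := by rw [← hg'2]; group
        rw [this, ← hr]
        have : g' * a ^ r * g'⁻¹ = (g' * a * g'⁻¹) ^ r := (conj_zpow (a := g') (b := a) (i := r)).symm
        rw [this, ← hr, ← zpow_mul]
      rw [hinv] at h1
      have h2 : a ^ (r * r + 1) = 1 := by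
        rw [zpow_add, ← h1, zpow_one, inv_mul_cancel]
      have h3 : ((2 ^ n : ℕ) : ℤ) ∣ r * r + 1 := by
        rw [← hao]
        exact orderOf_dvd_iff_zpow_eq_one.mpr h2
      have h4 : (4 : ℤ) ∣ r * r + 1 := by
        refine Dvd.dvd.trans ?_ h3
        have : (2 ^ 2 : ℕ) ∣ 2 ^ n := pow_dvd_pow 2 hn
        exact_mod_cast this
      have h5 : (r * r + 1) % 4 = 0 := Int.emod_eq_zero_of_dvd h4
      have h6 : r % 4 = 0 ∨ r % 4 = 1 ∨ r % 4 = 2 ∨ r % 4 = 3 := by omega
      have h7 : (r * r + 1) % 4 = ((r % 4) * (r % 4) + 1) % 4 := by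
        rw [Int.add_emod, Int.mul_emod]
        simp
      rw [h7] at h5
      rcases h6 with h | h | h | h <;> rw [h] at h5 <;> norm_num at h5
  -- every element outside N inverts a
  have hinvN : ∀ g : P, g ∉ N → g * a * g⁻¹ = a⁻¹ ∧ g * g = z := by
    intro g hg
    have hgA : g ∉ Subgroup.zpowers a := by rw [← hNa]; exact hg
    have hggA : g * g ∈ Subgroup.zpowers a := by rw [← hNa]; exact hsqN g hg
    exact inverts_of_unique_involution hP z hz1 hz2 huniq a n hn hao g hgA (hnormA g) hggA
      (fun h => hg (hcentN g h))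
  obtain ⟨y, hyN⟩ := hNtop
  have hyinvN : y⁻¹ ∉ N := fun h => hyN (by simpa using N.inv_mem h)
  have hcover : ∀ g : P, g ∉ N → g * y⁻¹ ∈ N := by
    intro g hg
    by_contra hgy
    have h1 := (hinvN g hg).1
    have h2 := (hinvN y⁻¹ hyinvN).1
    have h3 := (hinvN (g * y⁻¹) hgy).1
    have h4 : (g * y⁻¹) * a * (g * y⁻¹)⁻¹ = a := by
      calc (g * y⁻¹) * a * (g * y⁻¹)⁻¹ = g * (y⁻¹ * a * y⁻¹⁻¹) * g⁻¹ := by group
        _ = g * a⁻¹ * g⁻¹ := by rw [h2]
        _ = (g * a * g⁻¹)⁻¹ := by group
        _ = a := by rw [h1, inv_inv]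
    rw [h4] at h3
    apply ha2ne
    calc a * a = a * a⁻¹ := by nth_rewrite 2 [h3]; rfl
      _ = 1 := mul_inv_cancel a
  obtain ⟨hyinv, hyz⟩ := hinvN y hyN
  have hza : a ^ (2 ^ (n - 1)) = z := by
    have hinv : (a ^ (2 ^ (n - 1))) * (a ^ (2 ^ (n - 1))) = 1 := by
      rw [← pow_add]
      have : 2 ^ (n - 1) + 2 ^ (n - 1) = 2 ^ n := by
        have : n = (n - 1) + 1 := by omega
        conv_rhs => rw [this, pow_succ]
        ring
      rw [this, ← hao, pow_orderOf_eq_one]
    have hne : a ^ (2 ^ (n - 1)) ≠ 1 := by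
      intro h
      have := orderOf_dvd_of_pow_eq_one h
      rw [hao] at this
      have h4 := Nat.le_of_dvd (by positivity) this
      have : 2 ^ (n - 1) < 2 ^ n := Nat.pow_lt_pow_right (by norm_num) (by omega)
      omega
    rcases huniq _ hinv with h | h
    · exact absurd h hne
    · exact h
  have hidx : N.index = 2 := by
    rw [Subgroup.index_eq_two_iff]
    refine ⟨y⁻¹, fun b => ?_⟩
    by_cases hb : b ∈ N
    · right
      refine ⟨hb, fun h => ?_⟩
      apply hyinvN
      have : y⁻¹ = b⁻¹ * (b * y⁻¹) := by group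
      rw [this]
      exact N.mul_mem (N.inv_mem hb) h
    · left
      exact ⟨hcover b hb, hb⟩
  refine ⟨n, hn, a, y, hao, by rw [← hNa]; exact hyN, hyinv, hyz, hza, ?_, ?_⟩
  · intro g
    by_cases hg : g ∈ N
    · left; rw [← hNa]; exact hg
    · right; rw [← hNa]; exact hcover g hg
  · have h1 := Subgroup.card_mul_index N
    rw [hidx, hNa, Nat.card_zpowers, hao] at h1
    rw [← h1, pow_succ]

end Cfsg.Agent.Lib.Helper19
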