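import Mathlib

set_option autoImplicit false

namespace Cfsg.Agent.Lib.Helper19

open MonoidHom MulAction Subgroup

variable {G : Type*} [Group G]

/-- The sign homomorphism `H → {±1}` attached to a subgroup of index two. -/
noncomputable def signHomOfIndexTwo (H : Subgroup G) (Q : Subgroup H) (hQ : Q.index = 2) : H →* ℤˣ := by
  classical
  exact
  { toFun := fun s => if s ∈ Q then 1 else -1
    map_one' := by simp [Q.one_mem]
    map_mul' := by
      intro a b
      have := Subgroup.mul_mem_iff_of_index_two hQ (a := a) (b := b)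
      by_cases ha : a ∈ Q <;> by_cases hb : b ∈ Q <;> simp [ha, hb, this] }

theorem signHomOfIndexTwo_apply (H : Subgroup G) (Q : Subgroup H) (hQ : Q.index = 2) (s : H) :
    signHomOfIndexTwo H Q hQ s = 1 ↔ s ∈ Q := by
  classical
  unfold signHomOfIndexTwo
  simp only [MonoidHom.coe_mk, OneHom.coe_mk]
  by_cases hs : s ∈ Q
  · simp [hs]
  · simp only [hs, if_false, iff_false]
    decide

theorem signHomOfIndexTwo_apply_of_not_mem (H : Subgroup G) (Q : Subgroup H) (hQ : Q.index = 2) (s : H)
    (hs : s ∉ Q) : signHomOfIndexTwo H Q hQ s = -1 := by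
  classical
  unfold signHomOfIndexTwo
  simp [hs]

/-- Generalized Thompson transfer: if `x ∈ S` has order `2 ^ n`, every element of `S ∖ M` has order
greater than `2 ^ (n - 1)`, and no conjugate of `x` lies in `M`, then the transfer into `S / M`
does not kill `x`, giving a normal subgroup of index two avoiding `x`. -/
theorem exists_index_two_of_not_conj_mem [Finite G] (S : Sylow 2 G) (M : Subgroup G)
    (_hMS : M ≤ (S : Subgroup G)) (hM : M.relIndex (S : Subgroup G) = 2)
    (n : ℕ) (hn : 1 ≤ n) (hord : ∀ y ∈ (S : Subgroup G), y ∉ M → 2 ^ (n - 1) < orderOf y)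
    (x : G) (_hx : x ∈ (S : Subgroup G)) (hxn : orderOf x = 2 ^ n)
    (hnc : ∀ g : G, g * x * g⁻¹ ∉ M) :
    ∃ K : Subgroup G, K.Normal ∧ K.index = 2 ∧ x ∉ K := by
  classical
  have : Fact (Nat.Prime 2) := ⟨Nat.prime_two⟩
  set H : Subgroup G := (S : Subgroup G) with hH
  have hQ : (M.subgroupOf H).index = 2 := hM
  set ϕ := signHomOfIndexTwo H (M.subgroupOf H) hQ with hϕ
  have : H.FiniteIndex := inferInstance
  let _ : Fintype (Quotient (orbitRel (zpowers x) (G ⧸ H))) := Fintype.ofFinite _
  have hV := transfer_eq_prod_quotient_orbitRel_zpowers_quot ϕ x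
  have hsum := Subgroup.index_eq_sum_minimalPeriod H x
  -- each minimal period divides 2 ^ n
  have hdvd : ∀ q : Quotient (orbitRel (zpowers x) (G ⧸ H)),
      Function.minimalPeriod (x • ·) q.out ∣ 2 ^ n := by
    intro q
    rw [← hxn, ← pow_smul_eq_iff_minimalPeriod_dvd, pow_orderOf_eq_one, one_smul]
  -- each term of the product
  have hgen : ∀ (g : G) (k : ℕ) (hk : g⁻¹ * x ^ k * g ∈ H), k ∣ 2 ^ n →
      ϕ ⟨g⁻¹ * x ^ k * g, hk⟩ = (-1 : ℤˣ) ^ k := by
    intro g k hk hkd
    obtain ⟨j, hj, rfl⟩ := (Nat.dvd_prime_pow Nat.prime_two).mp hkd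
    rcases Nat.eq_zero_or_pos j with h0 | h0
    · subst h0
      simp only [pow_zero, pow_one]
      apply signHomOfIndexTwo_apply_of_not_mem
      rw [mem_subgroupOf]
      simp only []
      have := hnc (g⁻¹)
      simpa using this
    · have heven : Even (2 ^ j) := (Nat.even_pow.mpr ⟨even_two, by omega⟩)
      rw [Even.neg_one_pow heven]
      rw [signHomOfIndexTwo_apply, mem_subgroupOf]
      simp only []
      by_contra hnot
      have hlt := hord _ hk hnot
      have hconj : g⁻¹ * x ^ 2 ^ j * g = MulAut.conj (g⁻¹) (x ^ 2 ^ j) := by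
        simp
      rw [hconj, MulEquiv.orderOf_eq, orderOf_pow' x (by positivity), hxn] at hlt
      have hgcd : Nat.gcd (2 ^ n) (2 ^ j) = 2 ^ j := by
        apply Nat.gcd_eq_right
        exact pow_dvd_pow 2 hj
      rw [hgcd, Nat.pow_div hj (by norm_num)] at hlt
      have h1 : n - j ≤ n - 1 := by omega
      have h2 := Nat.pow_le_pow_right (show 0 < 2 by norm_num) h1
      omega
  have hterm : ∀ q : Quotient (orbitRel (zpowers x) (G ⧸ H)),
      ϕ ⟨q.out.out⁻¹ * x ^ Function.minimalPeriod (x • ·) q.out * q.out.out,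
            QuotientGroup.out_conj_pow_minimalPeriod_mem H x q.out⟩ =
        (-1 : ℤˣ) ^ (Function.minimalPeriod (x • ·) q.out) :=
    fun q => hgen q.out.out _ _ (hdvd q)
  have hVx : transfer ϕ x = (-1 : ℤˣ) ^ H.index := by
    rw [hV, hsum, ← Finset.prod_pow_eq_pow_sum]
    exact Finset.prod_congr rfl (fun q _ => hterm q)
  have hodd : Odd H.index := by
    have : ¬ 2 ∣ H.index := S.not_dvd_index
    exact Nat.odd_iff.mpr (by omega)
  rw [Odd.neg_one_pow hodd] at hVx
  refine ⟨(transfer ϕ).ker, MonoidHom.normal_ker _, ?_, ?_⟩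
  · -- index of kernel is the size of the range, which is all of ℤˣ
    rw [Subgroup.index_ker]
    have hrange : (transfer ϕ).range = ⊤ := by
      rw [eq_top_iff]
      intro u _
      rcases Int.units_eq_one_or u with rfl | rfl
      · exact one_mem _
      · exact ⟨x, hVx⟩
    rw [hrange, Subgroup.card_top]
    simp
  · rw [MonoidHom.mem_ker, hVx]
    decide

end Cfsg.Agent.Lib.Helper19
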