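import Mathlib
import Cfsg.Agent.Lib.Helper18.OPE.Defs

set_option autoImplicit false

/-!
# Project OPE (designer helper18), row LEVI: `levi` verbatim
-/

namespace Cfsg.Agent.Lib.Helper18.OPE

open scoped Matrix

/-- `g ↦ diag(g, g⁻ᵀ)` as a map into `GL` -/
noncomputable def opelevi_psi {F : Type*} [Field F] (d : ℕ) (g : GL (Fin d) F) : GL (Fin d ⊕ Fin d) F :=
  ⟨Matrix.fromBlocks (g : Matrix (Fin d) (Fin d) F) 0 0 (((g⁻¹ : GL (Fin d) F) : Matrix (Fin d) (Fin d) F)ᵀ),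
    Matrix.fromBlocks ((g⁻¹ : GL (Fin d) F) : Matrix (Fin d) (Fin d) F) 0 0 ((g : Matrix (Fin d) (Fin d) F)ᵀ),
    by
      rw [Matrix.fromBlocks_multiply]
      simp only [Matrix.mul_zero, Matrix.zero_mul, add_zero, zero_add]
      rw [← Matrix.transpose_mul, ← Units.val_mul, mul_inv_cancel, Units.val_one,
        Matrix.transpose_one, Matrix.fromBlocks_one],
    by
      rw [Matrix.fromBlocks_multiply]
      simp only [Matrix.mul_zero, Matrix.zero_mul, add_zero, zero_add]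
      rw [← Matrix.transpose_mul, ← Units.val_mul, inv_mul_cancel, Units.val_one,
        Matrix.transpose_one, Matrix.fromBlocks_one]⟩

theorem opelevi_psi_val {F : Type*} [Field F] (d : ℕ) (g : GL (Fin d) F) :
    ((opelevi_psi d g : GL (Fin d ⊕ Fin d) F) : Matrix (Fin d ⊕ Fin d) (Fin d ⊕ Fin d) F) =
      Matrix.fromBlocks (g : Matrix (Fin d) (Fin d) F) 0 0
        (((g⁻¹ : GL (Fin d) F) : Matrix (Fin d) (Fin d) F)ᵀ) := rfl

theorem opelevi_psi_mul {F : Type*} [Field F] (d : ℕ) (g h : GL (Fin d) F) :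
    opelevi_psi d (g * h) = opelevi_psi d g * opelevi_psi d h := by
  apply Units.ext
  rw [Units.val_mul, opelevi_psi_val, opelevi_psi_val, opelevi_psi_val, Matrix.fromBlocks_multiply]
  simp only [Matrix.mul_zero, Matrix.zero_mul, add_zero, zero_add]
  rw [← Matrix.transpose_mul, ← Units.val_mul, ← Units.val_mul, mul_inv_rev]

/-- `diag(g, g⁻ᵀ)` preserves `quadFormPlus` -/
theorem opelevi_psi_mem {F : Type*} [Field F] (d : ℕ) (g : GL (Fin d) F) :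
    opelevi_psi d g ∈ Cfsg.isometryGroup F (Cfsg.quadFormPlus d F) := by
  intro u _
  show Cfsg.quadFormPlus d F (((opelevi_psi d g : GL (Fin d ⊕ Fin d) F) :
    Matrix (Fin d ⊕ Fin d) (Fin d ⊕ Fin d) F) *ᵥ u) = Cfsg.quadFormPlus d F u
  rw [opelevi_psi_val, Matrix.fromBlocks_mulVec]
  simp only [Matrix.zero_mulVec, add_zero, zero_add]
  have hQ : ∀ w : Fin d ⊕ Fin d → F, Cfsg.quadFormPlus d F w = (w ∘ Sum.inl) ⬝ᵥ (w ∘ Sum.inr) := by
    intro w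
    rfl
  rw [hQ, hQ]
  have h1 : (Sum.elim ((g : Matrix (Fin d) (Fin d) F) *ᵥ (u ∘ Sum.inl))
      ((((g⁻¹ : GL (Fin d) F) : Matrix (Fin d) (Fin d) F)ᵀ) *ᵥ (u ∘ Sum.inr))) ∘ Sum.inl =
      (g : Matrix (Fin d) (Fin d) F) *ᵥ (u ∘ Sum.inl) := by
    funext i; rfl
  have h2 : (Sum.elim ((g : Matrix (Fin d) (Fin d) F) *ᵥ (u ∘ Sum.inl))
      ((((g⁻¹ : GL (Fin d) F) : Matrix (Fin d) (Fin d) F)ᵀ) *ᵥ (u ∘ Sum.inr))) ∘ Sum.inr =
      (((g⁻¹ : GL (Fin d) F) : Matrix (Fin d) (Fin d) F)ᵀ) *ᵥ (u ∘ Sum.inr) := by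
    funext i; rfl
  rw [h1, h2, dotProduct_comm, Matrix.dotProduct_mulVec, Matrix.mulVec_transpose, Matrix.vecMul_vecMul,
    ← Units.val_mul, inv_mul_cancel, Units.val_one, Matrix.vecMul_one, dotProduct_comm]

/-- LEVI [M]: `GL_d(F) → O⁺_{2d}(F)`, `g ↦ diag(g, g⁻ᵀ)`. -/
theorem levi {F : Type*} [Field F] (d : ℕ) :
    ∃ φ : GL (Fin d) F →* ↥(Cfsg.isometryGroup F (Cfsg.quadFormPlus d F)),
      (∀ g : GL (Fin d) F, (((φ g : ↥(Cfsg.isometryGroup F (Cfsg.quadFormPlus d F))) : GL (Fin d ⊕ Fin d) F) :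
          Matrix (Fin d ⊕ Fin d) (Fin d ⊕ Fin d) F) =
        Matrix.fromBlocks (g : Matrix (Fin d) (Fin d) F) 0 0
          (((g⁻¹ : GL (Fin d) F) : Matrix (Fin d) (Fin d) F)ᵀ)) ∧
      (∀ g : GL (Fin d) F, g ∈ commutator (GL (Fin d) F) →
        ((φ g : ↥(Cfsg.isometryGroup F (Cfsg.quadFormPlus d F))) : GL (Fin d ⊕ Fin d) F) ∈
          Cfsg.Geo.omegaGL (Cfsg.quadFormPlus d F)) := by
  let φ : GL (Fin d) F →* ↥(Cfsg.isometryGroup F (Cfsg.quadFormPlus d F)) :=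
    MonoidHom.mk' (fun g => ⟨opelevi_psi d g, opelevi_psi_mem d g⟩)
      (fun g h => Subtype.ext (opelevi_psi_mul d g h))
  refine ⟨φ, fun g => rfl, ?_⟩
  intro g hg
  have h1 : φ g ∈ (commutator (GL (Fin d) F)).map φ := Subgroup.mem_map_of_mem φ hg
  rw [commutator_def, Subgroup.map_commutator] at h1
  have h2 : φ g ∈ Cfsg.Omega F (Cfsg.quadFormPlus d F) :=
    Subgroup.commutator_mono le_top le_top h1
  exact Subgroup.mem_map_of_mem _ h2

end Cfsg.Agent.Lib.Helper18.OPE
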