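import Mathlib
import Cfsg.Agent.Lib.Helper18.ONE.Defs
import Cfsg.Agent.Lib.helper17.ONENDPERPS
import Cfsg.Agent.Lib.helper17.ONENDSUPS
import Cfsg.Agent.Lib.Helper1.ONEREPR

set_option autoImplicit false

/-!
# Project ONE, row TYEX, core (helper19): both types occur in every even dimension `0 < e < dim N`.
The statements of PLANETY and TYSUM (for the given `B`) are hypotheses.
-/

namespace Cfsg.Agent.Lib.Helper18.ONE

open Polynomial Module Cfsg.Agent.Lib.Helper13.S5955 Cfsg.Agent.Lib.helper15.S5972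

/-- a nonsingular vector in a non-zero nondegenerate subspace -/
theorem onetyex_nonsing {F : Type*} [Field F] (h2 : (2 : F) ≠ 0)
    {V : Type*} [AddCommGroup V] [Module F V]
    (B : LinearMap.BilinForm F V) (hsymm : ∀ u v, B u v = B v u)
    (N : Submodule F V) (hN : SND B N) (hN0 : N ≠ ⊥) : ∃ v ∈ N, B v v ≠ 0 := by
  by_contra hcon
  have hcon' : ∀ v ∈ N, B v v = 0 := by
    intro v hv
    by_contra h
    exact hcon ⟨v, hv, h⟩
  obtain ⟨u, hu, hu0⟩ := (Submodule.ne_bot_iff N).mp hN0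
  apply hu0
  apply hN u hu
  intro v hv
  have h1 := hcon' (u + v) (N.add_mem hu hv)
  have e : B (u + v) (u + v) = B u u + B v u + (B u v + B v v) := by
    simp only [map_add, LinearMap.add_apply]
  rw [e, hcon' u hu, hcon' v hv, hsymm v u] at h1
  have h3 : (2 : F) * B u v = 0 := by linear_combination h1
  rcases mul_eq_zero.mp h3 with h | h
  · exact absurd h h2
  · exact h

/-- the plane step -/
theorem onetyex_plane {F : Type*} [Field F] [Fintype F] (h2 : (2 : F) ≠ 0)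
    {V : Type*} [AddCommGroup V] [Module F V] [FiniteDimensional F V]
    (B : LinearMap.BilinForm F V) (hsymm : ∀ u v, B u v = B v u)
    (hplane : ∀ v₁ v₂ : V, B v₁ v₂ = 0 → B v₁ v₁ ≠ 0 → B v₂ v₂ ≠ 0 →
      SND B (Submodule.span F {v₁, v₂}) ∧ finrank F (Submodule.span F ({v₁, v₂} : Set V)) = 2 ∧
      (IsSquare (-(B v₁ v₁ * B v₂ v₂)) → OTy B (Submodule.span F {v₁, v₂}) 1) ∧
      (¬ IsSquare (-(B v₁ v₁ * B v₂ v₂)) → OTy B (Submodule.span F {v₁, v₂}) (-1)))
    (N : Submodule F V) (hN : SND B N) (hdim : 3 ≤ finrank F N) (s : ℤ) (hs : s = 1 ∨ s = -1) :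
    ∃ W : Submodule F V, W ≤ N ∧ SND B W ∧ finrank F W = 2 ∧ OTy B W s := by
  classical
  have hN0 : N ≠ ⊥ := by
    intro h
    rw [h, finrank_bot] at hdim
    omega
  obtain ⟨v₁, hv₁N, ha⟩ := onetyex_nonsing h2 B hsymm N hN hN0
  set a := B v₁ v₁ with ha_def
  -- the line of v₁
  set L : Submodule F V := Submodule.span F {v₁} with hL
  have hLN : L ≤ N := by
    rw [hL, Submodule.span_le]
    intro x hx
    rw [Set.mem_singleton_iff] at hx
    rw [hx]; exact hv₁N
  have hLnd : SND B L := by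
    intro u hu hu0
    rw [hL, Submodule.mem_span_singleton] at hu
    obtain ⟨c, rfl⟩ := hu
    have h1 := hu0 v₁ (Submodule.subset_span (by simp))
    rw [map_smul, LinearMap.smul_apply, smul_eq_mul] at h1
    rcases mul_eq_zero.mp h1 with h | h
    · rw [h, zero_smul]
    · exact absurd h ha
  have hLdim : finrank F L = 1 := by
    rw [hL]
    apply finrank_span_singleton
    intro h0
    apply ha
    rw [ha_def, h0, map_zero]
  obtain ⟨-, -, hN₁nd, hN₁o, hN₁dim⟩ := nd_perp_symm B hsymm N L hN hLN hLnd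
  set N₁ : Submodule F V := N ⊓ B.orthogonal L with hN₁
  have hN₁2 : 2 ≤ finrank F N₁ := by
    rw [hLdim] at hN₁dim
    omega
  -- the value to represent
  have hchar : ringChar F ≠ 2 := by
    intro h
    apply h2
    have : ((2 : ℕ) : F) = 0 := by
      rw [← h]
      exact ringChar.Nat.cast_ringChar
    exact_mod_cast this
  obtain ⟨t, ht0, htsq⟩ : ∃ t : F, t ≠ 0 ∧ (IsSquare (-(a * t)) ↔ s = 1) := by
    rcases hs with rfl | rfl
    · refine ⟨-a, neg_ne_zero.mpr ha, ?_⟩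
      simp only [iff_true]
      exact ⟨a, by ring⟩
    · obtain ⟨ν, hν⟩ := FiniteField.exists_nonsquare hchar
      have hν0 : ν ≠ 0 := by
        rintro rfl
        exact hν ⟨0, by ring⟩
      refine ⟨-ν / a, div_ne_zero (neg_ne_zero.mpr hν0) ha, ?_⟩
      have h1 : -(a * (-ν / a)) = ν := by
        field_simp
      rw [h1]
      constructor
      · intro h; exact absurd h hν
      · intro h; norm_num at h
  obtain ⟨u, huN₁, hut⟩ := repr_symm h2 B hsymm N₁ hN₁nd hN₁2 t ht0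
  have hv₁u : B v₁ u = 0 := hN₁o v₁ (Submodule.subset_span (by simp)) u huN₁
  have hu0 : B u u ≠ 0 := by rw [hut]; exact ht0
  obtain ⟨hPnd, hPdim, hP1, hP2⟩ := hplane v₁ u hv₁u ha hu0
  refine ⟨Submodule.span F {v₁, u}, ?_, hPnd, hPdim, ?_⟩
  · rw [Submodule.span_le]
    intro x hx
    rcases hx with rfl | hx
    · exact hv₁N
    · rw [Set.mem_singleton_iff] at hx
      rw [hx]
      exact (Submodule.mem_inf.mp huN₁).1
  · rw [hut] at hP1 hP2
    rcases hs with rfl | rfl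
    · exact hP1 (htsq.mpr rfl)
    · apply hP2
      intro h
      have := htsq.mp h
      norm_num at this

theorem onetyex_core {F : Type*} [Field F] [Fintype F] (h2 : (2 : F) ≠ 0)
    {V : Type*} [AddCommGroup V] [Module F V] [FiniteDimensional F V]
    (B : LinearMap.BilinForm F V) (hsymm : ∀ u v, B u v = B v u)
    (hplane : ∀ v₁ v₂ : V, B v₁ v₂ = 0 → B v₁ v₁ ≠ 0 → B v₂ v₂ ≠ 0 →
      SND B (Submodule.span F {v₁, v₂}) ∧ finrank F (Submodule.span F ({v₁, v₂} : Set V)) = 2 ∧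
      (IsSquare (-(B v₁ v₁ * B v₂ v₂)) → OTy B (Submodule.span F {v₁, v₂}) 1) ∧
      (¬ IsSquare (-(B v₁ v₁ * B v₂ v₂)) → OTy B (Submodule.span F {v₁, v₂}) (-1)))
    (hsum : ∀ (W₁ W₂ : Submodule F V), SND B W₁ → SND B W₂ → SOrth B W₁ W₂ →
      Even (finrank F W₁) → Even (finrank F W₂) → ∀ (s₁ s₂ : ℤ),
      OTy B W₁ s₁ → OTy B W₂ s₂ → OTy B (W₁ ⊔ W₂) (s₁ * s₂))
    (N : Submodule F V) (hN : SND B N) (e : ℕ) (he : Even e) (he0 : 0 < e)
    (heN : e < finrank F N) (s : ℤ) (hs : s = 1 ∨ s = -1) :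
    ∃ W : Submodule F V, W ≤ N ∧ SND B W ∧ finrank F W = e ∧ OTy B W s := by
  obtain ⟨k, hk⟩ : ∃ k, e = 2 * (k + 1) := by
    obtain ⟨j, hj⟩ := he
    exact ⟨j - 1, by omega⟩
  subst hk
  clear he he0
  induction k generalizing N with
  | zero =>
    obtain ⟨W, hWN, hWnd, hWd, hWs⟩ := onetyex_plane h2 B hsymm hplane N hN (by omega) s hs
    exact ⟨W, hWN, hWnd, by rw [hWd], hWs⟩
  | succ k ih =>
    obtain ⟨P, hPN, hPnd, hPd, hPs⟩ := onetyex_plane h2 B hsymm hplane N hN (by omega) 1 (Or.inl rfl)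
    obtain ⟨-, -, hN'nd, hN'o, hN'dim⟩ := nd_perp_symm B hsymm N P hN hPN hPnd
    have hlt : 2 * (k + 1) < finrank F ↥(N ⊓ B.orthogonal P) := by
      rw [hPd] at hN'dim
      omega
    obtain ⟨W', hW'N, hW'nd, hW'd, hW's⟩ := ih (N ⊓ B.orthogonal P) hN'nd hlt
    have hPW' : SOrth B P W' := fun u hu w hw => hN'o u hu w (hW'N hw)
    obtain ⟨hSnd, -, hSdim⟩ := nd_sup_symm B hsymm P W' hPnd hW'nd hPW'
    refine ⟨P ⊔ W', sup_le hPN (hW'N.trans inf_le_left), hSnd, ?_, ?_⟩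
    · rw [hSdim, hPd, hW'd]; ring
    · have := hsum P W' hPnd hW'nd hPW' (by rw [hPd]; exact ⟨1, rfl⟩)
        (by rw [hW'd]; exact ⟨k + 1, by ring⟩) 1 s hPs hW's
      rwa [one_mul] at this

end Cfsg.Agent.Lib.Helper18.ONE
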