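import Mathlib
import Cfsg.Agent.Lib.Helper1.OMO.Defs
import Cfsg.Agent.Lib.helper14.JTc

set_option autoImplicit false
set_option linter.unusedVariables false
set_option linter.unusedSectionVars false

/-!
# Project OMO, row CAYLEY (helper19): the Cayley transform of a skew-adjoint nilpotent matrix, any quadratic form
(adaptation of helper9's `oph_cayley`).
-/

namespace Cfsg.Agent.Lib.Helper1.OMO

open Module Cfsg.Agent.Lib.helper14.JTa Cfsg.Agent.Lib.Helper9.OPH

variable {F : Type*} [Field F] {ι : Type} [Fintype ι] [DecidableEq ι]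

/-- CAYLEY [M] -/
theorem omo_cayley (h2 : (2 : F) ≠ 0) (Q : QuadraticForm F (ι → F)) (T : Matrix ι ι F)
    (hT : ∀ u v : ι → F, QuadraticMap.polar (⇑Q) (T.mulVec u) v = - QuadraticMap.polar (⇑Q) u (T.mulVec v))
    (K : ℕ) (hK : T ^ K = 0) :
    ∃ y : Matrix ι ι F, IsUnit y ∧ (∀ v, Q (y.mulVec v) = Q v) ∧ (y - 1) ^ K = 0 ∧
      ∀ k, dk (Matrix.toLin' y - 1) k = dk (Matrix.toLin' T) k := by
  classical
  set M : Matrix ι ι F := (2⁻¹ : F) • T with hM
  have hMK : M ^ K = 0 := by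
    rw [hM, smul_pow, hK, smul_zero]
  have hMnil : IsNilpotent M := ⟨K, hMK⟩
  have uA : IsUnit (1 - M) := hMnil.isUnit_one_sub
  have uC : IsUnit (1 + M) := hMnil.isUnit_one_add
  obtain ⟨a, ha⟩ := uA
  have hcomm : Commute T (a : Matrix ι ι F) := by
    rw [ha, hM]
    exact (Commute.one_right T).sub_right ((Commute.refl T).smul_right _)
  have hcommi : Commute T ((a⁻¹ : (Matrix ι ι F)ˣ) : Matrix ι ι F) :=
    hcomm.units_inv_right
  set Ai : Matrix ι ι F := ((a⁻¹ : (Matrix ι ι F)ˣ) : Matrix ι ι F) with hAi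
  have hAAi : (1 - M) * Ai = 1 := by
    rw [← ha, hAi, Units.mul_inv]
  have hAiu : IsUnit Ai := ⟨a⁻¹, rfl⟩
  have hpol0 : ∀ w : ι → F, QuadraticMap.polar (⇑Q) w (T.mulVec w) = 0 := by
    intro w
    have h1 := hT w w
    rw [QuadraticMap.polar_comm] at h1
    have h3 : (2 : F) * QuadraticMap.polar (⇑Q) w (T.mulVec w) = 0 := by
      linear_combination h1
    rcases mul_eq_zero.mp h3 with h | h
    · exact absurd h h2
    · exact h
  have hpolM : ∀ w : ι → F, QuadraticMap.polar (⇑Q) w (M.mulVec w) = 0 := by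
    intro w
    rw [hM, Matrix.smul_mulVec, QuadraticMap.polar_smul_right, hpol0, smul_zero]
  have hy1 : (1 + M) * Ai - 1 = T * Ai := by
    have h1 : (1 + M) * Ai - 1 = (1 + M) * Ai - (1 - M) * Ai := by rw [hAAi]
    rw [h1, ← sub_mul]
    congr 1
    rw [hM]
    have h3 : (1 + (2⁻¹ : F) • T) - (1 - (2⁻¹ : F) • T) = ((2⁻¹ : F) + 2⁻¹) • T := by
      rw [add_smul]
      abel
    rw [h3]
    have h4 : (2⁻¹ : F) + 2⁻¹ = 1 := by
      field_simp
      norm_num
    rw [h4, one_smul]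
  refine ⟨(1 + M) * Ai, uC.mul hAiu, ?_, ?_, ?_⟩
  · intro v
    set w := Ai.mulVec v with hw
    have hv : v = w - M.mulVec w := by
      have h : ((1 - M) * Ai).mulVec v = (1 : Matrix ι ι F).mulVec v := by rw [hAAi]
      rw [← Matrix.mulVec_mulVec, Matrix.sub_mulVec, Matrix.one_mulVec, Matrix.one_mulVec] at h
      exact h.symm
    have hyv : ((1 + M) * Ai).mulVec v = w + M.mulVec w := by
      rw [← Matrix.mulVec_mulVec, ← hw, Matrix.add_mulVec, Matrix.one_mulVec]
    rw [hyv, hv]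
    have e1 : Q (w + M.mulVec w) =
        Q w + Q (M.mulVec w) + QuadraticMap.polar (⇑Q) w (M.mulVec w) := by
      unfold QuadraticMap.polar
      ring
    have e2 : Q (w - M.mulVec w) =
        Q w + Q (M.mulVec w) - QuadraticMap.polar (⇑Q) w (M.mulVec w) := by
      have h5 : Q (w + -M.mulVec w) =
          Q w + Q (-M.mulVec w) + QuadraticMap.polar (⇑Q) w (-M.mulVec w) := by
        unfold QuadraticMap.polar
        ring
      rw [sub_eq_add_neg, h5, QuadraticMap.map_neg, QuadraticMap.polar_neg_right]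
      ring
    rw [e1, e2, hpolM]
    ring
  · rw [hy1, hcommi.mul_pow, hK, zero_mul]
  · intro k
    unfold dk
    have h1 : (Matrix.toLin' ((1 + M) * Ai) - 1) ^ k = Matrix.toLin' (Ai ^ k) ∘ₗ (Matrix.toLin' T) ^ k := by
      have h3 : Matrix.toLin' ((1 + M) * Ai) - 1 = Matrix.toLin' ((1 + M) * Ai - 1) := by
        rw [map_sub, Matrix.toLin'_one]
        rfl
      rw [h3, hy1, ← Matrix.toLin'_pow, hcommi.mul_pow, (hcommi.pow_pow k k).eq, Matrix.toLin'_mul, Matrix.toLin'_pow T]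
    have hker : LinearMap.ker (Matrix.toLin' (Ai ^ k)) = ⊥ := by
      rw [LinearMap.ker_eq_bot]
      have h5 : IsUnit (Ai ^ k) := hAiu.pow k
      have := Matrix.mulVec_injective_iff_isUnit.mpr h5
      intro x y hxy
      apply this
      rw [Matrix.toLin'_apply, Matrix.toLin'_apply] at hxy
      exact hxy
    rw [h1, LinearMap.ker_comp_of_ker_eq_bot _ hker]

end Cfsg.Agent.Lib.Helper1.OMO
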