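import Cfsg.Agent.Lib.Helper29.GLK.Defs

/-!
# Project GLK, piece L: `q^n - q^(n-1) ≤ k(GL_n(q))`  (companion matrices)
-/

set_option autoImplicit false

namespace Cfsg.Agent.Lib.Helper29.GLK

open Polynomial

universe u

/-- every monic polynomial of degree `n` with nonzero constant term is the characteristic polynomial
of an invertible matrix -/
theorem glkL_exists_gl {F : Type u} [Field F] (n : ℕ) (f : F[X]) (hf : f.Monic)
    (hd : f.natDegree = n) (h0 : f.coeff 0 ≠ 0) :
    ∃ g : Matrix.GeneralLinearGroup (Fin n) F, (g : Matrix (Fin n) (Fin n) F).charpoly = f := by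
  classical
  let pb := AdjoinRoot.powerBasis hf.ne_zero
  have hdim : pb.dim = n := by
    show (AdjoinRoot.powerBasis hf.ne_zero).dim = n
    rw [AdjoinRoot.powerBasis_dim]; exact hd
  let M : Matrix (Fin pb.dim) (Fin pb.dim) F := Algebra.leftMulMatrix pb.basis pb.gen
  have hM : M.charpoly = f := by
    show (Algebra.leftMulMatrix pb.basis pb.gen).charpoly = f
    rw [charpoly_leftMulMatrix]
    exact AdjoinRoot.minpoly_powerBasis_gen_of_monic hf
  let M' : Matrix (Fin n) (Fin n) F := Matrix.reindex (finCongr hdim) (finCongr hdim) M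
  have hM' : M'.charpoly = f := by
    show (Matrix.reindex (finCongr hdim) (finCongr hdim) M).charpoly = f
    rw [Matrix.charpoly_reindex]; exact hM
  have hdet : M'.det ≠ 0 := by
    rw [Matrix.det_eq_sign_charpoly_coeff, hM']
    simp [h0]
  exact ⟨Matrix.GeneralLinearGroup.mkOfDetNeZero M' hdet, hM'⟩

/-- the polynomial `X^n + ∑ c_i X^(i+1) + u` -/
noncomputable def glkL_poly {F : Type u} [Field F] (n : ℕ) (x : Fˣ × (Fin (n - 1) → F)) : F[X] :=
  X ^ n + ((∑ i : Fin (n - 1), C (x.2 i) * X ^ ((i : ℕ) + 1)) + C (x.1 : F))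

theorem glkL_tail_degree_lt {F : Type u} [Field F] (n : ℕ) (hn : 1 ≤ n)
    (x : Fˣ × (Fin (n - 1) → F)) :
    ((∑ i : Fin (n - 1), C (x.2 i) * X ^ ((i : ℕ) + 1)) + C (x.1 : F)).degree < (n : WithBot ℕ) := by
  refine lt_of_le_of_lt (degree_add_le _ _) (max_lt ?_ ?_)
  · refine lt_of_le_of_lt (degree_sum_le _ _) ?_
    rw [Finset.sup_lt_iff (by exact_mod_cast WithBot.bot_lt_coe n)]
    intro i _
    refine lt_of_le_of_lt (degree_C_mul_X_pow_le _ _) ?_
    have : (i : ℕ) + 1 < n := by have := i.2; omega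
    exact_mod_cast this
  · refine lt_of_le_of_lt degree_C_le ?_
    exact_mod_cast hn

theorem glkL_poly_monic {F : Type u} [Field F] (n : ℕ) (hn : 1 ≤ n)
    (x : Fˣ × (Fin (n - 1) → F)) : (glkL_poly n x).Monic :=
  monic_X_pow_add (glkL_tail_degree_lt n hn x)

theorem glkL_poly_natDegree {F : Type u} [Field F] (n : ℕ) (hn : 1 ≤ n)
    (x : Fˣ × (Fin (n - 1) → F)) : (glkL_poly n x).natDegree = n := by
  unfold glkL_poly
  rw [natDegree_add_eq_left_of_degree_lt, natDegree_X_pow]
  rw [degree_X_pow]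
  exact glkL_tail_degree_lt n hn x

theorem glkL_poly_coeff_zero {F : Type u} [Field F] (n : ℕ) (hn : 1 ≤ n)
    (x : Fˣ × (Fin (n - 1) → F)) : (glkL_poly n x).coeff 0 = (x.1 : F) := by
  unfold glkL_poly
  have hn0 : n ≠ 0 := by omega
  simp [coeff_X_pow, Ne.symm hn0]

theorem glkL_poly_coeff_succ {F : Type u} [Field F] (n : ℕ) (hn : 1 ≤ n)
    (x : Fˣ × (Fin (n - 1) → F)) (j : Fin (n - 1)) :
    (glkL_poly n x).coeff ((j : ℕ) + 1) = x.2 j := by
  unfold glkL_poly
  have hj : (j : ℕ) + 1 ≠ n := by have := j.2; omega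
  rw [coeff_add, coeff_add, coeff_X_pow, if_neg hj, finsetSum_coeff, coeff_C_succ, add_zero,
    zero_add]
  rw [Finset.sum_eq_single j]
  · simp
  · intro i _ hij
    rw [coeff_C_mul_X_pow, if_neg]
    intro h
    exact hij (Fin.ext (by omega)).symm
  · intro h; exact absurd (Finset.mem_univ j) h

theorem glkL_poly_injective {F : Type u} [Field F] (n : ℕ) (hn : 1 ≤ n) :
    Function.Injective (glkL_poly (F := F) n) := by
  intro x y h
  have h1 : (x.1 : F) = y.1 := by
    rw [← glkL_poly_coeff_zero n hn x, ← glkL_poly_coeff_zero n hn y, h]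
  have h2 : x.2 = y.2 := by
    funext j
    rw [← glkL_poly_coeff_succ n hn x j, ← glkL_poly_coeff_succ n hn y j, h]
  exact Prod.ext (Units.ext h1) h2

theorem glkL_charpoly_eq_of_isConj {F : Type u} [Field F] {n : ℕ}
    (g g' : Matrix.GeneralLinearGroup (Fin n) F) (h : IsConj g g') :
    (g : Matrix (Fin n) (Fin n) F).charpoly = (g' : Matrix (Fin n) (Fin n) F).charpoly := by
  obtain ⟨c, hc⟩ := isConj_iff.mp h
  rw [← hc]
  have : ((c * g * c⁻¹ : Matrix.GeneralLinearGroup (Fin n) F) : Matrix (Fin n) (Fin n) F)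
      = (c : Matrix (Fin n) (Fin n) F) * (g : Matrix (Fin n) (Fin n) F)
        * ((c⁻¹ : (Matrix (Fin n) (Fin n) F)ˣ) : Matrix (Fin n) (Fin n) F) := by
    simp [Units.val_mul]
  rw [this, Matrix.coe_units_inv, Matrix.charpoly_units_conj]

/-- piece L -/
theorem lower {F : Type u} [Field F] [Fintype F] (n : ℕ) (hn : 1 ≤ n) :
    Fintype.card F ^ n - Fintype.card F ^ (n - 1) ≤
      Nat.card (ConjClasses (Matrix.GeneralLinearGroup (Fin n) F)) := by
  classical
  have hex : ∀ x : Fˣ × (Fin (n - 1) → F), ∃ g : Matrix.GeneralLinearGroup (Fin n) F,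
      (g : Matrix (Fin n) (Fin n) F).charpoly = glkL_poly n x := fun x =>
    glkL_exists_gl n _ (glkL_poly_monic n hn x) (glkL_poly_natDegree n hn x)
      (by rw [glkL_poly_coeff_zero n hn x]; exact x.1.ne_zero)
  choose γ hγ using hex
  let Φ : Fˣ × (Fin (n - 1) → F) → ConjClasses (Matrix.GeneralLinearGroup (Fin n) F) :=
    fun x => ConjClasses.mk (γ x)
  have hΦ : Function.Injective Φ := by
    intro x y h
    have h1 : IsConj (γ x) (γ y) := ConjClasses.mk_eq_mk_iff_isConj.mp h
    have h2 := glkL_charpoly_eq_of_isConj _ _ h1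
    rw [hγ x, hγ y] at h2
    exact glkL_poly_injective n hn h2
  have hfin : Finite (ConjClasses (Matrix.GeneralLinearGroup (Fin n) F)) := inferInstance
  have hcard : Nat.card (Fˣ × (Fin (n - 1) → F))
      = (Fintype.card F - 1) * Fintype.card F ^ (n - 1) := by
    rw [Nat.card_eq_fintype_card, Fintype.card_prod, Fintype.card_units, Fintype.card_fun,
      Fintype.card_fin]
  have harith : Fintype.card F ^ n - Fintype.card F ^ (n - 1)
      = (Fintype.card F - 1) * Fintype.card F ^ (n - 1) := by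
    obtain ⟨m, rfl⟩ : ∃ m, n = m + 1 := ⟨n - 1, by omega⟩
    rw [Nat.add_sub_cancel, pow_succ, Nat.sub_mul, one_mul, mul_comm]
  rw [harith, ← hcard]
  exact Nat.card_le_card_of_injective Φ hΦ

end Cfsg.Agent.Lib.Helper29.GLK
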