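import Mathlib
import Cfsg.Prelude.Def_Characters
import Cfsg.Agent.Lib.helper7.PM2.Defs
import Cfsg.Agent.Lib.helper7.CharCentral
import Cfsg.Agent.S0138

/-!
# Project PM2 (S4705), pieces BAS + BAS2 : the central character `ν` of `ζ`; an element whose value has norm
`p - 2` is central
-/

set_option autoImplicit false
set_option linter.unusedVariables false
set_option linter.unusedSectionVars false

namespace Cfsg.Agent.Lib.helper7.PM2

open scoped ComplexConjugate

universe u

variable {G : Type u} [Group G] [Fintype G] {p : ℕ} {ζ : G → ℂ} {x : G} {ω : ℂ}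

/-- the degree `p - 2` is not zero -/
theorem pm2bas_deg_ne (S : Setting p ζ x ω) : ζ 1 ≠ 0 := by
  rw [S.deg]
  have h5 := S.hp5
  have h : ((p : ℂ) - 2) = ((p - 2 : ℕ) : ℂ) := by
    rw [Nat.cast_sub (by omega)]
    norm_num
  rw [h]
  have : p - 2 ≠ 0 := by omega
  exact_mod_cast this

/-- generic form: the central character of an irreducible character -/
theorem pm2bas_mul_right_gen {ψ : G → ℂ} (hψ : Cfsg.IsIrrCharacter G ψ) (h1 : ψ 1 ≠ 0) {c : G}
    (hc : c ∈ Subgroup.center G) (g : G) : ψ (g * c) = nu ψ c * ψ g := by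
  obtain ⟨k, hk⟩ := Cfsg.Agent.Lib.helper7.h7_central_char hψ c hc
  have hk1 : ψ c = k * ψ 1 := by
    have := hk 1
    rwa [mul_one] at this
  have hkk : k = nu ψ c := by
    unfold nu
    rw [hk1]
    field_simp
  rw [(Subgroup.mem_center_iff.mp hc g), hk g, hkk]

/-- BAS -/
theorem nu_mul_right (S : Setting p ζ x ω) {c : G} (hc : c ∈ Subgroup.center G) (g : G) :
    ζ (g * c) = nu ζ c * ζ g :=
  pm2bas_mul_right_gen S.irr (pm2bas_deg_ne S) hc g

/-- BAS -/
theorem nu_one (S : Setting p ζ x ω) : nu ζ 1 = 1 := by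
  unfold nu
  exact div_self (pm2bas_deg_ne S)

/-- BAS -/
theorem nu_mul (S : Setting p ζ x ω) {c c' : G} (hc : c ∈ Subgroup.center G)
    (hc' : c' ∈ Subgroup.center G) : nu ζ (c * c') = nu ζ c * nu ζ c' := by
  have h := nu_mul_right S hc' c
  unfold nu at h ⊢
  rw [h]
  field_simp

/-- BAS -/
theorem nu_pow (S : Setting p ζ x ω) {c : G} (hc : c ∈ Subgroup.center G) (k : ℕ) :
    nu ζ (c ^ k) = nu ζ c ^ k := by
  induction k with
  | zero => rw [pow_zero, pow_zero]; exact nu_one S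
  | succ k ih =>
    rw [pow_succ, pow_succ, nu_mul S (Subgroup.pow_mem _ hc k) hc, ih]

/-- BAS -/
theorem nu_norm (S : Setting p ζ x ω) {c : G} (hc : c ∈ Subgroup.center G) : ‖nu ζ c‖ = 1 := by
  have h1 : nu ζ c ^ orderOf c = 1 := by
    rw [← nu_pow S hc, pow_orderOf_eq_one, nu_one S]
  exact Complex.norm_eq_one_of_pow_eq_one h1 (orderOf_pos c).ne'

/-- BAS -/
theorem nu_inj (S : Setting p ζ x ω) {c : G} (hc : c ∈ Subgroup.center G) (h : nu ζ c = 1) : c = 1 := by
  apply S.faith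
  unfold nu at h
  rwa [div_eq_one_iff_eq (pm2bas_deg_ne S)] at h

/-- generic form of BAS2 : an element at which a faithful irreducible character has norm `ψ 1` is central -/
theorem pm2bas_central_gen {ψ : G → ℂ} (hψ : Cfsg.IsIrrCharacter G ψ)
    (hfaith : ∀ g : G, ψ g = ψ 1 → g = 1) (g : G) (h : ‖ψ g‖ = ‖ψ 1‖) :
    g ∈ Subgroup.center G := by
  obtain ⟨n, ρ, hρ, hχ⟩ := hψ
  have h1 : ψ 1 = (Module.finrank ℂ (Fin n → ℂ) : ℂ) := by
    rw [← hχ, Representation.char_one]
  have hnorm : ‖ρ.character g‖ = (Module.finrank ℂ (Fin n → ℂ) : ℝ) := by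
    rw [hχ, h, h1]
    simp
  obtain ⟨c, hc⟩ := (Cfsg.Agent.S0138.result ρ g).mp hnorm
  rw [Subgroup.mem_center_iff]
  intro y
  have hcomm : ρ (g * y) = ρ (y * g) := by
    rw [map_mul, map_mul, hc]
    ext v
    simp
  have hc' : ρ (g * y * (y * g)⁻¹) = ρ 1 := by
    rw [map_mul, hcomm, ← map_mul, mul_inv_cancel]
  have hchar : ψ (g * y * (y * g)⁻¹) = ψ 1 := by
    rw [← hχ]
    unfold Representation.character
    rw [hc']
  have := hfaith _ hchar
  have h6 : g * y = y * g := mul_inv_eq_one.mp this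
  exact h6.symm

/-- BAS2 : an element whose value has norm `p - 2` is central -/
theorem central_of_norm (S : Setting p ζ x ω) (g : G) (h : ‖ζ g‖ = (p : ℝ) - 2) :
    g ∈ Subgroup.center G := by
  apply pm2bas_central_gen S.irr S.faith g
  rw [h, S.deg]
  have h5 := S.hp5
  have h2 : ((p : ℂ) - 2) = (((p : ℝ) - 2 : ℝ) : ℂ) := by push_cast; ring
  rw [h2, Complex.norm_real, Real.norm_eq_abs, abs_of_nonneg]
  have : (5 : ℝ) < (p : ℝ) := by exact_mod_cast h5
  linarith

end Cfsg.Agent.Lib.helper7.PM2
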