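import Mathlib
import Cfsg.Agent.Lib.Helper19.TransferTwo
import Cfsg.Agent.Lib.helper6.OrbitTools

set_option autoImplicit false

namespace Cfsg.Agent.Lib.Helper19

open MonoidHom MulAction Subgroup

variable {G : Type*} [Group G]

/-- Transfer for a central involution of a Sylow 2-subgroup: if `z ∈ Z(S)` is an involution and
`M` is a maximal subgroup of `S` containing no `N_G(S)`-conjugate of `z`, then the transfer into
`S / M` does not kill `z`, giving a normal subgroup of index two avoiding `z`. -/
theorem exists_index_two_of_central_involution [Finite G] (S : Sylow 2 G) (M : Subgroup G)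
    (hMS : M ≤ (S : Subgroup G)) (hM : M.relIndex (S : Subgroup G) = 2)
    (z : G) (hzS : z ∈ (S : Subgroup G)) (hzc : ∀ s ∈ (S : Subgroup G), s * z = z * s)
    (hz2 : z * z = 1)
    (hN : ∀ n ∈ Subgroup.normalizer ((S : Subgroup G) : Set G), n⁻¹ * z * n ∉ M) :
    ∃ K : Subgroup G, K.Normal ∧ K.index = 2 ∧ z ∉ K := by
  classical
  have : Fact (Nat.Prime 2) := ⟨Nat.prime_two⟩
  set H : Subgroup G := (S : Subgroup G) with hH
  have hQ : (M.subgroupOf H).index = 2 := hM
  set ϕ := signHomOfIndexTwo H (M.subgroupOf H) hQ with hϕ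
  have : H.FiniteIndex := inferInstance
  let _ : Fintype (Quotient (orbitRel (zpowers z) (G ⧸ H))) := Fintype.ofFinite _
  have hV := transfer_eq_prod_quotient_orbitRel_zpowers_quot ϕ z
  -- M is normal in H
  have hMn : ∀ h ∈ H, ∀ m ∈ M, h⁻¹ * m * h ∈ M := by
    intro h hh m hm
    have hnorm : (M.subgroupOf H).Normal := Subgroup.normal_of_index_eq_two hQ
    have := hnorm.conj_mem ⟨m, hMS hm⟩ (Subgroup.mem_subgroupOf.mpr hm) ⟨h⁻¹, H.inv_mem hh⟩
    rw [Subgroup.mem_subgroupOf] at this
    simpa using this
  -- the predicate on group elements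
  let Pg : G → Prop := fun g => g⁻¹ * z * g ∈ H ∧ g⁻¹ * z * g ∉ M
  have hPg_mul : ∀ g : G, ∀ h ∈ H, Pg (g * h) ↔ Pg g := by
    intro g h hh
    have e : (g * h)⁻¹ * z * (g * h) = h⁻¹ * (g⁻¹ * z * g) * h := by group
    have e' : g⁻¹ * z * g = (h⁻¹)⁻¹ * ((g * h)⁻¹ * z * (g * h)) * h⁻¹ := by group
    constructor
    · rintro ⟨h1, h2⟩
      refine ⟨?_, ?_⟩
      · rw [e']
        exact H.mul_mem (H.mul_mem (H.inv_mem (H.inv_mem hh)) h1) (H.inv_mem hh)
      · intro hm
        apply h2
        rw [e]
        exact hMn h hh _ hm
    · rintro ⟨h1, h2⟩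
      refine ⟨?_, ?_⟩
      · rw [e]
        exact H.mul_mem (H.mul_mem (H.inv_mem hh) h1) hh
      · intro hm
        apply h2
        rw [e']
        exact hMn h⁻¹ (H.inv_mem hh) _ hm
  let Y : Set (G ⧸ H) := {c | Pg c.out}
  have hY_mk : ∀ g : G, ((g : G ⧸ H) ∈ Y) ↔ Pg g := by
    intro g
    obtain ⟨h, hh⟩ := QuotientGroup.mk_out_eq_mul H g
    show Pg (g : G ⧸ H).out ↔ Pg g
    rw [hh]
    exact hPg_mul g h.1 h.2
  -- membership in Y means z fixes the coset
  have hfix_iff : ∀ g : G, z • (g : G ⧸ H) = (g : G ⧸ H) ↔ g⁻¹ * z * g ∈ H := by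
    intro g
    rw [MulAction.Quotient.smul_mk, QuotientGroup.eq]
    have : (z • g)⁻¹ * g = (g⁻¹ * z * g)⁻¹ := by
      simp only [smul_eq_mul]; group
    rw [this, inv_mem_iff]
  -- each term
  have hterm : ∀ q : Quotient (orbitRel (zpowers z) (G ⧸ H)),
      ϕ ⟨q.out.out⁻¹ * z ^ Function.minimalPeriod (z • ·) q.out * q.out.out,
            QuotientGroup.out_conj_pow_minimalPeriod_mem H z q.out⟩ =
        if q.out ∈ Y then (-1 : ℤˣ) else 1 := by
    intro q
    have hper : Function.minimalPeriod (z • ·) q.out ∣ 2 := by
      apply Function.IsPeriodicPt.minimalPeriod_dvd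
      show (z • ·)^[2] q.out = q.out
      have h2 : (z • ·)^[2] q.out = z • z • q.out := rfl
      rw [h2, smul_smul, hz2, one_smul]
    have hcases : Function.minimalPeriod (z • ·) q.out = 1 ∨ Function.minimalPeriod (z • ·) q.out = 2 :=
      (Nat.dvd_prime Nat.prime_two).mp hper
    have hout : ((q.out.out : G) : G ⧸ H) = q.out := QuotientGroup.out_eq' q.out
    rcases hcases with h1 | h2
    · -- fixed coset
      have hfixed : z • q.out = q.out := by
        have := Function.minimalPeriod_eq_one_iff_isFixedPt.mp h1
        exact this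
      have hmemH : q.out.out⁻¹ * z * q.out.out ∈ H := by
        rw [← hfix_iff, hout]; exact hfixed
      have hval : ϕ ⟨q.out.out⁻¹ * z ^ Function.minimalPeriod (z • ·) q.out * q.out.out,
            QuotientGroup.out_conj_pow_minimalPeriod_mem H z q.out⟩ = ϕ ⟨q.out.out⁻¹ * z * q.out.out, hmemH⟩ := by
        congr 1
        apply Subtype.ext
        simp only [h1, pow_one]
      rw [hval]
      by_cases hY : q.out ∈ Y
      · rw [if_pos hY]
        apply signHomOfIndexTwo_apply_of_not_mem
        rw [Subgroup.mem_subgroupOf]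
        exact hY.2
      · rw [if_neg hY]
        rw [signHomOfIndexTwo_apply, Subgroup.mem_subgroupOf]
        by_contra hnot
        exact hY ⟨hmemH, hnot⟩
    · -- period two
      have hnotfixed : ¬ z • q.out = q.out := by
        intro hf
        have : Function.minimalPeriod (z • ·) q.out = 1 :=
          Function.minimalPeriod_eq_one_iff_isFixedPt.mpr hf
        omega
      have hY : q.out ∉ Y := by
        intro hY
        apply hnotfixed
        have := (hfix_iff q.out.out).mpr hY.1
        rwa [hout] at this
      rw [if_neg hY]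
      have hval : (⟨q.out.out⁻¹ * z ^ Function.minimalPeriod (z • ·) q.out * q.out.out,
            QuotientGroup.out_conj_pow_minimalPeriod_mem H z q.out⟩ : H) = 1 := by
        apply Subtype.ext
        simp only [h2, pow_two, hz2, mul_one, inv_mul_cancel, Subgroup.coe_one]
      rw [hval, map_one]
  -- the product
  have hprod : transfer ϕ z = (-1 : ℤˣ) ^ (Finset.univ.filter
      (fun q : Quotient (orbitRel (zpowers z) (G ⧸ H)) => q.out ∈ Y)).card := by
    rw [hV]
    rw [Finset.prod_congr rfl (fun q _ => hterm q)]
    rw [Finset.prod_ite, Finset.prod_const, Finset.prod_const_one, mul_one]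
  -- count
  have hcount : (Finset.univ.filter
      (fun q : Quotient (orbitRel (zpowers z) (G ⧸ H)) => q.out ∈ Y)).card = Y.ncard := by
    have himg : (fun q : Quotient (orbitRel (zpowers z) (G ⧸ H)) => q.out) ''
        {q | q.out ∈ Y} = Y := by
      ext c
      constructor
      · rintro ⟨q, hq, rfl⟩
        exact hq
      · intro hc
        refine ⟨Quotient.mk _ c, ?_, ?_⟩
        · -- ⟦c⟧.out = c
          have hrel : (Quotient.mk (orbitRel (zpowers z) (G ⧸ H)) c).out ∈ MulAction.orbit (zpowers z) c := by
            have := Quotient.mk_out (s := orbitRel (zpowers z) (G ⧸ H)) c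
            exact this
          obtain ⟨⟨w, hw⟩, hwc⟩ := hrel
          -- w fixes c
          have hzfix : z • c = c := by
            have hc' : Pg c.out := hc
            have := (hfix_iff c.out).mpr hc'.1
            rwa [QuotientGroup.out_eq'] at this
          have hwfix : w • c = c := by
            obtain ⟨k, rfl⟩ := Subgroup.mem_zpowers_iff.mp hw
            have : ∀ k : ℤ, z ^ k • c = c := by
              intro k
              induction k using Int.induction_on with
              | zero => simp
              | succ i ih => rw [zpow_add, zpow_one, mul_smul, hzfix, ih]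
              | pred i ih =>
                rw [zpow_sub, zpow_one, mul_smul]
                have : z⁻¹ • c = c := by
                  rw [inv_smul_eq_iff, hzfix]
                rw [this, ih]
            exact this k
          have : (Quotient.mk (orbitRel (zpowers z) (G ⧸ H)) c).out = c := by
            rw [← hwc]
            exact hwfix
          show (Quotient.mk (orbitRel (zpowers z) (G ⧸ H)) c).out ∈ Y
          rw [this]; exact hc
        · have hrel : (Quotient.mk (orbitRel (zpowers z) (G ⧸ H)) c).out ∈ MulAction.orbit (zpowers z) c := by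
            have := Quotient.mk_out (s := orbitRel (zpowers z) (G ⧸ H)) c
            exact this
          obtain ⟨⟨w, hw⟩, hwc⟩ := hrel
          have hzfix : z • c = c := by
            have hc' : Pg c.out := hc
            have := (hfix_iff c.out).mpr hc'.1
            rwa [QuotientGroup.out_eq'] at this
          have hwfix : w • c = c := by
            obtain ⟨k, rfl⟩ := Subgroup.mem_zpowers_iff.mp hw
            have : ∀ k : ℤ, z ^ k • c = c := by
              intro k
              induction k using Int.induction_on with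
              | zero => simp
              | succ i ih => rw [zpow_add, zpow_one, mul_smul, hzfix, ih]
              | pred i ih =>
                rw [zpow_sub, zpow_one, mul_smul]
                have : z⁻¹ • c = c := by
                  rw [inv_smul_eq_iff, hzfix]
                rw [this, ih]
            exact this k
          show (Quotient.mk (orbitRel (zpowers z) (G ⧸ H)) c).out = c
          rw [← hwc]
          exact hwfix
    have hinj : Function.Injective (fun q : Quotient (orbitRel (zpowers z) (G ⧸ H)) => q.out) := by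
      intro q1 q2 h
      have h' : q1.out = q2.out := h
      rw [← Quotient.out_eq q1, ← Quotient.out_eq q2, h']
    have hset : ({q | q.out ∈ Y} : Set (Quotient (orbitRel (zpowers z) (G ⧸ H)))) =
        ↑(Finset.univ.filter (fun q : Quotient (orbitRel (zpowers z) (G ⧸ H)) => q.out ∈ Y)) := by
      ext q; simp
    calc (Finset.univ.filter
          (fun q : Quotient (orbitRel (zpowers z) (G ⧸ H)) => q.out ∈ Y)).card
        = ({q | q.out ∈ Y} : Set (Quotient (orbitRel (zpowers z) (G ⧸ H)))).ncard := by
          rw [hset, Set.ncard_coe_finset]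
      _ = ((fun q : Quotient (orbitRel (zpowers z) (G ⧸ H)) => q.out) '' {q | q.out ∈ Y}).ncard :=
          (Set.ncard_image_of_injective _ hinj).symm
      _ = Y.ncard := by rw [himg]
  -- parity of Y
  have hYodd : Odd Y.ncard := by
    have hHp : IsPGroup 2 H := S.2
    have hinv : ∀ s : H, ∀ c ∈ Y, s • c ∈ Y := by
      intro s c hc
      have hc' : Pg c.out := hc
      have hsc : s • c = (((s : G) * c.out : G) : G ⧸ H) := by
        conv_lhs => rw [← QuotientGroup.out_eq' c]
        rfl
      rw [hsc, hY_mk]
      have e : ((s : G) * c.out)⁻¹ * z * ((s : G) * c.out) = c.out⁻¹ * ((s : G)⁻¹ * z * (s : G)) * c.out := by group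
      have e2 : (s : G)⁻¹ * z * (s : G) = z := by
        have := hzc s.1 s.2
        calc (s : G)⁻¹ * z * (s : G) = (s : G)⁻¹ * (z * (s : G)) := by group
          _ = (s : G)⁻¹ * ((s : G) * z) := by rw [this]
          _ = z := by group
      show ((s : G) * c.out)⁻¹ * z * ((s : G) * c.out) ∈ H ∧ ((s : G) * c.out)⁻¹ * z * ((s : G) * c.out) ∉ M
      rw [e, e2]
      exact hc'
    have h1 := Cfsg.Agent.Lib.helper6.pgroup_ncard_modEq (p := 2) (Q := H) (α := G ⧸ H) hHp Y hinv
    have hsub : MulAction.fixedPoints H (G ⧸ H) ⊆ Y := by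
      intro c hc
      have hcn : c.out ∈ Subgroup.normalizer (H : Set G) := by
        rw [← Sylow.mem_fixedPoints_mul_left_cosets_iff_mem_normalizer, QuotientGroup.out_eq']
        exact hc
      show Pg c.out
      refine ⟨?_, hN _ hcn⟩
      have := (Subgroup.mem_normalizer_iff''.mp hcn z).mp hzS
      exact this
    have h2 : Y ∩ MulAction.fixedPoints H (G ⧸ H) = MulAction.fixedPoints H (G ⧸ H) :=
      Set.inter_eq_right.mpr hsub
    rw [h2] at h1
    have h3 := Cfsg.Agent.Lib.helper6.pgroup_ncard_modEq (p := 2) (Q := H) (α := G ⧸ H) hHp Set.univ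
      (fun _ _ _ => Set.mem_univ _)
    rw [Set.univ_inter, Set.ncard_univ] at h3
    have h4 : Nat.card (G ⧸ H) = H.index := rfl
    have hodd : ¬ 2 ∣ H.index := S.not_dvd_index
    have h5 : Y.ncard ≡ H.index [MOD 2] := by
      rw [← h4]
      exact h1.trans h3.symm
    rw [Nat.odd_iff]
    have : H.index % 2 = 1 := by omega
    rw [← this]
    exact h5
  have hVz : transfer ϕ z = -1 := by
    rw [hprod, hcount, Odd.neg_one_pow hYodd]
  refine ⟨(transfer ϕ).ker, MonoidHom.normal_ker _, ?_, ?_⟩
  · rw [Subgroup.index_ker]
    have hrange : (transfer ϕ).range = ⊤ := by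
      rw [eq_top_iff]
      intro u _
      rcases Int.units_eq_one_or u with rfl | rfl
      · exact one_mem _
      · exact ⟨z, hVz⟩
    rw [hrange, Subgroup.card_top]
    simp
  · rw [MonoidHom.mem_ker, hVz]
    decide

end Cfsg.Agent.Lib.Helper19
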