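import Cfsg.Agent.Lib.Helper19.MOD.Basic

set_option autoImplicit false

namespace Cfsg.Agent.Lib.Helper19.MOD

open Matrix Cfsg.Agent.Lib.helper15.SUn Cfsg.Agent.Lib.helper3.STC Cfsg.Agent.Lib.Helper27.STU
  Cfsg.Agent.Lib.helper15.St2

section span

variable {F : Type*} [Field F] {n q : ℕ}

/-- a vector orthogonal to a family of `n` vectors which has a dual family is zero -/
theorem eq_zero_of_dual {κ : Type*} [Fintype κ] [DecidableEq κ] (hκ : Fintype.card κ = n)
    (vec vecd : κ → Fin n → F)
    (hdual : ∀ i j, Cfsg.hermForm n F q (vecd i) (vec j) = if i = j then 1 else 0)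
    (y : Fin n → F) (hy : ∀ j, Cfsg.hermForm n F q y (vec j) = 0) : y = 0 := by
  let Φ : (Fin n → F) →ₗ[F] (κ → F) :=
    { toFun := fun x j => Cfsg.hermForm n F q x (vec j)
      map_add' := fun x x' => by
        funext j
        exact herm_add_left x x' (vec j)
      map_smul' := fun c x => by
        funext j
        exact herm_smul_left c x (vec j) }
  have hsurj : Function.Surjective Φ := by
    intro c
    refine ⟨∑ i, c i • vecd i, ?_⟩
    funext j
    show Cfsg.hermForm n F q (∑ i, c i • vecd i) (vec j) = c j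
    have h1 : ∀ (s : Finset κ), Cfsg.hermForm n F q (∑ i ∈ s, c i • vecd i) (vec j) =
        ∑ i ∈ s, c i * Cfsg.hermForm n F q (vecd i) (vec j) := by
      intro s
      induction s using Finset.induction_on with
      | empty => simp [herm_zero_left]
      | insert a s ha ih => rw [Finset.sum_insert ha, Finset.sum_insert ha, herm_add_left, herm_smul_left, ih]
    rw [h1]
    simp only [hdual, mul_ite, mul_one, mul_zero]
    rw [Finset.sum_ite_eq' Finset.univ j]
    simp
  have hfin : Module.finrank F (Fin n → F) = Module.finrank F (κ → F) := by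
    rw [Module.finrank_fin_fun, Module.finrank_fintype_fun_eq_card, hκ]
  have hinj : Function.Injective Φ := (LinearMap.injective_iff_surjective_of_finrank_eq_finrank hfin).2 hsurj
  apply hinj
  rw [map_zero]
  funext j
  exact hy j

/-- the form of a finite sum -/
theorem herm_sum_left {κ : Type*} (s : Finset κ) (g : κ → Fin n → F) (z : Fin n → F) :
    Cfsg.hermForm n F q (∑ i ∈ s, g i) z = ∑ i ∈ s, Cfsg.hermForm n F q (g i) z := by
  classical
  induction s using Finset.induction_on with
  | empty => simp [herm_zero_left]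
  | insert a s ha ih => rw [Finset.sum_insert ha, Finset.sum_insert ha, herm_add_left, ih]

/-- F4 [M]  completeness of a frame follows from its Gram matrix and the dimension -/
theorem span_of_gram {σ : F ≃+* F} (hσ : ∀ x, σ x = x ^ q) (hf : Cfsg.Geo.IsUnitaryForm σ (Cfsg.hermForm n F q))
    (m : ℕ) (od : Prop) (hn : (¬ od ∧ n = 2 * m) ∨ (od ∧ n = 2 * m + 1))
    (fr : Fin m ⊕ Fin m → Fin n → F) (dv : Fin n → F)
    (gram1 : ∀ a, Cfsg.hermForm n F q (fr a) (fr (ng a)) = 1)
    (gram0 : ∀ a b, b ≠ ng a → Cfsg.hermForm n F q (fr a) (fr b) = 0)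
    (gram_d : ∀ a, Cfsg.hermForm n F q dv (fr a) = 0)
    (gram_dd : od → Cfsg.hermForm n F q dv dv = 1)
    (dv0 : ¬ od → dv = 0) (x : Fin n → F) :
    x = ∑ a, Cfsg.hermForm n F q x (fr (ng a)) • fr a + Cfsg.hermForm n F q x dv • dv := by
  have gram : ∀ a b, Cfsg.hermForm n F q (fr a) (fr b) = if b = ng a then 1 else 0 := by
    intro a b
    by_cases h : b = ng a
    · rw [if_pos h, h, gram1]
    · rw [if_neg h, gram0 a b h]
  have gram_fd : ∀ a, Cfsg.hermForm n F q (fr a) dv = 0 := by
    intro a
    rw [hf.herm, gram_d, map_zero]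
  -- the difference is orthogonal to the frame
  have hfr : ∀ b, Cfsg.hermForm n F q
      (x - (∑ a, Cfsg.hermForm n F q x (fr (ng a)) • fr a + Cfsg.hermForm n F q x dv • dv)) (fr b) = 0 := by
    intro b
    rw [herm_sub_left, herm_add_left, herm_sum_left, herm_smul_left, gram_d, mul_zero, add_zero]
    simp only [herm_smul_left, gram, mul_ite, mul_one, mul_zero]
    rw [Finset.sum_eq_single (ng b)]
    · rw [if_pos (ng_ng b).symm, ng_ng, sub_self]
    · intro a _ ha
      rw [if_neg]
      intro h
      exact ha (by rw [h, ng_ng])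
    · intro h
      exact absurd (Finset.mem_univ _) h
  have hdv : Cfsg.hermForm n F q
      (x - (∑ a, Cfsg.hermForm n F q x (fr (ng a)) • fr a + Cfsg.hermForm n F q x dv • dv)) dv = 0 := by
    rw [herm_sub_left, herm_add_left, herm_sum_left, herm_smul_left]
    simp only [herm_smul_left, gram_fd, mul_zero, Finset.sum_const_zero, zero_add]
    by_cases hod : od
    · rw [gram_dd hod, mul_one, sub_self]
    · rw [dv0 hod, herm_zero_right hσ, zero_mul, sub_self]
  have h0 : x - (∑ a, Cfsg.hermForm n F q x (fr (ng a)) • fr a + Cfsg.hermForm n F q x dv • dv) = 0 := by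
    rcases hn with ⟨hod, hn⟩ | ⟨hod, hn⟩
    · refine eq_zero_of_dual (q := q) (κ := Fin m ⊕ Fin m) ?_ fr (fun i => fr (ng i)) ?_ _ hfr
      · rw [Fintype.card_sum, Fintype.card_fin, hn]
        ring
      · intro i j
        rw [gram, ng_ng]
        by_cases h : i = j
        · rw [if_pos h, if_pos h.symm]
        · rw [if_neg h, if_neg (Ne.symm h)]
    · refine eq_zero_of_dual (q := q) (κ := Option (Fin m ⊕ Fin m)) ?_ (fun o => o.elim dv fr)
        (fun o => o.elim dv (fun i => fr (ng i))) ?_ _ ?_
      · rw [Fintype.card_option, Fintype.card_sum, Fintype.card_fin, hn]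
        ring
      · intro i j
        cases i with
        | none =>
          cases j with
          | none => simpa using gram_dd hod
          | some j => simpa using gram_d j
        | some i =>
          cases j with
          | none => simpa using gram_fd (ng i)
          | some j =>
            show Cfsg.hermForm n F q (fr (ng i)) (fr j) = _
            rw [gram, ng_ng]
            by_cases h : i = j
            · rw [if_pos h.symm, if_pos (by rw [h])]
            · rw [if_neg (Ne.symm h), if_neg (fun h' => h (Option.some.inj h'))]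
      · intro j
        cases j with
        | none => exact hdv
        | some j => exact hfr j
  exact sub_eq_zero.1 h0

end span

/-- a context from a frame given by its Gram matrix only (completeness is automatic: `span_of_gram`) -/
def Ctx.ofGram {F : Type*} [Field F] [StarRing F] {n q m : ℕ} {od : Prop} (σ : F ≃+* F) (hσ : ∀ x, σ x = x ^ q)
    (hs : ∀ x : F, star x = σ x) (hf : Cfsg.Geo.IsUnitaryForm σ (Cfsg.hermForm n F q))
    (hn : (¬ od ∧ n = 2 * m) ∨ (od ∧ n = 2 * m + 1))
    (fr : Fin m ⊕ Fin m → Fin n → F) (dv : Fin n → F)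
    (gram1 : ∀ a, Cfsg.hermForm n F q (fr a) (fr (ng a)) = 1)
    (gram0 : ∀ a b, b ≠ ng a → Cfsg.hermForm n F q (fr a) (fr b) = 0)
    (gram_d : ∀ a, Cfsg.hermForm n F q dv (fr a) = 0)
    (gram_dd : od → Cfsg.hermForm n F q dv dv = 1)
    (dv0 : ¬ od → dv = 0) : Ctx F n q m od where
  σ := σ
  hσ := hσ
  hs := hs
  hf := hf
  fr := fr
  dv := dv
  gram1 := gram1
  gram0 := gram0
  gram_d := gram_d
  gram_dd := gram_dd
  dv0 := dv0
  span := span_of_gram hσ hf m od hn fr dv gram1 gram0 gram_d gram_dd dv0

end Cfsg.Agent.Lib.Helper19.MOD
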