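import Cfsg.Agent.Lib.Helper19.MODSys
import Cfsg.Agent.Lib.Helper19.MODSpan
import Cfsg.Agent.Lib.Helper12.MODG
import Cfsg.Agent.Lib.Helper22.MODG14core
import Cfsg.Agent.Lib.Helper26.MODF3core
import Cfsg.Agent.Lib.helper4.MODF1

/-!
# MOD: generation of the model system, existence of a frame, and `mod_main` (block MOD of project PSU, S2291)
-/

set_option autoImplicit false

namespace Cfsg.Agent.Lib.Helper19.MOD

open Matrix Cfsg.Agent.Lib.helper15.SUn Cfsg.Agent.Lib.helper3.STC Cfsg.Agent.Lib.Helper27.STU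
  Cfsg.Agent.Lib.helper15.St2

section gen

variable {F : Type*} [Field F] [StarRing F] {n q m : ℕ} {od : Prop} (C : Ctx F n q m od)

/-- G14 [S]  (`helper2.SUnP2.top_of_dd`) -/
theorem mod_gen [Fintype F] (hF : Fintype.card F = q ^ 2) (hn4 : 4 ≤ n) : Hgen C = ⊤ :=
  modg14_core C hF hn4 (iso_mem_dd C)

theorem sys_XQ : (sys C).XQ (fun _ _ => True) = Hgen C := by
  unfold SysU.XQ Hgen
  congr 1
  ext g
  simp only [Set.mem_union, Set.mem_setOf_eq, true_and]
  rfl

/-- the root elements of the model generate `SU_n(q)` -/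
theorem sys_gen [Fintype F] (hF : Fintype.card F = q ^ 2) (hn4 : 4 ≤ n) : (sys C).XQ (fun _ _ => True) = ⊤ := by
  rw [sys_XQ, mod_gen C hF hn4]

end gen

section frames

variable {F : Type*} [Field F] [Fintype F] {q : ℕ}

/-- F3 [S] -/
theorem exists_ctx (hF : Fintype.card F = q ^ 2) (n m : ℕ) (od : Prop)
    (hn : (¬ od ∧ n = 2 * m) ∨ (od ∧ n = 2 * m + 1)) :
    letI := frobStar hF
    Nonempty (Ctx F n q m od) :=
  modf3_core hF n m od hn (fun hs hf m hn => frame_even hs hf m hn) (fun hF hs hf m hn => frame_odd hF hs hf m hn)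

end frames

end Cfsg.Agent.Lib.Helper19.MOD

namespace Cfsg.Agent.Lib.Helper27.STU

open Matrix Cfsg.Agent.Lib.Helper19.MOD

universe u

/-- MOD  the root elements of `SU_n(q)` (frozen form `Cfsg.hermForm`) attached to a hyperbolic frame form a generating system, represented on `Fin n → F` by `mulVec`. -/
theorem mod_main {F : Type u} [Field F] [Fintype F] {q : ℕ} (hF : Fintype.card F = q ^ 2) (n m : ℕ) (od : Prop)
    (hn : (¬ od ∧ n = 2 * m) ∨ (od ∧ n = 2 * m + 1)) (hn4 : 4 ≤ n) :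
    letI := frobStar hF
    ∃ (S₀ : SysU F od (Fin m) ↥(Cfsg.SU n F q)) (R₀ : S₀.Rep (Fin n → F)),
      (∀ (g : ↥(Cfsg.SU n F q)) (x : Fin n → F),
        R₀.φ g x = ((g : Matrix.SpecialLinearGroup (Fin n) F) : Matrix (Fin n) (Fin n) F) *ᵥ x) ∧
      S₀.XQ (fun _ _ => True) = ⊤ := by
  letI := frobStar hF
  obtain ⟨C⟩ := exists_ctx hF n m od hn
  exact ⟨sys C, rep C, rep_apply C, sys_gen C hF hn4⟩

end Cfsg.Agent.Lib.Helper27.STU
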