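import Mathlib
import Cfsg.Agent.Lib.Helper10.TEM.Defs

/-!
# Project TEM (S2191, designer helper10): row P0 (`Ub_nine`, `Pb_mem_UPsi`), verbatim.
-/

set_option autoImplicit false

namespace Cfsg.Agent.Lib.Helper10.TEM

open Cfsg.Lie Cfsg.Lie.ChevalleyDatum Matrix
open Cfsg.Agent.Lib.helper8

universe u

variable {K : Type u} [Field K] {q : ℕ} {f : K ≃+* K} {M H : Subgroup (GG K)}

/-- the roots of the blocks `≥ 9` are the roots of level 1 -/
theorem temp0_nine : ∀ r < chevE6.nroots, (chevE6.IsPosRoot r ∧ 9 ≤ posi r) ↔ r ∈ Psi1 := by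
  decide +kernel

/-- the blocks `0 … 8` lie in the levels `4, 3, 2` -/
theorem temp0_blocks : ∀ p ∈ [(0, Psi4), (1, Psi3), (2, Psi3), (3, Psi3), (4, Psi2), (5, Psi2),
    (6, Psi2), (7, Psi2), (8, Psi2)], ∀ r ∈ h8Lb chevE6 posi p.1, r ∈ p.2 := by
  decide +kernel

/-- a root element of a root of `L` lies in `UPsi K L` -/
theorem temp0_X_mem (L : List ℕ) (r : ℕ) (hr : r ∈ L) (t : K) : X r t ∈ UPsi K L :=
  Subgroup.subset_closure ⟨r, hr, t, rfl⟩

-- ROW P0  [S-M]  `h8Ub` is the closure of the root elements with `i ≤ posi r`; `Lb_data`, `decide`.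
theorem Ub_nine : h8Ub chevE6 K posi 9 = UPsi K Psi1 := by
  unfold h8Ub UPsi
  congr 1
  ext g
  constructor
  · rintro ⟨r, t, hr, hi, hg⟩
    refine ⟨r, (temp0_nine r hr.1).mp ⟨hr, hi⟩, t, ?_⟩
    exact Units.ext (hg.trans (h8xU_val chevE6 hB r t).symm)
  · rintro ⟨r, hr, t, rfl⟩
    have hlt : r < chevE6.nroots := by
      have : ∀ r ∈ Psi1, r < chevE6.nroots := by decide +kernel
      exact this r hr
    obtain ⟨h1, h2⟩ := (temp0_nine r hlt).mpr hr
    exact ⟨r, t, h1, h2, h8xU_val chevE6 hB r t⟩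

theorem Pb_mem_UPsi (i : ℕ) (L : List ℕ)
    (h : (i, L) ∈ [(0, Psi4), (1, Psi3), (2, Psi3), (3, Psi3), (4, Psi2), (5, Psi2), (6, Psi2),
      (7, Psi2), (8, Psi2)]) (t : ℕ → K) :
    h8Pb chevE6 hB (h8Lb chevE6 posi i) t ∈ UPsi K L := by
  unfold h8Pb
  apply Subgroup.list_prod_mem
  intro g hg
  rw [List.mem_map] at hg
  obtain ⟨r, hr, rfl⟩ := hg
  exact temp0_X_mem L r (temp0_blocks (i, L) h r hr) _

end Cfsg.Agent.Lib.Helper10.TEM
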