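import Mathlib
import Cfsg.Agent.Lib.Helper10.TEM.Defs
import Cfsg.Agent.Lib.Helper19.TEMP0

/-!
# Project TEM (S2191, designer helper10): row P1 (`dec_U`), verbatim.
-/

set_option autoImplicit false

namespace Cfsg.Agent.Lib.Helper10.TEM

open Cfsg.Lie Cfsg.Lie.ChevalleyDatum Matrix
open Cfsg.Agent.Lib.helper8

universe u

variable {K : Type u} [Field K] {q : ℕ} {f : K ≃+* K} {M H : Subgroup (GG K)}

/-- every term of the filtration lies in `U` -/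
theorem temp1_Ub_le (i : ℕ) : h8Ub chevE6 K posi i ≤ chevE6.posUnipotent K := by
  rw [← h8Ub_zero chevE6 posi]
  apply Subgroup.closure_mono
  rintro g ⟨r, t, hr, _, hg⟩
  exact ⟨r, t, hr, Nat.zero_le _, hg⟩

/-- one step of the block decomposition of a fixed element -/
theorem temp1_step (hF : Frob q f) (i : ℕ) (g : GG K) (hg : g ∈ h8Ub chevE6 K posi i)
    (hfix : Sg f g = g) :
    ∃ t : ℕ → K, ∃ v ∈ h8Ub chevE6 K posi (i + 1), Sg f v = v ∧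
      h8Pb chevE6 hB (h8Lb chevE6 posi i) t ∈ twistedE6 K q ∧
      g = h8Pb chevE6 hB (h8Lb chevE6 posi i) t * v := by
  obtain ⟨t, v, hv, rfl⟩ := h8Ub_step chevE6 hB hC hBN hO2 posi blk i g hg
  obtain ⟨h1, h2⟩ := h8Sig_fix_split chevE6 hB hC hBN hO2 posi blk blkRead h8sE6 h8tE6 h8pE6
    h8qE6 h8eE6 hAut f sigp i t v hv hfix
  have h3 := (h8Sig_fix_Pb_iff chevE6 hB hC hBN hO2 posi blk blkRead h8sE6 h8tE6 h8pE6
    h8qE6 h8eE6 hAut f sigp i t).mpr h1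
  have h4 : h8Pb chevE6 hB (h8Lb chevE6 posi i) t ∈ chevE6.posUnipotent K := by
    apply temp1_Ub_le i
    exact h8Pb_mem_Ub chevE6 hB posi i _
      (fun r hr => ⟨((h8Lb_mem chevE6 posi i r).mp hr).1,
        le_of_eq ((h8Lb_mem chevE6 posi i r).mp hr).2.symm⟩) t
  exact ⟨t, v, hv, h2, U_fix hF _ h4 h3, rfl⟩

-- ROW P1  [M]  `u ∈ h8Ub … 0` (`h8Ub_zero`), fixed by `Sg f` (`sig_fix`); nine times `h8Ub_step` +
-- `h8Sig_fix_split` (blocks `0 … 8`); every fixed block product lies in `G¹` (`h8Sig_fix_Pb_iff`,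
-- `U_fix`), the rest lies in `h8Ub … 9 = UPsi K Psi1` (P0).
theorem dec_U (hF : Frob q f) (u : GG K) (hu : u ∈ U1 K q) :
    ∃ b4 ∈ UPsi K Psi4 ⊓ twistedE6 K q, ∃ b3 ∈ UPsi K Psi3 ⊓ twistedE6 K q,
      ∃ b2 ∈ UPsi K Psi2 ⊓ twistedE6 K q, ∃ b1 ∈ UPsi K Psi1 ⊓ twistedE6 K q,
        u = b4 * b3 * b2 * b1 := by
  have hu0 : u ∈ h8Ub chevE6 K posi 0 := by
    rw [h8Ub_zero chevE6 posi]
    exact hu.1
  have hfix : Sg f u = u := sig_fix hF u hu.2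
  obtain ⟨t0, g1, hg1, hf1, hp0, rfl⟩ := temp1_step hF 0 u hu0 hfix
  obtain ⟨t1, g2, hg2, hf2, hp1, rfl⟩ := temp1_step hF 1 g1 hg1 hf1
  obtain ⟨t2, g3, hg3, hf3, hp2, rfl⟩ := temp1_step hF 2 g2 hg2 hf2
  obtain ⟨t3, g4, hg4, hf4, hp3, rfl⟩ := temp1_step hF 3 g3 hg3 hf3
  obtain ⟨t4, g5, hg5, hf5, hp4, rfl⟩ := temp1_step hF 4 g4 hg4 hf4
  obtain ⟨t5, g6, hg6, hf6, hp5, rfl⟩ := temp1_step hF 5 g5 hg5 hf5
  obtain ⟨t6, g7, hg7, hf7, hp6, rfl⟩ := temp1_step hF 6 g6 hg6 hf6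
  obtain ⟨t7, g8, hg8, hf8, hp7, rfl⟩ := temp1_step hF 7 g7 hg7 hf7
  obtain ⟨t8, g9, hg9, hf9, hp8, rfl⟩ := temp1_step hF 8 g8 hg8 hf8
  have m0 := Pb_mem_UPsi (K := K) 0 Psi4 (by simp) t0
  have m1 := Pb_mem_UPsi (K := K) 1 Psi3 (by simp) t1
  have m2 := Pb_mem_UPsi (K := K) 2 Psi3 (by simp) t2
  have m3 := Pb_mem_UPsi (K := K) 3 Psi3 (by simp) t3
  have m4 := Pb_mem_UPsi (K := K) 4 Psi2 (by simp) t4
  have m5 := Pb_mem_UPsi (K := K) 5 Psi2 (by simp) t5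
  have m6 := Pb_mem_UPsi (K := K) 6 Psi2 (by simp) t6
  have m7 := Pb_mem_UPsi (K := K) 7 Psi2 (by simp) t7
  have m8 := Pb_mem_UPsi (K := K) 8 Psi2 (by simp) t8
  have m9 : g9 ∈ UPsi K Psi1 := by
    rw [← Ub_nine]
    exact hg9
  have hp9 : g9 ∈ twistedE6 K q := U_fix hF g9 (temp1_Ub_le 9 hg9) hf9
  refine ⟨_, ⟨m0, hp0⟩, _, ⟨Subgroup.mul_mem _ (Subgroup.mul_mem _ m1 m2) m3,
    Subgroup.mul_mem _ (Subgroup.mul_mem _ hp1 hp2) hp3⟩, _,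
    ⟨Subgroup.mul_mem _ (Subgroup.mul_mem _ (Subgroup.mul_mem _ (Subgroup.mul_mem _ m4 m5) m6)
      m7) m8, Subgroup.mul_mem _ (Subgroup.mul_mem _ (Subgroup.mul_mem _
      (Subgroup.mul_mem _ hp4 hp5) hp6) hp7) hp8⟩, g9, ⟨m9, hp9⟩, ?_⟩
  simp only [mul_assoc]

end Cfsg.Agent.Lib.Helper10.TEM
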