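import Mathlib
import Cfsg.Prelude.Def_GeometricClasses
import Cfsg.Agent.Lib.Helper27.ASC.Defs
import Cfsg.Agent.Lib.helper23.ASCO.Defs
import Cfsg.Agent.Lib.Lead.Reindex

/-!
# Project ASCO, piece CONV : the bundled non-degenerate quadratic form satisfies the Prelude predicate
-/

set_option autoImplicit false
set_option linter.unusedVariables false
set_option linter.unusedSectionVars false

namespace Cfsg.Agent.Lib.helper23.ASCO

open Cfsg Cfsg.Geo Cfsg.Agent.Lib.Helper27.ASC
open scoped MatrixGroups Matrix

variable {n : ℕ} {F : Type*} [Field F] [Fintype F]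

/-- CONV : the bundled non-degenerate form is a non-degenerate quadratic form in the sense of the Prelude. -/
theorem isNondegenerateQuadraticForm_coe (Q : QuadraticForm F (Fin n → F))
    (hQ : (QuadraticMap.polarBilin Q).Nondegenerate) : IsNondegenerateQuadraticForm (⇑Q) := by
  refine ⟨fun c v => ?_, ⟨?_, ?_, ?_, ?_⟩, fun v hv => ⟨?_, ?_⟩⟩
  · rw [QuadraticMap.map_smul, smul_eq_mul, pow_two]
  · intro x y v
    exact QuadraticMap.polar_add_left Q x y v
  · intro c x v
    rw [QuadraticMap.polar_smul_left, smul_eq_mul]
  · intro v x y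
    exact QuadraticMap.polar_add_right Q v x y
  · intro c v x
    rw [QuadraticMap.polar_smul_right, smul_eq_mul]
  · by_contra hcon
    push Not at hcon
    exact hv (hQ.2 v (fun x => by simpa using hcon x))
  · by_contra hcon
    push Not at hcon
    exact hv (hQ.1 v (fun x => by simpa using hcon x))

end Cfsg.Agent.Lib.helper23.ASCO
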