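import Mathlib
import Cfsg.Prelude.Def_GeometricClasses
import Cfsg.Agent.Lib.Helper27.ASC.Defs

/-!
# Project ASC, piece CLIFF, part A : Clifford in prime dimension gives a basis of common eigenvectors

`r` prime, `H` irreducible, `N` normalised by `H` and not irreducible: a non-zero `N`-invariant subspace `W` of
minimal dimension `d` has `d ∣ r` (greedy direct sum of `H`-translates), so `d = 1`, and a basis can be
extracted from the `H`-translates of a generator of `W`.  In particular `N` is commutative (`clifford_comm`).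
-/

set_option autoImplicit false
set_option linter.unusedVariables false

namespace Cfsg.Agent.Lib.Helper27.ASC

open Cfsg Cfsg.Geo
open scoped MatrixGroups Matrix

variable {n : ℕ} {F : Type*} [Field F] [Fintype F]

/-- `U` is mapped into itself by every element of `N` -/
def asccliff_Inv (N : Subgroup (GL (Fin n) F)) (U : Submodule F (Fin n → F)) : Prop :=
  ∀ x ∈ N, U.map (Matrix.toLin' (x : Matrix (Fin n) (Fin n) F)) ≤ U

omit [Fintype F] in
theorem asccliff_inv_iff (N : Subgroup (GL (Fin n) F)) (U : Submodule F (Fin n → F)) :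
    (∀ s ∈ matrixSet N, U.map (Matrix.toLin' s) ≤ U) ↔ asccliff_Inv N U := by
  constructor
  · intro h x hx
    exact h _ ⟨x, hx, rfl⟩
  · rintro h s ⟨x, hx, rfl⟩
    exact h x hx

omit [Fintype F] in
theorem asccliff_map_mul (g h : GL (Fin n) F) (U : Submodule F (Fin n → F)) :
    (U.map (Matrix.toLin' (h : Matrix (Fin n) (Fin n) F))).map
      (Matrix.toLin' (g : Matrix (Fin n) (Fin n) F)) =
      U.map (Matrix.toLin' ((g * h : GL (Fin n) F) : Matrix (Fin n) (Fin n) F)) := by
  rw [Units.val_mul, Matrix.toLin'_mul, Submodule.map_comp]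

omit [Fintype F] in
theorem asccliff_toLin_injective (g : GL (Fin n) F) :
    Function.Injective (Matrix.toLin' (g : Matrix (Fin n) (Fin n) F)) := by
  have hl : Function.LeftInverse (Matrix.toLin' ((g⁻¹ : GL (Fin n) F) : Matrix (Fin n) (Fin n) F))
      (Matrix.toLin' (g : Matrix (Fin n) (Fin n) F)) := by
    intro v
    rw [← LinearMap.comp_apply, ← Matrix.toLin'_mul, ← Units.val_mul, inv_mul_cancel, Units.val_one,
      Matrix.toLin'_one]
    rfl
  exact hl.injective

omit [Fintype F] in
theorem asccliff_finrank_map (g : GL (Fin n) F) (U : Submodule F (Fin n → F)) :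
    Module.finrank F (U.map (Matrix.toLin' (g : Matrix (Fin n) (Fin n) F))) = Module.finrank F U :=
  (Submodule.equivMapOfInjective _ (asccliff_toLin_injective g) U).finrank_eq.symm

omit [Fintype F] in
theorem asccliff_inv_translate {H N : Subgroup (GL (Fin n) F)} (hN : NormalIn N H) {h : GL (Fin n) F}
    (hh : h ∈ H) {U : Submodule F (Fin n → F)} (hU : asccliff_Inv N U) :
    asccliff_Inv N (U.map (Matrix.toLin' (h : Matrix (Fin n) (Fin n) F))) := by
  intro x hx
  have hmem : h⁻¹ * x * h ∈ N := by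
    have := hN.2 h⁻¹ (H.inv_mem hh) x hx
    simpa using this
  rw [asccliff_map_mul]
  have e : x * h = h * (h⁻¹ * x * h) := by group
  rw [e, ← asccliff_map_mul]
  exact Submodule.map_mono (hU _ hmem)

omit [Fintype F] in
theorem asccliff_inv_inf {N : Subgroup (GL (Fin n) F)} {U₁ U₂ : Submodule F (Fin n → F)}
    (h₁ : asccliff_Inv N U₁) (h₂ : asccliff_Inv N U₂) : asccliff_Inv N (U₁ ⊓ U₂) := by
  intro x hx
  exact le_inf ((Submodule.map_mono inf_le_left).trans (h₁ x hx))
    ((Submodule.map_mono inf_le_right).trans (h₂ x hx))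

omit [Fintype F] in
theorem asccliff_inv_sup {N : Subgroup (GL (Fin n) F)} {U₁ U₂ : Submodule F (Fin n → F)}
    (h₁ : asccliff_Inv N U₁) (h₂ : asccliff_Inv N U₂) : asccliff_Inv N (U₁ ⊔ U₂) := by
  intro x hx
  rw [Submodule.map_sup]
  exact sup_le_sup (h₁ x hx) (h₂ x hx)

omit [Fintype F] in
/-- the greedy count: the dimension of a minimal invariant subspace divides the dimension of the space -/
theorem asccliff_count {r : ℕ} {H N : Subgroup (GL (Fin r) F)} (hN : NormalIn N H)
    (W : Submodule F (Fin r → F)) (hWinv : asccliff_Inv N W) (d : ℕ) (hd : Module.finrank F W = d)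
    (hd1 : 1 ≤ d)
    (hmin : ∀ U : Submodule F (Fin r → F), U ≠ ⊥ → asccliff_Inv N U → d ≤ Module.finrank F U)
    (hS : ⨆ h : H, W.map (Matrix.toLin' ((h : GL (Fin r) F) : Matrix (Fin r) (Fin r) F)) = ⊤) :
    ∀ m : ℕ, ∀ U : Submodule F (Fin r → F), asccliff_Inv N U → r - Module.finrank F U = m →
      (∃ k, Module.finrank F U = k * d) → ∃ k, r = k * d := by
  intro m
  induction m using Nat.strong_induction_on with
  | _ m ih =>
    rintro U hU hm ⟨k, hk⟩
    by_cases hUt : U = ⊤
    · refine ⟨k, ?_⟩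
      rw [← hk, hUt, finrank_top, Module.finrank_fin_fun]
    · have hex : ∃ h : H,
          ¬ W.map (Matrix.toLin' ((h : GL (Fin r) F) : Matrix (Fin r) (Fin r) F)) ≤ U := by
        by_contra hcon
        push Not at hcon
        apply hUt
        rw [eq_top_iff, ← hS]
        exact iSup_le hcon
      obtain ⟨h, hh⟩ := hex
      have hEinv : asccliff_Inv N
          (W.map (Matrix.toLin' ((h : GL (Fin r) F) : Matrix (Fin r) (Fin r) F))) :=
        asccliff_inv_translate hN h.2 hWinv
      have hEd : Module.finrank F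
          (W.map (Matrix.toLin' ((h : GL (Fin r) F) : Matrix (Fin r) (Fin r) F)) :
            Submodule F (Fin r → F)) = d := by
        rw [asccliff_finrank_map, hd]
      generalize W.map (Matrix.toLin' ((h : GL (Fin r) F) : Matrix (Fin r) (Fin r) F)) = E at *
      have hEU : E ⊓ U = ⊥ := by
        by_contra hne
        have h1 := hmin (E ⊓ U) hne (asccliff_inv_inf hEinv hU)
        have h2 : E ⊓ U = E :=
          Submodule.eq_of_le_of_finrank_le inf_le_left (by rw [hEd]; exact h1)
        exact hh (h2 ▸ inf_le_right)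
      have hsum : Module.finrank F (U ⊔ E : Submodule F (Fin r → F)) = Module.finrank F U + d := by
        have := Submodule.finrank_sup_add_finrank_inf_eq U E
        rw [inf_comm, hEU, finrank_bot, add_zero, hEd] at this
        exact this
      have hle : Module.finrank F (U ⊔ E : Submodule F (Fin r → F)) ≤ r := by
        have := Submodule.finrank_le (U ⊔ E)
        rwa [Module.finrank_fin_fun] at this
      refine ih (r - Module.finrank F (U ⊔ E : Submodule F (Fin r → F))) (by omega) (U ⊔ E)
        (asccliff_inv_sup hU hEinv) rfl ⟨k + 1, ?_⟩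
      rw [hsum, hk]; ring

/-- part A: a basis of common eigenvectors of `N` -/
theorem asccliff_eigenbasis {r : ℕ} (hr : r.Prime) {H N : Subgroup (GL (Fin r) F)} (hH : Irr H)
    (hN : NormalIn N H) (h1 : ¬ Irr N) :
    ∃ v : Fin r → (Fin r → F), LinearIndependent F v ∧
      ∀ i, ∀ x ∈ N, ∃ c : F, (x : Matrix (Fin r) (Fin r) F) *ᵥ v i = c • v i := by
  classical
  -- a proper invariant subspace
  have h1' : ∃ W₀ : Submodule F (Fin r → F), asccliff_Inv N W₀ ∧ W₀ ≠ ⊥ ∧ W₀ ≠ ⊤ := by
    by_contra hcon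
    push Not at hcon
    apply h1
    intro W hW
    by_cases hb : W = ⊥
    · exact Or.inl hb
    · exact Or.inr (hcon W ((asccliff_inv_iff N W).mp hW) hb)
  obtain ⟨W₀, hW₀inv, hW₀b, hW₀t⟩ := h1'
  -- a non-zero invariant subspace of minimal dimension
  have hP : ∃ k, ∃ U : Submodule F (Fin r → F), U ≠ ⊥ ∧ asccliff_Inv N U ∧ Module.finrank F U = k :=
    ⟨_, W₀, hW₀b, hW₀inv, rfl⟩
  obtain ⟨W, hWb, hWinv, hWd⟩ := Nat.find_spec hP
  set d := Nat.find hP with hd
  have hmin : ∀ U : Submodule F (Fin r → F), U ≠ ⊥ → asccliff_Inv N U → d ≤ Module.finrank F U :=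
    fun U hU hUinv => Nat.find_min' hP ⟨U, hU, hUinv, rfl⟩
  have hd1 : 1 ≤ d := by
    rw [← hWd]
    by_contra h0
    have : Module.finrank F W = 0 := by omega
    rw [Submodule.finrank_eq_zero] at this
    exact hWb this
  have hdr : d < r := by
    have h2 : Module.finrank F W₀ < Module.finrank F (Fin r → F) := Submodule.finrank_lt hW₀t
    rw [Module.finrank_fin_fun] at h2
    exact lt_of_le_of_lt (hmin W₀ hW₀b hW₀inv) h2
  -- the translates span
  have hS : ⨆ h : H, W.map (Matrix.toLin' ((h : GL (Fin r) F) : Matrix (Fin r) (Fin r) F)) = ⊤ := by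
    have hinvS : ∀ s ∈ matrixSet H,
        (⨆ h : H, W.map (Matrix.toLin' ((h : GL (Fin r) F) : Matrix (Fin r) (Fin r) F))).map
          (Matrix.toLin' s) ≤
        ⨆ h : H, W.map (Matrix.toLin' ((h : GL (Fin r) F) : Matrix (Fin r) (Fin r) F)) := by
      rintro s ⟨g, hg, rfl⟩
      rw [Submodule.map_iSup]
      refine iSup_le fun h => ?_
      rw [asccliff_map_mul]
      exact le_iSup (fun h : H =>
        W.map (Matrix.toLin' ((h : GL (Fin r) F) : Matrix (Fin r) (Fin r) F)))
        ⟨g * h, H.mul_mem hg h.2⟩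
    rcases hH _ hinvS with hb | ht
    · exfalso
      apply hWb
      rw [eq_bot_iff, ← hb]
      refine le_trans ?_ (le_iSup _ (1 : H))
      simp
    · exact ht
  -- `d = 1`
  obtain ⟨k, hk⟩ := asccliff_count hN W hWinv d hWd hd1 hmin hS (r - Module.finrank F (⊥ : Submodule F (Fin r → F)))
    ⊥ (by intro x hx; simp) rfl ⟨0, by simp⟩
  have hd_one : d = 1 := by
    rcases (Nat.dvd_prime hr).mp ⟨k, by rw [hk, mul_comm]⟩ with h | h
    · exact h
    · omega
  -- a generator of `W`
  rw [hd_one] at hWd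
  obtain ⟨w, hwne, hWspan⟩ : ∃ w : Fin r → F, w ≠ 0 ∧ W = F ∙ w := by
    obtain ⟨w, hw0, hw⟩ := finrank_eq_one_iff'.mp hWd
    refine ⟨w, fun h => hw0 (Subtype.ext h), ?_⟩
    apply le_antisymm
    · intro u hu
      obtain ⟨c, hc⟩ := hw ⟨u, hu⟩
      rw [Submodule.mem_span_singleton]
      exact ⟨c, by simpa using congrArg (fun z : W => (z : Fin r → F)) hc⟩
    · rw [Submodule.span_singleton_le_iff_mem]; exact w.2
  have htrans : ∀ h : GL (Fin r) F,
      W.map (Matrix.toLin' (h : Matrix (Fin r) (Fin r) F)) =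
        F ∙ ((h : Matrix (Fin r) (Fin r) F) *ᵥ w) := by
    intro h
    rw [hWspan, Submodule.map_span, Set.image_singleton, Matrix.toLin'_apply]
  set t : Set (Fin r → F) :=
    Set.range (fun h : H => ((h : GL (Fin r) F) : Matrix (Fin r) (Fin r) F) *ᵥ w) with ht
  have hspan_t : Submodule.span F t = ⊤ := by
    rw [ht, Submodule.span_range_eq_iSup, ← hS]
    exact iSup_congr fun h => (htrans h).symm
  obtain ⟨b, hbt, hbspan, hbli⟩ := exists_linearIndependent F t
  have hbtop : Submodule.span F (Set.range ((↑) : b → (Fin r → F))) = ⊤ := by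
    rw [Subtype.range_coe, hbspan, hspan_t]
  have : Fintype b := Fintype.ofFinite b
  have hcard : Fintype.card b = r := by
    have := Module.finrank_eq_card_basis (Module.Basis.mk hbli hbtop.ge)
    rw [Module.finrank_fin_fun] at this
    exact this.symm
  let e : Fin r ≃ b := (Fintype.equivFinOfCardEq hcard).symm
  refine ⟨fun i => (e i : Fin r → F), hbli.comp e e.injective, fun i x hx => ?_⟩
  obtain ⟨h, hh⟩ := hbt (e i).2
  have hE := asccliff_inv_translate hN h.2 hWinv x hx
  rw [htrans] at hE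
  have hh' : ((h : GL (Fin r) F) : Matrix (Fin r) (Fin r) F) *ᵥ w = (e i : Fin r → F) := hh
  rw [hh'] at hE
  have hmem : (x : Matrix (Fin r) (Fin r) F) *ᵥ (e i : Fin r → F) ∈ F ∙ (e i : Fin r → F) := by
    apply hE
    exact ⟨(e i : Fin r → F), Submodule.mem_span_singleton_self _, by rw [Matrix.toLin'_apply]⟩
  obtain ⟨c, hc⟩ := Submodule.mem_span_singleton.mp hmem
  exact ⟨c, hc.symm⟩

/-- CLIFF-C -/
theorem clifford_comm {r : ℕ} (hr : r.Prime) {H N : Subgroup (GL (Fin r) F)} (hH : Irr H) (hN : NormalIn N H)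
    (h1 : ¬ Irr N) : ∀ x ∈ N, ∀ y ∈ N, x * y = y * x := by
  obtain ⟨v, hli, hv⟩ := asccliff_eigenbasis hr hH hN h1
  intro x hx y hy
  apply Units.ext
  rw [Units.val_mul, Units.val_mul]
  apply Matrix.toLin'.injective
  have hspan : Submodule.span F (Set.range v) = ⊤ :=
    hli.span_eq_top_of_card_eq_finrank' (by simp)
  apply LinearMap.ext_on_range hspan
  intro i
  obtain ⟨c, hc⟩ := hv i x hx
  obtain ⟨c', hc'⟩ := hv i y hy
  rw [Matrix.toLin'_mul, Matrix.toLin'_mul, LinearMap.comp_apply, LinearMap.comp_apply,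
    Matrix.toLin'_apply, Matrix.toLin'_apply, Matrix.toLin'_apply, Matrix.toLin'_apply, hc', hc,
    Matrix.mulVec_smul, Matrix.mulVec_smul, hc, hc', smul_comm]

end Cfsg.Agent.Lib.Helper27.ASC
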