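import Mathlib
import Cfsg.Prelude.Def_GeometricClasses
import Cfsg.Agent.Lib.Helper27.ASC.Defs
import Cfsg.Agent.Lib.Helper19.ASG.Defs
import Cfsg.Agent.Lib.Helper19.ASCCLIFFA

/-! Project ASG, piece C-SEMI: Clifford semisimplicity. -/

set_option autoImplicit false
set_option linter.unusedVariables false
set_option linter.unusedSectionVars false

namespace Cfsg.Agent.Lib.Helper19.ASG

open Cfsg Cfsg.Geo Cfsg.Agent.Lib.Helper27.ASC
open scoped MatrixGroups Matrix

variable {n : ℕ} {F : Type*} [Field F] [Fintype F]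

theorem asgcsemi_inv_iff (N : Subgroup (GL (Fin n) F)) (W : Submodule F (Fin n → F)) :
    Inv N W ↔ asccliff_Inv N W := by
  constructor
  · rintro h x hx _ ⟨v, hv, rfl⟩
    rw [Matrix.toLin'_apply]
    exact h x hx v hv
  · intro h x hx v hv
    have := h x hx ⟨v, hv, rfl⟩
    rwa [Matrix.toLin'_apply] at this

/-- the sum of the translates of `U` under `H` -/
theorem asgcsemi_iSup_top {H : Subgroup (GL (Fin n) F)} (hH : Irr H) (U : Submodule F (Fin n → F))
    (hU : U ≠ ⊥) : (⨆ h : H, U.map (Matrix.toLin' ((h : GL (Fin n) F) : Matrix (Fin n) (Fin n) F))) = ⊤ := by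
  set S := ⨆ h : H, U.map (Matrix.toLin' ((h : GL (Fin n) F) : Matrix (Fin n) (Fin n) F)) with hS
  have hinv : ∀ s ∈ matrixSet H, S.map (Matrix.toLin' s) ≤ S := by
    rintro s ⟨g, hg, rfl⟩
    rw [hS, Submodule.map_iSup]
    apply iSup_le
    intro h
    rw [asccliff_map_mul]
    exact le_iSup (fun h : H => U.map (Matrix.toLin' ((h : GL (Fin n) F) : Matrix (Fin n) (Fin n) F)))
      ⟨g * h, H.mul_mem hg h.2⟩
  rcases hH S hinv with h | h
  · exfalso
    apply hU
    rw [eq_bot_iff, ← h]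
    have := le_iSup (fun h : H => U.map (Matrix.toLin' ((h : GL (Fin n) F) : Matrix (Fin n) (Fin n) F)))
      (1 : H)
    simpa using this
  · exact h

/-- C-SEMI : Clifford semisimplicity -/
theorem clifford_compl {H N : Subgroup (GL (Fin n) F)} (hH : Irr H) (hN : NormalIn N H)
    (X : Submodule F (Fin n → F)) (hX : Inv N X) :
    ∃ Y : Submodule F (Fin n → F), Inv N Y ∧ IsCompl X Y := by
  classical
  rw [asgcsemi_inv_iff] at hX
  -- a maximal invariant `Y` disjoint from `X`
  have hex : ∃ k, ∃ Y : Submodule F (Fin n → F), asccliff_Inv N Y ∧ Disjoint X Y ∧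
      Module.finrank F Y = k := ⟨0, ⊥, fun x hx => by simp, disjoint_bot_right, finrank_bot F _⟩
  have hbdd : ∀ k, (∃ Y : Submodule F (Fin n → F), asccliff_Inv N Y ∧ Disjoint X Y ∧
      Module.finrank F Y = k) → k ≤ n := by
    rintro k ⟨Y, _, _, rfl⟩
    have := Submodule.finrank_le Y
    rwa [Module.finrank_fin_fun] at this
  obtain ⟨Y, hYinv, hXY, hYk⟩ := Nat.findGreatest_spec (P := fun k => ∃ Y : Submodule F (Fin n → F),
    asccliff_Inv N Y ∧ Disjoint X Y ∧ Module.finrank F Y = k) (hbdd _ hex.choose_spec) hex.choose_spec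
  have hmax : ∀ Y' : Submodule F (Fin n → F), asccliff_Inv N Y' → Disjoint X Y' →
      Module.finrank F Y' ≤ Module.finrank F Y := by
    intro Y' h1 h2
    rw [hYk]
    exact Nat.le_findGreatest (hbdd _ ⟨Y', h1, h2, rfl⟩) ⟨Y', h1, h2, rfl⟩
  refine ⟨Y, (asgcsemi_inv_iff N Y).2 hYinv, hXY, ?_⟩
  rw [codisjoint_iff]
  by_contra hne
  -- a non-zero invariant subspace of minimal dimension
  have hex2 : ∃ k, ∃ U : Submodule F (Fin n → F), asccliff_Inv N U ∧ U ≠ ⊥ ∧ Module.finrank F U = k := by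
    refine ⟨_, ⊤, fun x hx => le_top, ?_, rfl⟩
    intro h
    apply hne
    rw [eq_top_iff, h]
    exact bot_le
  obtain ⟨U, hUinv, hU0, hUk⟩ := Nat.find_spec hex2
  have hmin : ∀ U' : Submodule F (Fin n → F), asccliff_Inv N U' → U' ≠ ⊥ →
      Module.finrank F U ≤ Module.finrank F U' := by
    intro U' h1 h2
    rw [hUk]
    exact Nat.find_min' hex2 ⟨U', h1, h2, rfl⟩
  -- some translate of `U` is not inside `X ⊔ Y`
  have hex3 : ∃ h : H, ¬ U.map (Matrix.toLin' ((h : GL (Fin n) F) : Matrix (Fin n) (Fin n) F)) ≤ X ⊔ Y := by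
    by_contra hall
    push Not at hall
    apply hne
    rw [eq_top_iff, ← asgcsemi_iSup_top hH U hU0]
    exact iSup_le hall
  obtain ⟨h, hh⟩ := hex3
  set U' := U.map (Matrix.toLin' ((h : GL (Fin n) F) : Matrix (Fin n) (Fin n) F)) with hU'
  have hU'inv : asccliff_Inv N U' := asccliff_inv_translate hN h.2 hUinv
  have hU'rank : Module.finrank F U' = Module.finrank F U := asccliff_finrank_map _ U
  have hXYinv : asccliff_Inv N (X ⊔ Y) := asccliff_inv_sup hX hYinv
  have hcap : U' ⊓ (X ⊔ Y) = ⊥ := by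
    by_contra hc
    have h1 := hmin _ (asccliff_inv_inf hU'inv hXYinv) hc
    have h2 : U' ⊓ (X ⊔ Y) = U' :=
      Submodule.eq_of_le_of_finrank_le inf_le_left (by rw [hU'rank]; exact h1)
    exact hh (h2 ▸ inf_le_right)
  have hU'0 : U' ≠ ⊥ := by
    intro h0
    apply hh
    rw [h0]
    exact bot_le
  have hdisj : Disjoint X (Y ⊔ U') := by
    rw [Submodule.disjoint_def]
    intro x hx hx2
    obtain ⟨y, hy, u, hu, rfl⟩ := Submodule.mem_sup.1 hx2
    have hu2 : u ∈ U' ⊓ (X ⊔ Y) := by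
      refine ⟨hu, ?_⟩
      have : u = (y + u) - y := by abel
      rw [this]
      exact Submodule.sub_mem _ (Submodule.mem_sup_left hx) (Submodule.mem_sup_right hy)
    rw [hcap, Submodule.mem_bot] at hu2
    rw [hu2, add_zero] at hx ⊢
    exact (Submodule.disjoint_def.1 hXY) y hx hy
  have h3 := hmax _ (asccliff_inv_sup hYinv hU'inv) hdisj
  have hYU : Y ⊓ U' = ⊥ := by
    rw [eq_bot_iff, ← hcap]
    exact le_inf inf_le_right (inf_le_left.trans le_sup_right)
  have h4 := Submodule.finrank_sup_add_finrank_inf_eq Y U'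
  rw [hYU, finrank_bot, add_zero] at h4
  have h5 : 0 < Module.finrank F U' := by
    rw [Nat.pos_iff_ne_zero]
    intro h0
    exact hU'0 (Submodule.finrank_eq_zero.1 h0)
  omega

end Cfsg.Agent.Lib.Helper19.ASG
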