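import Mathlib
import Cfsg.Agent.Lib.Helper22.C3L.Defs

set_option autoImplicit false
set_option linter.unusedVariables false
set_option linter.unusedSectionVars false

/-!
# C3L row R2M2 (helper19): `r2m2`, the case `ΓL_2(4) < GL_4(2)` of project C3L (leader helper22)

Route (PLAN.md, simplified with helper27's remark that `g₁ - 1` maps `V` into `K v`): `h` from `MovesOut`,
`w = h (ω v)`, the Frobenius `φ` of the basis `v, w`, `g₁ = h⁻¹ φ h = 1 + Z` with `Z V ⊆ K v ⊆ ker Z`.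
If `g₁` is not `K`-linear, `g₁` times a `K`-transvection is a transvection of the second kind (`c3lr2m2_zlemma`);
else `φ₂ = h g_ω h⁻¹` has known values on `v, ω v, w, ω w` and `φ₂ n φ₂ n'` is a transvection (`c3lr2m2_caseB'`).
-/

namespace Cfsg.Agent.Lib.Helper22.C3L

open Module

variable {F K V : Type*} [Field F] [Field K] [Algebra F K] [AddCommGroup V] [Module F V] [Module K V]
  [IsScalarTower F K V]

/-- a field with two elements: every element is `0` or `1` -/
theorem c3lr2m2_F01 (hF : Nat.card F = 2) (c : F) : c = 0 ∨ c = 1 := by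
  obtain ⟨x, y, hxy, huniv⟩ := Nat.card_eq_two_iff.mp hF
  have mem : ∀ z : F, z = x ∨ z = y := by
    intro z
    have : z ∈ ({x, y} : Set F) := by rw [huniv]; trivial
    simpa using this
  rcases mem 0 with h0 | h0 <;> rcases mem 1 with h1 | h1 <;> rcases mem c with hc | hc
  · exact absurd (h0.trans h1.symm) zero_ne_one
  · exact absurd (h0.trans h1.symm) zero_ne_one
  · left; rw [hc, h0]
  · right; rw [hc, h1]
  · right; rw [hc, h1]
  · left; rw [hc, h0]
  · exact absurd (h0.trans h1.symm) zero_ne_one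
  · exact absurd (h0.trans h1.symm) zero_ne_one

theorem c3lr2m2_twoF (hF : Nat.card F = 2) : (1 : F) + 1 = 0 := by
  rcases c3lr2m2_F01 hF ((1 : F) + 1) with h | h
  · exact h
  · exfalso
    have : (1 : F) = 0 := by linear_combination h
    exact one_ne_zero this

theorem c3lr2m2_twoK (hF : Nat.card F = 2) (a : K) : a + a = 0 := by
  have h := congrArg (algebraMap F K) (c3lr2m2_twoF hF)
  rw [map_add, map_one, map_zero] at h
  linear_combination a * h

theorem c3lr2m2_twoV (h : (1 : K) + 1 = 0) (x : V) : x + x = 0 := by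
  calc x + x = ((1 : K) + 1) • x := by rw [add_smul, one_smul]
    _ = 0 := by rw [h, zero_smul]

/-- the four elements of `K` -/
theorem c3lr2m2_K4 [FiniteDimensional F K] (hF : Nat.card F = 2) (h2 : finrank F K = 2) :
    ∃ ω : K, ω ∉ (algebraMap F K).range ∧ (∀ a : K, a = 0 ∨ a = 1 ∨ a = ω ∨ a = ω + 1) ∧
      ω * ω = ω + 1 := by
  have hne : (⊥ : Subalgebra F K) ≠ ⊤ := by
    intro h
    rw [Subalgebra.bot_eq_top_iff_finrank_eq_one] at h
    omega
  obtain ⟨ω, hω⟩ : ∃ ω : K, ω ∉ (⊥ : Subalgebra F K) := by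
    by_contra hcon
    push Not at hcon
    exact hne (eq_top_iff.mpr fun x _ => hcon x)
  have hω' : ω ∉ (algebraMap F K).range := by
    intro h
    apply hω
    obtain ⟨c, hc⟩ := h
    rw [← hc]
    exact Subalgebra.algebraMap_mem _ c
  have hli : LinearIndependent F ![(1 : K), ω] := by
    rw [LinearIndependent.pair_iff]
    intro s t hst
    by_cases ht : t = 0
    · subst ht
      simp at hst
      exact ⟨hst, rfl⟩
    · exfalso
      apply hω'
      refine ⟨-(s / t), ?_⟩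
      have h1 : t • ω = -(s • (1 : K)) := by linear_combination (exp := 1) hst
      have h3 : ω = t⁻¹ • (t • ω) := by rw [smul_smul, inv_mul_cancel₀ ht, one_smul]
      rw [h3, h1, Algebra.algebraMap_eq_smul_one, smul_neg, smul_smul, neg_smul, div_eq_inv_mul, mul_comm]
  have hspan : Submodule.span F (Set.range ![(1 : K), ω]) = ⊤ :=
    hli.span_eq_top_of_card_eq_finrank' (by simp [h2])
  have hall : ∀ a : K, a = 0 ∨ a = 1 ∨ a = ω ∨ a = ω + 1 := by
    intro a
    have ha : a ∈ Submodule.span F (Set.range ![(1 : K), ω]) := by rw [hspan]; trivial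
    rw [Matrix.range_cons, Matrix.range_cons, Matrix.range_empty, Set.union_empty,
      Set.singleton_union, Submodule.mem_span_pair] at ha
    obtain ⟨s, t, hst⟩ := ha
    rcases c3lr2m2_F01 hF s with hs | hs <;> rcases c3lr2m2_F01 hF t with ht | ht <;>
      subst hs <;> subst ht <;> simp at hst
    · left; exact hst.symm
    · right; right; left; exact hst.symm
    · right; left; exact hst.symm
    · right; right; right; rw [← hst]; ring
  refine ⟨ω, hω', hall, ?_⟩
  have hω0 : ω ≠ 0 := by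
    intro h
    apply hω'
    exact ⟨0, by rw [map_zero, h]⟩
  have hω1 : ω ≠ 1 := by
    intro h
    apply hω'
    exact ⟨1, by rw [map_one, h]⟩
  rcases hall (ω * ω) with h | h | h | h
  · exfalso
    rcases mul_eq_zero.mp h with h' | h' <;> exact hω0 h'
  · exfalso
    have h2' := c3lr2m2_twoK (K := K) hF ω
    have h1 := c3lr2m2_twoK (K := K) hF 1
    have : (ω + 1) * (ω + 1) = 0 := by linear_combination h + h2' + h1
    rcases mul_eq_zero.mp this with h' | h' <;>
    · apply hω1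
      linear_combination h' - h1
  · exfalso
    have : ω * (ω - 1) = 0 := by linear_combination h
    rcases mul_eq_zero.mp this with h' | h'
    · exact hω0 h'
    · exact hω1 (by linear_combination h')
  · exact h


/-- coordinate data of the problem -/
structure c3lr2m2_D (ω : K) (v w : V) (cA cB : V →ₗ[K] K) : Prop where
  F01 : ∀ c : F, c = 0 ∨ c = 1
  two : ∀ a : K, a + a = 0
  all : ∀ a : K, a = 0 ∨ a = 1 ∨ a = ω ∨ a = ω + 1
  sq : ω * ω = ω + 1
  dec : ∀ x : V, x = cA x • v + cB x • w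
  cAv : cA v = 1
  cAw : cA w = 0
  cBv : cB v = 0
  cBw : cB w = 1

section data

variable {ω : K} {v w : V} {cA cB : V →ₗ[K] K}

theorem c3lr2m2_cA (D : c3lr2m2_D (F := F) ω v w cA cB) (a b : K) : cA (a • v + b • w) = a := by
  rw [map_add, map_smul, map_smul, D.cAv, D.cAw]; simp

theorem c3lr2m2_cB (D : c3lr2m2_D (F := F) ω v w cA cB) (a b : K) : cB (a • v + b • w) = b := by
  rw [map_add, map_smul, map_smul, D.cBv, D.cBw]; simp

theorem c3lr2m2_ext (D : c3lr2m2_D (F := F) ω v w cA cB) {x y : V} (hA : cA x = cA y) (hB : cB x = cB y) :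
    x = y := by
  rw [D.dec x, D.dec y, hA, hB]

theorem c3lr2m2_twoV' (D : c3lr2m2_D (F := F) ω v w cA cB) (x : V) : x + x = 0 :=
  c3lr2m2_twoV (K := K) (D.two 1) x

theorem c3lr2m2_neg (D : c3lr2m2_D (F := F) ω v w cA cB) (x : V) : -x = x := by
  have := c3lr2m2_twoV' D x
  exact neg_eq_of_add_eq_zero_left this

theorem c3lr2m2_fsmul (D : c3lr2m2_D (F := F) ω v w cA cB) (c : F) (x : V) : c • x = 0 ∨ c • x = x := by
  rcases D.F01 c with h | h
  · left; rw [h, zero_smul]
  · right; rw [h, one_smul]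

/-- an additive map is `F`-linear (`F` has two elements) -/
def c3lr2m2_lin (D : c3lr2m2_D (F := F) ω v w cA cB) (f : V → V) (hf : ∀ x y, f (x + y) = f x + f y) :
    V →ₗ[F] V where
  toFun := f
  map_add' := hf
  map_smul' c x := by
    have h0 : f 0 = 0 := by
      have := hf 0 0
      rw [add_zero] at this
      exact left_eq_add.mp this
    rcases D.F01 c with h | h
    · rw [h, zero_smul, RingHom.id_apply, zero_smul, h0]
    · rw [h, one_smul, RingHom.id_apply, one_smul]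

/-- a `K`-linear automorphism given by a matrix with an explicit inverse -/
def c3lr2m2_matLin (v w : V) (cA cB : V →ₗ[K] K) (p q r s : K) : V →ₗ[K] V :=
  (p • cA + q • cB).smulRight v + (r • cA + s • cB).smulRight w

theorem c3lr2m2_matLin_apply (p q r s : K) (x : V) :
    c3lr2m2_matLin v w cA cB p q r s x = (p * cA x + q * cB x) • v + (r * cA x + s * cB x) • w := by
  simp [c3lr2m2_matLin]

theorem c3lr2m2_matLin_comp (D : c3lr2m2_D (F := F) ω v w cA cB) (p q r s p' q' r' s' : K) :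
    (c3lr2m2_matLin v w cA cB p q r s) ∘ₗ (c3lr2m2_matLin v w cA cB p' q' r' s') =
      c3lr2m2_matLin v w cA cB (p * p' + q * r') (p * q' + q * s') (r * p' + s * r') (r * q' + s * s') := by
  ext x
  rw [LinearMap.comp_apply, c3lr2m2_matLin_apply, c3lr2m2_matLin_apply, c3lr2m2_matLin_apply,
    c3lr2m2_cA D, c3lr2m2_cB D]
  module

theorem c3lr2m2_matLin_one (D : c3lr2m2_D (F := F) ω v w cA cB) :
    c3lr2m2_matLin v w cA cB 1 0 0 1 = LinearMap.id := by
  ext x
  rw [c3lr2m2_matLin_apply, LinearMap.id_apply]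
  conv_rhs => rw [D.dec x]
  module

/-- the `K`-linear automorphism with matrix `(p q; r s)` and inverse `(p' q'; r' s')`, as an `F`-linear equivalence -/
def c3lr2m2_matE (D : c3lr2m2_D (F := F) ω v w cA cB) (p q r s p' q' r' s' : K)
    (h1 : p * p' + q * r' = 1) (h2 : p * q' + q * s' = 0) (h3 : r * p' + s * r' = 0) (h4 : r * q' + s * s' = 1)
    (h5 : p' * p + q' * r = 1) (h6 : p' * q + q' * s = 0) (h7 : r' * p + s' * r = 0) (h8 : r' * q + s' * s = 1) :
    V ≃ₗ[F] V :=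
  (LinearEquiv.ofLinearMap (c3lr2m2_matLin v w cA cB p q r s) (c3lr2m2_matLin v w cA cB p' q' r' s')
    (by rw [c3lr2m2_matLin_comp D, h1, h2, h3, h4, c3lr2m2_matLin_one D])
    (by rw [c3lr2m2_matLin_comp D, h5, h6, h7, h8, c3lr2m2_matLin_one D])).restrictScalars F

theorem c3lr2m2_matE_apply (D : c3lr2m2_D (F := F) ω v w cA cB) (p q r s p' q' r' s' : K)
    (h1 h2 h3 h4 h5 h6 h7 h8) (x : V) :
    c3lr2m2_matE D p q r s p' q' r' s' h1 h2 h3 h4 h5 h6 h7 h8 x =
      (p * cA x + q * cB x) • v + (r * cA x + s * cB x) • w := by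
  simp only [c3lr2m2_matE, LinearEquiv.restrictScalars_apply, LinearEquiv.coe_ofLinearMap]
  exact c3lr2m2_matLin_apply p q r s x

theorem c3lr2m2_matE_semi (D : c3lr2m2_D (F := F) ω v w cA cB) (p q r s p' q' r' s' : K)
    (h1 h2 h3 h4 h5 h6 h7 h8) :
    IsSemi K (c3lr2m2_matE D p q r s p' q' r' s' h1 h2 h3 h4 h5 h6 h7 h8) := by
  refine ⟨RingEquiv.refl K, fun a x => ?_⟩
  rw [c3lr2m2_matE_apply, c3lr2m2_matE_apply, map_smul, map_smul, RingEquiv.refl_apply]
  simp only [smul_eq_mul]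
  module

end data


section zl

variable {ω : K} {v w : V} {cA cB : V →ₗ[K] K}

/-- an element of `H` fixing `K v` pointwise, trivial modulo `K v`, not `K`-linear: a transvection of the second kind -/
theorem c3lr2m2_zlemma (D : c3lr2m2_D (F := F) ω v w cA cB) (hv : v ≠ 0)
    (lam : K →ₗ[F] F) (lam1 : lam 1 = 0) (lamω : lam ω = 1)
    (H : Subgroup (V ≃ₗ[F] V)) (hS : ∀ g : V ≃ₗ[F] V, IsSemi K g → g ∈ H)
    (g : V ≃ₗ[F] V) (hg : g ∈ H) (g1 : ∀ a : K, g (a • v) = a • v) (z₁ z₂ : K)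
    (g2 : g w = w + z₁ • v) (g3 : g (ω • w) = ω • w + z₂ • v) (hne : z₂ ≠ ω * z₁) : HasTv2 K H := by
  have hz : z₁ + z₁ = 0 := D.two z₁
  let X : V ≃ₗ[F] V := c3lr2m2_matE D 1 z₁ 0 1 1 z₁ 0 1 (by ring) (by linear_combination hz) (by ring) (by ring)
    (by ring) (by linear_combination hz) (by ring) (by ring)
  have hX : X ∈ H := hS _ (c3lr2m2_matE_semi D _ _ _ _ _ _ _ _ _ _ _ _ _ _ _ _)
  have hXa : ∀ x, X x = (cA x + z₁ * cB x) • v + cB x • w := by
    intro x
    have := c3lr2m2_matE_apply D 1 z₁ 0 1 1 z₁ 0 1 (by ring) (by linear_combination hz) (by ring) (by ring)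
      (by ring) (by linear_combination hz) (by ring) (by ring) x
    rw [show X x = _ from this]
    module
  let ψ : Module.Dual F V := lam ∘ₗ (cB.restrictScalars F)
  have hψ : ∀ x, ψ x = lam (cB x) := fun x => rfl
  let y : V := (z₂ + ω * z₁) • v
  have hc : z₂ + ω * z₁ ≠ 0 := by
    intro h
    apply hne
    have := D.two (ω * z₁)
    linear_combination h - this
  have hy : y ≠ 0 := smul_ne_zero hc hv
  have hv2 : ∀ x : V, x + x = 0 := c3lr2m2_twoV' D
  have key : ∀ x, g (X x) = x + ψ x • y := by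
    intro x
    have hx := D.dec x
    rw [hXa, map_add, g1, hψ]
    generalize cA x = a at hx ⊢
    generalize cB x = b at hx ⊢
    rw [hx]
    rcases D.all b with hb | hb | hb | hb
    · rw [hb, zero_smul, map_zero, map_zero, zero_smul]
      module
    · rw [hb, one_smul, g2, lam1, zero_smul]
      linear_combination (norm := module) hz • v
    · rw [hb, g3, lamω, one_smul]
      module
    · rw [hb]
      have e1 : g ((ω + 1) • w) = ω • w + z₂ • v + (w + z₁ • v) := by
        rw [add_smul, one_smul, map_add, g3, g2]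
      have e2 : lam (ω + 1) = 1 := by rw [map_add, lamω, lam1, add_zero]
      rw [e1, e2, one_smul]
      linear_combination (norm := module) hz • v
  have hψy : ψ y = 0 := by
    rw [hψ]
    have : cB y = 0 := by
      show cB ((z₂ + ω * z₁) • v) = 0
      rw [map_smul, D.cBv, smul_zero]
    rw [this, map_zero]
  refine ⟨ψ, y, hψy, hy, ?_, ?_, ?_⟩
  · intro h
    have h1 : ψ (ω • w) = 1 := by
      rw [hψ, map_smul, D.cBw, smul_eq_mul, mul_one, lamω]
    rw [h, LinearMap.zero_apply] at h1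
    exact zero_ne_one h1
  · intro a
    rw [hψ]
    have : cB (a • y) = 0 := by
      show cB (a • (z₂ + ω * z₁) • v) = 0
      rw [map_smul, map_smul, D.cBv, smul_zero, smul_zero]
    rw [this, map_zero]
  · have : LinearEquiv.transvection hψy = g * X := by
      apply LinearEquiv.ext
      intro x
      rw [LinearEquiv.transvection.apply, LinearEquiv.mul_apply, key]
    rw [this]
    exact H.mul_mem hg hX

end zl


section front

theorem c3lr2m2_li {ω : K} (hω' : ω ∉ (algebraMap F K).range) : LinearIndependent F ![(1 : K), ω] := by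
  rw [LinearIndependent.pair_iff]
  intro s t hst
  by_cases ht : t = 0
  · subst ht
    simp at hst
    exact ⟨hst, rfl⟩
  · exfalso
    apply hω'
    refine ⟨-(s / t), ?_⟩
    have h1 : t • ω = -(s • (1 : K)) := by linear_combination (exp := 1) hst
    have h3 : ω = t⁻¹ • (t • ω) := by rw [smul_smul, inv_mul_cancel₀ ht, one_smul]
    rw [h3, h1, Algebra.algebraMap_eq_smul_one, smul_neg, smul_smul, neg_smul, div_eq_inv_mul, mul_comm]

/-- the `F`-linear functional on `K` with `1 ↦ 0`, `ω ↦ 1` -/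
theorem c3lr2m2_lam [FiniteDimensional F K] (h2 : finrank F K = 2) {ω : K}
    (hω' : ω ∉ (algebraMap F K).range) : ∃ lam : K →ₗ[F] F, lam 1 = 0 ∧ lam ω = 1 := by
  have hli := c3lr2m2_li hω'
  let bK := basisOfLinearIndependentOfCardEqFinrank hli (by simp [h2])
  have hb0 : bK 0 = 1 := by simp [bK]
  have hb1 : bK 1 = ω := by simp [bK]
  refine ⟨bK.coord 1, ?_, ?_⟩
  · rw [← hb0]; simp
  · conv_lhs => rw [← hb1]
    simp

variable {ω : K} {v w : V} {cA cB : V →ₗ[K] K}

theorem c3lr2m2_pow4 (D : c3lr2m2_D (F := F) ω v w cA cB) (a : K) : (a * a) * (a * a) = a := by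
  have h1 := D.two 1
  have hω := D.two ω
  rcases D.all a with h | h | h | h
  · rw [h]; ring
  · rw [h]; ring
  · rw [h, D.sq]
    linear_combination D.sq + hω + h1
  · rw [h]
    have e : (ω + 1) * (ω + 1) = ω := by linear_combination D.sq + hω + h1
    rw [e, D.sq]

/-- `a + a²` is `0` or `1` -/
theorem c3lr2m2_tr (D : c3lr2m2_D (F := F) ω v w cA cB) (a : K) : a * a + a = 0 ∨ a * a + a = 1 := by
  have h1 := D.two 1
  have hω := D.two ω
  rcases D.all a with h | h | h | h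
  · left; rw [h]; ring
  · left; rw [h]; linear_combination h1
  · right; rw [h, D.sq]; linear_combination hω
  · right; rw [h]; linear_combination D.sq + 2 * hω + h1

/-- the Frobenius of `K` -/
def c3lr2m2_frobK (D : c3lr2m2_D (F := F) ω v w cA cB) : K ≃+* K where
  toFun a := a * a
  invFun a := a * a
  left_inv a := c3lr2m2_pow4 D a
  right_inv a := c3lr2m2_pow4 D a
  map_mul' a b := by ring
  map_add' a b := by linear_combination D.two (a * b)

/-- the Frobenius of `V` with respect to the basis `v, w`, as a function -/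
def c3lr2m2_frobFun (v w : V) (cA cB : V →ₗ[K] K) (x : V) : V := (cA x * cA x) • v + (cB x * cB x) • w

theorem c3lr2m2_frobFun_add (D : c3lr2m2_D (F := F) ω v w cA cB) (x y : V) :
    c3lr2m2_frobFun v w cA cB (x + y) = c3lr2m2_frobFun v w cA cB x + c3lr2m2_frobFun v w cA cB y := by
  unfold c3lr2m2_frobFun
  rw [map_add, map_add]
  have e1 : (cA x + cA y) * (cA x + cA y) = cA x * cA x + cA y * cA y := by
    linear_combination D.two (cA x * cA y)
  have e2 : (cB x + cB y) * (cB x + cB y) = cB x * cB x + cB y * cB y := by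
    linear_combination D.two (cB x * cB y)
  rw [e1, e2]
  module

theorem c3lr2m2_frobFun_invol (D : c3lr2m2_D (F := F) ω v w cA cB) (x : V) :
    c3lr2m2_frobFun v w cA cB (c3lr2m2_frobFun v w cA cB x) = x := by
  unfold c3lr2m2_frobFun
  rw [c3lr2m2_cA D, c3lr2m2_cB D, c3lr2m2_pow4 D, c3lr2m2_pow4 D]
  exact (D.dec x).symm

/-- the Frobenius of `V`, an element of `GL_F(V)` -/
def c3lr2m2_frobE (D : c3lr2m2_D (F := F) ω v w cA cB) : V ≃ₗ[F] V :=
  LinearEquiv.ofInvolutive (c3lr2m2_lin D (c3lr2m2_frobFun v w cA cB) (c3lr2m2_frobFun_add D))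
    (c3lr2m2_frobFun_invol D)

theorem c3lr2m2_frobE_apply (D : c3lr2m2_D (F := F) ω v w cA cB) (x : V) :
    c3lr2m2_frobE D x = (cA x * cA x) • v + (cB x * cB x) • w := rfl

theorem c3lr2m2_frobE_semi (D : c3lr2m2_D (F := F) ω v w cA cB) : IsSemi K (c3lr2m2_frobE D) := by
  refine ⟨c3lr2m2_frobK D, fun a x => ?_⟩
  rw [c3lr2m2_frobE_apply, c3lr2m2_frobE_apply, map_smul, map_smul]
  show _ = (a * a) • _
  simp only [smul_eq_mul]
  module

end front


section caseB

variable {ω : K} {v w : V} {cA cB : V →ₗ[K] K}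

/-- case B: the word `φ₂ n φ₂ n'` is a transvection of the second kind -/
theorem c3lr2m2_caseB' (D : c3lr2m2_D (F := F) ω v w cA cB)
    (lam : K →ₗ[F] F) (lam1 : lam 1 = 0) (lamω : lam ω = 1)
    (H : Subgroup (V ≃ₗ[F] V)) (hS : ∀ g : V ≃ₗ[F] V, IsSemi K g → g ∈ H)
    (φ₂ : V ≃ₗ[F] V) (hφ₂ : φ₂ ∈ H)
    (e1 : φ₂ v = v) (e2 : φ₂ (ω • v) = ω • v + w) (e3 : φ₂ w = w)
    (e4 : φ₂ (ω • w) = ω • w + w + v) : HasTv2 K H := by
  have h2 : (1 : K) + 1 = 0 := D.two 1
  have hsq := D.sq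
  have hV2 := c3lr2m2_twoV' D
  have hω1 : (ω + 1) * (ω + 1) = ω := by linear_combination hsq + D.two ω + h2
  have hωω1 : ω * (ω + 1) = 1 := by linear_combination hsq + D.two ω
  have hω0 : ω ≠ 0 := by
    intro h
    rw [h] at hsq
    simp at hsq
  -- `φ₂` on `K v` and on `K w`
  have hφv : ∀ a : K, φ₂ (a • v) = a • v + (a * a + a) • w := by
    intro a
    rcases D.all a with ha | ha | ha | ha
    · rw [ha]; simp
    · rw [ha, one_smul, e1]
      linear_combination (norm := module) (-1 : K) • hV2 w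
    · rw [ha, e2, hsq]
      linear_combination (norm := module) (-ω) • hV2 w
    · rw [ha, add_smul, one_smul, map_add, e2, e1, hω1]
      linear_combination (norm := module) (-ω) • hV2 w
  have hφw : ∀ b : K, φ₂ (b • w) = (b + b * b) • v + (b * b) • w := by
    intro b
    rcases D.all b with hb | hb | hb | hb
    · rw [hb]; simp
    · rw [hb, one_smul, e3]
      linear_combination (norm := module) (-1 : K) • hV2 v
    · rw [hb, e4, hsq]
      linear_combination (norm := module) (-ω) • hV2 v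
    · rw [hb, add_smul, one_smul, map_add, e4, e3, hω1]
      linear_combination (norm := module) (-ω) • hV2 v + (1 : K) • hV2 w
  have hφ₂f : ∀ a b : K, φ₂ (a • v + b • w) = (a + b + b * b) • v + (a * a + a + b * b) • w := by
    intro a b
    rw [map_add, hφv, hφw]
    module
  -- the two monomial elements
  obtain ⟨n, hn⟩ : ∃ n : V ≃ₗ[F] V, n = c3lr2m2_matE D 0 ω ω 0 0 (ω + 1) (ω + 1) 0
      (by linear_combination hωω1) (by ring) (by ring) (by linear_combination hωω1)
      (by linear_combination hωω1) (by ring) (by ring) (by linear_combination hωω1) := ⟨_, rfl⟩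
  obtain ⟨n', hn'⟩ : ∃ n' : V ≃ₗ[F] V, n' = c3lr2m2_matE D ω 0 0 (ω + 1) (ω + 1) 0 0 ω
      (by linear_combination hωω1) (by ring) (by ring) (by linear_combination hωω1)
      (by linear_combination hωω1) (by ring) (by ring) (by linear_combination hωω1) := ⟨_, rfl⟩
  have hnH : n ∈ H := by rw [hn]; exact hS _ (c3lr2m2_matE_semi D _ _ _ _ _ _ _ _ _ _ _ _ _ _ _ _)
  have hn'H : n' ∈ H := by rw [hn']; exact hS _ (c3lr2m2_matE_semi D _ _ _ _ _ _ _ _ _ _ _ _ _ _ _ _)
  have hna : ∀ a b : K, n (a • v + b • w) = (ω * b) • v + (ω * a) • w := by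
    intro a b
    rw [hn, c3lr2m2_matE_apply, c3lr2m2_cA D, c3lr2m2_cB D]
    module
  have hn'a : ∀ a b : K, n' (a • v + b • w) = (ω * a) • v + ((ω + 1) * b) • w := by
    intro a b
    rw [hn', c3lr2m2_matE_apply, c3lr2m2_cA D, c3lr2m2_cB D]
    module
  -- the functional and the centre
  obtain ⟨ψ, hψ⟩ : ∃ ψ : Module.Dual F V, ψ = lam ∘ₗ (((ω + 1) • cA + ω • cB).restrictScalars F) := ⟨_, rfl⟩
  have hψa : ∀ x, ψ x = lam ((ω + 1) * cA x + ω * cB x) := by
    intro x; rw [hψ]; rfl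
  have hlam : ∀ k : K, algebraMap F K (lam k) = k + k * k := by
    intro k
    rcases D.all k with hk | hk | hk | hk
    · rw [hk]; simp
    · rw [hk, lam1, map_zero]; linear_combination -h2
    · rw [hk, lamω, map_one, hsq]; linear_combination -D.two ω
    · rw [hk, map_add, lamω, lam1, add_zero, map_one, hω1]; linear_combination -D.two ω
  obtain ⟨y, hy⟩ : ∃ y : V, y = ω • v + (ω + 1) • w := ⟨_, rfl⟩
  have hcAy : cA y = ω := by rw [hy, c3lr2m2_cA D]
  have hcBy : cB y = ω + 1 := by rw [hy, c3lr2m2_cB D]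
  have hy0 : y ≠ 0 := by
    intro h
    rw [h, map_zero] at hcAy
    exact hω0 hcAy.symm
  have hψK : ∀ c : K, ψ (c • y) = 0 := by
    intro c
    rw [hψa, map_smul, map_smul, hcAy, hcBy]
    have : (ω + 1) * c • ω + ω * c • (ω + 1) = 0 := by
      simp only [smul_eq_mul]
      linear_combination D.two (ω * c * (ω + 1))
    rw [this, map_zero]
  have hψy : ψ y = 0 := by
    have := hψK 1
    rwa [one_smul] at this
  have key : ∀ x, φ₂ (n (φ₂ (n' x))) = x + ψ x • y := by
    intro x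
    have hx := D.dec x
    rw [hψa]
    generalize cA x = a at hx ⊢
    generalize cB x = b at hx ⊢
    rw [hx, hn'a, hφ₂f, hna, hφ₂f, ← algebraMap_smul K (lam _) y, hlam, hy]
    have ha4 := c3lr2m2_pow4 D a
    have hb4 := c3lr2m2_pow4 D b
    apply c3lr2m2_ext D
    · rw [c3lr2m2_cA D]
      simp only [map_add, map_smul, D.cAv, D.cAw, smul_eq_mul, mul_one, mul_zero, add_zero]
      linear_combination ((10)*b^2 + (26)*b^3 + (34)*b^4 + (1)*a + (2)*a*b + (16)*a*b^2 + (4)*ω*b^2 + (16)*ω*b^3 + (21)*ω*b^4 + (2)*ω*a*b + (10)*ω*a*b^2 + (1)*ω*a^2 + (1)*ω^2*b^2 + (8)*ω^2*b^3 + (12)*ω^2*b^4 + (2)*ω^2*a*b + (6)*ω^2*a*b^2 + (1)*ω^2*a^2 + (2)*ω^3*b^3 + (5)*ω^3*b^4 + (2)*ω^3*a*b^2 + (1)*ω^4*b^4) * hsq + (0) * ha4 + ((34) + (55)*ω) * hb4 + ((17)*b + (5)*b^2 + (13)*b^3 + (1)*a*b + (8)*a*b^2 + (28)*ω*b + (8)*ω*b^2 + (21)*ω*b^3 + (2)*ω*a*b + (13)*ω*a*b^2) * h2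
    · rw [c3lr2m2_cB D]
      simp only [map_add, map_smul, D.cBv, D.cBw, smul_eq_mul, mul_one, mul_zero, zero_add]
      linear_combination ((-1)*b + (6)*b^2 + (26)*b^3 + (68)*b^4 + (32)*a*b^2 + (1)*a^2 + (26)*a^2*b^2 + (6)*a^3 + (5)*a^4 + (3)*ω*b^2 + (16)*ω*b^3 + (42)*ω*b^4 + (2)*ω*a*b + (20)*ω*a*b^2 + (2)*ω*a^2 + (16)*ω*a^2*b^2 + (4)*ω*a^3 + (3)*ω*a^4 + (1)*ω^2*b^2 + (8)*ω^2*b^3 + (24)*ω^2*b^4 + (2)*ω^2*a*b + (12)*ω^2*a*b^2 + (2)*ω^2*a^2 + (10)*ω^2*a^2*b^2 + (2)*ω^2*a^3 + (2)*ω^2*a^4 + (2)*ω^3*b^3 + (10)*ω^3*b^4 + (4)*ω^3*a*b^2 + (6)*ω^3*a^2*b^2 + (2)*ω^3*a^3 + (1)*ω^3*a^4 + (2)*ω^4*b^4 + (2)*ω^4*a^2*b^2 + (1)*ω^4*a^4) * hsq + ((5) + (8)*ω) * ha4 + ((68) + (110)*ω) * hb4 + ((33)*b + (3)*b^2 + (13)*b^3 + (2)*a + (16)*a*b^2 + (13)*a^2*b^2 + (3)*a^3 + (54)*ω*b + (5)*ω*b^2 + (21)*ω*b^3 + (3)*ω*a + (26)*ω*a*b^2 + (21)*ω*a^2*b^2 + (5)*ω*a^3) * h2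
  refine ⟨ψ, y, hψy, hy0, ?_, hψK, ?_⟩
  · intro h
    have h1 : ψ v = 1 := by
      rw [hψa, D.cAv, D.cBv, mul_one, mul_zero, add_zero, map_add, lamω, lam1, add_zero]
    rw [h, LinearMap.zero_apply] at h1
    exact zero_ne_one h1
  · have : LinearEquiv.transvection hψy = φ₂ * n * φ₂ * n' := by
      apply LinearEquiv.ext
      intro x
      rw [LinearEquiv.transvection.apply, LinearEquiv.mul_apply, LinearEquiv.mul_apply,
        LinearEquiv.mul_apply, key]
    rw [this]
    exact H.mul_mem (H.mul_mem (H.mul_mem hφ₂ hnH) hφ₂) hn'H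

end caseB


section main

/-- R2M2: the case `ΓL_2(4) < GL_4(2)` -/
theorem r2m2 [FiniteDimensional F K] [FiniteDimensional K V] (hF : Nat.card F = 2) (h2 : finrank F K = 2)
    (hm : finrank K V = 2) (H : Subgroup (V ≃ₗ[F] V)) (hS : ∀ g : V ≃ₗ[F] V, IsSemi K g → g ∈ H)
    (hA : MovesOut K H) : HasTv2 K H := by
  obtain ⟨ω, hωF, hall, hsq⟩ := c3lr2m2_K4 hF h2
  obtain ⟨lam, lam1, lamω⟩ := c3lr2m2_lam h2 hωF
  have htwo : ∀ a : K, a + a = 0 := c3lr2m2_twoK hF
  obtain ⟨v, hv⟩ : ∃ v : V, v ≠ 0 := by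
    have : 0 < finrank K V := by omega
    exact (Module.finrank_pos_iff_exists_ne_zero).mp this
  obtain ⟨h, hH, hhv, hhω⟩ := hA v hv ω hωF
  obtain ⟨w, hw⟩ : ∃ w : V, w = h (ω • v) := ⟨_, rfl⟩
  have hli : LinearIndependent K ![v, w] := by
    rw [LinearIndependent.pair_iff' hv]
    intro a ha
    exact hhω a (by rw [← hw, ha])
  let b := basisOfLinearIndependentOfCardEqFinrank hli (by simp [hm])
  have hb0 : b 0 = v := by simp [b]
  have hb1 : b 1 = w := by simp [b]
  obtain ⟨cA, hcA⟩ : ∃ cA : V →ₗ[K] K, cA = b.coord 0 := ⟨_, rfl⟩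
  obtain ⟨cB, hcB⟩ : ∃ cB : V →ₗ[K] K, cB = b.coord 1 := ⟨_, rfl⟩
  have D : c3lr2m2_D (F := F) ω v w cA cB :=
    { F01 := c3lr2m2_F01 hF
      two := htwo
      all := hall
      sq := hsq
      dec := fun x => by
        have := b.sum_repr x
        rw [Fin.sum_univ_two, hb0, hb1] at this
        rw [hcA, hcB]
        exact this.symm
      cAv := by rw [hcA]; conv_lhs => rw [← hb0]; simp
      cAw := by rw [hcA]; conv_lhs => rw [← hb1]; simp
      cBv := by rw [hcB]; conv_lhs => rw [← hb0]; simp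
      cBw := by rw [hcB]; conv_lhs => rw [← hb1]; simp }
  have hV2 : ∀ x : V, x + x = 0 := c3lr2m2_twoV' D
  -- the Frobenius
  obtain ⟨φ, hφ⟩ : ∃ φ : V ≃ₗ[F] V, φ = c3lr2m2_frobE D := ⟨_, rfl⟩
  have hφH : φ ∈ H := by rw [hφ]; exact hS _ (c3lr2m2_frobE_semi D)
  have hφa : ∀ x, φ x = (cA x * cA x) • v + (cB x * cB x) • w := by
    intro x; rw [hφ]; rfl
  have hφab : ∀ a c : K, φ (a • v + c • w) = (a * a) • v + (c * c) • w := by
    intro a c
    rw [hφa, c3lr2m2_cA D, c3lr2m2_cB D]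
  -- the images of `K v` under `h`
  have hhK : ∀ a : K, ∃ s t : K, (s = 0 ∨ s = 1) ∧ (t = 0 ∨ t = 1) ∧ h (a • v) = s • v + t • w := by
    intro a
    rcases hall a with ha | ha | ha | ha
    · exact ⟨0, 0, Or.inl rfl, Or.inl rfl, by rw [ha]; simp⟩
    · exact ⟨1, 0, Or.inr rfl, Or.inl rfl, by rw [ha]; simp [hhv]⟩
    · exact ⟨0, 1, Or.inl rfl, Or.inr rfl, by rw [ha, ← hw]; simp⟩
    · exact ⟨1, 1, Or.inr rfl, Or.inr rfl, by
        rw [ha, add_smul, one_smul, map_add, ← hw, hhv]; simp [add_comm]⟩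
  -- `φ` fixes `h (K v)` pointwise
  have hφfix : ∀ a : K, φ (h (a • v)) = h (a • v) := by
    intro a
    obtain ⟨s, t, hs, ht, e⟩ := hhK a
    rw [e, hφab]
    rcases hs with hs | hs <;> rcases ht with ht | ht <;> rw [hs, ht] <;> simp
  -- `φ - 1` maps `V` into `h (K v)`
  have hφim : ∀ x : V, ∃ a : K, φ x + x = h (a • v) := by
    intro x
    have hx := D.dec x
    have e : φ x + x = (cA x * cA x + cA x) • v + (cB x * cB x + cB x) • w := by
      rw [hφa]
      conv_lhs => rw [hx]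
      simp only [c3lr2m2_cA D, c3lr2m2_cB D]
      module
    rw [e]
    rcases c3lr2m2_tr D (cA x) with ha | ha <;> rcases c3lr2m2_tr D (cB x) with hc | hc <;> rw [ha, hc]
    · exact ⟨0, by simp⟩
    · exact ⟨ω, by rw [← hw]; simp⟩
    · exact ⟨1, by simp [hhv]⟩
    · exact ⟨ω + 1, by rw [add_smul, one_smul, map_add, ← hw, hhv]; simp [add_comm]⟩
  -- `g₁`
  obtain ⟨g₁, hg₁⟩ : ∃ g₁ : V ≃ₗ[F] V, g₁ = h⁻¹ * φ * h := ⟨_, rfl⟩
  have hg₁H : g₁ ∈ H := by rw [hg₁]; exact H.mul_mem (H.mul_mem (H.inv_mem hH) hφH) hH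
  have hg₁a : ∀ x, g₁ x = h.symm (φ (h x)) := by
    intro x; rw [hg₁]; rfl
  have hg₁fix : ∀ a : K, g₁ (a • v) = a • v := by
    intro a
    rw [hg₁a, hφfix, LinearEquiv.symm_apply_apply]
  have hg₁im : ∀ x : V, ∃ a : K, g₁ x = x + a • v := by
    intro x
    obtain ⟨a, ha⟩ := hφim (h x)
    refine ⟨a, ?_⟩
    have e : g₁ x + x = a • v := by
      rw [hg₁a]
      apply h.injective
      rw [map_add, LinearEquiv.apply_symm_apply, ha]
    have : g₁ x = (g₁ x + x) + x := by
      rw [add_assoc, hV2, add_zero]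
    rw [this, e, add_comm]
  obtain ⟨z₁, hz₁⟩ := hg₁im w
  obtain ⟨z₂, hz₂⟩ := hg₁im (ω • w)
  by_cases hne : z₂ = ω * z₁
  swap
  · exact c3lr2m2_zlemma D hv lam lam1 lamω H hS g₁ hg₁H hg₁fix z₁ z₂ hz₁ hz₂ hne
  -- `g₁` is the `K`-transvection `x ↦ x + (z₁ cB x) v`
  have hg₁K : ∀ x : V, g₁ x = x + (z₁ * cB x) • v := by
    intro x
    have hx := D.dec x
    generalize cA x = a at hx
    generalize cB x = c at hx
    rw [hx, map_add, hg₁fix]
    rcases hall c with hc | hc | hc | hc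
    · rw [hc, zero_smul, map_zero]; module
    · rw [hc, one_smul, hz₁]; module
    · rw [hc, hz₂, hne]; module
    · rw [hc, add_smul, one_smul, map_add, hz₂, hz₁, hne]; module
  have hωz : ω * z₁ + ω * z₁ = 0 := htwo _
  obtain ⟨gω, hgω⟩ : ∃ gω : V ≃ₗ[F] V, gω = c3lr2m2_matE D 1 (ω * z₁) 0 1 1 (ω * z₁) 0 1 (by ring)
      (by linear_combination hωz) (by ring) (by ring) (by ring) (by linear_combination hωz) (by ring)
      (by ring) := ⟨_, rfl⟩
  have hgωH : gω ∈ H := by rw [hgω]; exact hS _ (c3lr2m2_matE_semi D _ _ _ _ _ _ _ _ _ _ _ _ _ _ _ _)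
  have hgωa : ∀ x, gω x = x + ω • (g₁ x + x) := by
    intro x
    rw [hgω, c3lr2m2_matE_apply, hg₁K]
    conv_rhs => rw [D.dec x]
    simp only [c3lr2m2_cB D]
    linear_combination (norm := module) (-ω) • hV2 (cA x • v + cB x • w)
  obtain ⟨φ₂, hφ₂⟩ : ∃ φ₂ : V ≃ₗ[F] V, φ₂ = h * gω * h⁻¹ := ⟨_, rfl⟩
  have hφ₂H : φ₂ ∈ H := by rw [hφ₂]; exact H.mul_mem (H.mul_mem hH hgωH) (H.inv_mem hH)
  have hφ₂a : ∀ x, φ₂ x = x + h (ω • h.symm (φ x + x)) := by
    intro x
    have e : φ₂ x = h (gω (h.symm x)) := by rw [hφ₂]; rfl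
    rw [e, hgωa, map_add, LinearEquiv.apply_symm_apply, hg₁a, LinearEquiv.apply_symm_apply, map_add]
  have hsv : h.symm v = v := by
    rw [LinearEquiv.symm_apply_eq, hhv]
  have hsw : h.symm w = ω • v := by
    rw [LinearEquiv.symm_apply_eq, hw]
  have hφv : φ v = v := by
    have := hφab 1 0
    simpa using this
  have hφw : φ w = w := by
    have := hφab 0 1
    simpa using this
  have hφωv : φ (ω • v) = (ω + 1) • v := by
    have := hφab ω 0
    rw [hsq] at this
    simpa using this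
  have hφωw : φ (ω • w) = (ω + 1) • w := by
    have := hφab 0 ω
    rw [hsq] at this
    simpa using this
  refine c3lr2m2_caseB' D lam lam1 lamω H hS φ₂ hφ₂H ?_ ?_ ?_ ?_
  · rw [hφ₂a, hφv, hV2, map_zero, smul_zero, map_zero, add_zero]
  · rw [hφ₂a, hφωv]
    have e : (ω + 1) • v + ω • v = v := by
      linear_combination (norm := module) hV2 (ω • v)
    rw [e, hsv, ← hw]
  · rw [hφ₂a, hφw, hV2, map_zero, smul_zero, map_zero, add_zero]
  · rw [hφ₂a, hφωw]
    have e : (ω + 1) • w + ω • w = w := by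
      linear_combination (norm := module) hV2 (ω • w)
    rw [e, hsw, smul_smul, hsq, add_smul, one_smul, map_add, ← hw, hhv, add_assoc]

end main

end Cfsg.Agent.Lib.Helper22.C3L
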