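import Mathlib
import Cfsg.Agent.Lib.Helper19.G2V.Defs
import Cfsg.Agent.S1025

/-!
# Project G2V (S2461): the commutator formula S1025 for all pairs of roots of `chevG2`, in the units `X r t`.

`g2vc_c_r_s t u : X s u * X r t = X r t * X s u * (explicit product)`.
-/

set_option autoImplicit false

namespace Cfsg.Agent.Lib.Helper19.G2V

open Cfsg.Lie Cfsg.Lie.ChevalleyDatum Matrix
open Cfsg.Agent.Lib.helper8

universe u

variable {F : Type u} [Field F]

/-- the commutator formula of S1025 for the units `X r t` -/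
theorem g2vc_comm (r s : ℕ) (hr : r < 12) (hs : s < 12) (hrs : s ≠ r) (hneg : s ≠ chevG2.neg r)
    (t u : F) :
    X s u * X r t = X r t * X s u * h8wordU chevG2 hB (chevG2.commWord F r s t u) := by
  apply Units.ext
  rw [Units.val_mul, Units.val_mul, Units.val_mul, h8wordU_val]
  exact Cfsg.Agent.S1025.result chevG2 (by simp) r s hr hs hrs hneg t u

theorem g2vc_word_cons (p : ℕ × F) (w : List (ℕ × F)) :
    h8wordU chevG2 hB (p :: w) = X p.1 p.2 * h8wordU chevG2 hB w := by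
  unfold h8wordU
  rw [List.map_cons, List.prod_cons]
  rfl

theorem g2vc_word_nil : h8wordU chevG2 hB ([] : List (ℕ × F)) = 1 := by
  unfold h8wordU
  rfl

theorem g2vc_terms_0_1 : chevG2.commTerms 0 1 = [] := by
  decide

theorem g2vc_c_0_1 (t u : F) : X 1 u * X 0 t = X 0 t * X 1 u := by
  have h := g2vc_comm (F := F) 0 1 (by decide) (by decide) (by decide) (by decide) t u
  unfold ChevalleyDatum.commWord at h
  rw [g2vc_terms_0_1] at h
  simp only [List.map_nil, g2vc_word_nil, mul_one] at h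
  exact h

theorem g2vc_terms_0_2 : chevG2.commTerms 0 2 = [] := by
  decide

theorem g2vc_c_0_2 (t u : F) : X 2 u * X 0 t = X 0 t * X 2 u := by
  have h := g2vc_comm (F := F) 0 2 (by decide) (by decide) (by decide) (by decide) t u
  unfold ChevalleyDatum.commWord at h
  rw [g2vc_terms_0_2] at h
  simp only [List.map_nil, g2vc_word_nil, mul_one] at h
  exact h

theorem g2vc_terms_0_3 : chevG2.commTerms 0 3 = [] := by
  decide

theorem g2vc_c_0_3 (t u : F) : X 3 u * X 0 t = X 0 t * X 3 u := by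
  have h := g2vc_comm (F := F) 0 3 (by decide) (by decide) (by decide) (by decide) t u
  unfold ChevalleyDatum.commWord at h
  rw [g2vc_terms_0_3] at h
  simp only [List.map_nil, g2vc_word_nil, mul_one] at h
  exact h

theorem g2vc_terms_0_4 : chevG2.commTerms 0 4 = [] := by
  decide

theorem g2vc_c_0_4 (t u : F) : X 4 u * X 0 t = X 0 t * X 4 u := by
  have h := g2vc_comm (F := F) 0 4 (by decide) (by decide) (by decide) (by decide) t u
  unfold ChevalleyDatum.commWord at h
  rw [g2vc_terms_0_4] at h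
  simp only [List.map_nil, g2vc_word_nil, mul_one] at h
  exact h

theorem g2vc_terms_0_5 : chevG2.commTerms 0 5 = [] := by
  decide

theorem g2vc_c_0_5 (t u : F) : X 5 u * X 0 t = X 0 t * X 5 u := by
  have h := g2vc_comm (F := F) 0 5 (by decide) (by decide) (by decide) (by decide) t u
  unfold ChevalleyDatum.commWord at h
  rw [g2vc_terms_0_5] at h
  simp only [List.map_nil, g2vc_word_nil, mul_one] at h
  exact h

theorem g2vc_terms_0_6 : chevG2.commTerms 0 6 = [(1, 1, 1, 1)] := by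
  decide

theorem g2vc_c_0_6 (t u : F) :
    X 6 u * X 0 t = X 0 t * X 6 u * X 1 (-(t * u)) := by
  have h := g2vc_comm (F := F) 0 6 (by decide) (by decide) (by decide) (by decide) t u
  unfold ChevalleyDatum.commWord at h
  rw [g2vc_terms_0_6] at h
  simp only [List.map_cons, List.map_nil, g2vc_word_cons, g2vc_word_nil, mul_one] at h
  have a0 : ((1 : ℤ) : F) * (-t) ^ 1 * u ^ 1 = -(t * u) := by
    push_cast
    ring
  rw [a0] at h
  rw [h]

theorem g2vc_terms_0_7 : chevG2.commTerms 0 7 = [] := by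
  decide

theorem g2vc_c_0_7 (t u : F) : X 7 u * X 0 t = X 0 t * X 7 u := by
  have h := g2vc_comm (F := F) 0 7 (by decide) (by decide) (by decide) (by decide) t u
  unfold ChevalleyDatum.commWord at h
  rw [g2vc_terms_0_7] at h
  simp only [List.map_nil, g2vc_word_nil, mul_one] at h
  exact h

theorem g2vc_terms_0_8 : chevG2.commTerms 0 8 = [(2, 1, 1, 1), (4, 1, 1, 2), (6, -1, 1, 3), (1, -2, 2, 3)] := by
  decide

theorem g2vc_c_0_8 (t u : F) :
    X 8 u * X 0 t = X 0 t * X 8 u * (X 2 (-(t * u)) * X 4 (-(t * u ^ 2)) * X 6 (t * u ^ 3) * X 1 (-(2 * t ^ 2 * u ^ 3))) := by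
  have h := g2vc_comm (F := F) 0 8 (by decide) (by decide) (by decide) (by decide) t u
  unfold ChevalleyDatum.commWord at h
  rw [g2vc_terms_0_8] at h
  simp only [List.map_cons, List.map_nil, g2vc_word_cons, g2vc_word_nil, mul_one] at h
  have a0 : ((1 : ℤ) : F) * (-t) ^ 1 * u ^ 1 = -(t * u) := by
    push_cast
    ring
  have a1 : ((1 : ℤ) : F) * (-t) ^ 1 * u ^ 2 = -(t * u ^ 2) := by
    push_cast
    ring
  have a2 : (((-1) : ℤ) : F) * (-t) ^ 1 * u ^ 3 = t * u ^ 3 := by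
    push_cast
    ring
  have a3 : (((-2) : ℤ) : F) * (-t) ^ 2 * u ^ 3 = -(2 * t ^ 2 * u ^ 3) := by
    push_cast
    ring
  rw [a0, a1, a2, a3] at h
  rw [h]
  simp only [mul_assoc]

theorem g2vc_terms_0_9 : chevG2.commTerms 0 9 = [(3, -1, 1, 1), (7, -1, 1, 2), (10, -1, 1, 3), (5, 2, 2, 3)] := by
  decide

theorem g2vc_c_0_9 (t u : F) :
    X 9 u * X 0 t = X 0 t * X 9 u * (X 3 (t * u) * X 7 (t * u ^ 2) * X 10 (t * u ^ 3) * X 5 (2 * t ^ 2 * u ^ 3)) := by
  have h := g2vc_comm (F := F) 0 9 (by decide) (by decide) (by decide) (by decide) t u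
  unfold ChevalleyDatum.commWord at h
  rw [g2vc_terms_0_9] at h
  simp only [List.map_cons, List.map_nil, g2vc_word_cons, g2vc_word_nil, mul_one] at h
  have a0 : (((-1) : ℤ) : F) * (-t) ^ 1 * u ^ 1 = t * u := by
    push_cast
    ring
  have a1 : (((-1) : ℤ) : F) * (-t) ^ 1 * u ^ 2 = t * u ^ 2 := by
    push_cast
    ring
  have a2 : (((-1) : ℤ) : F) * (-t) ^ 1 * u ^ 3 = t * u ^ 3 := by
    push_cast
    ring
  have a3 : ((2 : ℤ) : F) * (-t) ^ 2 * u ^ 3 = 2 * t ^ 2 * u ^ 3 := by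
    push_cast
    ring
  rw [a0, a1, a2, a3] at h
  rw [h]
  simp only [mul_assoc]

theorem g2vc_terms_0_10 : chevG2.commTerms 0 10 = [(5, -1, 1, 1)] := by
  decide

theorem g2vc_c_0_10 (t u : F) :
    X 10 u * X 0 t = X 0 t * X 10 u * X 5 (t * u) := by
  have h := g2vc_comm (F := F) 0 10 (by decide) (by decide) (by decide) (by decide) t u
  unfold ChevalleyDatum.commWord at h
  rw [g2vc_terms_0_10] at h
  simp only [List.map_cons, List.map_nil, g2vc_word_cons, g2vc_word_nil, mul_one] at h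
  have a0 : (((-1) : ℤ) : F) * (-t) ^ 1 * u ^ 1 = t * u := by
    push_cast
    ring
  rw [a0] at h
  rw [h]

theorem g2vc_terms_1_0 : chevG2.commTerms 1 0 = [] := by
  decide

theorem g2vc_c_1_0 (t u : F) : X 0 u * X 1 t = X 1 t * X 0 u := by
  have h := g2vc_comm (F := F) 1 0 (by decide) (by decide) (by decide) (by decide) t u
  unfold ChevalleyDatum.commWord at h
  rw [g2vc_terms_1_0] at h
  simp only [List.map_nil, g2vc_word_nil, mul_one] at h
  exact h

theorem g2vc_terms_1_2 : chevG2.commTerms 1 2 = [] := by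
  decide

theorem g2vc_c_1_2 (t u : F) : X 2 u * X 1 t = X 1 t * X 2 u := by
  have h := g2vc_comm (F := F) 1 2 (by decide) (by decide) (by decide) (by decide) t u
  unfold ChevalleyDatum.commWord at h
  rw [g2vc_terms_1_2] at h
  simp only [List.map_nil, g2vc_word_nil, mul_one] at h
  exact h

theorem g2vc_terms_1_3 : chevG2.commTerms 1 3 = [] := by
  decide

theorem g2vc_c_1_3 (t u : F) : X 3 u * X 1 t = X 1 t * X 3 u := by
  have h := g2vc_comm (F := F) 1 3 (by decide) (by decide) (by decide) (by decide) t u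
  unfold ChevalleyDatum.commWord at h
  rw [g2vc_terms_1_3] at h
  simp only [List.map_nil, g2vc_word_nil, mul_one] at h
  exact h

theorem g2vc_terms_1_4 : chevG2.commTerms 1 4 = [] := by
  decide

theorem g2vc_c_1_4 (t u : F) : X 4 u * X 1 t = X 1 t * X 4 u := by
  have h := g2vc_comm (F := F) 1 4 (by decide) (by decide) (by decide) (by decide) t u
  unfold ChevalleyDatum.commWord at h
  rw [g2vc_terms_1_4] at h
  simp only [List.map_nil, g2vc_word_nil, mul_one] at h
  exact h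

theorem g2vc_terms_1_5 : chevG2.commTerms 1 5 = [(0, 1, 1, 1)] := by
  decide

theorem g2vc_c_1_5 (t u : F) :
    X 5 u * X 1 t = X 1 t * X 5 u * X 0 (-(t * u)) := by
  have h := g2vc_comm (F := F) 1 5 (by decide) (by decide) (by decide) (by decide) t u
  unfold ChevalleyDatum.commWord at h
  rw [g2vc_terms_1_5] at h
  simp only [List.map_cons, List.map_nil, g2vc_word_cons, g2vc_word_nil, mul_one] at h
  have a0 : ((1 : ℤ) : F) * (-t) ^ 1 * u ^ 1 = -(t * u) := by
    push_cast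
    ring
  rw [a0] at h
  rw [h]

theorem g2vc_terms_1_6 : chevG2.commTerms 1 6 = [] := by
  decide

theorem g2vc_c_1_6 (t u : F) : X 6 u * X 1 t = X 1 t * X 6 u := by
  have h := g2vc_comm (F := F) 1 6 (by decide) (by decide) (by decide) (by decide) t u
  unfold ChevalleyDatum.commWord at h
  rw [g2vc_terms_1_6] at h
  simp only [List.map_nil, g2vc_word_nil, mul_one] at h
  exact h

theorem g2vc_terms_1_7 : chevG2.commTerms 1 7 = [(2, 1, 1, 1), (3, -1, 1, 2), (5, 1, 1, 3), (0, 2, 2, 3)] := by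
  decide

theorem g2vc_c_1_7 (t u : F) :
    X 7 u * X 1 t = X 1 t * X 7 u * (X 2 (-(t * u)) * X 3 (t * u ^ 2) * X 5 (-(t * u ^ 3)) * X 0 (2 * t ^ 2 * u ^ 3)) := by
  have h := g2vc_comm (F := F) 1 7 (by decide) (by decide) (by decide) (by decide) t u
  unfold ChevalleyDatum.commWord at h
  rw [g2vc_terms_1_7] at h
  simp only [List.map_cons, List.map_nil, g2vc_word_cons, g2vc_word_nil, mul_one] at h
  have a0 : ((1 : ℤ) : F) * (-t) ^ 1 * u ^ 1 = -(t * u) := by
    push_cast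
    ring
  have a1 : (((-1) : ℤ) : F) * (-t) ^ 1 * u ^ 2 = t * u ^ 2 := by
    push_cast
    ring
  have a2 : ((1 : ℤ) : F) * (-t) ^ 1 * u ^ 3 = -(t * u ^ 3) := by
    push_cast
    ring
  have a3 : ((2 : ℤ) : F) * (-t) ^ 2 * u ^ 3 = 2 * t ^ 2 * u ^ 3 := by
    push_cast
    ring
  rw [a0, a1, a2, a3] at h
  rw [h]
  simp only [mul_assoc]

theorem g2vc_terms_1_8 : chevG2.commTerms 1 8 = [] := by
  decide

theorem g2vc_c_1_8 (t u : F) : X 8 u * X 1 t = X 1 t * X 8 u := by
  have h := g2vc_comm (F := F) 1 8 (by decide) (by decide) (by decide) (by decide) t u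
  unfold ChevalleyDatum.commWord at h
  rw [g2vc_terms_1_8] at h
  simp only [List.map_nil, g2vc_word_nil, mul_one] at h
  exact h

theorem g2vc_terms_1_9 : chevG2.commTerms 1 9 = [(4, -1, 1, 1), (8, 1, 1, 2), (11, 1, 1, 3), (6, -2, 2, 3)] := by
  decide

theorem g2vc_c_1_9 (t u : F) :
    X 9 u * X 1 t = X 1 t * X 9 u * (X 4 (t * u) * X 8 (-(t * u ^ 2)) * X 11 (-(t * u ^ 3)) * X 6 (-(2 * t ^ 2 * u ^ 3))) := by
  have h := g2vc_comm (F := F) 1 9 (by decide) (by decide) (by decide) (by decide) t u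
  unfold ChevalleyDatum.commWord at h
  rw [g2vc_terms_1_9] at h
  simp only [List.map_cons, List.map_nil, g2vc_word_cons, g2vc_word_nil, mul_one] at h
  have a0 : (((-1) : ℤ) : F) * (-t) ^ 1 * u ^ 1 = t * u := by
    push_cast
    ring
  have a1 : ((1 : ℤ) : F) * (-t) ^ 1 * u ^ 2 = -(t * u ^ 2) := by
    push_cast
    ring
  have a2 : ((1 : ℤ) : F) * (-t) ^ 1 * u ^ 3 = -(t * u ^ 3) := by
    push_cast
    ring
  have a3 : (((-2) : ℤ) : F) * (-t) ^ 2 * u ^ 3 = -(2 * t ^ 2 * u ^ 3) := by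
    push_cast
    ring
  rw [a0, a1, a2, a3] at h
  rw [h]
  simp only [mul_assoc]

theorem g2vc_terms_1_11 : chevG2.commTerms 1 11 = [(6, -1, 1, 1)] := by
  decide

theorem g2vc_c_1_11 (t u : F) :
    X 11 u * X 1 t = X 1 t * X 11 u * X 6 (t * u) := by
  have h := g2vc_comm (F := F) 1 11 (by decide) (by decide) (by decide) (by decide) t u
  unfold ChevalleyDatum.commWord at h
  rw [g2vc_terms_1_11] at h
  simp only [List.map_cons, List.map_nil, g2vc_word_cons, g2vc_word_nil, mul_one] at h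
  have a0 : (((-1) : ℤ) : F) * (-t) ^ 1 * u ^ 1 = t * u := by
    push_cast
    ring
  rw [a0] at h
  rw [h]

theorem g2vc_terms_2_0 : chevG2.commTerms 2 0 = [] := by
  decide

theorem g2vc_c_2_0 (t u : F) : X 0 u * X 2 t = X 2 t * X 0 u := by
  have h := g2vc_comm (F := F) 2 0 (by decide) (by decide) (by decide) (by decide) t u
  unfold ChevalleyDatum.commWord at h
  rw [g2vc_terms_2_0] at h
  simp only [List.map_nil, g2vc_word_nil, mul_one] at h
  exact h

theorem g2vc_terms_2_1 : chevG2.commTerms 2 1 = [] := by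
  decide

theorem g2vc_c_2_1 (t u : F) : X 1 u * X 2 t = X 2 t * X 1 u := by
  have h := g2vc_comm (F := F) 2 1 (by decide) (by decide) (by decide) (by decide) t u
  unfold ChevalleyDatum.commWord at h
  rw [g2vc_terms_2_1] at h
  simp only [List.map_nil, g2vc_word_nil, mul_one] at h
  exact h

theorem g2vc_terms_2_3 : chevG2.commTerms 2 3 = [(0, 3, 1, 1)] := by
  decide

theorem g2vc_c_2_3 (t u : F) :
    X 3 u * X 2 t = X 2 t * X 3 u * X 0 (-(3 * t * u)) := by
  have h := g2vc_comm (F := F) 2 3 (by decide) (by decide) (by decide) (by decide) t u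
  unfold ChevalleyDatum.commWord at h
  rw [g2vc_terms_2_3] at h
  simp only [List.map_cons, List.map_nil, g2vc_word_cons, g2vc_word_nil, mul_one] at h
  have a0 : ((3 : ℤ) : F) * (-t) ^ 1 * u ^ 1 = -(3 * t * u) := by
    push_cast
    ring
  rw [a0] at h
  rw [h]

theorem g2vc_terms_2_4 : chevG2.commTerms 2 4 = [(1, 3, 1, 1)] := by
  decide

theorem g2vc_c_2_4 (t u : F) :
    X 4 u * X 2 t = X 2 t * X 4 u * X 1 (-(3 * t * u)) := by
  have h := g2vc_comm (F := F) 2 4 (by decide) (by decide) (by decide) (by decide) t u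
  unfold ChevalleyDatum.commWord at h
  rw [g2vc_terms_2_4] at h
  simp only [List.map_cons, List.map_nil, g2vc_word_cons, g2vc_word_nil, mul_one] at h
  have a0 : ((3 : ℤ) : F) * (-t) ^ 1 * u ^ 1 = -(3 * t * u) := by
    push_cast
    ring
  rw [a0] at h
  rw [h]

theorem g2vc_terms_2_5 : chevG2.commTerms 2 5 = [] := by
  decide

theorem g2vc_c_2_5 (t u : F) : X 5 u * X 2 t = X 2 t * X 5 u := by
  have h := g2vc_comm (F := F) 2 5 (by decide) (by decide) (by decide) (by decide) t u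
  unfold ChevalleyDatum.commWord at h
  rw [g2vc_terms_2_5] at h
  simp only [List.map_nil, g2vc_word_nil, mul_one] at h
  exact h

theorem g2vc_terms_2_6 : chevG2.commTerms 2 6 = [] := by
  decide

theorem g2vc_c_2_6 (t u : F) : X 6 u * X 2 t = X 2 t * X 6 u := by
  have h := g2vc_comm (F := F) 2 6 (by decide) (by decide) (by decide) (by decide) t u
  unfold ChevalleyDatum.commWord at h
  rw [g2vc_terms_2_6] at h
  simp only [List.map_nil, g2vc_word_nil, mul_one] at h
  exact h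

theorem g2vc_terms_2_7 : chevG2.commTerms 2 7 = [(3, -2, 1, 1), (0, -3, 2, 1), (5, 3, 1, 2)] := by
  decide

theorem g2vc_c_2_7 (t u : F) :
    X 7 u * X 2 t = X 2 t * X 7 u * (X 3 (2 * t * u) * X 0 (-(3 * t ^ 2 * u)) * X 5 (-(3 * t * u ^ 2))) := by
  have h := g2vc_comm (F := F) 2 7 (by decide) (by decide) (by decide) (by decide) t u
  unfold ChevalleyDatum.commWord at h
  rw [g2vc_terms_2_7] at h
  simp only [List.map_cons, List.map_nil, g2vc_word_cons, g2vc_word_nil, mul_one] at h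
  have a0 : (((-2) : ℤ) : F) * (-t) ^ 1 * u ^ 1 = 2 * t * u := by
    push_cast
    ring
  have a1 : (((-3) : ℤ) : F) * (-t) ^ 2 * u ^ 1 = -(3 * t ^ 2 * u) := by
    push_cast
    ring
  have a2 : ((3 : ℤ) : F) * (-t) ^ 1 * u ^ 2 = -(3 * t * u ^ 2) := by
    push_cast
    ring
  rw [a0, a1, a2] at h
  rw [h]
  simp only [mul_assoc]

theorem g2vc_terms_2_8 : chevG2.commTerms 2 8 = [(4, 2, 1, 1), (1, 3, 2, 1), (6, -3, 1, 2)] := by
  decide

theorem g2vc_c_2_8 (t u : F) :
    X 8 u * X 2 t = X 2 t * X 8 u * (X 4 (-(2 * t * u)) * X 1 (3 * t ^ 2 * u) * X 6 (3 * t * u ^ 2)) := by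
  have h := g2vc_comm (F := F) 2 8 (by decide) (by decide) (by decide) (by decide) t u
  unfold ChevalleyDatum.commWord at h
  rw [g2vc_terms_2_8] at h
  simp only [List.map_cons, List.map_nil, g2vc_word_cons, g2vc_word_nil, mul_one] at h
  have a0 : ((2 : ℤ) : F) * (-t) ^ 1 * u ^ 1 = -(2 * t * u) := by
    push_cast
    ring
  have a1 : ((3 : ℤ) : F) * (-t) ^ 2 * u ^ 1 = 3 * t ^ 2 * u := by
    push_cast
    ring
  have a2 : (((-3) : ℤ) : F) * (-t) ^ 1 * u ^ 2 = 3 * t * u ^ 2 := by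
    push_cast
    ring
  rw [a0, a1, a2] at h
  rw [h]
  simp only [mul_assoc]

theorem g2vc_terms_2_10 : chevG2.commTerms 2 10 = [(7, -1, 1, 1), (3, 1, 2, 1), (0, 1, 3, 1), (5, 1, 3, 2)] := by
  decide

theorem g2vc_c_2_10 (t u : F) :
    X 10 u * X 2 t = X 2 t * X 10 u * (X 7 (t * u) * X 3 (t ^ 2 * u) * X 0 (-(t ^ 3 * u)) * X 5 (-(t ^ 3 * u ^ 2))) := by
  have h := g2vc_comm (F := F) 2 10 (by decide) (by decide) (by decide) (by decide) t u
  unfold ChevalleyDatum.commWord at h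
  rw [g2vc_terms_2_10] at h
  simp only [List.map_cons, List.map_nil, g2vc_word_cons, g2vc_word_nil, mul_one] at h
  have a0 : (((-1) : ℤ) : F) * (-t) ^ 1 * u ^ 1 = t * u := by
    push_cast
    ring
  have a1 : ((1 : ℤ) : F) * (-t) ^ 2 * u ^ 1 = t ^ 2 * u := by
    push_cast
    ring
  have a2 : ((1 : ℤ) : F) * (-t) ^ 3 * u ^ 1 = -(t ^ 3 * u) := by
    push_cast
    ring
  have a3 : ((1 : ℤ) : F) * (-t) ^ 3 * u ^ 2 = -(t ^ 3 * u ^ 2) := by
    push_cast
    ring
  rw [a0, a1, a2, a3] at h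
  rw [h]
  simp only [mul_assoc]

theorem g2vc_terms_2_11 : chevG2.commTerms 2 11 = [(8, -1, 1, 1), (4, -1, 2, 1), (1, -1, 3, 1), (6, -1, 3, 2)] := by
  decide

theorem g2vc_c_2_11 (t u : F) :
    X 11 u * X 2 t = X 2 t * X 11 u * (X 8 (t * u) * X 4 (-(t ^ 2 * u)) * X 1 (t ^ 3 * u) * X 6 (t ^ 3 * u ^ 2)) := by
  have h := g2vc_comm (F := F) 2 11 (by decide) (by decide) (by decide) (by decide) t u
  unfold ChevalleyDatum.commWord at h
  rw [g2vc_terms_2_11] at h
  simp only [List.map_cons, List.map_nil, g2vc_word_cons, g2vc_word_nil, mul_one] at h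
  have a0 : (((-1) : ℤ) : F) * (-t) ^ 1 * u ^ 1 = t * u := by
    push_cast
    ring
  have a1 : (((-1) : ℤ) : F) * (-t) ^ 2 * u ^ 1 = -(t ^ 2 * u) := by
    push_cast
    ring
  have a2 : (((-1) : ℤ) : F) * (-t) ^ 3 * u ^ 1 = t ^ 3 * u := by
    push_cast
    ring
  have a3 : (((-1) : ℤ) : F) * (-t) ^ 3 * u ^ 2 = t ^ 3 * u ^ 2 := by
    push_cast
    ring
  rw [a0, a1, a2, a3] at h
  rw [h]
  simp only [mul_assoc]

theorem g2vc_terms_3_0 : chevG2.commTerms 3 0 = [] := by
  decide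

theorem g2vc_c_3_0 (t u : F) : X 0 u * X 3 t = X 3 t * X 0 u := by
  have h := g2vc_comm (F := F) 3 0 (by decide) (by decide) (by decide) (by decide) t u
  unfold ChevalleyDatum.commWord at h
  rw [g2vc_terms_3_0] at h
  simp only [List.map_nil, g2vc_word_nil, mul_one] at h
  exact h

theorem g2vc_terms_3_1 : chevG2.commTerms 3 1 = [] := by
  decide

theorem g2vc_c_3_1 (t u : F) : X 1 u * X 3 t = X 3 t * X 1 u := by
  have h := g2vc_comm (F := F) 3 1 (by decide) (by decide) (by decide) (by decide) t u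
  unfold ChevalleyDatum.commWord at h
  rw [g2vc_terms_3_1] at h
  simp only [List.map_nil, g2vc_word_nil, mul_one] at h
  exact h

theorem g2vc_terms_3_2 : chevG2.commTerms 3 2 = [(0, -3, 1, 1)] := by
  decide

theorem g2vc_c_3_2 (t u : F) :
    X 2 u * X 3 t = X 3 t * X 2 u * X 0 (3 * t * u) := by
  have h := g2vc_comm (F := F) 3 2 (by decide) (by decide) (by decide) (by decide) t u
  unfold ChevalleyDatum.commWord at h
  rw [g2vc_terms_3_2] at h
  simp only [List.map_cons, List.map_nil, g2vc_word_cons, g2vc_word_nil, mul_one] at h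
  have a0 : (((-3) : ℤ) : F) * (-t) ^ 1 * u ^ 1 = 3 * t * u := by
    push_cast
    ring
  rw [a0] at h
  rw [h]

theorem g2vc_terms_3_4 : chevG2.commTerms 3 4 = [(2, -2, 1, 1), (0, 3, 2, 1), (1, -3, 1, 2)] := by
  decide

theorem g2vc_c_3_4 (t u : F) :
    X 4 u * X 3 t = X 3 t * X 4 u * (X 2 (2 * t * u) * X 0 (3 * t ^ 2 * u) * X 1 (3 * t * u ^ 2)) := by
  have h := g2vc_comm (F := F) 3 4 (by decide) (by decide) (by decide) (by decide) t u
  unfold ChevalleyDatum.commWord at h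
  rw [g2vc_terms_3_4] at h
  simp only [List.map_cons, List.map_nil, g2vc_word_cons, g2vc_word_nil, mul_one] at h
  have a0 : (((-2) : ℤ) : F) * (-t) ^ 1 * u ^ 1 = 2 * t * u := by
    push_cast
    ring
  have a1 : ((3 : ℤ) : F) * (-t) ^ 2 * u ^ 1 = 3 * t ^ 2 * u := by
    push_cast
    ring
  have a2 : (((-3) : ℤ) : F) * (-t) ^ 1 * u ^ 2 = 3 * t * u ^ 2 := by
    push_cast
    ring
  rw [a0, a1, a2] at h
  rw [h]
  simp only [mul_assoc]

theorem g2vc_terms_3_5 : chevG2.commTerms 3 5 = [] := by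
  decide

theorem g2vc_c_3_5 (t u : F) : X 5 u * X 3 t = X 3 t * X 5 u := by
  have h := g2vc_comm (F := F) 3 5 (by decide) (by decide) (by decide) (by decide) t u
  unfold ChevalleyDatum.commWord at h
  rw [g2vc_terms_3_5] at h
  simp only [List.map_nil, g2vc_word_nil, mul_one] at h
  exact h

theorem g2vc_terms_3_6 : chevG2.commTerms 3 6 = [(4, 1, 1, 1), (2, -1, 2, 1), (0, 1, 3, 1), (1, -1, 3, 2)] := by
  decide

theorem g2vc_c_3_6 (t u : F) :
    X 6 u * X 3 t = X 3 t * X 6 u * (X 4 (-(t * u)) * X 2 (-(t ^ 2 * u)) * X 0 (-(t ^ 3 * u)) * X 1 (t ^ 3 * u ^ 2)) := by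
  have h := g2vc_comm (F := F) 3 6 (by decide) (by decide) (by decide) (by decide) t u
  unfold ChevalleyDatum.commWord at h
  rw [g2vc_terms_3_6] at h
  simp only [List.map_cons, List.map_nil, g2vc_word_cons, g2vc_word_nil, mul_one] at h
  have a0 : ((1 : ℤ) : F) * (-t) ^ 1 * u ^ 1 = -(t * u) := by
    push_cast
    ring
  have a1 : (((-1) : ℤ) : F) * (-t) ^ 2 * u ^ 1 = -(t ^ 2 * u) := by
    push_cast
    ring
  have a2 : ((1 : ℤ) : F) * (-t) ^ 3 * u ^ 1 = -(t ^ 3 * u) := by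
    push_cast
    ring
  have a3 : (((-1) : ℤ) : F) * (-t) ^ 3 * u ^ 2 = t ^ 3 * u ^ 2 := by
    push_cast
    ring
  rw [a0, a1, a2, a3] at h
  rw [h]
  simp only [mul_assoc]

theorem g2vc_terms_3_7 : chevG2.commTerms 3 7 = [(5, -3, 1, 1)] := by
  decide

theorem g2vc_c_3_7 (t u : F) :
    X 7 u * X 3 t = X 3 t * X 7 u * X 5 (3 * t * u) := by
  have h := g2vc_comm (F := F) 3 7 (by decide) (by decide) (by decide) (by decide) t u
  unfold ChevalleyDatum.commWord at h
  rw [g2vc_terms_3_7] at h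
  simp only [List.map_cons, List.map_nil, g2vc_word_cons, g2vc_word_nil, mul_one] at h
  have a0 : (((-3) : ℤ) : F) * (-t) ^ 1 * u ^ 1 = 3 * t * u := by
    push_cast
    ring
  rw [a0] at h
  rw [h]

theorem g2vc_terms_3_9 : chevG2.commTerms 3 9 = [(7, 2, 1, 1), (5, -3, 2, 1), (10, 3, 1, 2)] := by
  decide

theorem g2vc_c_3_9 (t u : F) :
    X 9 u * X 3 t = X 3 t * X 9 u * (X 7 (-(2 * t * u)) * X 5 (-(3 * t ^ 2 * u)) * X 10 (-(3 * t * u ^ 2))) := by
  have h := g2vc_comm (F := F) 3 9 (by decide) (by decide) (by decide) (by decide) t u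
  unfold ChevalleyDatum.commWord at h
  rw [g2vc_terms_3_9] at h
  simp only [List.map_cons, List.map_nil, g2vc_word_cons, g2vc_word_nil, mul_one] at h
  have a0 : ((2 : ℤ) : F) * (-t) ^ 1 * u ^ 1 = -(2 * t * u) := by
    push_cast
    ring
  have a1 : (((-3) : ℤ) : F) * (-t) ^ 2 * u ^ 1 = -(3 * t ^ 2 * u) := by
    push_cast
    ring
  have a2 : ((3 : ℤ) : F) * (-t) ^ 1 * u ^ 2 = -(3 * t * u ^ 2) := by
    push_cast
    ring
  rw [a0, a1, a2] at h
  rw [h]
  simp only [mul_assoc]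

theorem g2vc_terms_3_10 : chevG2.commTerms 3 10 = [] := by
  decide

theorem g2vc_c_3_10 (t u : F) : X 10 u * X 3 t = X 3 t * X 10 u := by
  have h := g2vc_comm (F := F) 3 10 (by decide) (by decide) (by decide) (by decide) t u
  unfold ChevalleyDatum.commWord at h
  rw [g2vc_terms_3_10] at h
  simp only [List.map_nil, g2vc_word_nil, mul_one] at h
  exact h

theorem g2vc_terms_3_11 : chevG2.commTerms 3 11 = [(9, 1, 1, 1), (7, 1, 2, 1), (5, -1, 3, 1), (10, 1, 3, 2)] := by
  decide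

theorem g2vc_c_3_11 (t u : F) :
    X 11 u * X 3 t = X 3 t * X 11 u * (X 9 (-(t * u)) * X 7 (t ^ 2 * u) * X 5 (t ^ 3 * u) * X 10 (-(t ^ 3 * u ^ 2))) := by
  have h := g2vc_comm (F := F) 3 11 (by decide) (by decide) (by decide) (by decide) t u
  unfold ChevalleyDatum.commWord at h
  rw [g2vc_terms_3_11] at h
  simp only [List.map_cons, List.map_nil, g2vc_word_cons, g2vc_word_nil, mul_one] at h
  have a0 : ((1 : ℤ) : F) * (-t) ^ 1 * u ^ 1 = -(t * u) := by
    push_cast
    ring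
  have a1 : ((1 : ℤ) : F) * (-t) ^ 2 * u ^ 1 = t ^ 2 * u := by
    push_cast
    ring
  have a2 : (((-1) : ℤ) : F) * (-t) ^ 3 * u ^ 1 = t ^ 3 * u := by
    push_cast
    ring
  have a3 : ((1 : ℤ) : F) * (-t) ^ 3 * u ^ 2 = -(t ^ 3 * u ^ 2) := by
    push_cast
    ring
  rw [a0, a1, a2, a3] at h
  rw [h]
  simp only [mul_assoc]

theorem g2vc_terms_4_0 : chevG2.commTerms 4 0 = [] := by
  decide

theorem g2vc_c_4_0 (t u : F) : X 0 u * X 4 t = X 4 t * X 0 u := by
  have h := g2vc_comm (F := F) 4 0 (by decide) (by decide) (by decide) (by decide) t u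
  unfold ChevalleyDatum.commWord at h
  rw [g2vc_terms_4_0] at h
  simp only [List.map_nil, g2vc_word_nil, mul_one] at h
  exact h

theorem g2vc_terms_4_1 : chevG2.commTerms 4 1 = [] := by
  decide

theorem g2vc_c_4_1 (t u : F) : X 1 u * X 4 t = X 4 t * X 1 u := by
  have h := g2vc_comm (F := F) 4 1 (by decide) (by decide) (by decide) (by decide) t u
  unfold ChevalleyDatum.commWord at h
  rw [g2vc_terms_4_1] at h
  simp only [List.map_nil, g2vc_word_nil, mul_one] at h
  exact h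

theorem g2vc_terms_4_2 : chevG2.commTerms 4 2 = [(1, -3, 1, 1)] := by
  decide

theorem g2vc_c_4_2 (t u : F) :
    X 2 u * X 4 t = X 4 t * X 2 u * X 1 (3 * t * u) := by
  have h := g2vc_comm (F := F) 4 2 (by decide) (by decide) (by decide) (by decide) t u
  unfold ChevalleyDatum.commWord at h
  rw [g2vc_terms_4_2] at h
  simp only [List.map_cons, List.map_nil, g2vc_word_cons, g2vc_word_nil, mul_one] at h
  have a0 : (((-3) : ℤ) : F) * (-t) ^ 1 * u ^ 1 = 3 * t * u := by
    push_cast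
    ring
  rw [a0] at h
  rw [h]

theorem g2vc_terms_4_3 : chevG2.commTerms 4 3 = [(2, 2, 1, 1), (1, -3, 2, 1), (0, 3, 1, 2)] := by
  decide

theorem g2vc_c_4_3 (t u : F) :
    X 3 u * X 4 t = X 4 t * X 3 u * (X 2 (-(2 * t * u)) * X 1 (-(3 * t ^ 2 * u)) * X 0 (-(3 * t * u ^ 2))) := by
  have h := g2vc_comm (F := F) 4 3 (by decide) (by decide) (by decide) (by decide) t u
  unfold ChevalleyDatum.commWord at h
  rw [g2vc_terms_4_3] at h
  simp only [List.map_cons, List.map_nil, g2vc_word_cons, g2vc_word_nil, mul_one] at h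
  have a0 : ((2 : ℤ) : F) * (-t) ^ 1 * u ^ 1 = -(2 * t * u) := by
    push_cast
    ring
  have a1 : (((-3) : ℤ) : F) * (-t) ^ 2 * u ^ 1 = -(3 * t ^ 2 * u) := by
    push_cast
    ring
  have a2 : ((3 : ℤ) : F) * (-t) ^ 1 * u ^ 2 = -(3 * t * u ^ 2) := by
    push_cast
    ring
  rw [a0, a1, a2] at h
  rw [h]
  simp only [mul_assoc]

theorem g2vc_terms_4_5 : chevG2.commTerms 4 5 = [(3, 1, 1, 1), (2, 1, 2, 1), (1, -1, 3, 1), (0, 1, 3, 2)] := by
  decide

theorem g2vc_c_4_5 (t u : F) :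
    X 5 u * X 4 t = X 4 t * X 5 u * (X 3 (-(t * u)) * X 2 (t ^ 2 * u) * X 1 (t ^ 3 * u) * X 0 (-(t ^ 3 * u ^ 2))) := by
  have h := g2vc_comm (F := F) 4 5 (by decide) (by decide) (by decide) (by decide) t u
  unfold ChevalleyDatum.commWord at h
  rw [g2vc_terms_4_5] at h
  simp only [List.map_cons, List.map_nil, g2vc_word_cons, g2vc_word_nil, mul_one] at h
  have a0 : ((1 : ℤ) : F) * (-t) ^ 1 * u ^ 1 = -(t * u) := by
    push_cast
    ring
  have a1 : ((1 : ℤ) : F) * (-t) ^ 2 * u ^ 1 = t ^ 2 * u := by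
    push_cast
    ring
  have a2 : (((-1) : ℤ) : F) * (-t) ^ 3 * u ^ 1 = t ^ 3 * u := by
    push_cast
    ring
  have a3 : ((1 : ℤ) : F) * (-t) ^ 3 * u ^ 2 = -(t ^ 3 * u ^ 2) := by
    push_cast
    ring
  rw [a0, a1, a2, a3] at h
  rw [h]
  simp only [mul_assoc]

theorem g2vc_terms_4_6 : chevG2.commTerms 4 6 = [] := by
  decide

theorem g2vc_c_4_6 (t u : F) : X 6 u * X 4 t = X 4 t * X 6 u := by
  have h := g2vc_comm (F := F) 4 6 (by decide) (by decide) (by decide) (by decide) t u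
  unfold ChevalleyDatum.commWord at h
  rw [g2vc_terms_4_6] at h
  simp only [List.map_nil, g2vc_word_nil, mul_one] at h
  exact h

theorem g2vc_terms_4_8 : chevG2.commTerms 4 8 = [(6, -3, 1, 1)] := by
  decide

theorem g2vc_c_4_8 (t u : F) :
    X 8 u * X 4 t = X 4 t * X 8 u * X 6 (3 * t * u) := by
  have h := g2vc_comm (F := F) 4 8 (by decide) (by decide) (by decide) (by decide) t u
  unfold ChevalleyDatum.commWord at h
  rw [g2vc_terms_4_8] at h
  simp only [List.map_cons, List.map_nil, g2vc_word_cons, g2vc_word_nil, mul_one] at h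
  have a0 : (((-3) : ℤ) : F) * (-t) ^ 1 * u ^ 1 = 3 * t * u := by
    push_cast
    ring
  rw [a0] at h
  rw [h]

theorem g2vc_terms_4_9 : chevG2.commTerms 4 9 = [(8, -2, 1, 1), (6, 3, 2, 1), (11, -3, 1, 2)] := by
  decide

theorem g2vc_c_4_9 (t u : F) :
    X 9 u * X 4 t = X 4 t * X 9 u * (X 8 (2 * t * u) * X 6 (3 * t ^ 2 * u) * X 11 (3 * t * u ^ 2)) := by
  have h := g2vc_comm (F := F) 4 9 (by decide) (by decide) (by decide) (by decide) t u
  unfold ChevalleyDatum.commWord at h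
  rw [g2vc_terms_4_9] at h
  simp only [List.map_cons, List.map_nil, g2vc_word_cons, g2vc_word_nil, mul_one] at h
  have a0 : (((-2) : ℤ) : F) * (-t) ^ 1 * u ^ 1 = 2 * t * u := by
    push_cast
    ring
  have a1 : ((3 : ℤ) : F) * (-t) ^ 2 * u ^ 1 = 3 * t ^ 2 * u := by
    push_cast
    ring
  have a2 : (((-3) : ℤ) : F) * (-t) ^ 1 * u ^ 2 = 3 * t * u ^ 2 := by
    push_cast
    ring
  rw [a0, a1, a2] at h
  rw [h]
  simp only [mul_assoc]

theorem g2vc_terms_4_10 : chevG2.commTerms 4 10 = [(9, 1, 1, 1), (8, -1, 2, 1), (6, 1, 3, 1), (11, -1, 3, 2)] := by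
  decide

theorem g2vc_c_4_10 (t u : F) :
    X 10 u * X 4 t = X 4 t * X 10 u * (X 9 (-(t * u)) * X 8 (-(t ^ 2 * u)) * X 6 (-(t ^ 3 * u)) * X 11 (t ^ 3 * u ^ 2)) := by
  have h := g2vc_comm (F := F) 4 10 (by decide) (by decide) (by decide) (by decide) t u
  unfold ChevalleyDatum.commWord at h
  rw [g2vc_terms_4_10] at h
  simp only [List.map_cons, List.map_nil, g2vc_word_cons, g2vc_word_nil, mul_one] at h
  have a0 : ((1 : ℤ) : F) * (-t) ^ 1 * u ^ 1 = -(t * u) := by
    push_cast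
    ring
  have a1 : (((-1) : ℤ) : F) * (-t) ^ 2 * u ^ 1 = -(t ^ 2 * u) := by
    push_cast
    ring
  have a2 : ((1 : ℤ) : F) * (-t) ^ 3 * u ^ 1 = -(t ^ 3 * u) := by
    push_cast
    ring
  have a3 : (((-1) : ℤ) : F) * (-t) ^ 3 * u ^ 2 = t ^ 3 * u ^ 2 := by
    push_cast
    ring
  rw [a0, a1, a2, a3] at h
  rw [h]
  simp only [mul_assoc]

theorem g2vc_terms_4_11 : chevG2.commTerms 4 11 = [] := by
  decide

theorem g2vc_c_4_11 (t u : F) : X 11 u * X 4 t = X 4 t * X 11 u := by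
  have h := g2vc_comm (F := F) 4 11 (by decide) (by decide) (by decide) (by decide) t u
  unfold ChevalleyDatum.commWord at h
  rw [g2vc_terms_4_11] at h
  simp only [List.map_nil, g2vc_word_nil, mul_one] at h
  exact h

theorem g2vc_terms_5_0 : chevG2.commTerms 5 0 = [] := by
  decide

theorem g2vc_c_5_0 (t u : F) : X 0 u * X 5 t = X 5 t * X 0 u := by
  have h := g2vc_comm (F := F) 5 0 (by decide) (by decide) (by decide) (by decide) t u
  unfold ChevalleyDatum.commWord at h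
  rw [g2vc_terms_5_0] at h
  simp only [List.map_nil, g2vc_word_nil, mul_one] at h
  exact h

theorem g2vc_terms_5_1 : chevG2.commTerms 5 1 = [(0, -1, 1, 1)] := by
  decide

theorem g2vc_c_5_1 (t u : F) :
    X 1 u * X 5 t = X 5 t * X 1 u * X 0 (t * u) := by
  have h := g2vc_comm (F := F) 5 1 (by decide) (by decide) (by decide) (by decide) t u
  unfold ChevalleyDatum.commWord at h
  rw [g2vc_terms_5_1] at h
  simp only [List.map_cons, List.map_nil, g2vc_word_cons, g2vc_word_nil, mul_one] at h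
  have a0 : (((-1) : ℤ) : F) * (-t) ^ 1 * u ^ 1 = t * u := by
    push_cast
    ring
  rw [a0] at h
  rw [h]

theorem g2vc_terms_5_2 : chevG2.commTerms 5 2 = [] := by
  decide

theorem g2vc_c_5_2 (t u : F) : X 2 u * X 5 t = X 5 t * X 2 u := by
  have h := g2vc_comm (F := F) 5 2 (by decide) (by decide) (by decide) (by decide) t u
  unfold ChevalleyDatum.commWord at h
  rw [g2vc_terms_5_2] at h
  simp only [List.map_nil, g2vc_word_nil, mul_one] at h
  exact h

theorem g2vc_terms_5_3 : chevG2.commTerms 5 3 = [] := by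
  decide

theorem g2vc_c_5_3 (t u : F) : X 3 u * X 5 t = X 5 t * X 3 u := by
  have h := g2vc_comm (F := F) 5 3 (by decide) (by decide) (by decide) (by decide) t u
  unfold ChevalleyDatum.commWord at h
  rw [g2vc_terms_5_3] at h
  simp only [List.map_nil, g2vc_word_nil, mul_one] at h
  exact h

theorem g2vc_terms_5_4 : chevG2.commTerms 5 4 = [(3, -1, 1, 1), (2, 1, 1, 2), (1, 1, 1, 3), (0, -2, 2, 3)] := by
  decide

theorem g2vc_c_5_4 (t u : F) :
    X 4 u * X 5 t = X 5 t * X 4 u * (X 3 (t * u) * X 2 (-(t * u ^ 2)) * X 1 (-(t * u ^ 3)) * X 0 (-(2 * t ^ 2 * u ^ 3))) := by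
  have h := g2vc_comm (F := F) 5 4 (by decide) (by decide) (by decide) (by decide) t u
  unfold ChevalleyDatum.commWord at h
  rw [g2vc_terms_5_4] at h
  simp only [List.map_cons, List.map_nil, g2vc_word_cons, g2vc_word_nil, mul_one] at h
  have a0 : (((-1) : ℤ) : F) * (-t) ^ 1 * u ^ 1 = t * u := by
    push_cast
    ring
  have a1 : ((1 : ℤ) : F) * (-t) ^ 1 * u ^ 2 = -(t * u ^ 2) := by
    push_cast
    ring
  have a2 : ((1 : ℤ) : F) * (-t) ^ 1 * u ^ 3 = -(t * u ^ 3) := by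
    push_cast
    ring
  have a3 : (((-2) : ℤ) : F) * (-t) ^ 2 * u ^ 3 = -(2 * t ^ 2 * u ^ 3) := by
    push_cast
    ring
  rw [a0, a1, a2, a3] at h
  rw [h]
  simp only [mul_assoc]

theorem g2vc_terms_5_7 : chevG2.commTerms 5 7 = [] := by
  decide

theorem g2vc_c_5_7 (t u : F) : X 7 u * X 5 t = X 5 t * X 7 u := by
  have h := g2vc_comm (F := F) 5 7 (by decide) (by decide) (by decide) (by decide) t u
  unfold ChevalleyDatum.commWord at h
  rw [g2vc_terms_5_7] at h
  simp only [List.map_nil, g2vc_word_nil, mul_one] at h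
  exact h

theorem g2vc_terms_5_8 : chevG2.commTerms 5 8 = [(7, 1, 1, 1), (9, -1, 1, 2), (11, 1, 1, 3), (10, 2, 2, 3)] := by
  decide

theorem g2vc_c_5_8 (t u : F) :
    X 8 u * X 5 t = X 5 t * X 8 u * (X 7 (-(t * u)) * X 9 (t * u ^ 2) * X 11 (-(t * u ^ 3)) * X 10 (2 * t ^ 2 * u ^ 3)) := by
  have h := g2vc_comm (F := F) 5 8 (by decide) (by decide) (by decide) (by decide) t u
  unfold ChevalleyDatum.commWord at h
  rw [g2vc_terms_5_8] at h
  simp only [List.map_cons, List.map_nil, g2vc_word_cons, g2vc_word_nil, mul_one] at h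
  have a0 : ((1 : ℤ) : F) * (-t) ^ 1 * u ^ 1 = -(t * u) := by
    push_cast
    ring
  have a1 : (((-1) : ℤ) : F) * (-t) ^ 1 * u ^ 2 = t * u ^ 2 := by
    push_cast
    ring
  have a2 : ((1 : ℤ) : F) * (-t) ^ 1 * u ^ 3 = -(t * u ^ 3) := by
    push_cast
    ring
  have a3 : ((2 : ℤ) : F) * (-t) ^ 2 * u ^ 3 = 2 * t ^ 2 * u ^ 3 := by
    push_cast
    ring
  rw [a0, a1, a2, a3] at h
  rw [h]
  simp only [mul_assoc]

theorem g2vc_terms_5_9 : chevG2.commTerms 5 9 = [] := by
  decide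

theorem g2vc_c_5_9 (t u : F) : X 9 u * X 5 t = X 5 t * X 9 u := by
  have h := g2vc_comm (F := F) 5 9 (by decide) (by decide) (by decide) (by decide) t u
  unfold ChevalleyDatum.commWord at h
  rw [g2vc_terms_5_9] at h
  simp only [List.map_nil, g2vc_word_nil, mul_one] at h
  exact h

theorem g2vc_terms_5_10 : chevG2.commTerms 5 10 = [] := by
  decide

theorem g2vc_c_5_10 (t u : F) : X 10 u * X 5 t = X 5 t * X 10 u := by
  have h := g2vc_comm (F := F) 5 10 (by decide) (by decide) (by decide) (by decide) t u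
  unfold ChevalleyDatum.commWord at h
  rw [g2vc_terms_5_10] at h
  simp only [List.map_nil, g2vc_word_nil, mul_one] at h
  exact h

theorem g2vc_terms_5_11 : chevG2.commTerms 5 11 = [(10, 1, 1, 1)] := by
  decide

theorem g2vc_c_5_11 (t u : F) :
    X 11 u * X 5 t = X 5 t * X 11 u * X 10 (-(t * u)) := by
  have h := g2vc_comm (F := F) 5 11 (by decide) (by decide) (by decide) (by decide) t u
  unfold ChevalleyDatum.commWord at h
  rw [g2vc_terms_5_11] at h
  simp only [List.map_cons, List.map_nil, g2vc_word_cons, g2vc_word_nil, mul_one] at h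
  have a0 : ((1 : ℤ) : F) * (-t) ^ 1 * u ^ 1 = -(t * u) := by
    push_cast
    ring
  rw [a0] at h
  rw [h]

theorem g2vc_terms_6_0 : chevG2.commTerms 6 0 = [(1, -1, 1, 1)] := by
  decide

theorem g2vc_c_6_0 (t u : F) :
    X 0 u * X 6 t = X 6 t * X 0 u * X 1 (t * u) := by
  have h := g2vc_comm (F := F) 6 0 (by decide) (by decide) (by decide) (by decide) t u
  unfold ChevalleyDatum.commWord at h
  rw [g2vc_terms_6_0] at h
  simp only [List.map_cons, List.map_nil, g2vc_word_cons, g2vc_word_nil, mul_one] at h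
  have a0 : (((-1) : ℤ) : F) * (-t) ^ 1 * u ^ 1 = t * u := by
    push_cast
    ring
  rw [a0] at h
  rw [h]

theorem g2vc_terms_6_1 : chevG2.commTerms 6 1 = [] := by
  decide

theorem g2vc_c_6_1 (t u : F) : X 1 u * X 6 t = X 6 t * X 1 u := by
  have h := g2vc_comm (F := F) 6 1 (by decide) (by decide) (by decide) (by decide) t u
  unfold ChevalleyDatum.commWord at h
  rw [g2vc_terms_6_1] at h
  simp only [List.map_nil, g2vc_word_nil, mul_one] at h
  exact h

theorem g2vc_terms_6_2 : chevG2.commTerms 6 2 = [] := by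
  decide

theorem g2vc_c_6_2 (t u : F) : X 2 u * X 6 t = X 6 t * X 2 u := by
  have h := g2vc_comm (F := F) 6 2 (by decide) (by decide) (by decide) (by decide) t u
  unfold ChevalleyDatum.commWord at h
  rw [g2vc_terms_6_2] at h
  simp only [List.map_nil, g2vc_word_nil, mul_one] at h
  exact h

theorem g2vc_terms_6_3 : chevG2.commTerms 6 3 = [(4, -1, 1, 1), (2, -1, 1, 2), (0, -1, 1, 3), (1, 2, 2, 3)] := by
  decide

theorem g2vc_c_6_3 (t u : F) :
    X 3 u * X 6 t = X 6 t * X 3 u * (X 4 (t * u) * X 2 (t * u ^ 2) * X 0 (t * u ^ 3) * X 1 (2 * t ^ 2 * u ^ 3)) := by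
  have h := g2vc_comm (F := F) 6 3 (by decide) (by decide) (by decide) (by decide) t u
  unfold ChevalleyDatum.commWord at h
  rw [g2vc_terms_6_3] at h
  simp only [List.map_cons, List.map_nil, g2vc_word_cons, g2vc_word_nil, mul_one] at h
  have a0 : (((-1) : ℤ) : F) * (-t) ^ 1 * u ^ 1 = t * u := by
    push_cast
    ring
  have a1 : (((-1) : ℤ) : F) * (-t) ^ 1 * u ^ 2 = t * u ^ 2 := by
    push_cast
    ring
  have a2 : (((-1) : ℤ) : F) * (-t) ^ 1 * u ^ 3 = t * u ^ 3 := by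
    push_cast
    ring
  have a3 : ((2 : ℤ) : F) * (-t) ^ 2 * u ^ 3 = 2 * t ^ 2 * u ^ 3 := by
    push_cast
    ring
  rw [a0, a1, a2, a3] at h
  rw [h]
  simp only [mul_assoc]

theorem g2vc_terms_6_4 : chevG2.commTerms 6 4 = [] := by
  decide

theorem g2vc_c_6_4 (t u : F) : X 4 u * X 6 t = X 6 t * X 4 u := by
  have h := g2vc_comm (F := F) 6 4 (by decide) (by decide) (by decide) (by decide) t u
  unfold ChevalleyDatum.commWord at h
  rw [g2vc_terms_6_4] at h
  simp only [List.map_nil, g2vc_word_nil, mul_one] at h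
  exact h

theorem g2vc_terms_6_7 : chevG2.commTerms 6 7 = [(8, 1, 1, 1), (9, 1, 1, 2), (10, -1, 1, 3), (11, -2, 2, 3)] := by
  decide

theorem g2vc_c_6_7 (t u : F) :
    X 7 u * X 6 t = X 6 t * X 7 u * (X 8 (-(t * u)) * X 9 (-(t * u ^ 2)) * X 10 (t * u ^ 3) * X 11 (-(2 * t ^ 2 * u ^ 3))) := by
  have h := g2vc_comm (F := F) 6 7 (by decide) (by decide) (by decide) (by decide) t u
  unfold ChevalleyDatum.commWord at h
  rw [g2vc_terms_6_7] at h
  simp only [List.map_cons, List.map_nil, g2vc_word_cons, g2vc_word_nil, mul_one] at h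
  have a0 : ((1 : ℤ) : F) * (-t) ^ 1 * u ^ 1 = -(t * u) := by
    push_cast
    ring
  have a1 : ((1 : ℤ) : F) * (-t) ^ 1 * u ^ 2 = -(t * u ^ 2) := by
    push_cast
    ring
  have a2 : (((-1) : ℤ) : F) * (-t) ^ 1 * u ^ 3 = t * u ^ 3 := by
    push_cast
    ring
  have a3 : (((-2) : ℤ) : F) * (-t) ^ 2 * u ^ 3 = -(2 * t ^ 2 * u ^ 3) := by
    push_cast
    ring
  rw [a0, a1, a2, a3] at h
  rw [h]
  simp only [mul_assoc]

theorem g2vc_terms_6_8 : chevG2.commTerms 6 8 = [] := by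
  decide

theorem g2vc_c_6_8 (t u : F) : X 8 u * X 6 t = X 6 t * X 8 u := by
  have h := g2vc_comm (F := F) 6 8 (by decide) (by decide) (by decide) (by decide) t u
  unfold ChevalleyDatum.commWord at h
  rw [g2vc_terms_6_8] at h
  simp only [List.map_nil, g2vc_word_nil, mul_one] at h
  exact h

theorem g2vc_terms_6_9 : chevG2.commTerms 6 9 = [] := by
  decide

theorem g2vc_c_6_9 (t u : F) : X 9 u * X 6 t = X 6 t * X 9 u := by
  have h := g2vc_comm (F := F) 6 9 (by decide) (by decide) (by decide) (by decide) t u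
  unfold ChevalleyDatum.commWord at h
  rw [g2vc_terms_6_9] at h
  simp only [List.map_nil, g2vc_word_nil, mul_one] at h
  exact h

theorem g2vc_terms_6_10 : chevG2.commTerms 6 10 = [(11, 1, 1, 1)] := by
  decide

theorem g2vc_c_6_10 (t u : F) :
    X 10 u * X 6 t = X 6 t * X 10 u * X 11 (-(t * u)) := by
  have h := g2vc_comm (F := F) 6 10 (by decide) (by decide) (by decide) (by decide) t u
  unfold ChevalleyDatum.commWord at h
  rw [g2vc_terms_6_10] at h
  simp only [List.map_cons, List.map_nil, g2vc_word_cons, g2vc_word_nil, mul_one] at h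
  have a0 : ((1 : ℤ) : F) * (-t) ^ 1 * u ^ 1 = -(t * u) := by
    push_cast
    ring
  rw [a0] at h
  rw [h]

theorem g2vc_terms_6_11 : chevG2.commTerms 6 11 = [] := by
  decide

theorem g2vc_c_6_11 (t u : F) : X 11 u * X 6 t = X 6 t * X 11 u := by
  have h := g2vc_comm (F := F) 6 11 (by decide) (by decide) (by decide) (by decide) t u
  unfold ChevalleyDatum.commWord at h
  rw [g2vc_terms_6_11] at h
  simp only [List.map_nil, g2vc_word_nil, mul_one] at h
  exact h

theorem g2vc_terms_7_0 : chevG2.commTerms 7 0 = [] := by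
  decide

theorem g2vc_c_7_0 (t u : F) : X 0 u * X 7 t = X 7 t * X 0 u := by
  have h := g2vc_comm (F := F) 7 0 (by decide) (by decide) (by decide) (by decide) t u
  unfold ChevalleyDatum.commWord at h
  rw [g2vc_terms_7_0] at h
  simp only [List.map_nil, g2vc_word_nil, mul_one] at h
  exact h

theorem g2vc_terms_7_1 : chevG2.commTerms 7 1 = [(2, -1, 1, 1), (3, -1, 2, 1), (5, -1, 3, 1), (0, -1, 3, 2)] := by
  decide

theorem g2vc_c_7_1 (t u : F) :
    X 1 u * X 7 t = X 7 t * X 1 u * (X 2 (t * u) * X 3 (-(t ^ 2 * u)) * X 5 (t ^ 3 * u) * X 0 (t ^ 3 * u ^ 2)) := by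
  have h := g2vc_comm (F := F) 7 1 (by decide) (by decide) (by decide) (by decide) t u
  unfold ChevalleyDatum.commWord at h
  rw [g2vc_terms_7_1] at h
  simp only [List.map_cons, List.map_nil, g2vc_word_cons, g2vc_word_nil, mul_one] at h
  have a0 : (((-1) : ℤ) : F) * (-t) ^ 1 * u ^ 1 = t * u := by
    push_cast
    ring
  have a1 : (((-1) : ℤ) : F) * (-t) ^ 2 * u ^ 1 = -(t ^ 2 * u) := by
    push_cast
    ring
  have a2 : (((-1) : ℤ) : F) * (-t) ^ 3 * u ^ 1 = t ^ 3 * u := by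
    push_cast
    ring
  have a3 : (((-1) : ℤ) : F) * (-t) ^ 3 * u ^ 2 = t ^ 3 * u ^ 2 := by
    push_cast
    ring
  rw [a0, a1, a2, a3] at h
  rw [h]
  simp only [mul_assoc]

theorem g2vc_terms_7_2 : chevG2.commTerms 7 2 = [(3, 2, 1, 1), (5, 3, 2, 1), (0, -3, 1, 2)] := by
  decide

theorem g2vc_c_7_2 (t u : F) :
    X 2 u * X 7 t = X 7 t * X 2 u * (X 3 (-(2 * t * u)) * X 5 (3 * t ^ 2 * u) * X 0 (3 * t * u ^ 2)) := by
  have h := g2vc_comm (F := F) 7 2 (by decide) (by decide) (by decide) (by decide) t u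
  unfold ChevalleyDatum.commWord at h
  rw [g2vc_terms_7_2] at h
  simp only [List.map_cons, List.map_nil, g2vc_word_cons, g2vc_word_nil, mul_one] at h
  have a0 : ((2 : ℤ) : F) * (-t) ^ 1 * u ^ 1 = -(2 * t * u) := by
    push_cast
    ring
  have a1 : ((3 : ℤ) : F) * (-t) ^ 2 * u ^ 1 = 3 * t ^ 2 * u := by
    push_cast
    ring
  have a2 : (((-3) : ℤ) : F) * (-t) ^ 1 * u ^ 2 = 3 * t * u ^ 2 := by
    push_cast
    ring
  rw [a0, a1, a2] at h
  rw [h]
  simp only [mul_assoc]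

theorem g2vc_terms_7_3 : chevG2.commTerms 7 3 = [(5, 3, 1, 1)] := by
  decide

theorem g2vc_c_7_3 (t u : F) :
    X 3 u * X 7 t = X 7 t * X 3 u * X 5 (-(3 * t * u)) := by
  have h := g2vc_comm (F := F) 7 3 (by decide) (by decide) (by decide) (by decide) t u
  unfold ChevalleyDatum.commWord at h
  rw [g2vc_terms_7_3] at h
  simp only [List.map_cons, List.map_nil, g2vc_word_cons, g2vc_word_nil, mul_one] at h
  have a0 : ((3 : ℤ) : F) * (-t) ^ 1 * u ^ 1 = -(3 * t * u) := by
    push_cast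
    ring
  rw [a0] at h
  rw [h]

theorem g2vc_terms_7_5 : chevG2.commTerms 7 5 = [] := by
  decide

theorem g2vc_c_7_5 (t u : F) : X 5 u * X 7 t = X 7 t * X 5 u := by
  have h := g2vc_comm (F := F) 7 5 (by decide) (by decide) (by decide) (by decide) t u
  unfold ChevalleyDatum.commWord at h
  rw [g2vc_terms_7_5] at h
  simp only [List.map_nil, g2vc_word_nil, mul_one] at h
  exact h

theorem g2vc_terms_7_6 : chevG2.commTerms 7 6 = [(8, -1, 1, 1), (9, 1, 2, 1), (10, 1, 3, 1), (11, 1, 3, 2)] := by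
  decide

theorem g2vc_c_7_6 (t u : F) :
    X 6 u * X 7 t = X 7 t * X 6 u * (X 8 (t * u) * X 9 (t ^ 2 * u) * X 10 (-(t ^ 3 * u)) * X 11 (-(t ^ 3 * u ^ 2))) := by
  have h := g2vc_comm (F := F) 7 6 (by decide) (by decide) (by decide) (by decide) t u
  unfold ChevalleyDatum.commWord at h
  rw [g2vc_terms_7_6] at h
  simp only [List.map_cons, List.map_nil, g2vc_word_cons, g2vc_word_nil, mul_one] at h
  have a0 : (((-1) : ℤ) : F) * (-t) ^ 1 * u ^ 1 = t * u := by
    push_cast
    ring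
  have a1 : ((1 : ℤ) : F) * (-t) ^ 2 * u ^ 1 = t ^ 2 * u := by
    push_cast
    ring
  have a2 : ((1 : ℤ) : F) * (-t) ^ 3 * u ^ 1 = -(t ^ 3 * u) := by
    push_cast
    ring
  have a3 : ((1 : ℤ) : F) * (-t) ^ 3 * u ^ 2 = -(t ^ 3 * u ^ 2) := by
    push_cast
    ring
  rw [a0, a1, a2, a3] at h
  rw [h]
  simp only [mul_assoc]

theorem g2vc_terms_7_8 : chevG2.commTerms 7 8 = [(9, -2, 1, 1), (10, -3, 2, 1), (11, 3, 1, 2)] := by
  decide

theorem g2vc_c_7_8 (t u : F) :
    X 8 u * X 7 t = X 7 t * X 8 u * (X 9 (2 * t * u) * X 10 (-(3 * t ^ 2 * u)) * X 11 (-(3 * t * u ^ 2))) := by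
  have h := g2vc_comm (F := F) 7 8 (by decide) (by decide) (by decide) (by decide) t u
  unfold ChevalleyDatum.commWord at h
  rw [g2vc_terms_7_8] at h
  simp only [List.map_cons, List.map_nil, g2vc_word_cons, g2vc_word_nil, mul_one] at h
  have a0 : (((-2) : ℤ) : F) * (-t) ^ 1 * u ^ 1 = 2 * t * u := by
    push_cast
    ring
  have a1 : (((-3) : ℤ) : F) * (-t) ^ 2 * u ^ 1 = -(3 * t ^ 2 * u) := by
    push_cast
    ring
  have a2 : ((3 : ℤ) : F) * (-t) ^ 1 * u ^ 2 = -(3 * t * u ^ 2) := by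
    push_cast
    ring
  rw [a0, a1, a2] at h
  rw [h]
  simp only [mul_assoc]

theorem g2vc_terms_7_9 : chevG2.commTerms 7 9 = [(10, 3, 1, 1)] := by
  decide

theorem g2vc_c_7_9 (t u : F) :
    X 9 u * X 7 t = X 7 t * X 9 u * X 10 (-(3 * t * u)) := by
  have h := g2vc_comm (F := F) 7 9 (by decide) (by decide) (by decide) (by decide) t u
  unfold ChevalleyDatum.commWord at h
  rw [g2vc_terms_7_9] at h
  simp only [List.map_cons, List.map_nil, g2vc_word_cons, g2vc_word_nil, mul_one] at h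
  have a0 : ((3 : ℤ) : F) * (-t) ^ 1 * u ^ 1 = -(3 * t * u) := by
    push_cast
    ring
  rw [a0] at h
  rw [h]

theorem g2vc_terms_7_10 : chevG2.commTerms 7 10 = [] := by
  decide

theorem g2vc_c_7_10 (t u : F) : X 10 u * X 7 t = X 7 t * X 10 u := by
  have h := g2vc_comm (F := F) 7 10 (by decide) (by decide) (by decide) (by decide) t u
  unfold ChevalleyDatum.commWord at h
  rw [g2vc_terms_7_10] at h
  simp only [List.map_nil, g2vc_word_nil, mul_one] at h
  exact h

theorem g2vc_terms_7_11 : chevG2.commTerms 7 11 = [] := by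
  decide

theorem g2vc_c_7_11 (t u : F) : X 11 u * X 7 t = X 7 t * X 11 u := by
  have h := g2vc_comm (F := F) 7 11 (by decide) (by decide) (by decide) (by decide) t u
  unfold ChevalleyDatum.commWord at h
  rw [g2vc_terms_7_11] at h
  simp only [List.map_nil, g2vc_word_nil, mul_one] at h
  exact h

theorem g2vc_terms_8_0 : chevG2.commTerms 8 0 = [(2, -1, 1, 1), (4, 1, 2, 1), (6, 1, 3, 1), (1, 1, 3, 2)] := by
  decide

theorem g2vc_c_8_0 (t u : F) :
    X 0 u * X 8 t = X 8 t * X 0 u * (X 2 (t * u) * X 4 (t ^ 2 * u) * X 6 (-(t ^ 3 * u)) * X 1 (-(t ^ 3 * u ^ 2))) := by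
  have h := g2vc_comm (F := F) 8 0 (by decide) (by decide) (by decide) (by decide) t u
  unfold ChevalleyDatum.commWord at h
  rw [g2vc_terms_8_0] at h
  simp only [List.map_cons, List.map_nil, g2vc_word_cons, g2vc_word_nil, mul_one] at h
  have a0 : (((-1) : ℤ) : F) * (-t) ^ 1 * u ^ 1 = t * u := by
    push_cast
    ring
  have a1 : ((1 : ℤ) : F) * (-t) ^ 2 * u ^ 1 = t ^ 2 * u := by
    push_cast
    ring
  have a2 : ((1 : ℤ) : F) * (-t) ^ 3 * u ^ 1 = -(t ^ 3 * u) := by
    push_cast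
    ring
  have a3 : ((1 : ℤ) : F) * (-t) ^ 3 * u ^ 2 = -(t ^ 3 * u ^ 2) := by
    push_cast
    ring
  rw [a0, a1, a2, a3] at h
  rw [h]
  simp only [mul_assoc]

theorem g2vc_terms_8_1 : chevG2.commTerms 8 1 = [] := by
  decide

theorem g2vc_c_8_1 (t u : F) : X 1 u * X 8 t = X 8 t * X 1 u := by
  have h := g2vc_comm (F := F) 8 1 (by decide) (by decide) (by decide) (by decide) t u
  unfold ChevalleyDatum.commWord at h
  rw [g2vc_terms_8_1] at h
  simp only [List.map_nil, g2vc_word_nil, mul_one] at h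
  exact h

theorem g2vc_terms_8_2 : chevG2.commTerms 8 2 = [(4, -2, 1, 1), (6, -3, 2, 1), (1, 3, 1, 2)] := by
  decide

theorem g2vc_c_8_2 (t u : F) :
    X 2 u * X 8 t = X 8 t * X 2 u * (X 4 (2 * t * u) * X 6 (-(3 * t ^ 2 * u)) * X 1 (-(3 * t * u ^ 2))) := by
  have h := g2vc_comm (F := F) 8 2 (by decide) (by decide) (by decide) (by decide) t u
  unfold ChevalleyDatum.commWord at h
  rw [g2vc_terms_8_2] at h
  simp only [List.map_cons, List.map_nil, g2vc_word_cons, g2vc_word_nil, mul_one] at h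
  have a0 : (((-2) : ℤ) : F) * (-t) ^ 1 * u ^ 1 = 2 * t * u := by
    push_cast
    ring
  have a1 : (((-3) : ℤ) : F) * (-t) ^ 2 * u ^ 1 = -(3 * t ^ 2 * u) := by
    push_cast
    ring
  have a2 : ((3 : ℤ) : F) * (-t) ^ 1 * u ^ 2 = -(3 * t * u ^ 2) := by
    push_cast
    ring
  rw [a0, a1, a2] at h
  rw [h]
  simp only [mul_assoc]

theorem g2vc_terms_8_4 : chevG2.commTerms 8 4 = [(6, 3, 1, 1)] := by
  decide

theorem g2vc_c_8_4 (t u : F) :
    X 4 u * X 8 t = X 8 t * X 4 u * X 6 (-(3 * t * u)) := by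
  have h := g2vc_comm (F := F) 8 4 (by decide) (by decide) (by decide) (by decide) t u
  unfold ChevalleyDatum.commWord at h
  rw [g2vc_terms_8_4] at h
  simp only [List.map_cons, List.map_nil, g2vc_word_cons, g2vc_word_nil, mul_one] at h
  have a0 : ((3 : ℤ) : F) * (-t) ^ 1 * u ^ 1 = -(3 * t * u) := by
    push_cast
    ring
  rw [a0] at h
  rw [h]

theorem g2vc_terms_8_5 : chevG2.commTerms 8 5 = [(7, -1, 1, 1), (9, -1, 2, 1), (11, -1, 3, 1), (10, -1, 3, 2)] := by
  decide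

theorem g2vc_c_8_5 (t u : F) :
    X 5 u * X 8 t = X 8 t * X 5 u * (X 7 (t * u) * X 9 (-(t ^ 2 * u)) * X 11 (t ^ 3 * u) * X 10 (t ^ 3 * u ^ 2)) := by
  have h := g2vc_comm (F := F) 8 5 (by decide) (by decide) (by decide) (by decide) t u
  unfold ChevalleyDatum.commWord at h
  rw [g2vc_terms_8_5] at h
  simp only [List.map_cons, List.map_nil, g2vc_word_cons, g2vc_word_nil, mul_one] at h
  have a0 : (((-1) : ℤ) : F) * (-t) ^ 1 * u ^ 1 = t * u := by
    push_cast
    ring
  have a1 : (((-1) : ℤ) : F) * (-t) ^ 2 * u ^ 1 = -(t ^ 2 * u) := by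
    push_cast
    ring
  have a2 : (((-1) : ℤ) : F) * (-t) ^ 3 * u ^ 1 = t ^ 3 * u := by
    push_cast
    ring
  have a3 : (((-1) : ℤ) : F) * (-t) ^ 3 * u ^ 2 = t ^ 3 * u ^ 2 := by
    push_cast
    ring
  rw [a0, a1, a2, a3] at h
  rw [h]
  simp only [mul_assoc]

theorem g2vc_terms_8_6 : chevG2.commTerms 8 6 = [] := by
  decide

theorem g2vc_c_8_6 (t u : F) : X 6 u * X 8 t = X 8 t * X 6 u := by
  have h := g2vc_comm (F := F) 8 6 (by decide) (by decide) (by decide) (by decide) t u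
  unfold ChevalleyDatum.commWord at h
  rw [g2vc_terms_8_6] at h
  simp only [List.map_nil, g2vc_word_nil, mul_one] at h
  exact h

theorem g2vc_terms_8_7 : chevG2.commTerms 8 7 = [(9, 2, 1, 1), (11, 3, 2, 1), (10, -3, 1, 2)] := by
  decide

theorem g2vc_c_8_7 (t u : F) :
    X 7 u * X 8 t = X 8 t * X 7 u * (X 9 (-(2 * t * u)) * X 11 (3 * t ^ 2 * u) * X 10 (3 * t * u ^ 2)) := by
  have h := g2vc_comm (F := F) 8 7 (by decide) (by decide) (by decide) (by decide) t u
  unfold ChevalleyDatum.commWord at h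
  rw [g2vc_terms_8_7] at h
  simp only [List.map_cons, List.map_nil, g2vc_word_cons, g2vc_word_nil, mul_one] at h
  have a0 : ((2 : ℤ) : F) * (-t) ^ 1 * u ^ 1 = -(2 * t * u) := by
    push_cast
    ring
  have a1 : ((3 : ℤ) : F) * (-t) ^ 2 * u ^ 1 = 3 * t ^ 2 * u := by
    push_cast
    ring
  have a2 : (((-3) : ℤ) : F) * (-t) ^ 1 * u ^ 2 = 3 * t * u ^ 2 := by
    push_cast
    ring
  rw [a0, a1, a2] at h
  rw [h]
  simp only [mul_assoc]

theorem g2vc_terms_8_9 : chevG2.commTerms 8 9 = [(11, 3, 1, 1)] := by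
  decide

theorem g2vc_c_8_9 (t u : F) :
    X 9 u * X 8 t = X 8 t * X 9 u * X 11 (-(3 * t * u)) := by
  have h := g2vc_comm (F := F) 8 9 (by decide) (by decide) (by decide) (by decide) t u
  unfold ChevalleyDatum.commWord at h
  rw [g2vc_terms_8_9] at h
  simp only [List.map_cons, List.map_nil, g2vc_word_cons, g2vc_word_nil, mul_one] at h
  have a0 : ((3 : ℤ) : F) * (-t) ^ 1 * u ^ 1 = -(3 * t * u) := by
    push_cast
    ring
  rw [a0] at h
  rw [h]

theorem g2vc_terms_8_10 : chevG2.commTerms 8 10 = [] := by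
  decide

theorem g2vc_c_8_10 (t u : F) : X 10 u * X 8 t = X 8 t * X 10 u := by
  have h := g2vc_comm (F := F) 8 10 (by decide) (by decide) (by decide) (by decide) t u
  unfold ChevalleyDatum.commWord at h
  rw [g2vc_terms_8_10] at h
  simp only [List.map_nil, g2vc_word_nil, mul_one] at h
  exact h

theorem g2vc_terms_8_11 : chevG2.commTerms 8 11 = [] := by
  decide

theorem g2vc_c_8_11 (t u : F) : X 11 u * X 8 t = X 8 t * X 11 u := by
  have h := g2vc_comm (F := F) 8 11 (by decide) (by decide) (by decide) (by decide) t u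
  unfold ChevalleyDatum.commWord at h
  rw [g2vc_terms_8_11] at h
  simp only [List.map_nil, g2vc_word_nil, mul_one] at h
  exact h

theorem g2vc_terms_9_0 : chevG2.commTerms 9 0 = [(3, 1, 1, 1), (7, -1, 2, 1), (10, 1, 3, 1), (5, -1, 3, 2)] := by
  decide

theorem g2vc_c_9_0 (t u : F) :
    X 0 u * X 9 t = X 9 t * X 0 u * (X 3 (-(t * u)) * X 7 (-(t ^ 2 * u)) * X 10 (-(t ^ 3 * u)) * X 5 (t ^ 3 * u ^ 2)) := by
  have h := g2vc_comm (F := F) 9 0 (by decide) (by decide) (by decide) (by decide) t u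
  unfold ChevalleyDatum.commWord at h
  rw [g2vc_terms_9_0] at h
  simp only [List.map_cons, List.map_nil, g2vc_word_cons, g2vc_word_nil, mul_one] at h
  have a0 : ((1 : ℤ) : F) * (-t) ^ 1 * u ^ 1 = -(t * u) := by
    push_cast
    ring
  have a1 : (((-1) : ℤ) : F) * (-t) ^ 2 * u ^ 1 = -(t ^ 2 * u) := by
    push_cast
    ring
  have a2 : ((1 : ℤ) : F) * (-t) ^ 3 * u ^ 1 = -(t ^ 3 * u) := by
    push_cast
    ring
  have a3 : (((-1) : ℤ) : F) * (-t) ^ 3 * u ^ 2 = t ^ 3 * u ^ 2 := by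
    push_cast
    ring
  rw [a0, a1, a2, a3] at h
  rw [h]
  simp only [mul_assoc]

theorem g2vc_terms_9_1 : chevG2.commTerms 9 1 = [(4, 1, 1, 1), (8, 1, 2, 1), (11, -1, 3, 1), (6, 1, 3, 2)] := by
  decide

theorem g2vc_c_9_1 (t u : F) :
    X 1 u * X 9 t = X 9 t * X 1 u * (X 4 (-(t * u)) * X 8 (t ^ 2 * u) * X 11 (t ^ 3 * u) * X 6 (-(t ^ 3 * u ^ 2))) := by
  have h := g2vc_comm (F := F) 9 1 (by decide) (by decide) (by decide) (by decide) t u
  unfold ChevalleyDatum.commWord at h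
  rw [g2vc_terms_9_1] at h
  simp only [List.map_cons, List.map_nil, g2vc_word_cons, g2vc_word_nil, mul_one] at h
  have a0 : ((1 : ℤ) : F) * (-t) ^ 1 * u ^ 1 = -(t * u) := by
    push_cast
    ring
  have a1 : ((1 : ℤ) : F) * (-t) ^ 2 * u ^ 1 = t ^ 2 * u := by
    push_cast
    ring
  have a2 : (((-1) : ℤ) : F) * (-t) ^ 3 * u ^ 1 = t ^ 3 * u := by
    push_cast
    ring
  have a3 : ((1 : ℤ) : F) * (-t) ^ 3 * u ^ 2 = -(t ^ 3 * u ^ 2) := by
    push_cast
    ring
  rw [a0, a1, a2, a3] at h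
  rw [h]
  simp only [mul_assoc]

theorem g2vc_terms_9_3 : chevG2.commTerms 9 3 = [(7, -2, 1, 1), (10, 3, 2, 1), (5, -3, 1, 2)] := by
  decide

theorem g2vc_c_9_3 (t u : F) :
    X 3 u * X 9 t = X 9 t * X 3 u * (X 7 (2 * t * u) * X 10 (3 * t ^ 2 * u) * X 5 (3 * t * u ^ 2)) := by
  have h := g2vc_comm (F := F) 9 3 (by decide) (by decide) (by decide) (by decide) t u
  unfold ChevalleyDatum.commWord at h
  rw [g2vc_terms_9_3] at h
  simp only [List.map_cons, List.map_nil, g2vc_word_cons, g2vc_word_nil, mul_one] at h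
  have a0 : (((-2) : ℤ) : F) * (-t) ^ 1 * u ^ 1 = 2 * t * u := by
    push_cast
    ring
  have a1 : ((3 : ℤ) : F) * (-t) ^ 2 * u ^ 1 = 3 * t ^ 2 * u := by
    push_cast
    ring
  have a2 : (((-3) : ℤ) : F) * (-t) ^ 1 * u ^ 2 = 3 * t * u ^ 2 := by
    push_cast
    ring
  rw [a0, a1, a2] at h
  rw [h]
  simp only [mul_assoc]

theorem g2vc_terms_9_4 : chevG2.commTerms 9 4 = [(8, 2, 1, 1), (11, -3, 2, 1), (6, 3, 1, 2)] := by
  decide

theorem g2vc_c_9_4 (t u : F) :
    X 4 u * X 9 t = X 9 t * X 4 u * (X 8 (-(2 * t * u)) * X 11 (-(3 * t ^ 2 * u)) * X 6 (-(3 * t * u ^ 2))) := by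
  have h := g2vc_comm (F := F) 9 4 (by decide) (by decide) (by decide) (by decide) t u
  unfold ChevalleyDatum.commWord at h
  rw [g2vc_terms_9_4] at h
  simp only [List.map_cons, List.map_nil, g2vc_word_cons, g2vc_word_nil, mul_one] at h
  have a0 : ((2 : ℤ) : F) * (-t) ^ 1 * u ^ 1 = -(2 * t * u) := by
    push_cast
    ring
  have a1 : (((-3) : ℤ) : F) * (-t) ^ 2 * u ^ 1 = -(3 * t ^ 2 * u) := by
    push_cast
    ring
  have a2 : ((3 : ℤ) : F) * (-t) ^ 1 * u ^ 2 = -(3 * t * u ^ 2) := by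
    push_cast
    ring
  rw [a0, a1, a2] at h
  rw [h]
  simp only [mul_assoc]

theorem g2vc_terms_9_5 : chevG2.commTerms 9 5 = [] := by
  decide

theorem g2vc_c_9_5 (t u : F) : X 5 u * X 9 t = X 9 t * X 5 u := by
  have h := g2vc_comm (F := F) 9 5 (by decide) (by decide) (by decide) (by decide) t u
  unfold ChevalleyDatum.commWord at h
  rw [g2vc_terms_9_5] at h
  simp only [List.map_nil, g2vc_word_nil, mul_one] at h
  exact h

theorem g2vc_terms_9_6 : chevG2.commTerms 9 6 = [] := by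
  decide

theorem g2vc_c_9_6 (t u : F) : X 6 u * X 9 t = X 9 t * X 6 u := by
  have h := g2vc_comm (F := F) 9 6 (by decide) (by decide) (by decide) (by decide) t u
  unfold ChevalleyDatum.commWord at h
  rw [g2vc_terms_9_6] at h
  simp only [List.map_nil, g2vc_word_nil, mul_one] at h
  exact h

theorem g2vc_terms_9_7 : chevG2.commTerms 9 7 = [(10, -3, 1, 1)] := by
  decide

theorem g2vc_c_9_7 (t u : F) :
    X 7 u * X 9 t = X 9 t * X 7 u * X 10 (3 * t * u) := by
  have h := g2vc_comm (F := F) 9 7 (by decide) (by decide) (by decide) (by decide) t u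
  unfold ChevalleyDatum.commWord at h
  rw [g2vc_terms_9_7] at h
  simp only [List.map_cons, List.map_nil, g2vc_word_cons, g2vc_word_nil, mul_one] at h
  have a0 : (((-3) : ℤ) : F) * (-t) ^ 1 * u ^ 1 = 3 * t * u := by
    push_cast
    ring
  rw [a0] at h
  rw [h]

theorem g2vc_terms_9_8 : chevG2.commTerms 9 8 = [(11, -3, 1, 1)] := by
  decide

theorem g2vc_c_9_8 (t u : F) :
    X 8 u * X 9 t = X 9 t * X 8 u * X 11 (3 * t * u) := by
  have h := g2vc_comm (F := F) 9 8 (by decide) (by decide) (by decide) (by decide) t u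
  unfold ChevalleyDatum.commWord at h
  rw [g2vc_terms_9_8] at h
  simp only [List.map_cons, List.map_nil, g2vc_word_cons, g2vc_word_nil, mul_one] at h
  have a0 : (((-3) : ℤ) : F) * (-t) ^ 1 * u ^ 1 = 3 * t * u := by
    push_cast
    ring
  rw [a0] at h
  rw [h]

theorem g2vc_terms_9_10 : chevG2.commTerms 9 10 = [] := by
  decide

theorem g2vc_c_9_10 (t u : F) : X 10 u * X 9 t = X 9 t * X 10 u := by
  have h := g2vc_comm (F := F) 9 10 (by decide) (by decide) (by decide) (by decide) t u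
  unfold ChevalleyDatum.commWord at h
  rw [g2vc_terms_9_10] at h
  simp only [List.map_nil, g2vc_word_nil, mul_one] at h
  exact h

theorem g2vc_terms_9_11 : chevG2.commTerms 9 11 = [] := by
  decide

theorem g2vc_c_9_11 (t u : F) : X 11 u * X 9 t = X 9 t * X 11 u := by
  have h := g2vc_comm (F := F) 9 11 (by decide) (by decide) (by decide) (by decide) t u
  unfold ChevalleyDatum.commWord at h
  rw [g2vc_terms_9_11] at h
  simp only [List.map_nil, g2vc_word_nil, mul_one] at h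
  exact h

theorem g2vc_terms_10_0 : chevG2.commTerms 10 0 = [(5, 1, 1, 1)] := by
  decide

theorem g2vc_c_10_0 (t u : F) :
    X 0 u * X 10 t = X 10 t * X 0 u * X 5 (-(t * u)) := by
  have h := g2vc_comm (F := F) 10 0 (by decide) (by decide) (by decide) (by decide) t u
  unfold ChevalleyDatum.commWord at h
  rw [g2vc_terms_10_0] at h
  simp only [List.map_cons, List.map_nil, g2vc_word_cons, g2vc_word_nil, mul_one] at h
  have a0 : ((1 : ℤ) : F) * (-t) ^ 1 * u ^ 1 = -(t * u) := by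
    push_cast
    ring
  rw [a0] at h
  rw [h]

theorem g2vc_terms_10_2 : chevG2.commTerms 10 2 = [(7, 1, 1, 1), (3, 1, 1, 2), (0, -1, 1, 3), (5, -2, 2, 3)] := by
  decide

theorem g2vc_c_10_2 (t u : F) :
    X 2 u * X 10 t = X 10 t * X 2 u * (X 7 (-(t * u)) * X 3 (-(t * u ^ 2)) * X 0 (t * u ^ 3) * X 5 (-(2 * t ^ 2 * u ^ 3))) := by
  have h := g2vc_comm (F := F) 10 2 (by decide) (by decide) (by decide) (by decide) t u
  unfold ChevalleyDatum.commWord at h
  rw [g2vc_terms_10_2] at h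
  simp only [List.map_cons, List.map_nil, g2vc_word_cons, g2vc_word_nil, mul_one] at h
  have a0 : ((1 : ℤ) : F) * (-t) ^ 1 * u ^ 1 = -(t * u) := by
    push_cast
    ring
  have a1 : ((1 : ℤ) : F) * (-t) ^ 1 * u ^ 2 = -(t * u ^ 2) := by
    push_cast
    ring
  have a2 : (((-1) : ℤ) : F) * (-t) ^ 1 * u ^ 3 = t * u ^ 3 := by
    push_cast
    ring
  have a3 : (((-2) : ℤ) : F) * (-t) ^ 2 * u ^ 3 = -(2 * t ^ 2 * u ^ 3) := by
    push_cast
    ring
  rw [a0, a1, a2, a3] at h
  rw [h]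
  simp only [mul_assoc]

theorem g2vc_terms_10_3 : chevG2.commTerms 10 3 = [] := by
  decide

theorem g2vc_c_10_3 (t u : F) : X 3 u * X 10 t = X 10 t * X 3 u := by
  have h := g2vc_comm (F := F) 10 3 (by decide) (by decide) (by decide) (by decide) t u
  unfold ChevalleyDatum.commWord at h
  rw [g2vc_terms_10_3] at h
  simp only [List.map_nil, g2vc_word_nil, mul_one] at h
  exact h

theorem g2vc_terms_10_4 : chevG2.commTerms 10 4 = [(9, -1, 1, 1), (8, -1, 1, 2), (6, -1, 1, 3), (11, 2, 2, 3)] := by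
  decide

theorem g2vc_c_10_4 (t u : F) :
    X 4 u * X 10 t = X 10 t * X 4 u * (X 9 (t * u) * X 8 (t * u ^ 2) * X 6 (t * u ^ 3) * X 11 (2 * t ^ 2 * u ^ 3)) := by
  have h := g2vc_comm (F := F) 10 4 (by decide) (by decide) (by decide) (by decide) t u
  unfold ChevalleyDatum.commWord at h
  rw [g2vc_terms_10_4] at h
  simp only [List.map_cons, List.map_nil, g2vc_word_cons, g2vc_word_nil, mul_one] at h
  have a0 : (((-1) : ℤ) : F) * (-t) ^ 1 * u ^ 1 = t * u := by
    push_cast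
    ring
  have a1 : (((-1) : ℤ) : F) * (-t) ^ 1 * u ^ 2 = t * u ^ 2 := by
    push_cast
    ring
  have a2 : (((-1) : ℤ) : F) * (-t) ^ 1 * u ^ 3 = t * u ^ 3 := by
    push_cast
    ring
  have a3 : ((2 : ℤ) : F) * (-t) ^ 2 * u ^ 3 = 2 * t ^ 2 * u ^ 3 := by
    push_cast
    ring
  rw [a0, a1, a2, a3] at h
  rw [h]
  simp only [mul_assoc]

theorem g2vc_terms_10_5 : chevG2.commTerms 10 5 = [] := by
  decide

theorem g2vc_c_10_5 (t u : F) : X 5 u * X 10 t = X 10 t * X 5 u := by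
  have h := g2vc_comm (F := F) 10 5 (by decide) (by decide) (by decide) (by decide) t u
  unfold ChevalleyDatum.commWord at h
  rw [g2vc_terms_10_5] at h
  simp only [List.map_nil, g2vc_word_nil, mul_one] at h
  exact h

theorem g2vc_terms_10_6 : chevG2.commTerms 10 6 = [(11, -1, 1, 1)] := by
  decide

theorem g2vc_c_10_6 (t u : F) :
    X 6 u * X 10 t = X 10 t * X 6 u * X 11 (t * u) := by
  have h := g2vc_comm (F := F) 10 6 (by decide) (by decide) (by decide) (by decide) t u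
  unfold ChevalleyDatum.commWord at h
  rw [g2vc_terms_10_6] at h
  simp only [List.map_cons, List.map_nil, g2vc_word_cons, g2vc_word_nil, mul_one] at h
  have a0 : (((-1) : ℤ) : F) * (-t) ^ 1 * u ^ 1 = t * u := by
    push_cast
    ring
  rw [a0] at h
  rw [h]

theorem g2vc_terms_10_7 : chevG2.commTerms 10 7 = [] := by
  decide

theorem g2vc_c_10_7 (t u : F) : X 7 u * X 10 t = X 10 t * X 7 u := by
  have h := g2vc_comm (F := F) 10 7 (by decide) (by decide) (by decide) (by decide) t u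
  unfold ChevalleyDatum.commWord at h
  rw [g2vc_terms_10_7] at h
  simp only [List.map_nil, g2vc_word_nil, mul_one] at h
  exact h

theorem g2vc_terms_10_8 : chevG2.commTerms 10 8 = [] := by
  decide

theorem g2vc_c_10_8 (t u : F) : X 8 u * X 10 t = X 10 t * X 8 u := by
  have h := g2vc_comm (F := F) 10 8 (by decide) (by decide) (by decide) (by decide) t u
  unfold ChevalleyDatum.commWord at h
  rw [g2vc_terms_10_8] at h
  simp only [List.map_nil, g2vc_word_nil, mul_one] at h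
  exact h

theorem g2vc_terms_10_9 : chevG2.commTerms 10 9 = [] := by
  decide

theorem g2vc_c_10_9 (t u : F) : X 9 u * X 10 t = X 10 t * X 9 u := by
  have h := g2vc_comm (F := F) 10 9 (by decide) (by decide) (by decide) (by decide) t u
  unfold ChevalleyDatum.commWord at h
  rw [g2vc_terms_10_9] at h
  simp only [List.map_nil, g2vc_word_nil, mul_one] at h
  exact h

theorem g2vc_terms_10_11 : chevG2.commTerms 10 11 = [] := by
  decide

theorem g2vc_c_10_11 (t u : F) : X 11 u * X 10 t = X 10 t * X 11 u := by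
  have h := g2vc_comm (F := F) 10 11 (by decide) (by decide) (by decide) (by decide) t u
  unfold ChevalleyDatum.commWord at h
  rw [g2vc_terms_10_11] at h
  simp only [List.map_nil, g2vc_word_nil, mul_one] at h
  exact h

theorem g2vc_terms_11_1 : chevG2.commTerms 11 1 = [(6, 1, 1, 1)] := by
  decide

theorem g2vc_c_11_1 (t u : F) :
    X 1 u * X 11 t = X 11 t * X 1 u * X 6 (-(t * u)) := by
  have h := g2vc_comm (F := F) 11 1 (by decide) (by decide) (by decide) (by decide) t u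
  unfold ChevalleyDatum.commWord at h
  rw [g2vc_terms_11_1] at h
  simp only [List.map_cons, List.map_nil, g2vc_word_cons, g2vc_word_nil, mul_one] at h
  have a0 : ((1 : ℤ) : F) * (-t) ^ 1 * u ^ 1 = -(t * u) := by
    push_cast
    ring
  rw [a0] at h
  rw [h]

theorem g2vc_terms_11_2 : chevG2.commTerms 11 2 = [(8, 1, 1, 1), (4, -1, 1, 2), (1, 1, 1, 3), (6, 2, 2, 3)] := by
  decide

theorem g2vc_c_11_2 (t u : F) :
    X 2 u * X 11 t = X 11 t * X 2 u * (X 8 (-(t * u)) * X 4 (t * u ^ 2) * X 1 (-(t * u ^ 3)) * X 6 (2 * t ^ 2 * u ^ 3)) := by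
  have h := g2vc_comm (F := F) 11 2 (by decide) (by decide) (by decide) (by decide) t u
  unfold ChevalleyDatum.commWord at h
  rw [g2vc_terms_11_2] at h
  simp only [List.map_cons, List.map_nil, g2vc_word_cons, g2vc_word_nil, mul_one] at h
  have a0 : ((1 : ℤ) : F) * (-t) ^ 1 * u ^ 1 = -(t * u) := by
    push_cast
    ring
  have a1 : (((-1) : ℤ) : F) * (-t) ^ 1 * u ^ 2 = t * u ^ 2 := by
    push_cast
    ring
  have a2 : ((1 : ℤ) : F) * (-t) ^ 1 * u ^ 3 = -(t * u ^ 3) := by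
    push_cast
    ring
  have a3 : ((2 : ℤ) : F) * (-t) ^ 2 * u ^ 3 = 2 * t ^ 2 * u ^ 3 := by
    push_cast
    ring
  rw [a0, a1, a2, a3] at h
  rw [h]
  simp only [mul_assoc]

theorem g2vc_terms_11_3 : chevG2.commTerms 11 3 = [(9, -1, 1, 1), (7, 1, 1, 2), (5, 1, 1, 3), (10, -2, 2, 3)] := by
  decide

theorem g2vc_c_11_3 (t u : F) :
    X 3 u * X 11 t = X 11 t * X 3 u * (X 9 (t * u) * X 7 (-(t * u ^ 2)) * X 5 (-(t * u ^ 3)) * X 10 (-(2 * t ^ 2 * u ^ 3))) := by
  have h := g2vc_comm (F := F) 11 3 (by decide) (by decide) (by decide) (by decide) t u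
  unfold ChevalleyDatum.commWord at h
  rw [g2vc_terms_11_3] at h
  simp only [List.map_cons, List.map_nil, g2vc_word_cons, g2vc_word_nil, mul_one] at h
  have a0 : (((-1) : ℤ) : F) * (-t) ^ 1 * u ^ 1 = t * u := by
    push_cast
    ring
  have a1 : ((1 : ℤ) : F) * (-t) ^ 1 * u ^ 2 = -(t * u ^ 2) := by
    push_cast
    ring
  have a2 : ((1 : ℤ) : F) * (-t) ^ 1 * u ^ 3 = -(t * u ^ 3) := by
    push_cast
    ring
  have a3 : (((-2) : ℤ) : F) * (-t) ^ 2 * u ^ 3 = -(2 * t ^ 2 * u ^ 3) := by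
    push_cast
    ring
  rw [a0, a1, a2, a3] at h
  rw [h]
  simp only [mul_assoc]

theorem g2vc_terms_11_4 : chevG2.commTerms 11 4 = [] := by
  decide

theorem g2vc_c_11_4 (t u : F) : X 4 u * X 11 t = X 11 t * X 4 u := by
  have h := g2vc_comm (F := F) 11 4 (by decide) (by decide) (by decide) (by decide) t u
  unfold ChevalleyDatum.commWord at h
  rw [g2vc_terms_11_4] at h
  simp only [List.map_nil, g2vc_word_nil, mul_one] at h
  exact h

theorem g2vc_terms_11_5 : chevG2.commTerms 11 5 = [(10, -1, 1, 1)] := by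
  decide

theorem g2vc_c_11_5 (t u : F) :
    X 5 u * X 11 t = X 11 t * X 5 u * X 10 (t * u) := by
  have h := g2vc_comm (F := F) 11 5 (by decide) (by decide) (by decide) (by decide) t u
  unfold ChevalleyDatum.commWord at h
  rw [g2vc_terms_11_5] at h
  simp only [List.map_cons, List.map_nil, g2vc_word_cons, g2vc_word_nil, mul_one] at h
  have a0 : (((-1) : ℤ) : F) * (-t) ^ 1 * u ^ 1 = t * u := by
    push_cast
    ring
  rw [a0] at h
  rw [h]

theorem g2vc_terms_11_6 : chevG2.commTerms 11 6 = [] := by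
  decide

theorem g2vc_c_11_6 (t u : F) : X 6 u * X 11 t = X 11 t * X 6 u := by
  have h := g2vc_comm (F := F) 11 6 (by decide) (by decide) (by decide) (by decide) t u
  unfold ChevalleyDatum.commWord at h
  rw [g2vc_terms_11_6] at h
  simp only [List.map_nil, g2vc_word_nil, mul_one] at h
  exact h

theorem g2vc_terms_11_7 : chevG2.commTerms 11 7 = [] := by
  decide

theorem g2vc_c_11_7 (t u : F) : X 7 u * X 11 t = X 11 t * X 7 u := by
  have h := g2vc_comm (F := F) 11 7 (by decide) (by decide) (by decide) (by decide) t u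
  unfold ChevalleyDatum.commWord at h
  rw [g2vc_terms_11_7] at h
  simp only [List.map_nil, g2vc_word_nil, mul_one] at h
  exact h

theorem g2vc_terms_11_8 : chevG2.commTerms 11 8 = [] := by
  decide

theorem g2vc_c_11_8 (t u : F) : X 8 u * X 11 t = X 11 t * X 8 u := by
  have h := g2vc_comm (F := F) 11 8 (by decide) (by decide) (by decide) (by decide) t u
  unfold ChevalleyDatum.commWord at h
  rw [g2vc_terms_11_8] at h
  simp only [List.map_nil, g2vc_word_nil, mul_one] at h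
  exact h

theorem g2vc_terms_11_9 : chevG2.commTerms 11 9 = [] := by
  decide

theorem g2vc_c_11_9 (t u : F) : X 9 u * X 11 t = X 11 t * X 9 u := by
  have h := g2vc_comm (F := F) 11 9 (by decide) (by decide) (by decide) (by decide) t u
  unfold ChevalleyDatum.commWord at h
  rw [g2vc_terms_11_9] at h
  simp only [List.map_nil, g2vc_word_nil, mul_one] at h
  exact h

theorem g2vc_terms_11_10 : chevG2.commTerms 11 10 = [] := by
  decide

theorem g2vc_c_11_10 (t u : F) : X 10 u * X 11 t = X 11 t * X 10 u := by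
  have h := g2vc_comm (F := F) 11 10 (by decide) (by decide) (by decide) (by decide) t u
  unfold ChevalleyDatum.commWord at h
  rw [g2vc_terms_11_10] at h
  simp only [List.map_nil, g2vc_word_nil, mul_one] at h
  exact h

end Cfsg.Agent.Lib.Helper19.G2V
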