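import Mathlib
import Cfsg.Agent.Lib.Helper18.PRL.Defs
import Cfsg.Agent.Lib.helper23.PRLCH1
import Cfsg.Agent.S0662
import Cfsg.Agent.S4206

/-!
# MCP piece COMM: `[Z_s, Z_t] ≤ Z_{s+t-n}` in a `p`-group of maximal class.
-/

set_option autoImplicit false

namespace Cfsg.Agent.Lib.helper4.MCP

open Cfsg.Agent.Lib.Helper18.PRL
open scoped commutatorElement

universe u

/-- `[Z_{k+1}, G] ≤ Z_k`. -/
theorem mcpcomm_step {X : Type*} [Group X] (k : ℕ) :
    ⁅Z X (k + 1), (⊤ : Subgroup X)⁆ ≤ Z X k := by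
  rw [Subgroup.commutator_le]
  intro y hy x _
  rw [Subgroup.mem_upperCentralSeries_succ_iff] at hy
  exact hy x

section mc
variable {p : ℕ} [Fact p.Prime] {G : Type u} [Group G] [Finite G] {n : ℕ}

/-- `Z_t` is a term of the lower central series. -/
theorem mcpcomm_Z_eq_lcs (h : MC p G n) (hn : 3 ≤ n) (t : ℕ) (ht : t ≤ n - 2) :
    Z G t = (⊤ : Subgroup G).lowerCentralSeries (n - t - 1) := by
  have hcard := card_Z h hn t ht
  have hidx : (Z G t).index = p ^ (n - t) := by
    have h1 := Subgroup.card_mul_index (Z G t)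
    rw [hcard, h.1] at h1
    have hsplit : p ^ n = p ^ t * p ^ (n - t) := by
      rw [← pow_add]; congr 1; omega
    rw [hsplit] at h1
    exact Nat.eq_of_mul_eq_mul_left (pow_pos (Fact.out : p.Prime).pos t) h1
  have := (Cfsg.Agent.S0662.result (G := G) (p := p) n h.1 h.2 hn).1 (Z G t) (n - t) (by omega) hidx
  exact this

/-- MCP-COMM -/
theorem commutator_Z_le (h : MC p G n) (hn : 3 ≤ n) (s t : ℕ) (ht : t ≤ n - 2) :
    ⁅Z G s, Z G t⁆ ≤ Z G (s + t - n) := by
  have hmain := Cfsg.Agent.S4206.main (G := G) (fun i => Z G (s - i)) (fun i => inferInstance)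
    (⊤ : Subgroup G) (fun i => by
      show ⁅Z G (s - i), (⊤ : Subgroup G)⁆ ≤ Z G (s - (i + 1))
      by_cases hi : i < s
      · have h1 : s - i = (s - (i + 1)) + 1 := by omega
        rw [h1]
        exact mcpcomm_step _
      · have h1 : s - i = 0 := by omega
        rw [h1]
        show ⁅(Subgroup.upperCentralSeries G 0), (⊤ : Subgroup G)⁆ ≤ _
        rw [Subgroup.upperCentralSeries_zero, Subgroup.commutator_bot_left]
        exact bot_le) (n - t - 1) 0
  rw [mcpcomm_Z_eq_lcs h hn t ht]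
  have h2 : s - (0 + (n - t - 1) + 1) = s + t - n := by omega
  simp only [Nat.sub_zero] at hmain
  rw [h2] at hmain
  exact hmain

end mc

end Cfsg.Agent.Lib.helper4.MCP
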