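import Mathlib
import Cfsg.Agent.Lib.Helper18.PRL.Defs
import Cfsg.Agent.Lib.helper23.PRLCH1
import Cfsg.Agent.Lib.helper23.PRLCH3
import Cfsg.Agent.Lib.helper23.PRLCH4
import Cfsg.Agent.Lib.Helper12.PRLG1a
import Cfsg.Agent.Lib.Helper11.PRLUNI

/-!
# MCP piece CENT: an element with centralizer of order at most `p ^ 2` in a `p`-group of
maximal class is uniform.
-/

set_option autoImplicit false

namespace Cfsg.Agent.Lib.helper4.MCP

open Cfsg.Agent.Lib.Helper18.PRL
open scoped commutatorElement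

universe u

/-- Counting: `|{x | ⁅x, s⁆ ∈ W}| ≤ |W| |C(s)|`. -/
theorem mcpcent_count {K : Type*} [Group K] [Finite K] (W : Subgroup K) [W.Normal] (s : K) :
    Nat.card (h11prl_K (⊤ : Subgroup K) W s) ≤
      Nat.card W * Nat.card (Subgroup.centralizer ({s} : Set K)) := by
  classical
  set C : Subgroup K := h11prl_K (⊤ : Subgroup K) W s with hC
  have hmemC : ∀ x : K, x ∈ C ↔ ⁅x, s⁆ ∈ W := by
    intro x
    constructor
    · intro hx; exact hx.2
    · intro hx; exact ⟨Subgroup.mem_top x, hx⟩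
  have hmemCs : ∀ x : K, x ∈ Subgroup.centralizer ({s} : Set K) ↔ s * x = x * s := by
    intro x
    rw [Subgroup.mem_centralizer_iff]
    constructor
    · intro h; exact h s rfl
    · rintro h y rfl; exact h
  -- representative of a fibre
  let rep : K → K := fun w => if h : ∃ x : K, ⁅x, s⁆ = w then h.choose else 1
  have hrep : ∀ x : K, ⁅rep ⁅x, s⁆, s⁆ = ⁅x, s⁆ := by
    intro x
    have h : ∃ y : K, ⁅y, s⁆ = ⁅x, s⁆ := ⟨x, rfl⟩
    show ⁅(if h : ∃ y : K, ⁅y, s⁆ = ⁅x, s⁆ then h.choose else 1), s⁆ = ⁅x, s⁆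
    rw [dif_pos h]
    exact h.choose_spec
  have hquot : ∀ x : K, (rep ⁅x, s⁆)⁻¹ * x ∈ Subgroup.centralizer ({s} : Set K) := by
    intro x
    rw [hmemCs]
    have h := hrep x
    rw [commutatorElement_def, commutatorElement_def] at h
    have h' : rep ⁅x, s⁆ * s * (rep ⁅x, s⁆)⁻¹ = x * s * x⁻¹ := mul_right_cancel h
    calc s * ((rep ⁅x, s⁆)⁻¹ * x)
        = (rep ⁅x, s⁆)⁻¹ * (rep ⁅x, s⁆ * s * (rep ⁅x, s⁆)⁻¹) * x := by group
      _ = (rep ⁅x, s⁆)⁻¹ * (x * s * x⁻¹) * x := by rw [h']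
      _ = (rep ⁅x, s⁆)⁻¹ * x * s := by group
  let f : C → W × Subgroup.centralizer ({s} : Set K) := fun x =>
    (⟨⁅(x : K), s⁆, (hmemC x).1 x.2⟩, ⟨(rep ⁅(x : K), s⁆)⁻¹ * (x : K), hquot x⟩)
  have hf : Function.Injective f := by
    intro x y hxy
    have h1 : ⁅(x : K), s⁆ = ⁅(y : K), s⁆ := congrArg (fun z => ((z.1 : W) : K)) hxy
    have h2 : (rep ⁅(x : K), s⁆)⁻¹ * (x : K) = (rep ⁅(y : K), s⁆)⁻¹ * (y : K) :=
      congrArg (fun z => ((z.2 : Subgroup.centralizer ({s} : Set K)) : K)) hxy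
    rw [h1] at h2
    exact Subtype.ext (mul_left_cancel h2)
  have := Nat.card_le_card_of_injective f hf
  rwa [Nat.card_prod] at this

section mc
variable {p : ℕ} [Fact p.Prime] {G : Type u} [Group G] [Finite G] {n : ℕ}

/-- An element with small centralizer does not lie in `G' = Z_{n-2}`. -/
theorem mcpcent_notMem (h : MC p G n) (hn : 4 ≤ n) (s : G)
    (hs : Nat.card (Subgroup.centralizer ({s} : Set G)) ≤ p ^ 2) : s ∉ Z G (n - 2) := by
  have hp : p.Prime := Fact.out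
  intro hsZ
  rw [← commutator_eq_Z h (by omega)] at hsZ
  have hsG1 : s ∈ G1 G := commutator_le_G1 G hsZ
  have hmemCs : ∀ x : G, x ∈ Subgroup.centralizer ({s} : Set G) ↔ s * x = x * s := by
    intro x
    rw [Subgroup.mem_centralizer_iff]
    constructor
    · intro h; exact h s rfl
    · rintro h y rfl; exact h
  have hZ2 : Z G 2 ≤ Subgroup.centralizer ({s} : Set G) := by
    intro z hz
    rw [hmemCs]
    rw [G1, Subgroup.mem_centralizer_iff] at hsG1
    exact (hsG1 z hz).symm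
  have c2 := card_Z h (by omega) 2 (by omega)
  have heq : Z G 2 = Subgroup.centralizer ({s} : Set G) :=
    Subgroup.eq_of_le_of_card_ge hZ2 (by rw [c2]; exact hs)
  have hsZ2 : s ∈ Z G 2 := by
    rw [heq, hmemCs]
  have hG1le : G1 G ≤ Subgroup.centralizer ({s} : Set G) := by
    intro x hx
    rw [hmemCs]
    rw [G1, Subgroup.mem_centralizer_iff] at hx
    exact hx s hsZ2
  have hidx := G1_index h hn
  have hcardG1 : Nat.card (G1 G) * p = p ^ n := by
    have := Subgroup.card_mul_index (G1 G)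
    rw [hidx, h.1] at this
    exact this
  have hle := Subgroup.card_le_of_le hG1le
  have h3 : p ^ n ≤ p ^ 2 * p := by
    rw [← hcardG1]
    exact Nat.mul_le_mul_right p (hle.trans hs)
  have h4 : p ^ 2 * p = p ^ 3 := by ring
  rw [h4] at h3
  exact absurd h3 (not_le.mpr (Nat.pow_lt_pow_right hp.one_lt (by omega)))

/-- MCP-CENT -/
theorem unif_of_card_centralizer (h : MC p G n) (hn : 4 ≤ n) (s : G)
    (hs : Nat.card (Subgroup.centralizer ({s} : Set G)) ≤ p ^ 2) : Unif G n s := by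
  have hp : p.Prime := Fact.out
  intro j hj2 hjn g hg hg' hcomm
  have c1 := card_Z h (by omega) j hjn
  have c2 := card_Z h (by omega) (j - 1) (by omega)
  have c3 := card_Z h (by omega) (j - 2) (by omega)
  have hj1 : j - 1 = (j - 2) + 1 := by omega
  -- some element of `Z_j` has commutator with `s` outside `Z_{j-2}`
  have hex : ∃ z0 ∈ Z G j, ⁅z0, s⁆ ∉ Z G (j - 2) := by
    by_contra hne0
    have hne : ∀ z0 ∈ Z G j, ⁅z0, s⁆ ∈ Z G (j - 2) := by
      intro z0 hz0
      by_contra hc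
      exact hne0 ⟨z0, hz0, hc⟩
    have hle : Z G j ≤ h11prl_K (⊤ : Subgroup G) (Z G (j - 2)) s :=
      fun z hz => ⟨Subgroup.mem_top z, hne z hz⟩
    have hsC : s ∈ h11prl_K (⊤ : Subgroup G) (Z G (j - 2)) s := by
      refine ⟨Subgroup.mem_top s, ?_⟩
      rw [commutatorElement_self]
      exact Subgroup.one_mem _
    have hcnt := mcpcent_count (Z G (j - 2)) s
    have hcard : Nat.card (h11prl_K (⊤ : Subgroup G) (Z G (j - 2)) s) ≤ Nat.card (Z G j) := by
      rw [c1]
      calc Nat.card (h11prl_K (⊤ : Subgroup G) (Z G (j - 2)) s)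
          ≤ Nat.card (Z G (j - 2)) * Nat.card (Subgroup.centralizer ({s} : Set G)) := hcnt
        _ ≤ p ^ (j - 2) * p ^ 2 := by
            rw [c3]; exact Nat.mul_le_mul_left _ hs
        _ = p ^ j := by rw [← pow_add]; congr 1; omega
    have heq : Z G j = h11prl_K (⊤ : Subgroup G) (Z G (j - 2)) s :=
      Subgroup.eq_of_le_of_card_ge hle hcard
    have hsZj : s ∈ Z G j := by rw [heq]; exact hsC
    exact mcpcent_notMem h hn s hs
      (Subgroup.upperCentralSeries_mono G hjn hsZj)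
  obtain ⟨z0, hz0, hz0'⟩ := hex
  have hK1 : Z G (j - 1) ≤ h11prl_K (Z G j) (Z G (j - 2)) s := by
    intro a ha
    refine ⟨Subgroup.upperCentralSeries_mono G (by omega : j - 1 ≤ j) ha, ?_⟩
    rw [hj1] at ha
    exact (Subgroup.mem_upperCentralSeries_succ_iff.1 ha) s
  have hK2 : h11prl_K (Z G j) (Z G (j - 2)) s ≤ Z G j := fun a ha => ha.1
  have hgK : g ∈ h11prl_K (Z G j) (Z G (j - 2)) s := ⟨hg, hcomm⟩
  have hz0K : z0 ∉ h11prl_K (Z G j) (Z G (j - 2)) s := fun hh => hz0' hh.2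
  have d1 : Nat.card (h11prl_K (Z G j) (Z G (j - 2)) s) ∣ p ^ j := by
    rw [← c1]; exact Subgroup.card_dvd_of_le hK2
  have d2 : p ^ (j - 1) ∣ Nat.card (h11prl_K (Z G j) (Z G (j - 2)) s) := by
    rw [← c2]; exact Subgroup.card_dvd_of_le hK1
  obtain ⟨a, ha, hKa⟩ := (Nat.dvd_prime_pow hp).1 d1
  rw [hKa] at d2
  have ha' : j - 1 ≤ a := (Nat.pow_dvd_pow_iff_le_right hp.one_lt).1 d2
  rcases (by omega : a = j ∨ a = j - 1) with rfl | rfl
  · have : h11prl_K (Z G a) (Z G (a - 2)) s = Z G a :=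
      Subgroup.eq_of_le_of_card_ge hK2 (by rw [c1, hKa])
    exact hz0K (by rw [this]; exact hz0)
  · have : Z G (j - 1) = h11prl_K (Z G j) (Z G (j - 2)) s :=
      Subgroup.eq_of_le_of_card_ge hK1 (by rw [c2, hKa])
    exact hg' (by rw [this]; exact hgK)

end mc

end Cfsg.Agent.Lib.helper4.MCP
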