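import Mathlib

set_option autoImplicit false

namespace Cfsg.Agent.Lib.Helper19.LWP5

open MulAction

universe u

/-- The statement of Theorem C (piece P4) at a fixed universe. -/
def ThmCProp : Prop :=
  ∀ (K β : Type u) [Group K] [Finite K] [MulAction K β] [Fintype β] [DecidableEq β]
    (h : ℕ) (_hodd : Odd h) (_h3 : 3 ≤ h) (_hβ : 5 ≤ Fintype.card β)
    (_hT : IsMultiplyPretransitive K β 4)
    (_h5 : ∀ v : Fin 5 ↪ β, stabilizer K v = ⊥)
    (_h4 : ∀ v : Fin 4 ↪ β, Nat.card (stabilizer K v) = h),
    Fintype.card β = 4 + h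

variable {α : Type u} [Fintype α] [DecidableEq α]

/-- the finset `s ∪ range v` for an embedding into the complement -/
noncomputable def extSet (G : Subgroup (Equiv.Perm α)) (s : Finset α) {m : ℕ}
    (v : Fin m ↪ SubMulAction.ofFixingSubgroup G (s : Set α)) : Finset α :=
  s ∪ Finset.univ.map (v.trans (Function.Embedding.subtype _))

omit [Fintype α] in
lemma extSet_card (G : Subgroup (Equiv.Perm α)) (s : Finset α) {m : ℕ}
    (v : Fin m ↪ SubMulAction.ofFixingSubgroup G (s : Set α)) :
    (extSet G s v).card = s.card + m := by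
  unfold extSet
  rw [Finset.card_union_of_disjoint]
  · simp
  · rw [Finset.disjoint_left]
    intro x hx hx'
    simp only [Finset.mem_map, Finset.mem_univ, true_and] at hx'
    obtain ⟨i, rfl⟩ := hx'
    exact (v i).2 (by simpa using hx)

omit [Fintype α] in
lemma mem_fixing_extSet_iff (G : Subgroup (Equiv.Perm α)) (s : Finset α) {m : ℕ}
    (v : Fin m ↪ SubMulAction.ofFixingSubgroup G (s : Set α)) (g : G) :
    g ∈ fixingSubgroup G ((extSet G s v : Finset α) : Set α) ↔
      ∃ hg : g ∈ fixingSubgroup G (s : Set α),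
        (⟨g, hg⟩ : fixingSubgroup G (s : Set α)) ∈ stabilizer (fixingSubgroup G (s : Set α)) v := by
  constructor
  · intro h
    rw [mem_fixingSubgroup_iff] at h
    have hg : g ∈ fixingSubgroup G (s : Set α) := by
      rw [mem_fixingSubgroup_iff]
      intro y hy
      apply h
      unfold extSet
      simp only [Finset.coe_union, Set.mem_union]
      exact Or.inl hy
    refine ⟨hg, ?_⟩
    rw [mem_stabilizer_iff]
    ext i
    have := h ((v i : α)) (by
      unfold extSet
      simp only [Finset.coe_union, Set.mem_union, Finset.coe_map, Finset.coe_univ, Set.image_univ,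
        Set.mem_range]
      exact Or.inr ⟨i, rfl⟩)
    exact this
  · rintro ⟨hg, hst⟩
    rw [mem_fixingSubgroup_iff]
    intro y hy
    unfold extSet at hy
    simp only [Finset.coe_union, Set.mem_union, Finset.coe_map, Finset.coe_univ, Set.image_univ,
      Set.mem_range] at hy
    rcases hy with hy | ⟨i, rfl⟩
    · exact (mem_fixingSubgroup_iff _).mp hg y hy
    · rw [mem_stabilizer_iff] at hst
      have := congrArg (fun w => ((w i : SubMulAction.ofFixingSubgroup G (s : Set α)) : α)) hst
      exact this

omit [Fintype α] in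
lemma card_stab_eq (G : Subgroup (Equiv.Perm α)) (s : Finset α) {m : ℕ}
    (v : Fin m ↪ SubMulAction.ofFixingSubgroup G (s : Set α)) :
    Nat.card (stabilizer (fixingSubgroup G (s : Set α)) v) =
      Nat.card (fixingSubgroup G ((extSet G s v : Finset α) : Set α)) := by
  apply Nat.card_congr
  refine
    { toFun := fun k => ⟨(k : fixingSubgroup G (s : Set α)).1,
        (mem_fixing_extSet_iff G s v _).mpr ⟨k.1.2, k.2⟩⟩
      invFun := fun g => ⟨⟨g.1, ((mem_fixing_extSet_iff G s v _).mp g.2).1⟩,
        ((mem_fixing_extSet_iff G s v _).mp g.2).2⟩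
      left_inv := fun k => rfl
      right_inv := fun g => rfl }

omit [DecidableEq α] in
theorem no_odd_ge_three_of (hC : ThmCProp.{u}) (G : Subgroup (Equiv.Perm α)) (t h c : ℕ) (ht : 4 ≤ t)
    (hodd : Odd h) (h3 : 3 ≤ h) (hc : 1 ≤ c) (hn : Fintype.card α = t + h * c)
    (hT : IsMultiplyPretransitive G α t)
    (hfix : ∀ s : Finset α, s.card = t + 1 → fixingSubgroup G (s : Set α) = ⊥)
    (hH : ∀ s : Finset α, s.card = t → Nat.card (fixingSubgroup G (s : Set α)) = h) : c = 1 := by
  classical
  obtain ⟨s, -, hs⟩ := Finset.exists_subset_card_eq (s := (Finset.univ : Finset α)) (n := t - 4)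
    (by rw [Finset.card_univ, hn]; omega)
  set K := fixingSubgroup G (s : Set α) with hK
  set β := SubMulAction.ofFixingSubgroup G (s : Set α) with hβdef
  let _ : Fintype β := Fintype.ofFinite β
  have hT4 : IsMultiplyPretransitive K β 4 := by
    have : Finite (s : Set α) := Set.toFinite _
    exact SubMulAction.ofFixingSubgroup.isMultiplyPretransitive (n := t) G (s : Set α)
      (by rw [Set.ncard_coe_finset, hs]; omega)
  have hcardβ : Fintype.card β = 4 + h * c := by
    have h1 : Fintype.card β = Nat.card ((s : Set α)ᶜ : Set α) := by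
      rw [← Nat.card_eq_fintype_card]
      rfl
    rw [h1, Nat.card_coe_set_eq, Set.ncard_compl, Set.ncard_coe_finset, hs, Nat.card_eq_fintype_card, hn]
    omega
  have h5 : ∀ v : Fin 5 ↪ β, stabilizer K v = ⊥ := by
    intro v
    rw [eq_bot_iff]
    intro k hk
    have hmem : (k : G) ∈ fixingSubgroup G ((extSet G s v : Finset α) : Set α) :=
      (mem_fixing_extSet_iff G s v _).mpr ⟨k.2, hk⟩
    rw [hfix _ (by rw [extSet_card, hs]; omega), Subgroup.mem_bot] at hmem
    rw [Subgroup.mem_bot]
    exact Subtype.ext hmem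
  have h4 : ∀ v : Fin 4 ↪ β, Nat.card (stabilizer K v) = h := by
    intro v
    rw [card_stab_eq G s v]
    exact hH _ (by rw [extSet_card, hs]; omega)
  have hfin : Finite K := inferInstance
  have := hC K β h hodd h3 (by rw [hcardβ]; nlinarith) hT4 h5 h4
  rw [hcardβ] at this
  have h' : h * c = h * 1 := by omega
  exact Nat.eq_of_mul_eq_mul_left (by omega) h'

end Cfsg.Agent.Lib.Helper19.LWP5
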