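import Mathlib
import Cfsg.Agent.Lib.Helper19.LWP5a
import Cfsg.Agent.Lib.Helper22.LW.ThmC

set_option autoImplicit false

open MulAction

namespace Cfsg.Agent.Lib.Helper19.LWP5

universe u

variable {α : Type u} [Fintype α] [DecidableEq α]

/-- LW piece P5 (statement verbatim from `Lib/Helper22/LW/PLAN.md`): reduction of `t ≥ 4`, `h ≥ 3` odd to
Theorem C. -/
theorem no_odd_ge_three (G : Subgroup (Equiv.Perm α)) (t h c : ℕ) (ht : 4 ≤ t) (hodd : Odd h)
    (h3 : 3 ≤ h) (hc : 1 ≤ c) (hn : Fintype.card α = t + h * c)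
    (hT : IsMultiplyPretransitive G α t)
    (hfix : ∀ s : Finset α, s.card = t + 1 → fixingSubgroup G (s : Set α) = ⊥)
    (hH : ∀ s : Finset α, s.card = t → Nat.card (fixingSubgroup G (s : Set α)) = h) : c = 1 :=
  no_odd_ge_three_of
    (fun K β _ _ _ _ _ h' a b d e f g => Cfsg.Agent.Lib.Helper22.LW.thmC h' a b d e f g)
    G t h c ht hodd h3 hc hn hT hfix hH

end Cfsg.Agent.Lib.Helper19.LWP5
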