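import Mathlib
import Cfsg.Agent.S0415
import Cfsg.Agent.S0416
import Cfsg.Agent.S0417

set_option autoImplicit false

namespace Cfsg.Agent.Lib.Helper19.LWP6

open MulAction

variable {α : Type*} [Fintype α] [DecidableEq α]

omit [Fintype α] [DecidableEq α] in
lemma stab_emb_eq_bot (G : Subgroup (Equiv.Perm α)) (t : ℕ)
    (hH : ∀ s : Finset α, s.card = t → fixingSubgroup G (s : Set α) = ⊥) (x : Fin t ↪ α) :
    stabilizer G x = ⊥ := by
  rw [eq_bot_iff]
  intro g hg
  rw [mem_stabilizer_iff] at hg
  have hs : (Finset.univ.map x).card = t := by simp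
  have hmem : g ∈ fixingSubgroup G ((Finset.univ.map x : Finset α) : Set α) := by
    rw [mem_fixingSubgroup_iff]
    intro y hy
    simp only [Finset.coe_map, Finset.coe_univ, Set.image_univ, Set.mem_range] at hy
    obtain ⟨i, rfl⟩ := hy
    have := DFunLike.congr_fun hg i
    exact this
  rw [hH _ hs] at hmem
  exact hmem

theorem sharp_case (G : Subgroup (Equiv.Perm α)) (t c : ℕ) (ht : 4 ≤ t) (hc : 3 ≤ c)
    (hn : Fintype.card α = t + c) (hT : IsMultiplyPretransitive G α t)
    (hH : ∀ s : Finset α, s.card = t → fixingSubgroup G (s : Set α) = ⊥) : c = 7 ∧ t ≤ 5 := by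
  have hst := stab_emb_eq_bot G t hH
  rcases Nat.lt_or_ge t 6 with h6 | h6
  · interval_cases t
    · have := Cfsg.Agent.S0415.result G (by omega) hst
      omega
    · have := Cfsg.Agent.S0416.result G (by omega) hst
      omega
  · have := Cfsg.Agent.S0417.result G t h6 (by omega) hst
    omega

end Cfsg.Agent.Lib.Helper19.LWP6
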