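import Mathlib
import Cfsg.Agent.Lib.Helper10.LW7.Defs
import Cfsg.Agent.S0743

set_option autoImplicit false

namespace Cfsg.Agent.Lib.Helper19.LW7Gl

open MulAction Equiv
open Cfsg.Agent.Lib.Helper10.LW7

variable {α : Type*} [Fintype α] [DecidableEq α]

omit [Fintype α] [DecidableEq α] in
/-- if `g` induces `n` on `Ψ` then `g ^ j` induces `n ^ j` -/
theorem induces_pow {Ψ : Finset α} (g : Perm α) (n : Perm ↥Ψ)
    (h : ∀ x : ↥Ψ, g (x : α) = ((n x : ↥Ψ) : α)) (j : ℕ) :
    ∀ x : ↥Ψ, (g ^ j) (x : α) = (((n ^ j) x : ↥Ψ) : α) := by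
  induction j with
  | zero => intro x; simp
  | succ j ih =>
    intro x
    rw [pow_succ, pow_succ, Perm.mul_apply, Perm.mul_apply, h x, ih (n x)]

omit [Fintype α] [DecidableEq α] in
theorem isPGroup_induced {p : ℕ} (S : Subgroup (Perm α)) (Ψ : Finset α) (hSp : IsPGroup p S) :
    IsPGroup p (induced S Ψ) := by
  rintro ⟨n, hn⟩
  obtain ⟨g, hgS, hgn⟩ := mem_induced.1 hn
  obtain ⟨m, hm⟩ := hSp ⟨g, hgS⟩
  have hm' : g ^ p ^ m = 1 := by
    have := congrArg Subtype.val hm
    simpa using this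
  refine ⟨m, ?_⟩
  apply Subtype.ext
  show n ^ p ^ m = 1
  ext x
  have := induces_pow g n hgn (p ^ m) x
  rw [hm'] at this
  simp only [Perm.coe_one, id_eq] at this
  rw [← this]
  simp

/-- an element normalising `Q` (together with its inverse) preserves the fixed points of `Q` -/
theorem maps_fixF (Q : Subgroup (Perm α)) (g : Perm α)
    (hg : ∀ q ∈ Q, g⁻¹ * q * g ∈ Q) (x : α) (hx : x ∈ fixF Q) : g x ∈ fixF Q := by
  rw [mem_fixF] at hx ⊢
  intro q hq
  have h1 := hx _ (hg q hq)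
  rw [Perm.mul_apply, Perm.mul_apply] at h1
  rw [Perm.inv_eq_iff_eq] at h1
  exact h1

theorem gleason_apply (G : Subgroup (Perm α)) {k : ℕ} (hk : 1 ≤ k) (p : ℕ) (hp : p.Prime)
    (Q : Subgroup (Perm α)) (hfix : k + 1 ≤ (fixF Q).card)
    (hS : ∀ s : Finset α, s.card = k → s ⊆ fixF Q → ∃ S : Subgroup (Perm α), S ≤ G ∧ IsPGroup p S ∧
      (∀ g ∈ S, ∀ q ∈ Q, g * q * g⁻¹ ∈ Q) ∧ fixF S = s) :
    IsMultiplyPretransitive (induced G (fixF Q)) ↥(fixF Q) k := by
  have hkn : k < Fintype.card ↥(fixF Q) := by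
    rw [Fintype.card_coe]; omega
  refine Cfsg.Agent.S0743.result (induced G (fixF Q)) hp hk hkn ?_
  intro s' hs'
  let s : Finset α := s'.map (Function.Embedding.subtype _)
  have hscard : s.card = k := by rw [Finset.card_map, hs']
  have hsPsi : s ⊆ (fixF Q) := by
    intro a ha
    rw [Finset.mem_map] at ha
    obtain ⟨b, _, rfl⟩ := ha
    exact b.2
  obtain ⟨S, hSG, hSp, hSn, hSfix⟩ := hS s hscard hsPsi
  -- every element of S preserves (fixF Q)
  have hpres : ∀ g ∈ S, ∀ x, g x ∈ (fixF Q) ↔ x ∈ (fixF Q) := by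
    intro g hg x
    constructor
    · intro h
      have := maps_fixF Q g⁻¹ (fun q hq => by simpa using hSn g hg q hq) (g x) h
      simpa using this
    · intro h
      exact maps_fixF Q g (fun q hq => by simpa using hSn g⁻¹ (S.inv_mem hg) q hq) x h
  refine ⟨(induced S (fixF Q)).subgroupOf (induced G (fixF Q)), (isPGroup_induced S (fixF Q) hSp).comap_subtype, ?_⟩
  ext x
  rw [mem_fixedPoints]
  constructor
  · intro hx
    -- x is fixed by all of S
    have hxS : (x : α) ∈ fixF S := by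
      rw [mem_fixF]
      intro g hg
      let n : Perm ↥(fixF Q) := Perm.subtypePerm g (hpres g hg)
      have hnS : n ∈ induced S (fixF Q) := mem_induced.2 ⟨g, hg, fun y => rfl⟩
      have hnG : n ∈ induced G (fixF Q) := mem_induced.2 ⟨g, hSG hg, fun y => rfl⟩
      have := hx ⟨⟨n, hnG⟩, by rw [Subgroup.mem_subgroupOf]; exact hnS⟩
      have h2 : n x = x := this
      have h3 := congrArg Subtype.val h2
      exact h3
    rw [hSfix, Finset.mem_map] at hxS
    obtain ⟨b, hb, hbx⟩ := hxS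
    have : b = x := Subtype.ext hbx
    rw [← this]
    exact hb
  · intro hx n
    have hxs : (x : α) ∈ s := Finset.mem_map.2 ⟨x, hx, rfl⟩
    rw [← hSfix, mem_fixF] at hxs
    obtain ⟨n, hn⟩ := n
    rw [Subgroup.mem_subgroupOf] at hn
    obtain ⟨g, hgS, hgn⟩ := mem_induced.1 hn
    show (n : Perm ↥(fixF Q)) x = x
    apply Subtype.ext
    rw [← hgn x]
    exact hxs g hgS

end Cfsg.Agent.Lib.Helper19.LW7Gl
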