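import Mathlib
import Cfsg.Agent.Lib.Helper10.LW7.Defs

set_option autoImplicit false

namespace Cfsg.Agent.Lib.Helper19.LW7S

open MulAction Equiv
open Cfsg.Agent.Lib.Helper10.LW7

variable {α : Type*} [Fintype α] [DecidableEq α]

omit [Fintype α] [DecidableEq α] in
theorem smul_emb_apply (G : Subgroup (Perm α)) (k : ℕ) (x : Fin k ↪ α) (g : ↥G) (i : Fin k) :
    (g • x) i = (g : Perm α) (x i) := rfl

theorem exists_S (G : Subgroup (Perm α)) {k : ℕ}
    (hS : ∀ (x : Fin k ↪ α) (p : ℕ) [Fact p.Prime] (P : Sylow p (stabilizer G x)),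
      (P : Subgroup (stabilizer G x)) ≠ ⊥ →
      (fixF (((P : Subgroup (stabilizer G x)).map (stabilizer G x).subtype).map G.subtype)).card ≤ k)
    (p : ℕ) (hp : p.Prime) (Q : Subgroup (Perm α)) (hQG : Q ≤ G) (hQp : IsPGroup p Q) (hQ1 : Q ≠ ⊥)
    (hfix : k + 1 ≤ (fixF Q).card)
    (hmax : ∀ Q' : Subgroup (Perm α), Q' ≤ G → IsPGroup p Q' → k + 1 ≤ (fixF Q').card →
        Nat.card Q' ≤ Nat.card Q)
    (s : Finset α) (hs : s.card = k) (hsQ : s ⊆ fixF Q) :
    ∃ S : Subgroup (Perm α), S ≤ G ∧ IsPGroup p S ∧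
      (∀ g ∈ S, ∀ q ∈ Q, g * q * g⁻¹ ∈ Q) ∧ fixF S = s := by
  have : Fact p.Prime := ⟨hp⟩
  -- enumerate s
  let e : Fin k ≃ ↥s := (Finset.equivFinOfCardEq hs).symm
  let x : Fin k ↪ α := e.toEmbedding.trans (Function.Embedding.subtype _)
  have hx_mem : ∀ i, x i ∈ s := fun i => (e i).2
  have hx_surj : ∀ a ∈ s, ∃ i, x i = a := by
    intro a ha
    refine ⟨e.symm ⟨a, ha⟩, ?_⟩
    simp [x]
  -- membership in the stabilizer
  have hstab : ∀ g : ↥G, g ∈ stabilizer G x ↔ ∀ i, (g : Perm α) (x i) = x i := by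
    intro g
    rw [mem_stabilizer_iff]
    constructor
    · intro h i
      exact DFunLike.congr_fun h i
    · intro h
      ext i
      exact h i
  set H : Subgroup ↥G := stabilizer G x with hH
  -- Q inside H
  have hQH : ∀ q (hq : q ∈ Q), (⟨q, hQG hq⟩ : ↥G) ∈ H := by
    intro q hq
    rw [hH, hstab]
    intro i
    exact mem_fixF.1 (hsQ (hx_mem i)) q hq
  let Q₁ : Subgroup ↥H := (Q.subgroupOf G).subgroupOf H
  have hQ₁p : IsPGroup p Q₁ := by
    have h1 : IsPGroup p (Q.subgroupOf G) := hQp.comap_subtype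
    exact h1.comap_subtype
  obtain ⟨P, hP⟩ := hQ₁p.exists_le_sylow
  set P' : Subgroup (Perm α) := ((P : Subgroup ↥H).map H.subtype).map G.subtype with hP'
  have hQP' : Q ≤ P' := by
    intro q hq
    rw [hP', Subgroup.mem_map]
    refine ⟨⟨q, hQG hq⟩, ?_, rfl⟩
    rw [Subgroup.mem_map]
    refine ⟨⟨⟨q, hQG hq⟩, hQH q hq⟩, ?_, rfl⟩
    apply hP
    show _ ∈ (Q.subgroupOf G).subgroupOf H
    rw [Subgroup.mem_subgroupOf, Subgroup.mem_subgroupOf]
    exact hq
  have hP'G : P' ≤ G := by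
    rw [hP']
    intro g hg
    rw [Subgroup.mem_map] at hg
    obtain ⟨g', _, rfl⟩ := hg
    exact g'.2
  have hP'p : IsPGroup p P' := by
    rw [hP']
    exact (P.2.map _).map _
  have hP'fix : ∀ g ∈ P', ∀ a ∈ s, g a = a := by
    intro g hg a ha
    rw [hP', Subgroup.mem_map] at hg
    obtain ⟨g', hg', rfl⟩ := hg
    rw [Subgroup.mem_map] at hg'
    obtain ⟨g'', _, rfl⟩ := hg'
    obtain ⟨i, rfl⟩ := hx_surj a ha
    exact (hstab _).1 g''.2 i
  have hPne : (P : Subgroup ↥H) ≠ ⊥ := by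
    intro hbot
    apply hQ1
    rw [eq_bot_iff]
    intro q hq
    have := hQP' hq
    rw [hP', hbot, Subgroup.map_bot, Subgroup.map_bot] at this
    exact this
  have hcardP' : (fixF P').card ≤ k := hS x p P hPne
  have hQneP' : Q ≠ P' := by
    intro h
    rw [h] at hfix
    omega
  have hQltP' : Q < P' := lt_of_le_of_ne hQP' hQneP'
  -- normalizer condition
  have hnil : Group.IsNilpotent ↥P' := hP'p.isNilpotent
  have hNC := Group.normalizerCondition_of_isNilpotent (G := ↥P')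
  have hlt : Q.subgroupOf P' < ⊤ := by
    rw [lt_top_iff_ne_top]
    intro h
    rw [Subgroup.subgroupOf_eq_top] at h
    exact hQneP' (le_antisymm hQP' h)
  have hlt2 := hNC _ hlt
  obtain ⟨g, hgN, hgQ⟩ := SetLike.exists_of_lt hlt2
  let S : Subgroup (Perm α) := P' ⊓ Subgroup.normalizer (Q : Set (Perm α))
  have hgS : (g : Perm α) ∈ S := by
    refine ⟨g.2, ?_⟩
    show (g : Perm α) ∈ Subgroup.normalizer (Q : Set (Perm α))
    rw [Subgroup.mem_normalizer_iff] at hgN ⊢
    intro h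
    constructor
    · intro hh
      have hhP' : h ∈ P' := hQP' hh
      have := (hgN ⟨h, hhP'⟩).1 (by rw [Subgroup.mem_subgroupOf]; exact hh)
      rw [Subgroup.mem_subgroupOf] at this
      exact this
    · intro hh
      have hhP' : h ∈ P' := by
        have h1 : g.1 * h * g.1⁻¹ ∈ P' := hQP' hh
        have h2 : h = g.1⁻¹ * (g.1 * h * g.1⁻¹) * g.1 := by group
        rw [h2]
        exact P'.mul_mem (P'.mul_mem (P'.inv_mem g.2) h1) g.2
      have := (hgN ⟨h, hhP'⟩).2 (by rw [Subgroup.mem_subgroupOf]; exact hh)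
      rw [Subgroup.mem_subgroupOf] at this
      exact this
  have hgQ' : (g : Perm α) ∉ Q := by
    intro h
    apply hgQ
    rw [Subgroup.mem_subgroupOf]
    exact h
  have hQS : Q ≤ S := le_inf hQP' Subgroup.le_normalizer
  have hQltS : Q < S := lt_of_le_of_ne hQS (fun h => hgQ' (h ▸ hgS))
  have hSG : S ≤ G := inf_le_left.trans hP'G
  have hSp : IsPGroup p S := hP'p.to_le inf_le_left
  have hcardlt : Nat.card Q < Nat.card S := by
    have : (Q : Set (Perm α)) ⊂ S := hQltS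
    have := Set.ncard_lt_ncard this (Set.toFinite _)
    rw [← Nat.card_coe_set_eq, ← Nat.card_coe_set_eq] at this
    exact this
  have hSfixle : (fixF S).card ≤ k := by
    by_contra hcon
    have := hmax S hSG hSp (by omega)
    omega
  refine ⟨S, hSG, hSp, ?_, ?_⟩
  · intro g hg q hq
    exact ((Subgroup.mem_normalizer_iff.1 hg.2) q).1 hq
  · symm
    apply Finset.eq_of_subset_of_card_le
    · intro a ha
      rw [mem_fixF]
      intro g hg
      exact hP'fix g hg.1 a ha
    · rw [hs]; exact hSfixle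

end Cfsg.Agent.Lib.Helper19.LW7S
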