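import Mathlib
import Cfsg.Agent.Lib.Helper10.LW7.Defs

set_option autoImplicit false

namespace Cfsg.Agent.Lib.Helper19.LW8H3

open MulAction Equiv
open scoped Pointwise
open Cfsg.Agent.Lib.Helper10.LW7

variable {α : Type*} [Fintype α] [DecidableEq α]

theorem stab_homog (G : Subgroup (Perm α)) (j : ℕ)
    (hh : IsPretransitive G (Set.powersetCard α (j + 1)))
    (htr : ∀ Δ : Finset α, Δ.card = j + 1 → ∀ x y : ↥Δ, ∃ n ∈ induced G Δ, n x = y) (a : α) :
    IsPretransitive (induced G (Finset.univ.erase a))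
      (Set.powersetCard ↥(Finset.univ.erase a) j) := by
  refine ⟨fun Γ Γ' => ?_⟩
  -- the two (j+1)-sets
  have hval_ne : ∀ w : ↥(Finset.univ.erase a), (w : α) ≠ a := fun w => (Finset.mem_erase.1 w.2).1
  let E : ↥(Finset.univ.erase a) ↪ α := Function.Embedding.subtype _
  have haΓ : ∀ Γ : Finset ↥(Finset.univ.erase a), a ∉ Γ.map E := by
    intro Γ h
    rw [Finset.mem_map] at h
    obtain ⟨w, _, hw⟩ := h
    exact hval_ne w hw
  let Δ : Finset α := insert a ((Γ : Finset ↥(Finset.univ.erase a)).map E)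
  let Δ' : Finset α := insert a ((Γ' : Finset ↥(Finset.univ.erase a)).map E)
  have hΔ : Δ.card = j + 1 := by
    rw [Finset.card_insert_of_notMem (haΓ _), Finset.card_map]
    exact congrArg (· + 1) Γ.2
  have hΔ' : Δ'.card = j + 1 := by
    rw [Finset.card_insert_of_notMem (haΓ _), Finset.card_map]
    exact congrArg (· + 1) Γ'.2
  obtain ⟨g, hg⟩ := hh.exists_smul_eq (⟨Δ, hΔ⟩ : Set.powersetCard α (j + 1)) ⟨Δ', hΔ'⟩
  have hgΔ : ∀ w ∈ Δ, (g : Perm α) w ∈ Δ' := by
    intro w hw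
    have h1 := congrArg Subtype.val hg
    have h3 := Set.powersetCard.coe_smul (g := g) (s := (⟨Δ, hΔ⟩ : Set.powersetCard α (j + 1)))
    have h4 : g • Δ = Δ' := h3.symm.trans h1
    have h2 : g • w ∈ g • Δ := Finset.smul_mem_smul_finset hw
    rw [h4] at h2
    exact h2
  have haΔ : a ∈ Δ := Finset.mem_insert_self _ _
  have haΔ' : a ∈ Δ' := Finset.mem_insert_self _ _
  obtain ⟨n', hn', hn'b⟩ := htr Δ' hΔ' ⟨(g : Perm α) a, hgΔ a haΔ⟩ ⟨a, haΔ'⟩
  obtain ⟨g', hg'G, hg'n⟩ := mem_induced.1 hn'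
  have hg'Δ' : ∀ w ∈ Δ', g' w ∈ Δ' := by
    intro w hw
    rw [hg'n ⟨w, hw⟩]
    exact (n' ⟨w, hw⟩).2
  have hg'b : g' ((g : Perm α) a) = a := by
    rw [hg'n ⟨(g : Perm α) a, hgΔ a haΔ⟩, hn'b]
  -- the composite
  set γ : Perm α := g' * (g : Perm α) with hγ
  have hγG : γ ∈ G := G.mul_mem hg'G g.2
  have hγa : γ a = a := by rw [hγ, Perm.mul_apply, hg'b]
  have hγΔ : ∀ w ∈ Δ, γ w ∈ Δ' := fun w hw => by
    rw [hγ, Perm.mul_apply]; exact hg'Δ' _ (hgΔ w hw)
  have hγmem : ∀ w, γ w ∈ Finset.univ.erase a ↔ w ∈ Finset.univ.erase a := by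
    intro w
    simp only [Finset.mem_erase, Finset.mem_univ, and_true]
    constructor
    · intro h hw; apply h; rw [hw, hγa]
    · intro h hw; apply h; apply γ.injective; rw [hw, hγa]
  let m : Perm ↥(Finset.univ.erase a) := Perm.subtypePerm γ hγmem
  have hm : m ∈ induced G (Finset.univ.erase a) := mem_induced.2 ⟨γ, hγG, fun _ => rfl⟩
  refine ⟨⟨m, hm⟩, ?_⟩
  apply Subtype.ext
  refine (Set.powersetCard.coe_smul (g := (⟨m, hm⟩ : ↥(induced G (Finset.univ.erase a))))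
    (s := Γ)).trans ?_
  apply Finset.eq_of_subset_of_card_le
  · intro w hw
    rw [Finset.mem_smul_finset] at hw
    obtain ⟨v, hv, rfl⟩ := hw
    -- v ∈ Γ, so γ v ∈ Δ', and γ v ≠ a
    have hvΔ : (v : α) ∈ Δ := Finset.mem_insert_of_mem (Finset.mem_map.2 ⟨v, hv, rfl⟩)
    have h1 : γ (v : α) ∈ Δ' := hγΔ _ hvΔ
    have h2 : γ (v : α) ≠ a := by
      intro h
      have := γ.injective (h.trans hγa.symm)
      exact hval_ne v this
    rw [Finset.mem_insert] at h1
    rcases h1 with h1 | h1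
    · exact absurd h1 h2
    · rw [Finset.mem_map] at h1
      obtain ⟨u, hu, huv⟩ := h1
      have : (⟨m, hm⟩ : ↥(induced G (Finset.univ.erase a))) • v = u := by
        apply Subtype.ext
        exact huv.symm
      rw [this]
      exact hu
  · rw [Finset.card_smul_finset]
    exact le_of_eq (Γ'.2.trans Γ.2.symm)

end Cfsg.Agent.Lib.Helper19.LW8H3
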