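import Mathlib
import Cfsg.Agent.Lib.Helper10.LW7.Defs

set_option autoImplicit false

namespace Cfsg.Agent.Lib.Helper19.LW8H4

open MulAction Equiv
open Cfsg.Agent.Lib.Helper10.LW7

variable {α : Type*} [Fintype α] [DecidableEq α]

omit [Fintype α] [DecidableEq α] in
theorem smul_emb_apply' (G : Subgroup (Perm α)) (k : ℕ) (x : Fin k ↪ α) (g : ↥G) (i : Fin k) :
    (g • x) i = (g : Perm α) (x i) := rfl

/-- an element inducing a permutation of the complement of `a` fixes `a` -/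
theorem fixes_of_induces (a : α) (g : Perm α) (n : Perm ↥(Finset.univ.erase a))
    (hgn : ∀ z : ↥(Finset.univ.erase a), g (z : α) = ((n z : ↥(Finset.univ.erase a)) : α)) :
    g a = a := by
  by_contra hne
  have hmem : g a ∈ Finset.univ.erase a := Finset.mem_erase.2 ⟨hne, Finset.mem_univ _⟩
  have h1 := hgn (n⁻¹ ⟨g a, hmem⟩)
  have e : n (n⁻¹ ⟨g a, hmem⟩) = ⟨g a, hmem⟩ := by simp
  rw [e] at h1
  have h2 : ((n⁻¹ ⟨g a, hmem⟩ : ↥(Finset.univ.erase a)) : α) = a := g.injective h1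
  have h3 := (n⁻¹ ⟨g a, hmem⟩ : ↥(Finset.univ.erase a)).2
  rw [h2] at h3
  exact (Finset.mem_erase.1 h3).1 rfl

theorem trans_succ_aux (G : Subgroup (Perm α)) (j : ℕ) (a : α)
    (h : IsMultiplyPretransitive (induced G (Finset.univ.erase a)) ↥(Finset.univ.erase a) j)
    (x y : Fin (j + 1) ↪ α) (hx : x 0 = a) (hy : y 0 = a) : ∃ g : ↥G, g • x = y := by
  have hxm : ∀ i : Fin j, x i.succ ∈ Finset.univ.erase a := by
    intro i
    refine Finset.mem_erase.2 ⟨?_, Finset.mem_univ _⟩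
    rw [← hx]
    intro hh
    exact Fin.succ_ne_zero i (x.injective hh)
  have hym : ∀ i : Fin j, y i.succ ∈ Finset.univ.erase a := by
    intro i
    refine Finset.mem_erase.2 ⟨?_, Finset.mem_univ _⟩
    rw [← hy]
    intro hh
    exact Fin.succ_ne_zero i (y.injective hh)
  let u : Fin j ↪ ↥(Finset.univ.erase a) :=
    ⟨fun i => ⟨x i.succ, hxm i⟩, fun i i' hii' => by
      have := congrArg Subtype.val hii'
      exact Fin.succ_injective _ (x.injective this)⟩
  let v : Fin j ↪ ↥(Finset.univ.erase a) :=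
    ⟨fun i => ⟨y i.succ, hym i⟩, fun i i' hii' => by
      have := congrArg Subtype.val hii'
      exact Fin.succ_injective _ (y.injective this)⟩
  have hpre : IsPretransitive (induced G (Finset.univ.erase a)) (Fin j ↪ ↥(Finset.univ.erase a)) := h
  obtain ⟨⟨n, hn⟩, hnuv⟩ := hpre.exists_smul_eq u v
  obtain ⟨g, hgG, hgn⟩ := mem_induced.1 hn
  have hga : g a = a := fixes_of_induces a g n hgn
  refine ⟨⟨g, hgG⟩, ?_⟩
  ext i
  rw [smul_emb_apply']
  show g (x i) = y i
  refine Fin.cases ?_ (fun i' => ?_) i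
  · rw [hx, hy, hga]
  · have h1 := hgn (u i')
    have h2 : n (u i') = v i' := DFunLike.congr_fun hnuv i'
    rw [h2] at h1
    exact h1

theorem trans_succ (G : Subgroup (Perm α)) (j : ℕ) (hT : IsPretransitive G α) (a : α)
    (h : IsMultiplyPretransitive (induced G (Finset.univ.erase a)) ↥(Finset.univ.erase a) j) :
    IsMultiplyPretransitive G α (j + 1) := by
  refine ⟨fun x y => ?_⟩
  obtain ⟨g₁, hg₁⟩ := hT.exists_smul_eq (x 0) a
  obtain ⟨g₂, hg₂⟩ := hT.exists_smul_eq (y 0) a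
  obtain ⟨g, hg⟩ := trans_succ_aux G j a h (g₁ • x) (g₂ • y) hg₁ hg₂
  refine ⟨g₂⁻¹ * g * g₁, ?_⟩
  ext i
  have h1 := DFunLike.congr_fun hg i
  rw [smul_emb_apply', smul_emb_apply', smul_emb_apply'] at h1
  rw [smul_emb_apply']
  show (g₂⁻¹ : Perm α) (g.1 (g₁.1 (x i))) = y i
  rw [h1]
  simp

end Cfsg.Agent.Lib.Helper19.LW8H4
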