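import Mathlib
import Cfsg.Agent.Lib.Helper10.LW7.Defs

set_option autoImplicit false

namespace Cfsg.Agent.Lib.Helper19.LW8H5b

open MulAction Equiv
open Cfsg.Agent.Lib.Helper10.LW7

variable {α : Type*} [Fintype α] [DecidableEq α]

/-- a subgroup containing the alternating group and an odd permutation is everything -/
theorem eq_top_of_alt_le_of_odd {β : Type*} [Fintype β] [DecidableEq β] (L : Subgroup (Perm β))
    (hL : alternatingGroup β ≤ L) (n : Perm β) (hn : n ∈ L) (hsign : Perm.sign n = -1) :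
    L = ⊤ := by
  rw [eq_top_iff]
  intro σ _
  rcases Int.units_eq_one_or (Perm.sign σ) with h | h
  · exact hL (Perm.mem_alternatingGroup.2 h)
  · have h1 : σ * n ∈ L := by
      apply hL
      rw [Perm.mem_alternatingGroup, Perm.sign_mul, h, hsign]
      rfl
    have h2 : σ = (σ * n) * n⁻¹ := by group
    rw [h2]
    exact L.mul_mem h1 (L.inv_mem hn)

theorem odd_stab (G : Subgroup (Perm α))
    (hne : ∀ Δ : Finset α, Δ.card = 5 → induced G Δ ≠ ⊤)
    (hge : ∀ Δ : Finset α, Δ.card = 5 → alternatingGroup ↥Δ ≤ induced G Δ)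
    (x : Fin 4 ↪ α) : Odd (Nat.card (stabilizer G x)) := by
  by_contra hodd
  rw [Nat.not_odd_iff_even, even_iff_two_dvd] at hodd
  have : Fact (Nat.Prime 2) := ⟨Nat.prime_two⟩
  obtain ⟨t, ht⟩ := exists_prime_orderOf_dvd_card' 2 hodd
  -- the underlying permutation
  set τ : Perm α := ((t : ↥G) : Perm α) with hτ
  have hτG : τ ∈ G := (t : ↥G).2
  have hτ2 : τ * τ = 1 := by
    have h1 : t ^ 2 = 1 := by rw [← ht]; exact pow_orderOf_eq_one t
    have h2 := congrArg (fun s : ↥(stabilizer G x) => ((s : ↥G) : Perm α)) h1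
    simpa [pow_two] using h2
  have hτ1 : τ ≠ 1 := by
    intro h
    have h1 : t = 1 := by
      apply Subtype.ext
      apply Subtype.ext
      exact h
    rw [h1, orderOf_one] at ht
    omega
  have hτx : ∀ i, τ (x i) = x i := by
    intro i
    have := mem_stabilizer_iff.1 t.2
    exact DFunLike.congr_fun this i
  have hττ : ∀ w, τ (τ w) = w := by
    intro w
    have := congrArg (fun s : Perm α => s w) hτ2
    simpa using this
  obtain ⟨y, hy⟩ : ∃ y, τ y ≠ y := by
    by_contra hcon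
    push Not at hcon
    exact hτ1 (Perm.ext hcon)
  obtain ⟨z, hz⟩ : ∃ z, z = τ y := ⟨_, rfl⟩
  have hτz : τ z = y := by rw [hz]; exact hττ y
  have hyx : ∀ i, x i ≠ y := by
    intro i h
    apply hy
    rw [← h]
    exact hτx i
  have hzx : ∀ i, x i ≠ z := by
    intro i h
    have h1 : τ (x i) = τ z := by rw [h]
    rw [hτx i, hτz] at h1
    exact hyx i h1
  have hzy : y ≠ z := fun h => hy (by rw [← hz]; exact h.symm)
  have h01 : x 0 ≠ x 1 := fun h => by have := x.injective h; revert this; decide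
  have h02 : x 0 ≠ x 2 := fun h => by have := x.injective h; revert this; decide
  have h12 : x 1 ≠ x 2 := fun h => by have := x.injective h; revert this; decide
  let Δ : Finset α := {x 0, x 1, x 2, y, z}
  have hΔcard : Δ.card = 5 := by
    simp only [Δ]
    rw [Finset.card_insert_of_notMem, Finset.card_insert_of_notMem, Finset.card_insert_of_notMem,
      Finset.card_insert_of_notMem, Finset.card_singleton]
    · simp [hzy]
    · simp [hyx 2, hzx 2]
    · simp [h12, hyx 1, hzx 1]
    · simp [h01, h02, hyx 0, hzx 0]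
  have hmemΔ : ∀ w, w ∈ Δ ↔ w = x 0 ∨ w = x 1 ∨ w = x 2 ∨ w = y ∨ w = z := by
    intro w
    simp [Δ]
  have hmap1 : ∀ w, w ∈ Δ → τ w ∈ Δ := by
    intro w hw
    rw [hmemΔ] at hw ⊢
    rcases hw with rfl | rfl | rfl | rfl | rfl
    · rw [hτx]; simp
    · rw [hτx]; simp
    · rw [hτx]; simp
    · right; right; right; right; exact hz.symm
    · rw [hτz]; simp
  have hmap : ∀ w, τ w ∈ Δ ↔ w ∈ Δ := by
    intro w
    constructor
    · intro h
      have := hmap1 _ h
      rwa [hττ] at this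
    · exact hmap1 w
  let n : Perm ↥Δ := Perm.subtypePerm τ hmap
  have hnL : n ∈ induced G Δ := mem_induced.2 ⟨τ, hτG, fun _ => rfl⟩
  have hyΔ : y ∈ Δ := (hmemΔ y).2 (by simp)
  have hzΔ : z ∈ Δ := (hmemΔ z).2 (by simp)
  have hn_swap : n = Equiv.swap (⟨y, hyΔ⟩ : ↥Δ) ⟨z, hzΔ⟩ := by
    ext w
    obtain ⟨w, hw⟩ := w
    have hw' := (hmemΔ w).1 hw
    show τ w = ((Equiv.swap (⟨y, hyΔ⟩ : ↥Δ) ⟨z, hzΔ⟩ ⟨w, hw⟩ : ↥Δ) : α)
    rcases hw' with h | h | h | h | h
    · subst h
      rw [Equiv.swap_apply_of_ne_of_ne, hτx]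
      · intro h; exact hyx 0 (congrArg Subtype.val h)
      · intro h; exact hzx 0 (congrArg Subtype.val h)
    · subst h
      rw [Equiv.swap_apply_of_ne_of_ne, hτx]
      · intro h; exact hyx 1 (congrArg Subtype.val h)
      · intro h; exact hzx 1 (congrArg Subtype.val h)
    · subst h
      rw [Equiv.swap_apply_of_ne_of_ne, hτx]
      · intro h; exact hyx 2 (congrArg Subtype.val h)
      · intro h; exact hzx 2 (congrArg Subtype.val h)
    · subst h
      rw [Equiv.swap_apply_left]
      exact hz.symm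
    · have : (⟨w, hw⟩ : ↥Δ) = ⟨z, hzΔ⟩ := Subtype.ext h
      rw [this, Equiv.swap_apply_right, h, hτz]
  have hsign : Perm.sign n = -1 := by
    rw [hn_swap]
    apply Perm.sign_swap
    intro h
    exact hzy (congrArg Subtype.val h)
  exact hne Δ hΔcard (eq_top_of_alt_le_of_odd _ (hge Δ hΔcard) n hnL hsign)

end Cfsg.Agent.Lib.Helper19.LW8H5b
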