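import Mathlib
import Cfsg.Agent.Lib.Helper18.PRL.Defs
import Cfsg.Agent.Lib.helper23.PRLCH1
import Cfsg.Agent.Lib.helper23.PRLCH3

/-!
# MCP piece AGE: `|H| ≤ p^(p-1) |℧(H)|` for `H ≤ G'` in a `p`-group of maximal class whose
upper central series has the exact power structure.
-/

set_option autoImplicit false

namespace Cfsg.Agent.Lib.helper4.MCP

open Cfsg.Agent.Lib.Helper18.PRL
open scoped commutatorElement

universe u

/-- the subgroup generated by the `p`-th powers of the elements of `H` -/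
abbrev mcpage_ag {X : Type*} [Group X] (p : ℕ) (H : Subgroup X) : Subgroup X :=
  Subgroup.closure {z : X | ∃ x ∈ H, z = x ^ p}

theorem mcpage_ag_mono {X : Type*} [Group X] (p : ℕ) {H K : Subgroup X} (hHK : H ≤ K) :
    mcpage_ag p H ≤ mcpage_ag p K := by
  apply Subgroup.closure_mono
  rintro z ⟨x, hx, rfl⟩
  exact ⟨x, hHK hx, rfl⟩

/-- a proper subgroup of a finite `p`-group has at most `1/p` of the elements -/
theorem mcpage_card_lt {X : Type*} [Group X] [Finite X] {p : ℕ} [Fact p.Prime]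
    (hX : IsPGroup p X) {A B : Subgroup X} (hAB : A ≤ B) (hne : A ≠ B) :
    p * Nat.card A ≤ Nat.card B := by
  have hp : p.Prime := Fact.out
  obtain ⟨a, ha⟩ := IsPGroup.iff_card.mp (hX.to_subgroup A)
  obtain ⟨b, hb⟩ := IsPGroup.iff_card.mp (hX.to_subgroup B)
  have hdvd := Subgroup.card_dvd_of_le hAB
  rw [ha, hb] at hdvd
  have hle : a ≤ b := (Nat.pow_dvd_pow_iff_le_right hp.one_lt).1 hdvd
  have hlt : a < b := by
    rcases Nat.eq_or_lt_of_le hle with h | h
    · exfalso
      apply hne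
      exact Subgroup.eq_of_le_of_card_ge hAB (by rw [ha, hb, h])
    · exact h
  rw [ha, hb, ← pow_succ']
  exact Nat.pow_le_pow_right hp.pos hlt

section mc
variable {p : ℕ} [Fact p.Prime] {G : Type u} [Group G] [Finite G] {n : ℕ}

/-- `|H| = p |H ⊓ Z_m|` if `H ≤ Z_{m+1}`, `H ⊄ Z_m`. -/
theorem mcpage_card_inf (h : MC p G n) (hn : 3 ≤ n) (m : ℕ) (hm : m + 1 ≤ n - 2)
    (H : Subgroup G) (hH : H ≤ Z G (m + 1)) (hH' : ¬ H ≤ Z G m) :
    Nat.card H = p * Nat.card (H ⊓ Z G m : Subgroup G) := by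
  have hp : p.Prime := Fact.out
  have c1 := card_Z h hn (m + 1) hm
  have c0 := card_Z h hn m (by omega)
  have hNle : Z G m ≤ Z G (m + 1) := Subgroup.upperCentralSeries_mono G (by omega)
  -- `H ⊔ Z_m = Z_{m+1}`
  have hsup_le : H ⊔ Z G m ≤ Z G (m + 1) := sup_le hH hNle
  have hle_sup : Z G m ≤ H ⊔ Z G m := le_sup_right
  have hsup : H ⊔ Z G m = Z G (m + 1) := by
    have d1 : Nat.card (H ⊔ Z G m : Subgroup G) ∣ p ^ (m + 1) := by
      rw [← c1]; exact Subgroup.card_dvd_of_le hsup_le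
    have d2 : p ^ m ∣ Nat.card (H ⊔ Z G m : Subgroup G) := by
      rw [← c0]; exact Subgroup.card_dvd_of_le hle_sup
    obtain ⟨a, ha, hKa⟩ := (Nat.dvd_prime_pow hp).1 d1
    rw [hKa] at d2
    have ha' : m ≤ a := (Nat.pow_dvd_pow_iff_le_right hp.one_lt).1 d2
    rcases (by omega : a = m + 1 ∨ a = m) with rfl | rfl
    · exact Subgroup.eq_of_le_of_card_ge hsup_le (by rw [c1, hKa])
    · exfalso
      apply hH'
      have : Z G a = H ⊔ Z G a := Subgroup.eq_of_le_of_card_ge hle_sup (by rw [c0, hKa])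
      rw [this]
      exact le_sup_left
  -- relative indices
  have r1 : (Z G m).relIndex (Z G (m + 1)) = p := by
    have := Subgroup.relIndex_mul_relIndex (⊥ : Subgroup G) (Z G m) (Z G (m + 1)) bot_le hNle
    rw [Subgroup.relIndex_bot_left, Subgroup.relIndex_bot_left, c0, c1, pow_succ] at this
    exact Nat.eq_of_mul_eq_mul_left (pow_pos hp.pos m) this
  have r2 : (Z G m).relIndex H = p := by
    rw [← Subgroup.relIndex_sup_right H (Z G m), hsup, r1]
  have r3 : (H ⊓ Z G m).relIndex H = p := by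
    rw [Subgroup.inf_relIndex_left, r2]
  have := Subgroup.relIndex_mul_relIndex (⊥ : Subgroup G) (H ⊓ Z G m) H bot_le inf_le_left
  rw [Subgroup.relIndex_bot_left, Subgroup.relIndex_bot_left, r3] at this
  rw [← this, mul_comm]

/-- the inductive claim -/
theorem mcpage_claim (h : MC p G n) (hn : 3 ≤ n)
    (hU : ∀ i, i ≤ n - 2 → ∀ y ∈ Z G i, y ^ p ∈ Z G (i - (p - 1)))
    (hL : ∀ i, p ≤ i → i ≤ n - 2 → ∀ y ∈ Z G i, y ∉ Z G (i - 1) → y ^ p ∉ Z G (i - p)) :
    ∀ m, m ≤ n - 2 → ∀ H : Subgroup G, H ≤ Z G m →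
      Nat.card H ≤ p ^ (p - 1) * Nat.card (mcpage_ag p H) := by
  have hp : p.Prime := Fact.out
  have hpg : IsPGroup p G := IsPGroup.of_card h.1
  have hsmall : ∀ m, m ≤ n - 2 → m ≤ p - 1 → ∀ H : Subgroup G, H ≤ Z G m →
      Nat.card H ≤ p ^ (p - 1) * Nat.card (mcpage_ag p H) := by
    intro m hm hmp H hH
    have c := card_Z h hn m hm
    calc Nat.card H ≤ Nat.card (Z G m) := Subgroup.card_le_of_le hH
      _ = p ^ m := c
      _ ≤ p ^ (p - 1) := Nat.pow_le_pow_right hp.pos hmp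
      _ = p ^ (p - 1) * 1 := (mul_one _).symm
      _ ≤ p ^ (p - 1) * Nat.card (mcpage_ag p H) :=
          Nat.mul_le_mul_left _ Nat.card_pos
  intro m
  induction m with
  | zero => exact fun hm H hH => hsmall 0 hm (Nat.zero_le _) H hH
  | succ m ih =>
    intro hm H hH
    by_cases hmp : m + 1 ≤ p - 1
    · exact hsmall (m + 1) hm hmp H hH
    · have hpm : p ≤ m + 1 := by
        have := hp.two_le
        omega
      by_cases hHm : H ≤ Z G m
      · exact ih (by omega) H hHm
      · -- the main step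
        obtain ⟨x, hxH, hxZ⟩ := SetLike.not_le_iff_exists.1 hHm
        have hcard := mcpage_card_inf h hn m hm H hH hHm
        have ih1 := ih (by omega) (H ⊓ Z G m) inf_le_right
        -- `℧(H ⊓ Z_m) ≤ Z_{m+1-p}`
        have hA : mcpage_ag p (H ⊓ Z G m) ≤ Z G (m + 1 - p) := by
          rw [mcpage_ag, Subgroup.closure_le]
          rintro z ⟨y, hy, rfl⟩
          have := hU m (by omega) y hy.2
          have he : m - (p - 1) = m + 1 - p := by
            have := hp.two_le
            omega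
          rw [he] at this
          exact this
        have hxp : x ^ p ∉ Z G (m + 1 - p) := by
          have := hL (m + 1) hpm hm x (hH hxH) (by simpa using hxZ)
          exact this
        have hAB : mcpage_ag p (H ⊓ Z G m) ≤ mcpage_ag p H := mcpage_ag_mono p inf_le_left
        have hne : mcpage_ag p (H ⊓ Z G m) ≠ mcpage_ag p H := by
          intro heq
          apply hxp
          apply hA
          rw [heq]
          exact Subgroup.subset_closure ⟨x, hxH, rfl⟩
        have hlt := mcpage_card_lt hpg hAB hne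
        calc Nat.card H = p * Nat.card (H ⊓ Z G m : Subgroup G) := hcard
          _ ≤ p * (p ^ (p - 1) * Nat.card (mcpage_ag p (H ⊓ Z G m))) :=
              Nat.mul_le_mul_left _ ih1
          _ = p ^ (p - 1) * (p * Nat.card (mcpage_ag p (H ⊓ Z G m))) := by ring
          _ ≤ p ^ (p - 1) * Nat.card (mcpage_ag p H) := Nat.mul_le_mul_left _ hlt

/-- MCP-AGE -/
theorem card_le_agemo (h : MC p G n) (hn : 3 ≤ n)
    (hU : ∀ i, i ≤ n - 2 → ∀ y ∈ Z G i, y ^ p ∈ Z G (i - (p - 1)))
    (hL : ∀ i, p ≤ i → i ≤ n - 2 → ∀ y ∈ Z G i, y ∉ Z G (i - 1) → y ^ p ∉ Z G (i - p))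
    (H : Subgroup G) (hH : H ≤ commutator G) :
    Nat.card H ≤ p ^ (p - 1) * Nat.card (Subgroup.closure {z : G | ∃ x ∈ H, z = x ^ p}) := by
  rw [commutator_eq_Z h hn] at hH
  exact mcpage_claim h hn hU hL (n - 2) le_rfl H hH

end mc

end Cfsg.Agent.Lib.helper4.MCP
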