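import Mathlib
import Cfsg.Agent.Lib.helper8.OCT.Defs
import Cfsg.Agent.Lib.Helper20.OCTCELL
import Cfsg.Agent.Lib.Helper20.OCTFIX

/-!
# Project OCT, piece GEO : concatenation of geodesics in the set of fixed chambers
-/

set_option autoImplicit false

namespace Cfsg.Agent.Lib.helper8.OCT

variable {G : Type*} [Group G] {B U : Subgroup G} {Uj : ℕ → Subgroup G} {n : ℕ → G}

/-- table facts on removing the first letter of `v` (`1 ≤ v ≤ 14`) -/
theorem octgeo_tab1 : ∀ v < 16, 1 ≤ v → v ≠ 15 →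
    oLen v = oLen (oPar v) + 1 ∧ oPar v < v ∧ oFl v < 2 ∧
      (oPar v = 0 ∨ oFl (oPar v) ≠ oFl v) := by
  decide

/-- table facts on appending the letter `j` to `w` (`1 ≤ w ≤ 14`, last letter of `w` not `j`) -/
theorem octgeo_tab2 : ∀ w < 16, ∀ j < 2, 1 ≤ w → w ≠ 15 → oFl (oInv w) ≠ j →
    oLen (oMt j (oInv w)) = oLen (oInv w) + 1 ∧ oInv (oMt j (oInv w)) < 16 ∧
    oLen (oInv (oMt j (oInv w))) = oLen w + 1 ∧
    (oInv (oMt j (oInv w)) ≠ 15 → oFl (oInv (oInv (oMt j (oInv w)))) = j) := by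
  intro w hw j hj
  interval_cases w <;> interval_cases j <;> decide

/-- table facts on the generators -/
theorem octgeo_tab3 : ∀ j < 2, j + 1 < 16 ∧ oLen (j + 1) = 1 ∧ oFl (oInv (j + 1)) = j := by
  decide

/-- GEO : if the words of `h⁻¹ p` and `p⁻¹ x` concatenate to an alternating word, the lengths add -/
theorem fixX_geo (S : OctSys B U Uj n) {a : G} (ha : a ≠ 1) :
    ∀ v < 16, ∀ w < 16, ∀ h ∈ fixX U a, ∀ p ∈ fixX U a, ∀ x ∈ fixX U a,
      h⁻¹ * p ∈ cell B n w → p⁻¹ * x ∈ cell B n v → (v = 0 ∨ w = 0 ∨ oFl (oInv w) ≠ oFl v) →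
      ∃ z < 16, h⁻¹ * x ∈ cell B n z ∧ oLen z = oLen w + oLen v := by
  intro v
  induction v using Nat.strong_induction_on with
  | _ v ih =>
    intro hv w hw h hh p hp x hx hhp hpx hcond
    rcases Nat.eq_zero_or_pos v with rfl | hv1
    · refine ⟨w, hw, ?_, by simp [oLen]⟩
      have e0 : h⁻¹ * x = (h⁻¹ * p) * (p⁻¹ * x) := by group
      rw [e0]
      have hb : p⁻¹ * x ∈ B := by
        have h0 : p⁻¹ * x ∈ (B : Set G) := by
          rw [← cell_zero S]; exact hpx
        exact h0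
      exact cell_mul_right hb hhp
    · have hv15 : v ≠ 15 := by
        rintro rfl
        exact fixX_no_opp S ha hp hx hpx
      obtain ⟨hlen, hlt, hj2, hfl⟩ := octgeo_tab1 v hv hv1 hv15
      obtain ⟨b3, hb3, b4, hb4, e⟩ := hpx
      have hstep := S.step v hv hv1
      have hs : n (oFl v + 1) ∈ cell B n (oFl v + 1) :=
        ⟨1, B.one_mem, 1, B.one_mem, by simp⟩
      have hp1 : p * b3 * n (oFl v + 1) ∈ fixX U a :=
        fixX_panel S hp hx hb3 hb4 hv hv1 e (Or.inr hs)
      have e1 : (p * b3 * n (oFl v + 1))⁻¹ * x = n (oPar v) * b4 := by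
        have hx' : x = p * (b3 * n v * b4) := by rw [← e]; group
        rw [hx', hstep]; group
      have hp1x : (p * b3 * n (oFl v + 1))⁻¹ * x ∈ cell B n (oPar v) := by
        rw [e1]; exact ⟨1, B.one_mem, b4, hb4, by simp⟩
      have hbs : b3 * n (oFl v + 1) ∈ cell B n (oFl v + 1) := cell_mul_left hb3 hs
      have e2 : h⁻¹ * (p * b3 * n (oFl v + 1)) = (h⁻¹ * p) * (b3 * n (oFl v + 1)) := by group
      obtain ⟨w1, hw1, hhp1, hlen1, hfl1⟩ : ∃ w1 < 16,
          h⁻¹ * (p * b3 * n (oFl v + 1)) ∈ cell B n w1 ∧ oLen w1 = oLen w + 1 ∧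
            (w1 ≠ 15 → oFl (oInv w1) = oFl v) := by
        rcases Nat.eq_zero_or_pos w with rfl | hw0
        · obtain ⟨h1, h2, h3⟩ := octgeo_tab3 (oFl v) hj2
          refine ⟨oFl v + 1, h1, ?_, by rw [h2]; rfl, fun _ => h3⟩
          rw [e2]
          have hb : h⁻¹ * p ∈ B := by
            have h0 : h⁻¹ * p ∈ (B : Set G) := by
              rw [← cell_zero S]; exact hhp
            exact h0
          exact cell_mul_left hb hbs
        · have hw15 : w ≠ 15 := by
            rintro rfl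
            exact fixX_no_opp S ha hh hp hhp
          have hne : oFl (oInv w) ≠ oFl v := by
            rcases hcond with h0 | h0 | h0
            · omega
            · omega
            · exact h0
          obtain ⟨h1, h2, h3, h4⟩ := octgeo_tab2 w hw (oFl v) hj2 hw0 hw15 hne
          refine ⟨_, h2, ?_, h3, h4⟩
          rw [e2]
          exact mul_genL S hj2 hw h1 hhp hbs
      have hw115 : w1 ≠ 15 := by
        rintro rfl
        exact fixX_no_opp S ha hh hp1 hhp1
      obtain ⟨z, hz, hz1, hz2⟩ := ih (oPar v) hlt (by omega) w1 hw1 h hh _ hp1 x hx hhp1 hp1x (by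
        rcases hfl with h0 | h0
        · exact Or.inl h0
        · right; right; rw [hfl1 hw115]; exact fun h => h0 h.symm)
      exact ⟨z, hz, hz1, by omega⟩

end Cfsg.Agent.Lib.helper8.OCT
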