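import Mathlib
import Cfsg.Agent.Lib.Helper10.RES.Defs
import Cfsg.Agent.Lib.Helper25.RESGA1
import Cfsg.Agent.Lib.Helper25.RESGA4
import Cfsg.Agent.Lib.Helper11.RESGZ1
import Cfsg.Agent.Lib.Helper22.RESGZ4

/-!
# Project RES, piece GW1 : `A` is characteristic
-/

set_option autoImplicit false

namespace Cfsg.Agent.Lib.Helper10.RES

variable {Ω : Type*} [Group Ω]
variable {p n s : ℕ} [Fact p.Prime] {S : Subgroup Ω} {x y z : Ω}

/-- every element of `T = ⟨y, z^p⟩` is `y^c (z^p)^m` -/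
theorem resgw1_T_repr (hyz : y * z = z * y) (t : Ω) (ht : t ∈ TT p y z) :
    ∃ c m : ℤ, t = y ^ c * (z ^ p) ^ m := by
  have hc : Commute y (z ^ p) := (show Commute y z from hyz).pow_right p
  unfold TT at ht
  induction ht using Subgroup.closure_induction with
  | mem a ha =>
    rcases ha with rfl | rfl
    · exact ⟨1, 0, by simp⟩
    · exact ⟨0, 1, by simp⟩
  | one => exact ⟨0, 0, by simp⟩
  | mul a b _ _ iha ihb =>
    obtain ⟨c1, m1, rfl⟩ := iha
    obtain ⟨c2, m2, rfl⟩ := ihb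
    refine ⟨c1 + c2, m1 + m2, ?_⟩
    rw [zpow_add, zpow_add]
    have h1 := (hc.zpow_zpow c2 m1)
    calc y ^ c1 * (z ^ p) ^ m1 * (y ^ c2 * (z ^ p) ^ m2)
        = y ^ c1 * ((z ^ p) ^ m1 * y ^ c2) * (z ^ p) ^ m2 := by group
      _ = y ^ c1 * (y ^ c2 * (z ^ p) ^ m1) * (z ^ p) ^ m2 := by rw [h1.eq]
      _ = _ := by group
  | inv a _ iha =>
    obtain ⟨c1, m1, rfl⟩ := iha
    refine ⟨-c1, -m1, ?_⟩
    rw [mul_inv_rev, ← zpow_neg, ← zpow_neg]
    exact ((hc.zpow_zpow (-c1) (-m1)).eq).symm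

/-- the centralizer in `S` of a noncentral element of `T` is contained in `A` -/
theorem resgw1_key (hF : F2Set p n s S x y z) (t : Ω) (ht : t ∈ TT p y z)
    (hnc : ∃ h ∈ S, t * h ≠ h * t) (g : Ω) (hg : g ∈ S) (hgt : g * t = t * g) :
    g ∈ AA y z := by
  have hpp : p.Prime := Fact.out
  obtain ⟨hxS, hyS, hzS, hAS⟩ := hF.mems
  obtain ⟨hZT, hTA, hSS, hTS, hTexp, hzT⟩ := hF.T_facts
  obtain ⟨hzpc, hζ1, hζp, hζZ⟩ := hF.zp_central
  obtain ⟨hrepS, hrepA⟩ := hF.repr
  have hAc := hF.A_comm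
  have hn4 := hF.hn4
  -- ζ
  set ζ := z ^ (s * p ^ (n - 3)) with hζdef
  have hζc : ∀ h ∈ S, h * ζ = ζ * h := by
    intro h hh
    have h1 : s * p ^ (n - 3) = p * (s * p ^ (n - 4)) := by
      have : n - 3 = (n - 4) + 1 := by omega
      rw [this, pow_succ]; ring
    rw [hζdef, h1, pow_mul]
    exact ((show Commute h (z ^ p) from hzpc h hh).pow_right _).eq
  have hζp' : ζ ^ p = 1 := by
    rw [hζdef, ← pow_mul]
    have : s * p ^ (n - 3) * p = p ^ (n - 2) * s := by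
      have : n - 2 = (n - 3) + 1 := by omega
      rw [this, pow_succ]; ring
    rw [this, pow_mul, hF.zp, one_pow]
  -- representation of t
  obtain ⟨c, m, rfl⟩ := resgw1_T_repr hF.yz t ht
  set u := ζ ^ c with hu
  have huc : ∀ h ∈ S, h * u = u * h := by
    intro h hh
    exact ((show Commute h ζ from hζc h hh).zpow_right c).eq
  have hup : u ^ p = 1 := by
    rw [hu, ← zpow_natCast, ← zpow_mul, mul_comm, zpow_mul, zpow_natCast, hζp', one_zpow]
  have hyζ : Commute y ζ := (show Commute y z from hF.yz).pow_right _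
  have hζw : Commute ζ (z ^ p) := (Commute.refl z).pow_pow _ _
  -- conjugation by x
  have hx1 : x⁻¹ * (y ^ c * (z ^ p) ^ m) * x = y ^ c * (z ^ p) ^ m * u := by
    have h1 : x⁻¹ * y ^ c * x = y ^ c * u := by
      have : x⁻¹ * y ^ c * x = (x⁻¹ * y * x) ^ c := by
        have := conj_zpow (a := x⁻¹) (b := y) (i := c)
        simpa using this.symm
      rw [this, hF.xy, hyζ.mul_zpow]
    have h2 : x⁻¹ * (z ^ p) ^ m * x = (z ^ p) ^ m := by
      have : Commute x ((z ^ p) ^ m) := (show Commute x (z ^ p) from hzpc x hxS).zpow_right m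
      rw [mul_assoc, ← this.eq, ← mul_assoc, inv_mul_cancel, one_mul]
    calc x⁻¹ * (y ^ c * (z ^ p) ^ m) * x = (x⁻¹ * y ^ c * x) * (x⁻¹ * (z ^ p) ^ m * x) := by group
      _ = y ^ c * u * (z ^ p) ^ m := by rw [h1, h2]
      _ = y ^ c * (z ^ p) ^ m * u := by
        rw [mul_assoc, mul_assoc]
        congr 1
        exact ((hζw.zpow_zpow c m).eq)
  set t := y ^ c * (z ^ p) ^ m with htdef
  have hxi : ∀ i : ℕ, (x ^ i)⁻¹ * t * x ^ i = t * u ^ i := by
    intro i
    induction i with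
    | zero => simp
    | succ i ih =>
      have hux : x * u = u * x := huc x hxS
      calc (x ^ (i + 1))⁻¹ * t * x ^ (i + 1) = x⁻¹ * ((x ^ i)⁻¹ * t * x ^ i) * x := by
            rw [pow_succ]; group
        _ = x⁻¹ * (t * u ^ i) * x := by rw [ih]
        _ = (x⁻¹ * t * x) * (x⁻¹ * u ^ i * x) := by group
        _ = t * u * u ^ i := by
            have : x⁻¹ * u ^ i * x = u ^ i := by
              have hc' : Commute x (u ^ i) := (show Commute x u from hux).pow_right i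
              rw [mul_assoc, ← hc'.eq, ← mul_assoc, inv_mul_cancel, one_mul]
            rw [hx1, this]
        _ = t * u ^ (i + 1) := by rw [pow_succ', mul_assoc]
  have htA : t ∈ AA y z := hTA ht
  -- u ≠ 1
  have hu1 : u ≠ 1 := by
    intro h1
    obtain ⟨h, hh, hne⟩ := hnc
    apply hne
    obtain ⟨i, a, ha, rfl⟩ := hrepS h hh
    have h2 := hxi i
    rw [h1, one_pow, mul_one] at h2
    have h3 : t * x ^ i = x ^ i * t := by
      calc t * x ^ i = x ^ i * ((x ^ i)⁻¹ * t * x ^ i) := by group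
        _ = x ^ i * t := by rw [h2]
    calc t * (x ^ i * a) = (t * x ^ i) * a := by group
      _ = x ^ i * t * a := by rw [h3]
      _ = x ^ i * (t * a) := by group
      _ = x ^ i * (a * t) := by rw [hAc t htA a ha]
      _ = x ^ i * a * t := by group
  have hou : orderOf u = p := orderOf_eq_prime hup hu1
  -- the element g
  obtain ⟨i, a, ha, rfl⟩ := hrepS g hg
  have h4 : t * u ^ i = t := by
    rw [← hxi i]
    have h5 : t * a = a * t := hAc t htA a ha
    have h6 : x ^ i * (a * t) = t * (x ^ i * a) := by rw [← hgt]; group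
    calc (x ^ i)⁻¹ * t * x ^ i = (x ^ i)⁻¹ * (t * (x ^ i * a)) * a⁻¹ := by group
      _ = (x ^ i)⁻¹ * (x ^ i * (a * t)) * a⁻¹ := by rw [h6]
      _ = a * t * a⁻¹ := by group
      _ = t * a * a⁻¹ := by rw [h5]
      _ = t := by group
  have h7 : u ^ i = 1 := by
    have := mul_left_cancel (a := t) (b := u ^ i) (c := 1) (by rw [h4, mul_one])
    exact this
  have h8 : p ∣ i := by
    rw [← hou]; exact orderOf_dvd_of_pow_eq_one h7
  obtain ⟨i', rfl⟩ := h8
  rw [pow_mul, hF.xp, one_pow, one_mul]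
  exact ha

/-- **GW1**. `A` is characteristic: an injective endomorphism of `S` maps `A` into `A`. -/
theorem F2Set.aut_A (hF : F2Set p n s S x y z) (ψ : ↥S →* Ω) (hinj : Function.Injective ψ)
    (hψS : ∀ g, ψ g ∈ S) (g : ↥S) (hg : (g : Ω) ∈ AA y z) : ψ g ∈ AA y z := by
  have hpp : p.Prime := Fact.out
  obtain ⟨hxS, hyS, hzS, hAS⟩ := hF.mems
  obtain ⟨hZT, hTA, hSS, hTS, hTexp, hzT⟩ := hF.T_facts
  obtain ⟨hzpc, hζ1, hζp, hζZ⟩ := hF.zp_central
  have hAc := hF.A_comm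
  have hyA : y ∈ AA y z := Subgroup.subset_closure (by simp)
  -- `ψ y ∈ T`
  have hy_eq : (⟨y, hyS⟩ : ↥S) = (⟨x, hxS⟩ : ↥S)⁻¹ * (⟨z, hzS⟩ * ⟨x, hxS⟩ * (⟨z, hzS⟩ : ↥S)⁻¹) := by
    apply Subtype.ext
    simp only [Subgroup.coe_mul, Subgroup.coe_inv]
    have := hF.xz
    calc y = (y * z) * z⁻¹ := by group
      _ = (x⁻¹ * z * x) * z⁻¹ := by rw [this]
      _ = _ := by group
  have hYT : ψ ⟨y, hyS⟩ ∈ TT p y z := by
    rw [hy_eq, map_mul, map_inv, map_mul, map_mul, map_inv]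
    exact hSS _ (hψS _) _ (hψS _)
  -- `ψ y` is not central
  have hnc : ∃ h ∈ S, ψ ⟨y, hyS⟩ * h ≠ h * ψ ⟨y, hyS⟩ := by
    refine ⟨ψ ⟨x, hxS⟩, hψS _, ?_⟩
    intro h
    rw [← map_mul, ← map_mul] at h
    have h1 := congrArg Subtype.val (hinj h)
    simp only [Subgroup.coe_mul] at h1
    -- y * x = x * y, so x⁻¹ y x = y, so ζ^s = 1
    have h2 : x⁻¹ * y * x = y := by rw [mul_assoc, h1]; group
    rw [hF.xy] at h2
    have h3 : z ^ (s * p ^ (n - 3)) = 1 := by
      have := mul_left_cancel (a := y) (b := z ^ (s * p ^ (n - 3))) (c := 1) (by rw [h2, mul_one])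
      exact this
    rw [mul_comm, pow_mul] at h3
    have ho : orderOf (z ^ p ^ (n - 3)) = p := orderOf_eq_prime hζp hζ1
    have := orderOf_dvd_of_pow_eq_one h3
    rw [ho] at this
    exact hF.hs this
  -- conclude
  apply resgw1_key hF _ hYT hnc _ (hψS g)
  have h1 : (g : Ω) * y = y * g := hAc _ hg _ hyA
  have h2 : g * (⟨y, hyS⟩ : ↥S) = ⟨y, hyS⟩ * g := Subtype.ext (by simpa using h1)
  rw [← map_mul, ← map_mul, h2]

end Cfsg.Agent.Lib.Helper10.RES
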