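import Mathlib
import Cfsg.Agent.Lib.Helper10.RES.Defs
import Cfsg.Agent.Lib.Helper25.RESGA1
import Cfsg.Agent.Lib.Helper25.RESGA3
import Cfsg.Agent.Lib.Helper25.RESGA4
import Cfsg.Agent.Lib.Helper11.RESGZ1

/-!
# Project RES, piece GC : proper self-centralizing nonabelian subgroups are the `M_k`
-/

set_option autoImplicit false

namespace Cfsg.Agent.Lib.Helper10.RES

variable {Ω : Type*} [Group Ω]
variable {p n s : ℕ} [Fact p.Prime] {S : Subgroup Ω} {x y z : Ω}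

/-- if `g^N = 1`, `k` is prime to `N` and `g^k ∈ H` then `g ∈ H` -/
theorem resgc_mem_of_pow_mem {H : Subgroup Ω} {g : Ω} {N k : ℕ} (hN : g ^ N = 1)
    (hco : Nat.Coprime k N) (hN1 : 1 < N) (h : g ^ k ∈ H) : g ∈ H := by
  obtain ⟨m, -, hm⟩ := Nat.exists_mul_mod_eq_one_of_coprime hco hN1
  have h1 : g ^ (k * m) = g := by
    conv_lhs => rw [← Nat.div_add_mod (k * m) N, hm, pow_add, pow_mul, hN, one_pow, one_mul, pow_one]
  rw [← h1, pow_mul]
  exact H.pow_mem h m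

/-- powers of `x^i a` -/
theorem resgc_pow (hF : F2Set p n s S x y z) (i : ℕ) (a : Ω) (ha : a ∈ AA y z) (j : ℕ) :
    ∃ a' ∈ AA y z, (x ^ i * a) ^ j = x ^ (i * j) * a' := by
  obtain ⟨hxS, hyS, hzS, hAS⟩ := hF.mems
  induction j with
  | zero => exact ⟨1, one_mem _, by simp⟩
  | succ j ih =>
    obtain ⟨a', ha', h⟩ := ih
    refine ⟨(x ^ i)⁻¹ * a' * x ^ i * a, ?_, ?_⟩
    · apply Subgroup.mul_mem _ _ ha
      have := hF.A_normal ((x ^ i)⁻¹) (S.inv_mem (S.pow_mem hxS i)) a' ha'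
      simpa using this
    · rw [pow_succ, h, Nat.mul_succ, pow_add]; group

/-- **GC**. a proper self-centralizing nonabelian subgroup of `S` is one of the `M_k`. -/
theorem F2Set.classify (hF : F2Set p n s S x y z) (E : Subgroup Ω) (hES : E ≤ S) (hne : E ≠ S)
    (hcen : SelfCent S E) (hnab : ∃ a ∈ E, ∃ b ∈ E, a * b ≠ b * a) :
    ∃ k : ℕ, E = MM p x y z k := by
  have hpp : p.Prime := Fact.out
  obtain ⟨hxS, hyS, hzS, hAS⟩ := hF.mems
  obtain ⟨hzpc, hζ1, hζp, hζZ⟩ := hF.zp_central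
  obtain ⟨hrepS, hrepA⟩ := hF.repr
  have hAc := hF.A_comm
  have hAn := hF.A_normal
  have hn4 := hF.hn4
  have hyA : y ∈ AA y z := Subgroup.subset_closure (by simp)
  have hzA : z ∈ AA y z := Subgroup.subset_closure (by simp)
  have hyzc : Commute y z := hF.yz
  -- Z ≤ E
  have hzpE : z ^ p ∈ E := hcen _ (S.pow_mem hzS p) (fun e he => ((hzpc e (hES he))).symm)
  have hZE : ∀ m : ℕ, (z ^ p) ^ m ∈ E := fun m => E.pow_mem hzpE m
  have hZcomm : ∀ g ∈ S, ∀ c ∈ ZZ p z, c * g = g * c := by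
    intro g hg c hc
    obtain ⟨m, rfl⟩ := Subgroup.mem_zpowers_iff.1 hc
    exact ((Commute.zpow_right (show Commute g (z ^ p) from hzpc g hg) m).eq).symm
  -- ζ ∈ E
  have hζE : z ^ (s * p ^ (n - 3)) ∈ E := by
    have h1 : s * p ^ (n - 3) = p * (s * p ^ (n - 4)) := by
      have : n - 3 = (n - 4) + 1 := by omega
      rw [this, pow_succ]; ring
    rw [h1, pow_mul]; exact hZE _
  -- an element outside A
  obtain ⟨e₀, he₀E, he₀A⟩ : ∃ e ∈ E, e ∉ AA y z := by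
    obtain ⟨a, ha, b, hb, hab⟩ := hnab
    by_contra hcon
    push Not at hcon
    exact hab (hAc a (hcon a ha) b (hcon b hb))
  obtain ⟨i₀, a₀, ha₀, rfl⟩ := hrepS e₀ (hES he₀E)
  have hi₀ : ¬ p ∣ i₀ := by
    rintro ⟨q, rfl⟩
    apply he₀A
    rw [pow_mul, hF.xp, one_pow, one_mul]; exact ha₀
  -- an element x * a₁ ∈ E
  obtain ⟨a₁, ha₁, he₁E⟩ : ∃ a₁ ∈ AA y z, x * a₁ ∈ E := by
    have hco : Nat.Coprime i₀ p := ((Nat.Prime.coprime_iff_not_dvd hpp).2 hi₀).symm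
    obtain ⟨m, -, hm⟩ := Nat.exists_mul_mod_eq_one_of_coprime hco hpp.one_lt
    obtain ⟨a', ha', h⟩ := resgc_pow hF i₀ a₀ ha₀ m
    refine ⟨a', ha', ?_⟩
    have hx : x ^ (i₀ * m) = x := by
      conv_lhs =>
        rw [← Nat.div_add_mod (i₀ * m) p, hm, pow_add, pow_mul, hF.xp, one_pow, one_mul, pow_one]
    rw [← hx, ← h]
    exact E.pow_mem he₀E m
  -- decomposition of E relative to an element `x * a₂ ∈ E`
  have hdecomp : ∀ a₂ ∈ AA y z, x * a₂ ∈ E → ∀ e ∈ E, ∃ i : ℕ, ∃ b ∈ E, b ∈ AA y z ∧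
      e = (x * a₂) ^ i * b := by
    intro a₂ ha₂ he₂E e he
    obtain ⟨i, a, ha, rfl⟩ := hrepS e (hES he)
    obtain ⟨a', ha', h⟩ := resgc_pow hF 1 a₂ ha₂ i
    rw [pow_one, one_mul] at h
    refine ⟨i, a'⁻¹ * a, ?_, (AA y z).mul_mem ((AA y z).inv_mem ha') ha, ?_⟩
    · have : a'⁻¹ * a = ((x * a₂) ^ i)⁻¹ * (x ^ i * a) := by rw [h]; group
      rw [this]; exact E.mul_mem (E.inv_mem (E.pow_mem he₂E i)) he
    · rw [h]; group
  -- an element of `E ∩ A` outside `Z`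
  obtain ⟨b, hbE, hbA, hbZ⟩ : ∃ b ∈ E, b ∈ AA y z ∧ b ∉ ZZ p z := by
    by_contra hcon
    push Not at hcon
    obtain ⟨a, ha, b, hb, hab⟩ := hnab
    obtain ⟨i, a', ha'E, ha'A, rfl⟩ := hdecomp a₁ ha₁ he₁E a ha
    obtain ⟨j, b', hb'E, hb'A, rfl⟩ := hdecomp a₁ ha₁ he₁E b hb
    apply hab
    have hza : ∀ g ∈ S, a' * g = g * a' := fun g hg => hZcomm g hg a' (hcon a' ha'E ha'A)
    have hzb : ∀ g ∈ S, b' * g = g * b' := fun g hg => hZcomm g hg b' (hcon b' hb'E hb'A)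
    have he₁S : x * a₁ ∈ S := hES he₁E
    have hpc : (x * a₁) ^ i * (x * a₁) ^ j = (x * a₁) ^ j * (x * a₁) ^ i := by
      rw [← pow_add, ← pow_add, add_comm]
    calc (x * a₁) ^ i * a' * ((x * a₁) ^ j * b')
        = (x * a₁) ^ i * (a' * (x * a₁) ^ j) * b' := by group
      _ = (x * a₁) ^ i * ((x * a₁) ^ j * a') * b' := by rw [hza _ (S.pow_mem he₁S j)]
      _ = ((x * a₁) ^ i * (x * a₁) ^ j) * (a' * b') := by group
      _ = ((x * a₁) ^ j * (x * a₁) ^ i) * (b' * a') := by rw [hpc, hza b' (hAS hb'A)]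
      _ = (x * a₁) ^ j * ((x * a₁) ^ i * b') * a' := by group
      _ = (x * a₁) ^ j * (b' * (x * a₁) ^ i) * a' := by rw [hzb _ (S.pow_mem he₁S i)]
      _ = (x * a₁) ^ j * b' * ((x * a₁) ^ i * a') := by group
  obtain ⟨j, k', rfl⟩ := hrepA b hbA
  -- the commutator of `b` with `x * a₁`
  have hconj : x⁻¹ * (y ^ j * z ^ k') * x =
      y ^ j * (z ^ (s * p ^ (n - 3))) ^ j * (y ^ k' * z ^ k') := by
    have h1 : x⁻¹ * y ^ j * x = (x⁻¹ * y * x) ^ j := by
      have := _root_.conj_pow (a := x⁻¹) (b := y) (i := j)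
      simpa using this.symm
    have h2 : x⁻¹ * z ^ k' * x = (x⁻¹ * z * x) ^ k' := by
      have := _root_.conj_pow (a := x⁻¹) (b := z) (i := k')
      simpa using this.symm
    have hyζ : Commute y (z ^ (s * p ^ (n - 3))) := hyzc.pow_right _
    calc x⁻¹ * (y ^ j * z ^ k') * x = (x⁻¹ * y ^ j * x) * (x⁻¹ * z ^ k' * x) := by group
      _ = _ := by rw [h1, h2, hF.xy, hF.xz, hyζ.mul_pow, hyzc.mul_pow]
  have hc₁ : (z ^ (s * p ^ (n - 3))) ^ j * y ^ k' ∈ E := by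
    have h1 : (x * a₁)⁻¹ * (y ^ j * z ^ k') * (x * a₁) = x⁻¹ * (y ^ j * z ^ k') * x := by
      have h2 : x⁻¹ * (y ^ j * z ^ k') * x ∈ AA y z := by
        have := hAn x⁻¹ (S.inv_mem hxS) _ hbA
        simpa using this
      have h3 := hAc _ h2 a₁ ha₁
      calc (x * a₁)⁻¹ * (y ^ j * z ^ k') * (x * a₁)
          = a₁⁻¹ * ((x⁻¹ * (y ^ j * z ^ k') * x) * a₁) := by group
        _ = a₁⁻¹ * (a₁ * (x⁻¹ * (y ^ j * z ^ k') * x)) := by rw [h3]
        _ = _ := by group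
    have h4 : (y ^ j * z ^ k')⁻¹ * ((x * a₁)⁻¹ * (y ^ j * z ^ k') * (x * a₁)) ∈ E :=
      E.mul_mem (E.inv_mem hbE) (E.mul_mem (E.mul_mem (E.inv_mem he₁E) hbE) he₁E)
    rw [h1, hconj] at h4
    have hcw : Commute (z ^ k') ((z ^ (s * p ^ (n - 3))) ^ j * y ^ k') := by
      apply Commute.mul_right
      · exact ((Commute.refl z).pow_pow _ _).pow_right _
      · exact (hyzc.pow_pow k' k').symm
    have h5 : (y ^ j * z ^ k')⁻¹ * (y ^ j * (z ^ (s * p ^ (n - 3))) ^ j * (y ^ k' * z ^ k')) =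
        (z ^ (s * p ^ (n - 3))) ^ j * y ^ k' := by
      calc (y ^ j * z ^ k')⁻¹ * (y ^ j * (z ^ (s * p ^ (n - 3))) ^ j * (y ^ k' * z ^ k'))
          = (z ^ k')⁻¹ * (((z ^ (s * p ^ (n - 3))) ^ j * y ^ k') * z ^ k') := by group
        _ = (z ^ k')⁻¹ * (z ^ k' * ((z ^ (s * p ^ (n - 3))) ^ j * y ^ k')) := by rw [hcw.eq]
        _ = _ := by group
    rw [h5] at h4
    exact h4
  -- y ∈ E
  have hyE : y ∈ E := by
    by_cases hk' : p ∣ k'
    · obtain ⟨q, rfl⟩ := hk'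
      have h1 : z ^ (p * q) ∈ E := by rw [pow_mul]; exact hZE q
      have h2 : y ^ j ∈ E := by
        have : y ^ j = (y ^ j * z ^ (p * q)) * (z ^ (p * q))⁻¹ := by group
        rw [this]; exact E.mul_mem hbE (E.inv_mem h1)
      have hj : ¬ p ∣ j := by
        rintro ⟨q', rfl⟩
        apply hbZ
        rw [pow_mul, hF.yp, one_pow, one_mul, pow_mul]
        exact Subgroup.pow_mem _ (Subgroup.mem_zpowers _) q
      exact resgc_mem_of_pow_mem hF.yp ((Nat.Prime.coprime_iff_not_dvd hpp).2 hj).symm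
        hpp.one_lt h2
    · have h2 : y ^ k' ∈ E := by
        have : y ^ k' = ((z ^ (s * p ^ (n - 3))) ^ j)⁻¹ * ((z ^ (s * p ^ (n - 3))) ^ j * y ^ k') := by
          group
        rw [this]; exact E.mul_mem (E.inv_mem (E.pow_mem hζE j)) hc₁
      exact resgc_mem_of_pow_mem hF.yp ((Nat.Prime.coprime_iff_not_dvd hpp).2 hk').symm
        hpp.one_lt h2
  -- x * z^k ∈ E
  obtain ⟨j₁, k, rfl⟩ := hrepA a₁ ha₁
  have he₂E : x * z ^ k ∈ E := by
    have : x * z ^ k = (x * (y ^ j₁ * z ^ k)) * (y ^ j₁)⁻¹ := by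
      have hc : Commute (y ^ j₁) (z ^ k) := hyzc.pow_pow _ _
      calc x * z ^ k = x * (z ^ k * y ^ j₁) * (y ^ j₁)⁻¹ := by group
        _ = _ := by rw [← hc.eq]
    rw [this]; exact E.mul_mem he₁E (E.inv_mem (E.pow_mem hyE j₁))
  have hzkA : z ^ k ∈ AA y z := (AA y z).pow_mem hzA k
  -- E ∩ A ≤ T
  have hEAT : ∀ b ∈ E, b ∈ AA y z → b ∈ TT p y z := by
    intro b hbE hbA
    obtain ⟨j, k', rfl⟩ := hrepA b hbA
    have hk' : p ∣ k' := by
      by_contra hk'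
      apply hne
      have h1 : z ^ k' ∈ E := by
        have : z ^ k' = (y ^ j)⁻¹ * (y ^ j * z ^ k') := by group
        rw [this]; exact E.mul_mem (E.inv_mem (E.pow_mem hyE j)) hbE
      have hN1 : 1 < p ^ (n - 2) := Nat.one_lt_pow (by omega) hpp.one_lt
      have hzE : z ∈ E := resgc_mem_of_pow_mem hF.zp
        (Nat.Coprime.pow_right _ ((Nat.Prime.coprime_iff_not_dvd hpp).2 hk').symm) hN1 h1
      have hxE : x ∈ E := by
        have : x = (x * z ^ k) * (z ^ k)⁻¹ := by group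
        rw [this]; exact E.mul_mem he₂E (E.inv_mem (E.pow_mem hzE k))
      apply le_antisymm hES
      rw [← hF.gen, Subgroup.closure_le]
      intro g hg
      rcases hg with rfl | rfl | rfl
      · exact hxE
      · exact hyE
      · exact hzE
    obtain ⟨q, rfl⟩ := hk'
    rw [pow_mul]
    exact (TT p y z).mul_mem ((TT p y z).pow_mem (Subgroup.subset_closure (by simp)) j)
      ((TT p y z).pow_mem (Subgroup.subset_closure (by simp)) q)
  -- conclusion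
  refine ⟨k, le_antisymm ?_ ?_⟩
  · intro e he
    obtain ⟨i, b, hbE', hbA', rfl⟩ := hdecomp (z ^ k) hzkA he₂E e he
    have hTM : TT p y z ≤ MM p x y z k := by
      unfold TT MM
      apply Subgroup.closure_mono
      intro g hg
      rcases hg with rfl | rfl
      · simp
      · simp
    exact (MM p x y z k).mul_mem ((MM p x y z k).pow_mem (Subgroup.subset_closure (by simp)) i)
      (hTM (hEAT b hbE' hbA'))
  · unfold MM
    rw [Subgroup.closure_le]
    intro g hg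
    rcases hg with rfl | rfl | rfl
    · exact hyE
    · exact hzpE
    · exact he₂E

end Cfsg.Agent.Lib.Helper10.RES
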