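import Mathlib

/-!
# Sub-project N5400, piece ORB: orbit counting with two moduli
-/

set_option autoImplicit false
set_option linter.style.haveILetI false
set_option linter.unusedVariables false
set_option linter.unusedSectionVars false

namespace Cfsg.Agent.Lib.Helper10.N5400

open Classical

universe u

variable {G : Type u} [Group G] [Finite G]

theorem orb_two {H X : Type*} [Group H] [MulAction H X] [Finite X] (x0 : X) (d1 d2 : ℕ)
    (h0 : ∀ h : H, h • x0 = x0)
    (hd : ∀ x : X, x ≠ x0 → d1 ∣ Nat.card (MulAction.orbit H x) ∨ d2 ∣ Nat.card (MulAction.orbit H x)) :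
    ∃ A B : ℕ, Nat.card X = 1 + d1 * A + d2 * B := by
  haveI : Fintype (MulAction.orbitRel.Quotient H X) := Fintype.ofFinite _
  rw [Nat.card_congr (MulAction.selfEquivSigmaOrbits' H X), Nat.card_sigma]
  rw [← Finset.add_sum_erase Finset.univ _
    (Finset.mem_univ (Quotient.mk'' x0 : MulAction.orbitRel.Quotient H X))]
  have h1 : Nat.card (MulAction.orbitRel.Quotient.orbit
      (Quotient.mk'' x0 : MulAction.orbitRel.Quotient H X)) = 1 := by
    rw [MulAction.orbitRel.Quotient.orbit_mk]
    have : MulAction.orbit H x0 = {x0} := by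
      ext y
      simp only [MulAction.mem_orbit_iff, Set.mem_singleton_iff]
      constructor
      · rintro ⟨h, rfl⟩; exact h0 h
      · rintro rfl; exact ⟨1, one_smul _ _⟩
    rw [this]
    simp
  rw [h1]
  have hd' : ∀ ω ∈ Finset.univ.erase (Quotient.mk'' x0 : MulAction.orbitRel.Quotient H X),
      d1 ∣ Nat.card (MulAction.orbitRel.Quotient.orbit ω) ∨
        d2 ∣ Nat.card (MulAction.orbitRel.Quotient.orbit ω) := by
    intro ω hω
    induction ω using Quotient.inductionOn' with
    | h x =>
      rw [MulAction.orbitRel.Quotient.orbit_mk]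
      apply hd
      rintro rfl
      exact (Finset.mem_erase.mp hω).1 rfl
  rw [← Finset.sum_filter_add_sum_filter_not
    (Finset.univ.erase (Quotient.mk'' x0 : MulAction.orbitRel.Quotient H X))
    (fun ω => d1 ∣ Nat.card (MulAction.orbitRel.Quotient.orbit ω))]
  have hA : d1 ∣ ∑ ω ∈ (Finset.univ.erase
      (Quotient.mk'' x0 : MulAction.orbitRel.Quotient H X)).filter
        (fun ω => d1 ∣ Nat.card (MulAction.orbitRel.Quotient.orbit ω)),
      Nat.card (MulAction.orbitRel.Quotient.orbit ω) := by
    apply Finset.dvd_sum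
    intro ω hω
    exact (Finset.mem_filter.mp hω).2
  have hB : d2 ∣ ∑ ω ∈ (Finset.univ.erase
      (Quotient.mk'' x0 : MulAction.orbitRel.Quotient H X)).filter
        (fun ω => ¬ d1 ∣ Nat.card (MulAction.orbitRel.Quotient.orbit ω)),
      Nat.card (MulAction.orbitRel.Quotient.orbit ω) := by
    apply Finset.dvd_sum
    intro ω hω
    obtain ⟨hω1, hω2⟩ := Finset.mem_filter.mp hω
    rcases hd' ω hω1 with h | h
    · exact absurd h hω2
    · exact h
  obtain ⟨A, hA'⟩ := hA
  obtain ⟨B, hB'⟩ := hB
  exact ⟨A, B, by rw [hA', hB']; ring⟩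

end Cfsg.Agent.Lib.Helper10.N5400
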