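import Mathlib
import Cfsg.Agent.Lib.helper14.SGUDefs
import Cfsg.Agent.Lib.helper6.Symp
import Cfsg.Agent.Lib.Helper5.S5955Alt
import Cfsg.Agent.Lib.Helper20.SGUQNE
import Cfsg.Agent.Lib.Helper20.SGUNORM

set_option autoImplicit false
set_option linter.unusedVariables false
set_option linter.unusedSectionVars false

/-!
# Project SGU, row FRAME (helper19): a hermitian-orthogonal `K`-basis with `Q = -1`.
-/

namespace Cfsg.Agent.Lib.helper14.SGU

open Polynomial Module Cfsg.Agent.Lib.Lead.SPU Cfsg.Agent.Lib.Helper19.SPD Cfsg.Agent.Lib.helper6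
  Cfsg.Agent.Lib.Helper13.S5955

variable {F : Type*} [Field F] {d : ℕ}

theorem sguframe_jj {j : Matrix (Fin d ⊕ Fin d) (Fin d ⊕ Fin d) F} {c0 : F} (hJ : JS j c0)
    (w : Fin d ⊕ Fin d → F) : j.mulVec (j.mulVec w) = c0 • w := by
  rw [Matrix.mulVec_mulVec, hJ.sq, Matrix.smul_mulVec, Matrix.one_mulVec]

/-- the induction behind FRAME -/
theorem sguframe_ind [Fintype F] (hodd : Odd (Fintype.card F))
    {j : Matrix (Fin d ⊕ Fin d) (Fin d ⊕ Fin d) F} {c0 : F} (hJ : JS j c0) :
    ∀ n : ℕ, ∀ U : Submodule F (Fin d ⊕ Fin d → F), (∀ u ∈ U, j.mulVec u ∈ U) → ND U →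
      finrank F U = 2 * n →
      ∃ v : Fin n → (Fin d ⊕ Fin d → F), (∀ k, v k ∈ U) ∧
        (∀ k, Cfsg.sympForm d F (v k) (j.mulVec (v k)) = -1) ∧
        ∀ k l, k ≠ l → Cfsg.sympForm d F (v k) (v l) = 0 ∧
          Cfsg.sympForm d F (v k) (j.mulVec (v l)) = 0 := by
  intro n
  induction n with
  | zero =>
    intro U _ _ _
    exact ⟨Fin.elim0, fun k => k.elim0, fun k => k.elim0, fun k => k.elim0⟩
  | succ n ih =>
    intro U hUj hnd hdim
    have hc0 : c0 ≠ 0 := by
      intro h0
      exact hJ.nsq 0 (by rw [h0, mul_zero])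
    have hne : U ≠ ⊥ := by
      intro h
      rw [h, finrank_bot] at hdim
      omega
    obtain ⟨v0, hv0U, ha⟩ := qne hJ U hUj hnd hne
    set a := Cfsg.sympForm d F v0 (j.mulVec v0) with ha_def
    obtain ⟨α, β, hαβ⟩ := norm_surj hodd c0 (-a⁻¹) hc0
    set v : Fin d ⊕ Fin d → F := α • v0 + β • j.mulVec v0 with hv_def
    have hvU : v ∈ U := U.add_mem (U.smul_mem _ hv0U) (U.smul_mem _ (hUj _ hv0U))
    have hjvU : j.mulVec v ∈ U := hUj _ hvU
    have hjv : j.mulVec v = α • j.mulVec v0 + (β * c0) • v0 := by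
      rw [hv_def, Matrix.mulVec_add, Matrix.mulVec_smul, Matrix.mulVec_smul, sguframe_jj hJ,
        smul_smul]
    have hQv : Cfsg.sympForm d F v (j.mulVec v) = -1 := by
      rw [hjv, hv_def]
      simp only [sympForm_add_left, sympForm_add_right, sympForm_smul_left, sympForm_smul_right,
        sympForm_self, hJ.adj v0 v0, hJ.adj v0 (j.mulVec v0), sguframe_jj hJ, ← ha_def]
      have : a * a⁻¹ = 1 := mul_inv_cancel₀ ha
      linear_combination a * hαβ - this
    have hQv' : Cfsg.sympForm d F (j.mulVec v) v = 1 := by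
      rw [sympForm_swap, hQv, neg_neg]
    have hjjv : Cfsg.sympForm d F (j.mulVec v) (j.mulVec v) = 0 := sympForm_self d _
    -- the hyperbolic plane
    set P : Submodule F (Fin d ⊕ Fin d → F) := Submodule.span F {v, j.mulVec v} with hP_def
    have hPU : P ≤ U := by
      rw [hP_def, Submodule.span_le]
      intro x hx
      rcases hx with rfl | hx
      · exact hvU
      · rw [Set.mem_singleton_iff] at hx
        rw [hx]; exact hjvU
    have hvP : v ∈ P := Submodule.subset_span (by simp)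
    have hjvP : j.mulVec v ∈ P := Submodule.subset_span (by simp)
    have hPj : ∀ u ∈ P, j.mulVec u ∈ P := by
      intro u hu
      rw [hP_def, Submodule.mem_span_pair] at hu
      obtain ⟨s, t, rfl⟩ := hu
      rw [Matrix.mulVec_add, Matrix.mulVec_smul, Matrix.mulVec_smul, sguframe_jj hJ]
      exact P.add_mem (P.smul_mem _ hjvP) (P.smul_mem _ (P.smul_mem _ hvP))
    have halt : ∀ w, stdB d F w w = 0 := fun w => by rw [stdB_apply]; exact sympForm_self d w
    have hPnd : SND (stdB d F) P := by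
      intro u hu hu0
      have hu' := hu
      rw [hP_def, Submodule.mem_span_pair] at hu'
      obtain ⟨s, t, rfl⟩ := hu'
      have h1 := hu0 v hvP
      have h2 := hu0 _ hjvP
      rw [stdB_apply] at h1 h2
      simp only [sympForm_add_left, sympForm_smul_left, sympForm_self, hQv, hQv', hjjv] at h1 h2
      have hs : s = 0 := by linear_combination -h2
      have ht : t = 0 := by linear_combination h1
      rw [hs, ht, zero_smul, zero_smul, add_zero]
    have hli : LinearIndependent F ![v, j.mulVec v] := by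
      rw [LinearIndependent.pair_iff]
      intro s t hst
      have h1 : Cfsg.sympForm d F (s • v + t • j.mulVec v) v = 0 := by
        rw [hst]; exact sympForm_zero_left d v
      have h2 : Cfsg.sympForm d F (s • v + t • j.mulVec v) (j.mulVec v) = 0 := by
        rw [hst]; exact sympForm_zero_left d _
      simp only [sympForm_add_left, sympForm_smul_left, sympForm_self, hQv, hQv', hjjv] at h1 h2
      exact ⟨by linear_combination -h2, by linear_combination h1⟩
    have hPdim : finrank F P = 2 := by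
      have h := finrank_span_eq_card hli
      rw [Matrix.range_cons_cons_empty] at h
      rw [hP_def, h]
      simp
    have hUnd : SND (stdB d F) U := hnd
    obtain ⟨-, -, hU'nd, hU'dim⟩ := h5_split_nd (stdB d F) halt U P hUnd hPU hPnd
    set U' : Submodule F (Fin d ⊕ Fin d → F) := U ⊓ (stdB d F).orthogonal P with hU'_def
    have hmemU' : ∀ w, w ∈ U' ↔ w ∈ U ∧ ∀ u ∈ P, Cfsg.sympForm d F u w = 0 := by
      intro w
      rw [hU'_def, Submodule.mem_inf, h5_mem_orth]
      rfl
    have hU'j : ∀ u ∈ U', j.mulVec u ∈ U' := by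
      intro w hw
      rw [hmemU'] at hw ⊢
      refine ⟨hUj _ hw.1, fun u hu => ?_⟩
      have h1 := hJ.adj u w
      rw [hw.2 _ (hPj u hu)] at h1
      exact neg_eq_zero.mp h1.symm
    have hU'dim' : finrank F U' = 2 * n := by
      rw [hPdim, hdim] at hU'dim
      omega
    obtain ⟨v', hv'U, hv'Q, hv'O⟩ := ih U' hU'j hU'nd hU'dim'
    have hv'1 : ∀ k, Cfsg.sympForm d F v (v' k) = 0 := fun k =>
      ((hmemU' _).mp (hv'U k)).2 v hvP
    have hv'2 : ∀ k, Cfsg.sympForm d F (j.mulVec v) (v' k) = 0 := fun k =>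
      ((hmemU' _).mp (hv'U k)).2 _ hjvP
    have hv'3 : ∀ k, Cfsg.sympForm d F v (j.mulVec (v' k)) = 0 := fun k =>
      ((hmemU' _).mp (hU'j _ (hv'U k))).2 v hvP
    refine ⟨Fin.cons v v', ?_, ?_, ?_⟩
    · intro k
      refine Fin.cases ?_ (fun k => ?_) k
      · simpa using hvU
      · simpa using ((hmemU' _).mp (hv'U k)).1
    · intro k
      refine Fin.cases ?_ (fun k => ?_) k
      · simpa using hQv
      · simpa using hv'Q k
    · intro k l
      refine Fin.cases ?_ (fun k => ?_) k <;> refine Fin.cases ?_ (fun l => ?_) l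
      · intro h; exact absurd rfl h
      · intro _
        simp only [Fin.cons_zero, Fin.cons_succ]
        exact ⟨hv'1 l, hv'3 l⟩
      · intro _
        simp only [Fin.cons_zero, Fin.cons_succ]
        refine ⟨?_, ?_⟩
        · rw [sympForm_swap, hv'1 k, neg_zero]
        · rw [sympForm_swap, hv'2 k, neg_zero]
      · intro hkl
        simp only [Fin.cons_succ]
        exact hv'O k l (fun h => hkl (by rw [h]))

/-- FRAME -/
theorem frame [Fintype F] (hodd : Odd (Fintype.card F)) {j : Matrix (Fin d ⊕ Fin d) (Fin d ⊕ Fin d) F} {c0 : F}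
    (hJ : JS j c0) :
    ∃ v : Fin d → (Fin d ⊕ Fin d → F), (∀ k, Cfsg.sympForm d F (v k) (j.mulVec (v k)) = -1) ∧
      ∀ k l, k ≠ l → Cfsg.sympForm d F (v k) (v l) = 0 ∧ Cfsg.sympForm d F (v k) (j.mulVec (v l)) = 0 := by
  have hnd : ND (⊤ : Submodule F (Fin d ⊕ Fin d → F)) := by
    intro u _ hu0
    by_contra hne
    obtain ⟨x, hx⟩ := sympForm_nondeg d u hne
    exact hx (hu0 x Submodule.mem_top)
  have hdim : finrank F (⊤ : Submodule F (Fin d ⊕ Fin d → F)) = 2 * d := by
    rw [finrank_top, Module.finrank_fintype_fun_eq_card, Fintype.card_sum, Fintype.card_fin]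
    ring
  obtain ⟨v, -, hQ, hO⟩ := sguframe_ind hodd hJ d ⊤ (fun _ _ => Submodule.mem_top) hnd hdim
  exact ⟨v, hQ, hO⟩

end Cfsg.Agent.Lib.helper14.SGU
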