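import Mathlib
import Cfsg.Agent.Lib.Helper10.TEM.Defs
import Cfsg.Agent.Lib.Helper19.TEMP1
import Cfsg.Agent.Lib.Helper16.TEMC7
import Cfsg.Agent.Lib.Helper25.TEMG2core

/-!
# Project TEM (S2191, designer helper10): row P2 (`dec_V`), core on the statement of G1
(`nO_mem_G1` at `l0`); C7 (`nW_UPsi_inv`) and P1 (`dec_U`) are on main.
-/

set_option autoImplicit false

namespace Cfsg.Agent.Lib.Helper10.TEM

open Cfsg.Lie Cfsg.Lie.ChevalleyDatum Matrix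
open Cfsg.Agent.Lib.helper8

universe u

variable {K : Type u} [Field K] {q : ℕ} {f : K ≃+* K} {M H : Subgroup (GG K)}

set_option synthInstance.maxSize 1024 in
/-- the longest element maps `ng Psi_i` onto `Psi_i` -/
theorem temp2_w0 : ∀ L ∈ [Psi1, Psi2, Psi3, Psi4], ∀ r ∈ L, ∃ r' ∈ ng L, r' < 72 ∧
    h8sW chevE6 (flatO l0) r' = r := by
  decide +kernel

theorem temp2_word : ∀ i ∈ flatO l0, i < 6 := by decide

/-- conjugating a level back by `n₀⁻¹` -/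
theorem temp2_back (L : List ℕ) (hL : L ∈ [Psi1, Psi2, Psi3, Psi4]) (g : GG K)
    (hg : g ∈ UPsi K L) : (nO l0 : GG K)⁻¹ * g * nO l0 ∈ UPsi K (ng L) :=
  nW_UPsi_inv (flatO l0) temp2_word L (ng L) (temp2_w0 L hL) g hg

/-- P2 core: hypothesis = the statement of G1 `nO_mem_G1` at `l0`. -/
theorem temp2_core (hF : Frob q f) (hG1 : (nO l0 : GG K) ∈ twistedE6 K q) (v : GG K)
    (hv : v ∈ V1 K q) :
    ∃ c4 ∈ UPsi K (ng Psi4) ⊓ twistedE6 K q, ∃ c3 ∈ UPsi K (ng Psi3) ⊓ twistedE6 K q,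
      ∃ c2 ∈ UPsi K (ng Psi2) ⊓ twistedE6 K q, ∃ c1 ∈ UPsi K (ng Psi1) ⊓ twistedE6 K q,
        v = c4 * c3 * c2 * c1 := by
  have hu : (nO l0 : GG K) * v * (nO l0 : GG K)⁻¹ ∈ U1 K q :=
    ⟨temg2_conj v hv.1, Subgroup.mul_mem _ (Subgroup.mul_mem _ hG1 hv.2) (Subgroup.inv_mem _ hG1)⟩
  obtain ⟨b4, hb4, b3, hb3, b2, hb2, b1, hb1, he⟩ := dec_U hF _ hu
  have hc : ∀ L ∈ [Psi1, Psi2, Psi3, Psi4], ∀ b ∈ UPsi K L ⊓ twistedE6 K q,
      (nO l0 : GG K)⁻¹ * b * nO l0 ∈ UPsi K (ng L) ⊓ twistedE6 K q := fun L hL b hb =>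
    ⟨temp2_back L hL b hb.1, Subgroup.mul_mem _ (Subgroup.mul_mem _ (Subgroup.inv_mem _ hG1) hb.2) hG1⟩
  refine ⟨_, hc Psi4 (by simp) b4 hb4, _, hc Psi3 (by simp) b3 hb3, _, hc Psi2 (by simp) b2 hb2,
    _, hc Psi1 (by simp) b1 hb1, ?_⟩
  have h2 : v = (nO l0 : GG K)⁻¹ * ((nO l0 : GG K) * v * (nO l0 : GG K)⁻¹) * (nO l0 : GG K) := by
    group
  rw [h2, he]
  group

end Cfsg.Agent.Lib.Helper10.TEM
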