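import Mathlib
import Cfsg.Agent.Lib.Helper10.TEM.Defs
import Cfsg.Agent.Lib.Helper19.TEMP2core

/-!
# Project TEM (S2191, designer helper10): row P2 (`dec_V`), verbatim
(with an own-name proof `temp2_nO_mem` of the statement of G1, so that the row does not wait).
-/

set_option autoImplicit false

namespace Cfsg.Agent.Lib.Helper10.TEM

open Cfsg.Lie Cfsg.Lie.ChevalleyDatum Matrix
open Cfsg.Agent.Lib.helper8

universe u

variable {K : Type u} [Field K] {q : ℕ} {f : K ≃+* K} {M H : Subgroup (GG K)}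

/-- the orbit words are the words of `h8orbsE6` -/
theorem temp2_orbW (k : ℕ) : ∃ J ∈ h8orbsE6, orbW k = J.map Fin.val := by
  match k with
  | 0 => exact ⟨[⟨1, by decide⟩], by simp [h8orbsE6], rfl⟩
  | 1 => exact ⟨[⟨3, by decide⟩], by simp [h8orbsE6], rfl⟩
  | 2 => exact ⟨[⟨2, by decide⟩, ⟨4, by decide⟩], by simp [h8orbsE6], rfl⟩
  | (n + 3) => exact ⟨[⟨0, by decide⟩, ⟨5, by decide⟩], by simp [h8orbsE6], rfl⟩

/-- (the statement of G1) `nO l ∈ G¹` -/
theorem temp2_nO_mem (hF : Frob q f) (l : List ℕ) : (nO l : GG K) ∈ twistedE6 K q := by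
  induction l with
  | nil => exact Subgroup.one_mem _
  | cons k l ih =>
    have e : (nO (k :: l) : GG K) = nW (orbW k) * nO l := by
      unfold nO nW flatO
      rw [List.flatMap_cons, h8nWU_append]
    rw [e]
    obtain ⟨J, hJ, hk⟩ := temp2_orbW k
    refine Subgroup.mul_mem _ ?_ ih
    unfold nW
    rw [hk]
    exact h8twE6_nJ hB hC q hF.neg J hJ

-- ROW P2  [M]  conjugate by `n₀ = nO l0` (`w₀ r = 71 - σ r`, an involution mapping `ng Psi_i` onto
-- `Psi_i`): `n₀ v n₀⁻¹ ∈ U1` (as in G2), apply P1, conjugate back with C7.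
theorem dec_V (hF : Frob q f) (v : GG K) (hv : v ∈ V1 K q) :
    ∃ c4 ∈ UPsi K (ng Psi4) ⊓ twistedE6 K q, ∃ c3 ∈ UPsi K (ng Psi3) ⊓ twistedE6 K q,
      ∃ c2 ∈ UPsi K (ng Psi2) ⊓ twistedE6 K q, ∃ c1 ∈ UPsi K (ng Psi1) ⊓ twistedE6 K q,
        v = c4 * c3 * c2 * c1 :=
  temp2_core hF (temp2_nO_mem hF l0) v hv

end Cfsg.Agent.Lib.Helper10.TEM
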