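import Mathlib
import Cfsg.Prelude.Def_GeometricClasses
import Cfsg.Agent.Lib.Helper27.ASC.Defs
import Cfsg.Agent.Lib.Lead.ASCU.Defs
import Cfsg.Agent.Lib.Helper28.UHerm

/-! Project ASCU, piece UPR2: `SU_n(q)`, `n ≥ 3`, stabilises no orthogonal frame of non-degenerate lines
(product of two quasi-reflections with inverse determinants). -/

set_option autoImplicit false
set_option linter.unusedVariables false
set_option linter.unusedSectionVars false
set_option linter.unusedSimpArgs false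

namespace Cfsg.Agent.Lib.Lead.ASCU

open Cfsg Cfsg.Geo Cfsg.Agent.Lib.Helper27.ASC
open scoped MatrixGroups Matrix

variable {n : ℕ} {F : Type*} [Field F]

open Cfsg.Agent.Lib.Helper28.UForm in
/-- the quasi-reflection `x ↦ x + c f(x,v) v` for a unitary form, `c + σ c + c σ c f(v,v) = 0` -/
theorem ascuupr2_refl {σ : F ≃+* F} {f : (Fin n → F) → (Fin n → F) → F} (hf : IsUnitaryForm σ f)
    (v : Fin n → F) (c : F) (hc : σ c + c + c * σ c * f v v = 0) :
    ∃ g : GL (Fin n) F,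
      (∀ x y, f ((g : Matrix (Fin n) (Fin n) F) *ᵥ x) ((g : Matrix (Fin n) (Fin n) F) *ᵥ y) = f x y) ∧
      (g : Matrix (Fin n) (Fin n) F).det = 1 + c * f v v ∧
      ∀ x, (g : Matrix (Fin n) (Fin n) F) *ᵥ x = x + (c * f x v) • v := by
  classical
  set M : Matrix (Fin n) (Fin n) F := 1 + Matrix.vecMulVec v (c • rho f v) with hM
  have hdet : M.det = 1 + c * f v v := by
    rw [hM, Matrix.vecMulVec_eq Unit, Matrix.det_one_add_replicateCol_mul_replicateRow,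
      smul_dotProduct, ← f_eq_dot hf, smul_eq_mul]
  have ha : σ (f v v) = f v v := f_self_fixed hf v
  have hunit : (1 + c * f v v) * (1 + σ c * f v v) = 1 := by
    have : (1 + c * f v v) * (1 + σ c * f v v) = 1 + (σ c + c + c * σ c * f v v) * f v v := by ring
    rw [this, hc, zero_mul, add_zero]
  have hne : M.det ≠ 0 := by
    rw [hdet]
    intro h
    rw [h, zero_mul] at hunit
    exact zero_ne_one hunit
  have hact : ∀ x, M *ᵥ x = x + (c * f x v) • v := by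
    intro x
    rw [hM, Matrix.add_mulVec, Matrix.one_mulVec, Matrix.vecMulVec_mulVec, smul_dotProduct,
      ← f_eq_dot hf, smul_eq_mul, op_smul_eq_smul]
  refine ⟨Matrix.GeneralLinearGroup.mk'' M (isUnit_iff_ne_zero.2 hne), ?_, hdet, hact⟩
  intro x y
  show f (M *ᵥ x) (M *ᵥ y) = f x y
  rw [hact, hact, hf.add_left, f_add_right hf, f_add_right hf, hf.smul_left, f_smul_right hf,
    f_smul_right hf, hf.smul_left, map_mul, hf.herm v y]
  have : f x y + σ c * σ (f y v) * f x v + (c * f x v * σ (f y v) + σ c * σ (f y v) * (c * f x v * f v v)) =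
      f x y + f x v * σ (f y v) * (σ c + c + c * σ c * f v v) := by ring
  rw [this, hc, mul_zero, add_zero]

open Cfsg.Agent.Lib.Helper28.UForm in
/-- the quasi-reflection in a non-isotropic `v` with multiplier `ζ` of norm one -/
theorem ascuupr2_refl' {σ : F ≃+* F} {f : (Fin n → F) → (Fin n → F) → F} (hf : IsUnitaryForm σ f)
    (v : Fin n → F) (hv : f v v ≠ 0) (ζ : F) (hζ : ζ * σ ζ = 1) :
    ∃ g : GL (Fin n) F,
      (∀ x y, f ((g : Matrix (Fin n) (Fin n) F) *ᵥ x) ((g : Matrix (Fin n) (Fin n) F) *ᵥ y) = f x y) ∧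
      (g : Matrix (Fin n) (Fin n) F).det = ζ ∧
      ∀ x, (g : Matrix (Fin n) (Fin n) F) *ᵥ x = x + ((ζ - 1) / f v v * f x v) • v := by
  have ha : σ (f v v) = f v v := f_self_fixed hf v
  have hc : σ ((ζ - 1) / f v v) + (ζ - 1) / f v v + (ζ - 1) / f v v * σ ((ζ - 1) / f v v) * f v v = 0 := by
    rw [map_div₀, map_sub, map_one, ha]
    field_simp
    linear_combination hζ
  obtain ⟨g, h1, h2, h3⟩ := ascuupr2_refl hf v ((ζ - 1) / f v v) hc
  refine ⟨g, h1, ?_, h3⟩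
  rw [h2]
  field_simp
  ring

open Cfsg.Agent.Lib.Helper28.UForm in
/-- product of the quasi-reflections in `v` (multiplier `ζ`) and in `d0` (multiplier `ζ⁻¹`) -/
theorem ascuupr2_prod {σ : F ≃+* F} {f : (Fin n → F) → (Fin n → F) → F} (hf : IsUnitaryForm σ f)
    (ζ : F) (hζ : ζ * σ ζ = 1) (d0 v : Fin n → F) (h00 : f d0 d0 ≠ 0) (hv : f v v ≠ 0) :
    ∃ g : GL (Fin n) F,
      (∀ x y, f ((g : Matrix (Fin n) (Fin n) F) *ᵥ x) ((g : Matrix (Fin n) (Fin n) F) *ᵥ y) = f x y) ∧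
      (g : Matrix (Fin n) (Fin n) F).det = 1 ∧
      ∀ y, f ((g : Matrix (Fin n) (Fin n) F) *ᵥ d0) y =
        ζ⁻¹ * (f d0 y + (ζ - 1) / f v v * f d0 v * f v y) := by
  have hζ0 : ζ ≠ 0 := by
    rintro rfl
    simp at hζ
  have hζi : ζ⁻¹ * σ ζ⁻¹ = 1 := by
    rw [map_inv₀, ← mul_inv, hζ, inv_one]
  obtain ⟨g1, h1a, h1b, h1c⟩ := ascuupr2_refl' hf v hv ζ hζ
  obtain ⟨g2, h2a, h2b, h2c⟩ := ascuupr2_refl' hf d0 h00 ζ⁻¹ hζi
  refine ⟨g1 * g2, ?_, ?_, ?_⟩
  · intro x y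
    rw [Units.val_mul, ← Matrix.mulVec_mulVec, ← Matrix.mulVec_mulVec, h1a, h2a]
  · rw [Units.val_mul, Matrix.det_mul, h1b, h2b, mul_inv_cancel₀ hζ0]
  · intro y
    have e1 : (g2 : Matrix (Fin n) (Fin n) F) *ᵥ d0 = ζ⁻¹ • d0 := by
      rw [h2c, div_mul_cancel₀ _ h00]
      rw [sub_smul, one_smul]
      abel
    rw [Units.val_mul, ← Matrix.mulVec_mulVec, e1, Matrix.mulVec_smul, h1c, hf.smul_left,
      hf.add_left, hf.smul_left]

open Cfsg.Agent.Lib.Helper28.UForm in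
/-- core of UPR2 for an abstract unitary form -/
theorem ascuupr2_core {σ : F ≃+* F} {f : (Fin n → F) → (Fin n → F) → F} (hf : IsUnitaryForm σ f)
    (ζ : F) (hζ : ζ * σ ζ = 1) (hζ2 : ζ * ζ ≠ 1) (d0 d1 d2 : Fin n → F)
    (h00 : f d0 d0 ≠ 0) (h11 : f d1 d1 ≠ 0) (h22 : f d2 d2 ≠ 0)
    (h01 : f d0 d1 = 0) (h02 : f d0 d2 = 0) (h12 : f d1 d2 = 0) :
    ∃ g : GL (Fin n) F,
      (∀ x y, f ((g : Matrix (Fin n) (Fin n) F) *ᵥ x) ((g : Matrix (Fin n) (Fin n) F) *ᵥ y) = f x y) ∧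
      (g : Matrix (Fin n) (Fin n) F).det = 1 ∧
      ((f ((g : Matrix (Fin n) (Fin n) F) *ᵥ d0) d0 ≠ 0 ∧ f ((g : Matrix (Fin n) (Fin n) F) *ᵥ d0) d1 ≠ 0) ∨
       (f ((g : Matrix (Fin n) (Fin n) F) *ᵥ d0) d1 ≠ 0 ∧ f ((g : Matrix (Fin n) (Fin n) F) *ᵥ d0) d2 ≠ 0)) := by
  have h10 : f d1 d0 = 0 := f_swap_zero hf h01
  have h20 : f d2 d0 = 0 := f_swap_zero hf h02
  have h21 : f d2 d1 = 0 := f_swap_zero hf h12
  have hζ0 : ζ ≠ 0 := by
    rintro rfl
    simp at hζ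
  have hζ1 : ζ - 1 ≠ 0 := by
    intro h
    have : ζ = 1 := sub_eq_zero.1 h
    rw [this] at hζ2
    simp at hζ2
  have hs0 : σ (f d0 d0) = f d0 d0 := f_self_fixed hf d0
  have hs1 : σ (f d1 d1) = f d1 d1 := f_self_fixed hf d1
  by_cases hsum : f d0 d0 + f d1 d1 = 0
  · -- v = d0 + d1 + d2
    have hvv : f (d0 + d1 + d2) (d0 + d1 + d2) = f d2 d2 := by
      simp only [hf.add_left, f_add_right hf, h01, h02, h12, h10, h20, h21, add_zero, zero_add]
      rw [hsum, zero_add]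
    have hv : f (d0 + d1 + d2) (d0 + d1 + d2) ≠ 0 := by rw [hvv]; exact h22
    obtain ⟨g, hg1, hg2, hg3⟩ := ascuupr2_prod hf ζ hζ d0 (d0 + d1 + d2) h00 hv
    refine ⟨g, hg1, hg2, Or.inr ⟨?_, ?_⟩⟩
    · rw [hg3, hvv]
      simp only [hf.add_left, f_add_right hf, h01, h02, h12, h10, h20, h21, add_zero, zero_add]
      exact mul_ne_zero (inv_ne_zero hζ0) (mul_ne_zero (mul_ne_zero (div_ne_zero hζ1 h22) h00) h11)
    · rw [hg3, hvv]
      simp only [hf.add_left, f_add_right hf, h01, h02, h12, h10, h20, h21, add_zero, zero_add]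
      exact mul_ne_zero (inv_ne_zero hζ0) (mul_ne_zero (mul_ne_zero (div_ne_zero hζ1 h22) h00) h22)
  · -- v = d0 + d1
    have hvv : f (d0 + d1) (d0 + d1) = f d0 d0 + f d1 d1 := by
      simp only [hf.add_left, f_add_right hf, h01, h10, add_zero, zero_add]
    have hv : f (d0 + d1) (d0 + d1) ≠ 0 := by rw [hvv]; exact hsum
    obtain ⟨g, hg1, hg2, hg3⟩ := ascuupr2_prod hf ζ hζ d0 (d0 + d1) h00 hv
    refine ⟨g, hg1, hg2, Or.inl ⟨?_, ?_⟩⟩
    · rw [hg3, hvv]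
      simp only [hf.add_left, f_add_right hf, h01, h10, add_zero, zero_add]
      have hkey : f d1 d1 + ζ * f d0 d0 ≠ 0 := by
        intro h
        have h' := congrArg σ h
        rw [map_add, map_mul, hs0, hs1, map_zero] at h'
        have h2 : (ζ - σ ζ) * f d0 d0 = 0 := by linear_combination h - h'
        rcases mul_eq_zero.1 h2 with h3 | h3
        · have : σ ζ = ζ := (sub_eq_zero.1 h3).symm
          rw [this] at hζ
          exact hζ2 hζ
        · exact h00 h3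
      have : f d0 d0 + (ζ - 1) / (f d0 d0 + f d1 d1) * f d0 d0 * f d0 d0 =
          f d0 d0 * (f d1 d1 + ζ * f d0 d0) / (f d0 d0 + f d1 d1) := by
        field_simp
        ring
      rw [this]
      exact mul_ne_zero (inv_ne_zero hζ0) (div_ne_zero (mul_ne_zero h00 hkey) hsum)
    · rw [hg3, hvv]
      simp only [hf.add_left, f_add_right hf, h01, h10, add_zero, zero_add]
      exact mul_ne_zero (inv_ne_zero hζ0) (mul_ne_zero (mul_ne_zero (div_ne_zero hζ1 hsum) h00) h11)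

/-- an element of norm one whose square is not one -/
theorem ascuupr2_zeta [Fintype F] (q : ℕ) (hF : Fintype.card F = q ^ 2) :
    ∃ ζ : F, ζ * ζ ≠ 1 ∧ ζ * ζ ^ q = 1 := by
  classical
  have hq2 := Cfsg.Agent.Lib.Helper28.UHerm.two_le_q hF
  obtain ⟨g, hg⟩ := IsCyclic.exists_generator (α := Fˣ)
  have hord : orderOf g = q ^ 2 - 1 := by
    rw [orderOf_eq_card_of_forall_mem_zpowers hg, Nat.card_eq_fintype_card, Fintype.card_units, hF]
  have hmul : (q - 1) * (q + 1) = q ^ 2 - 1 := by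
    obtain ⟨m, rfl⟩ : ∃ m, q = m + 1 := ⟨q - 1, by omega⟩
    have : (m + 1) ^ 2 = (m + 1 - 1) * (m + 1 + 1) + 1 := by
      simp only [Nat.add_sub_cancel]; ring
    omega
  refine ⟨((g ^ (q - 1) : Fˣ) : F), ?_, ?_⟩
  · intro h
    have h2 : g ^ ((q - 1) * 2) = 1 := by
      apply Units.ext
      rw [pow_mul, pow_two]
      simpa using h
    have h3 := orderOf_dvd_of_pow_eq_one h2
    rw [hord, ← hmul] at h3
    have h4 : q + 1 ∣ 2 := Nat.dvd_of_mul_dvd_mul_left (by omega) h3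
    have h5 := Nat.le_of_dvd (by omega) h4
    omega
  · rw [← pow_succ', ← Units.val_pow_eq_pow_val, ← pow_mul, hmul, ← hord, pow_orderOf_eq_one]
    rfl

variable [Fintype F]

/-- UPR2 -/
theorem upr_dec (q : ℕ) (hF : Fintype.card F = q ^ 2) (hn : 3 ≤ n) {t : ℕ}
    (D : Fin t → Submodule F (Fin n → F)) (hD : IsNondegenerateMDecomposition (hermForm n F q) 1 D) :
    ¬ SUg n F q ≤ decompositionStabilizer D := by
  classical
  intro hle
  obtain ⟨σ, hσ, hf⟩ := Cfsg.Agent.Lib.Helper28.UHerm.herm_unitary hF n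
  -- generators of the lines
  have hgen : ∀ i, ∃ d : Fin n → F, d ∈ D i ∧ d ≠ 0 ∧ ∀ x ∈ D i, ∃ c : F, x = c • d := by
    intro i
    have h1 := hD.decomp.finrank_eq i
    obtain ⟨w, hw0, hw⟩ := finrank_eq_one_iff'.mp h1
    refine ⟨w, w.2, fun h => hw0 (Subtype.ext h), fun x hx => ?_⟩
    obtain ⟨c, hc⟩ := hw ⟨x, hx⟩
    exact ⟨c, by rw [← Subtype.coe_mk x hx, ← hc]; rfl⟩
  choose d hdD hd0 hdspan using hgen
  -- t ≥ 3
  have ht : n ≤ t := by
    have h1 : (⊤ : Submodule F (Fin n → F)) ≤ Submodule.span F (Set.range d) := by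
      rw [← hD.decomp.iSup_eq_top]
      apply iSup_le
      intro i x hx
      obtain ⟨c, rfl⟩ := hdspan i x hx
      exact Submodule.smul_mem _ _ (Submodule.subset_span ⟨i, rfl⟩)
    have h2 : Module.finrank F (Submodule.span F (Set.range d)) ≤ Fintype.card (Fin t) :=
      finrank_range_le_card d
    have h3 : Submodule.span F (Set.range d) = ⊤ := top_le_iff.1 h1
    rw [h3, finrank_top, Module.finrank_fin_fun, Fintype.card_fin] at h2
    exact h2
  have hc : ∀ i, hermForm n F q (d i) (d i) ≠ 0 := by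
    intro i h
    obtain ⟨⟨x, hx, hx2⟩, _⟩ := hD.nondegenerate i (d i) (hdD i) (hd0 i)
    obtain ⟨c, rfl⟩ := hdspan i x hx
    rw [hf.smul_left, h, mul_zero] at hx2
    exact hx2 rfl
  have horth : ∀ i j, i ≠ j → hermForm n F q (d i) (d j) = 0 :=
    fun i j hij => hD.orthogonal i j hij _ (hdD i) _ (hdD j)
  obtain ⟨ζ, hζ2, hζ⟩ := ascuupr2_zeta q hF
  rw [← hσ] at hζ
  have h01 : (⟨0, by omega⟩ : Fin t) ≠ ⟨1, by omega⟩ := by simp [Fin.ext_iff]
  have h02 : (⟨0, by omega⟩ : Fin t) ≠ ⟨2, by omega⟩ := by simp [Fin.ext_iff]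
  have h12 : (⟨1, by omega⟩ : Fin t) ≠ ⟨2, by omega⟩ := by simp [Fin.ext_iff]
  obtain ⟨g, hgiso, hgdet, hcase⟩ := ascuupr2_core hf ζ hζ hζ2 (d ⟨0, by omega⟩) (d ⟨1, by omega⟩)
    (d ⟨2, by omega⟩) (hc _) (hc _) (hc _) (horth _ _ h01) (horth _ _ h02) (horth _ _ h12)
  have hgS : g ∈ SUg n F q := by
    refine ⟨(mem_GU_iff q g).2 hgiso, ?_⟩
    show Matrix.GeneralLinearGroup.det _ = 1
    apply Units.ext
    rw [Matrix.GeneralLinearGroup.val_det_apply]
    exact hgdet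
  obtain ⟨π, hπ⟩ := hle hgS
  have hmem : (g : Matrix (Fin n) (Fin n) F) *ᵥ d ⟨0, by omega⟩ ∈ D (π ⟨0, by omega⟩) := by
    rw [← hπ ⟨0, by omega⟩]
    exact ⟨d ⟨0, by omega⟩, hdD _, by simp [Matrix.toLin'_apply]⟩
  have key : ∀ k, hermForm n F q ((g : Matrix (Fin n) (Fin n) F) *ᵥ d ⟨0, by omega⟩) (d k) ≠ 0 →
      π ⟨0, by omega⟩ = k := by
    intro k hk
    by_contra hne
    exact hk (hD.orthogonal _ _ hne _ hmem _ (hdD k))
  rcases hcase with ⟨h1, h2⟩ | ⟨h1, h2⟩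
  · exact h01 ((key _ h1).symm.trans (key _ h2))
  · exact h12 ((key _ h1).symm.trans (key _ h2))

end Cfsg.Agent.Lib.Lead.ASCU
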