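import Mathlib
import Cfsg.Agent.Lib.Helper19.U3P.Defs
import Cfsg.Agent.Lib.helper2.SLPM1
import Cfsg.Agent.Lib.Helper28.SP4R1

/-!
# U3P rows B2 (`relM_basic`) and B3 (`Z_le_B`) (helper19): cores on the statement of B1 (`conj_phi`).
-/

set_option autoImplicit false

namespace Cfsg.Agent.Lib.Helper19.U3P

open Cfsg.Agent.Lib.helper17.SLP Cfsg.Agent.Lib.helper3.SP4
open Polynomial

universe u v

section core

variable {K : Type u} [Field K] [Fintype K] {G : Type v} [Group G]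

theorem u3pb2_cj_succ (h a : G) (i : ℤ) : cj h a (i + 1) = h * cj h a i * h⁻¹ := by
  have := conj_cj h a i 1
  rw [zpow_one, zpow_neg, zpow_one] at this
  rw [this, add_comm]

theorem u3pb2_cj_pred (h a : G) (i : ℤ) : cj h a (i - 1) = h⁻¹ * cj h a i * h := by
  have := conj_cj h a i (-1)
  rw [zpow_neg, zpow_one, neg_neg, zpow_one] at this
  rw [this]; congr 1; ring

omit [Fintype K] in
/-- the hypotheses of `conj_phi` from `RelM`. -/
theorem u3pb2_hyps (q : ℕ) (bK : Kˣ) (φ : SL2 K →* G) (u h w : G) (R : RelM q bK φ u h w) :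
    h * φ (xM 1) * h⁻¹ = φ (xM (bK : K)) ∧ Commute h (φ (hM bK)) ∧
      h * φ wM * h⁻¹ = φ wM * (φ (hM bK))⁻¹ := by
  refine ⟨R.m1, ?_, ?_⟩
  · rw [R.phi_h]
    exact (Commute.refl h).pow_right _
  · rw [R.phi_w, R.phi_h]
    have h1 : h * w = w * h ^ (-(q : ℤ)) := by
      rw [← R.m2]; group
    calc h * w * h⁻¹ = w * h ^ (-(q : ℤ)) * h⁻¹ := by rw [h1]
      _ = w * (h ^ (q + 1))⁻¹ := by
        rw [mul_assoc]
        congr 1
        rw [← zpow_natCast, ← zpow_neg, ← zpow_neg_one, ← zpow_add]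
        congr 1
        push_cast
        ring

/-- B2 core: the conclusion of B1 (`conj_phi`) as hypotheses `hc1 hc2`. -/
theorem u3pb2_core (q : ℕ) (hq : 2 ≤ q) (hK : Fintype.card K = q) (bK : Kˣ)
    (hbK : ∀ y : Kˣ, y ∈ Subgroup.zpowers bK) (φ : SL2 K →* G) (u h w : G) (R : RelM q bK φ u h w)
    (hc1 : ∀ t : K, h * φ (xM t) * h⁻¹ = φ (xM ((bK : K) * t)))
    (hc2 : ∀ g, ∃ g', h * φ g * h⁻¹ = φ g') :
    (∀ (t : K) (i : ℤ), cj h (φ (xM t)) i = φ (xM (((bK ^ i : Kˣ) : K) * t))) ∧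
    (∀ g, ∃ g', h * φ g * h⁻¹ = φ g') ∧ (∀ g, ∃ g', h⁻¹ * φ g * h = φ g') ∧
    h ^ ((q + 1) * (q - 1)) = 1 ∧
    (∀ t : K, Commute (h ^ (q - 1)) (φ (xM t))) ∧
    w ^ 2 ∈ Subgroup.zpowers h ∧ (∀ s : Kˣ, φ (hM s) ∈ Subgroup.zpowers h) ∧
    ∀ i : ℤ, w⁻¹ * h ^ i * w = h ^ (-(q : ℤ) * i) := by
  classical
  -- (1)
  have hc1' : ∀ t : K, h⁻¹ * φ (xM t) * h = φ (xM (((bK⁻¹ : Kˣ) : K) * t)) := by
    intro t
    have := hc1 (((bK⁻¹ : Kˣ) : K) * t)
    rw [← mul_assoc, ← Units.val_mul, mul_inv_cancel, Units.val_one, one_mul] at this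
    rw [← this]; group
  have P1 : ∀ (t : K) (i : ℤ), cj h (φ (xM t)) i = φ (xM (((bK ^ i : Kˣ) : K) * t)) := by
    intro t i
    induction i using Int.induction_on with
    | zero => simp [cj_zero]
    | succ i ih =>
      rw [u3pb2_cj_succ, ih, hc1]
      congr 2
      rw [← mul_assoc, ← Units.val_mul, zpow_add, zpow_one, mul_comm bK]
    | pred i ih =>
      rw [u3pb2_cj_pred, ih, hc1']
      congr 2
      rw [← mul_assoc, ← Units.val_mul]
      congr 2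
      rw [sub_eq_add_neg, zpow_add, zpow_neg_one, mul_comm]
  -- powers of `hM bK`
  have hpowK : bK ^ (q - 1) = 1 := by
    have : Fintype.card Kˣ = q - 1 := by rw [Fintype.card_units, hK]
    rw [← this]
    exact pow_card_eq_one
  have hhM : ∀ i : ℤ, φ (hM (bK ^ i)) = (h ^ (q + 1)) ^ i := by
    intro i
    rw [← hM_zpow, map_zpow, R.phi_h]
  have hhMmem : ∀ s : Kˣ, φ (hM s) ∈ Subgroup.zpowers h := by
    intro s
    obtain ⟨i, hi⟩ := Subgroup.mem_zpowers_iff.mp (hbK s)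
    rw [← hi, hhM, ← zpow_natCast, ← zpow_mul]
    exact Subgroup.zpow_mem_zpowers h _
  -- (4)
  have P4 : h ^ ((q + 1) * (q - 1)) = 1 := by
    have h1 := hhM ((q - 1 : ℕ) : ℤ)
    rw [zpow_natCast, zpow_natCast, hpowK, hM_one, map_one] at h1
    rw [pow_mul]; exact h1.symm
  -- (3)
  have hpowconj : ∀ (n : ℕ) (g : SL2 K), ∃ g', h ^ n * φ g * (h ^ n)⁻¹ = φ g' := by
    intro n
    induction n with
    | zero => intro g; exact ⟨g, by simp⟩
    | succ n ih =>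
      intro g
      obtain ⟨g1, hg1⟩ := ih g
      obtain ⟨g2, hg2⟩ := hc2 g1
      refine ⟨g2, ?_⟩
      rw [← hg2, ← hg1, pow_succ']; group
  have P3 : ∀ g, ∃ g', h⁻¹ * φ g * h = φ g' := by
    intro g
    obtain ⟨g1, hg1⟩ := hpowconj q ((hM bK)⁻¹ * g * hM bK)
    refine ⟨g1, ?_⟩
    rw [← hg1, map_mul, map_mul, map_inv, R.phi_h]
    have e : h⁻¹ = h ^ q * (h ^ (q + 1))⁻¹ := by
      rw [pow_succ]; group
    have e' : h = h ^ (q + 1) * (h ^ q)⁻¹ := by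
      rw [pow_succ]; group
    calc h⁻¹ * φ g * h = (h ^ q * (h ^ (q + 1))⁻¹) * φ g * (h ^ (q + 1) * (h ^ q)⁻¹) := by
          rw [← e, ← e']
      _ = h ^ q * ((h ^ (q + 1))⁻¹ * φ g * h ^ (q + 1)) * (h ^ q)⁻¹ := by group
  -- (5)
  have P5 : ∀ t : K, Commute (h ^ (q - 1)) (φ (xM t)) := by
    intro t
    have := P1 t ((q - 1 : ℕ) : ℤ)
    rw [zpow_natCast, hpowK, Units.val_one, one_mul] at this
    unfold cj at this
    rw [zpow_natCast, zpow_neg, zpow_natCast] at this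
    unfold Commute SemiconjBy
    calc h ^ (q - 1) * φ (xM t) = (h ^ (q - 1) * φ (xM t) * (h ^ (q - 1))⁻¹) * h ^ (q - 1) := by group
      _ = φ (xM t) * h ^ (q - 1) := by rw [this]
  -- (6)
  have P6 : w ^ 2 ∈ Subgroup.zpowers h := by
    have : w ^ 2 = φ (hM (-1)) := by
      rw [← R.phi_w, ← map_pow, wM_sq]
    rw [this]
    exact hhMmem _
  -- (8)
  have P8 : ∀ i : ℤ, w⁻¹ * h ^ i * w = h ^ (-(q : ℤ) * i) := by
    intro i
    have := conj_zpow (a := w⁻¹) (b := h) (i := i)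
    rw [inv_inv] at this
    rw [← this, R.m2, ← zpow_mul]
  exact ⟨P1, hc2, P3, P4, P5, P6, hhMmem, P8⟩

omit [Fintype K] in
/-- B3 core: on items (1) of B2. -/
theorem u3pb3_core (q : ℕ) (bK : Kˣ) (hbK : ∀ y : Kˣ, y ∈ Subgroup.zpowers bK) (φ : SL2 K →* G)
    (u h w : G) (R : RelM q bK φ u h w)
    (P1 : ∀ (t : K) (i : ℤ), cj h (φ (xM t)) i = φ (xM (((bK ^ i : Kˣ) : K) * t))) :
    ∀ t : K, φ (xM t) ∈ Subgroup.closure ({u, h} : Set G) := by
  intro t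
  have hu : u ∈ Subgroup.closure ({u, h} : Set G) := Subgroup.subset_closure (by simp)
  have hh : h ∈ Subgroup.closure ({u, h} : Set G) := Subgroup.subset_closure (by simp)
  have hcjmem : ∀ (x : G) (i : ℤ), x ∈ Subgroup.closure ({u, h} : Set G) →
      cj h x i ∈ Subgroup.closure ({u, h} : Set G) := by
    intro x i hx
    unfold cj
    exact Subgroup.mul_mem _ (Subgroup.mul_mem _ (Subgroup.zpow_mem _ hh _) hx)
      (Subgroup.zpow_mem _ hh _)
  have hz0 : z0 q u h ∈ Subgroup.closure ({u, h} : Set G) := by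
    unfold z0 cm
    have h1 := hcjmem u ((q : ℤ) - 1) hu
    exact Subgroup.mul_mem _ (Subgroup.mul_mem _ (Subgroup.mul_mem _ hu h1) (Subgroup.inv_mem _ hu))
      (Subgroup.inv_mem _ h1)
  by_cases ht : t = 0
  · rw [ht, xM_zero, map_one]; exact Subgroup.one_mem _
  · obtain ⟨i, hi⟩ := Subgroup.mem_zpowers_iff.mp (hbK (Units.mk0 t ht))
    have ht' : t = ((bK ^ i : Kˣ) : K) * 1 := by
      rw [mul_one, hi]; rfl
    rw [ht', ← P1 1 i, R.phi_x]
    exact hcjmem _ _ hz0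

end core

end Cfsg.Agent.Lib.Helper19.U3P
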