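import Mathlib
import Cfsg.Prelude.Def_GeometricClasses
import Cfsg.Agent.Lib.Helper27.ASC.Defs
import Cfsg.Agent.Lib.Helper19.ASG.Defs
import Cfsg.Agent.Lib.Helper19.ASU.Defs
import Cfsg.Agent.Lib.Helper28.Herm
import Cfsg.Agent.Lib.Helper1.ASGCLIF3
import Cfsg.Agent.Lib.Helper9.ASGD2T.Defs

/-!
# Project ASU, module ADJ : the adjoint `x* = uadj q x = (xᵀ)^(q)` for `hermForm n F q`, `|F| = q²`
-/

set_option autoImplicit false
set_option linter.unusedVariables false
set_option linter.unusedSectionVars false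

namespace Cfsg.Agent.Lib.Helper19.ASU

open Cfsg Cfsg.Geo Cfsg.Agent.Lib.Helper27.ASC Cfsg.Agent.Lib.Helper19.ASG
open scoped MatrixGroups Matrix

variable {n : ℕ} {F : Type*} [Field F] [Fintype F] {q : ℕ}

/-- the Frobenius `a ↦ a ^ q` as a ring homomorphism -/
noncomputable def ufrob (hF : Fintype.card F = q ^ 2) : F →+* F :=
  Classical.choose (Cfsg.Agent.S0779.exists_frob hF)

theorem ufrob_apply (hF : Fintype.card F = q ^ 2) (x : F) : ufrob hF x = x ^ q :=
  (Classical.choose_spec (Cfsg.Agent.S0779.exists_frob hF)).1 x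

theorem ufrob_ufrob (hF : Fintype.card F = q ^ 2) (x : F) : ufrob hF (ufrob hF x) = x :=
  (Classical.choose_spec (Cfsg.Agent.S0779.exists_frob hF)).2 x

theorem ufrob_injective (hF : Fintype.card F = q ^ 2) : Function.Injective (ufrob hF) :=
  (ufrob hF).injective

/-- `a ^ (q * q) = a` -/
theorem upow_pow (hF : Fintype.card F = q ^ 2) (x : F) : (x ^ q) ^ q = x := by
  rw [← ufrob_apply hF, ← ufrob_apply hF, ufrob_ufrob]

theorem upow_injective (hF : Fintype.card F = q ^ 2) {x y : F} (h : x ^ q = y ^ q) : x = y := by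
  apply ufrob_injective hF
  rw [ufrob_apply, ufrob_apply, h]

theorem uq_pos (hF : Fintype.card F = q ^ 2) : 0 < q := by
  rcases Nat.eq_zero_or_pos q with h | h
  · rw [h] at hF
    have : 1 < Fintype.card F := Fintype.one_lt_card
    rw [hF] at this
    norm_num at this
  · exact h

theorem uadj_eq (hF : Fintype.card F = q ^ 2) (x : Matrix (Fin n) (Fin n) F) :
    uadj q x = (xᵀ).map (ufrob hF) := by
  ext i j
  simp [uadj, ufrob_apply]

theorem uadj_apply (x : Matrix (Fin n) (Fin n) F) (i j : Fin n) : uadj q x i j = (x j i) ^ q := rfl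

theorem uadj_add (hF : Fintype.card F = q ^ 2) (x y : Matrix (Fin n) (Fin n) F) :
    uadj q (x + y) = uadj q x + uadj q y := by
  rw [uadj_eq hF, uadj_eq hF, uadj_eq hF, Matrix.transpose_add, Matrix.map_add (ufrob hF) (map_add _)]

theorem uadj_zero (hF : Fintype.card F = q ^ 2) : uadj q (0 : Matrix (Fin n) (Fin n) F) = 0 := by
  ext i j
  simp [uadj, (uq_pos hF).ne']

theorem uadj_neg (hF : Fintype.card F = q ^ 2) (x : Matrix (Fin n) (Fin n) F) : uadj q (-x) = - uadj q x := by
  have h := uadj_add hF x (-x)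
  rw [add_neg_cancel, uadj_zero hF] at h
  exact (neg_eq_of_add_eq_zero_right h.symm).symm

theorem uadj_sub (hF : Fintype.card F = q ^ 2) (x y : Matrix (Fin n) (Fin n) F) :
    uadj q (x - y) = uadj q x - uadj q y := by
  rw [sub_eq_add_neg, uadj_add hF, uadj_neg hF, sub_eq_add_neg]

theorem uadj_one (hF : Fintype.card F = q ^ 2) : uadj q (1 : Matrix (Fin n) (Fin n) F) = 1 := by
  rw [uadj_eq hF, Matrix.transpose_one, Matrix.map_one _ (map_zero _) (map_one _)]

theorem uadj_mul (hF : Fintype.card F = q ^ 2) (x y : Matrix (Fin n) (Fin n) F) :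
    uadj q (x * y) = uadj q y * uadj q x := by
  rw [uadj_eq hF, uadj_eq hF, uadj_eq hF, Matrix.transpose_mul, Matrix.map_mul]

theorem uadj_smul (hF : Fintype.card F = q ^ 2) (c : F) (x : Matrix (Fin n) (Fin n) F) :
    uadj q (c • x) = (c ^ q) • uadj q x := by
  ext i j
  simp [uadj, mul_pow]

theorem uadj_uadj (hF : Fintype.card F = q ^ 2) (x : Matrix (Fin n) (Fin n) F) : uadj q (uadj q x) = x := by
  ext i j
  rw [uadj_apply, uadj_apply, upow_pow hF]

theorem uadj_injective (hF : Fintype.card F = q ^ 2) :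
    Function.Injective (uadj q : Matrix (Fin n) (Fin n) F → Matrix (Fin n) (Fin n) F) := by
  intro x y h
  rw [← uadj_uadj hF x, ← uadj_uadj hF y, h]

theorem uadj_eq_zero (hF : Fintype.card F = q ^ 2) {x : Matrix (Fin n) (Fin n) F} (h : uadj q x = 0) : x = 0 := by
  apply uadj_injective hF
  rw [h, uadj_zero hF]

theorem uadj_scalar (hF : Fintype.card F = q ^ 2) (c : F) :
    uadj q (c • (1 : Matrix (Fin n) (Fin n) F)) = (c ^ q) • (1 : Matrix (Fin n) (Fin n) F) := by
  rw [uadj_smul hF, uadj_one hF]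

theorem uadj_pow (hF : Fintype.card F = q ^ 2) (x : Matrix (Fin n) (Fin n) F) (k : ℕ) :
    uadj q (x ^ k) = uadj q x ^ k := by
  induction k with
  | zero => rw [pow_zero, pow_zero, uadj_one hF]
  | succ k ih => rw [pow_succ, uadj_mul hF, ih, pow_succ']

/-- `(x* v)^(q) = vᵀ^(q) x` : the key computation -/
theorem uadj_mulVec_pow (hF : Fintype.card F = q ^ 2) (x : Matrix (Fin n) (Fin n) F) (v : Fin n → F) (j : Fin n) :
    ((uadj q x *ᵥ v) j) ^ q = ((fun i => (v i) ^ q) ᵥ* x) j := by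
  rw [← ufrob_apply hF, Matrix.mulVec, dotProduct, map_sum, Matrix.vecMul, dotProduct]
  apply Finset.sum_congr rfl
  intro i _
  rw [map_mul, uadj_apply, ← ufrob_apply hF (x i j), ufrob_ufrob, ufrob_apply, mul_comm]

/-- the defining property of the adjoint -/
theorem uadj_spec (hF : Fintype.card F = q ^ 2) (x : Matrix (Fin n) (Fin n) F) (u v : Fin n → F) :
    hermForm n F q (x *ᵥ u) v = hermForm n F q u (uadj q x *ᵥ v) := by
  rw [Cfsg.Agent.Lib.Helper28.Herm.herm_eq_dot, Cfsg.Agent.Lib.Helper28.Herm.herm_eq_dot]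
  have h : (fun j => ((uadj q x *ᵥ v) j) ^ q) = (fun i => (v i) ^ q) ᵥ* x := by
    funext j
    exact uadj_mulVec_pow hF x v j
  rw [h, Matrix.dotProduct_mulVec]

theorem uadj_spec' (hF : Fintype.card F = q ^ 2) (x : Matrix (Fin n) (Fin n) F) (u v : Fin n → F) :
    hermForm n F q u (x *ᵥ v) = hermForm n F q (uadj q x *ᵥ u) v := by
  rw [uadj_spec hF (uadj q x) u v, uadj_uadj hF]

/-- `f v u = (f u v) ^ q` -/
theorem uherm_symm (hF : Fintype.card F = q ^ 2) (u v : Fin n → F) :
    hermForm n F q v u = (hermForm n F q u v) ^ q :=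
  Cfsg.Agent.Lib.Helper28.Herm.herm_symm hF n u v

theorem uherm_single_left (i : Fin n) (v : Fin n → F) :
    hermForm n F q (Pi.single i 1) v = (v i) ^ q := by
  unfold hermForm
  rw [Finset.sum_eq_single i]
  · simp
  · intro j _ hj
    simp [hj]
  · intro h
    exact absurd (Finset.mem_univ i) h

/-- non-degeneracy on the right -/
theorem uherm_ext_right (hF : Fintype.card F = q ^ 2) {w w' : Fin n → F}
    (h : ∀ u, hermForm n F q u w = hermForm n F q u w') : w = w' := by
  funext i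
  have := h (Pi.single i 1)
  rw [uherm_single_left, uherm_single_left] at this
  exact upow_injective hF this

/-- non-degeneracy on the left -/
theorem uherm_ext_left (hF : Fintype.card F = q ^ 2) {w w' : Fin n → F}
    (h : ∀ u, hermForm n F q w u = hermForm n F q w' u) : w = w' := by
  apply uherm_ext_right hF
  intro u
  rw [uherm_symm hF w u, uherm_symm hF w' u, h u]

/-- matrices with the same sesquilinear form are equal -/
theorem uadj_ext (hF : Fintype.card F = q ^ 2) {x y : Matrix (Fin n) (Fin n) F}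
    (h : ∀ u v, hermForm n F q u (x *ᵥ v) = hermForm n F q u (y *ᵥ v)) : x = y := by
  apply Matrix.toLin'.injective
  apply LinearMap.ext
  intro v
  rw [Matrix.toLin'_apply, Matrix.toLin'_apply]
  exact uherm_ext_right hF (fun u => h u v)

/-- uniqueness of the adjoint -/
theorem uadj_unique (hF : Fintype.card F = q ^ 2) {x y : Matrix (Fin n) (Fin n) F}
    (h : ∀ u v, hermForm n F q (x *ᵥ u) v = hermForm n F q u (y *ᵥ v)) : y = uadj q x := by
  apply uadj_ext hF
  intro u v
  rw [← h, uadj_spec hF]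

/-- `g ∈ GU ↔ g* g = 1` -/
theorem uadj_iso (hF : Fintype.card F = q ^ 2) (g : GL (Fin n) F) :
    g ∈ GU n F q ↔ uadj q (g : Matrix (Fin n) (Fin n) F) * (g : Matrix (Fin n) (Fin n) F) = 1 := by
  constructor
  · intro hg
    apply uadj_ext hF
    intro u v
    rw [Matrix.one_mulVec, ← Matrix.mulVec_mulVec, ← uadj_spec hF]
    exact hg u v
  · intro h u v
    show hermForm n F q ((g : Matrix (Fin n) (Fin n) F) *ᵥ u) ((g : Matrix (Fin n) (Fin n) F) *ᵥ v) = _
    rw [uadj_spec hF, Matrix.mulVec_mulVec, h, Matrix.one_mulVec]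

/-- `g* = g⁻¹` on `GU` -/
theorem uadj_of_mem (hF : Fintype.card F = q ^ 2) {g : GL (Fin n) F} (hg : g ∈ GU n F q) :
    uadj q (g : Matrix (Fin n) (Fin n) F) = ((g⁻¹ : GL (Fin n) F) : Matrix (Fin n) (Fin n) F) := by
  have h := (uadj_iso hF g).1 hg
  calc uadj q (g : Matrix (Fin n) (Fin n) F)
      = uadj q (g : Matrix (Fin n) (Fin n) F) * ((g : Matrix (Fin n) (Fin n) F) *
          ((g⁻¹ : GL (Fin n) F) : Matrix (Fin n) (Fin n) F)) := by
        rw [← Units.val_mul, mul_inv_cancel, Units.val_one, mul_one]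
    _ = _ := by rw [← mul_assoc, h, one_mul]

/-- `(h x h⁻¹)* = h x* h⁻¹` for `h ∈ GU` -/
theorem uadj_conj (hF : Fintype.card F = q ^ 2) {h : GL (Fin n) F} (hh : h ∈ GU n F q)
    (x : Matrix (Fin n) (Fin n) F) : uadj q (asgConj h x) = asgConj h (uadj q x) := by
  unfold asgConj
  rw [uadj_mul hF, uadj_mul hF, uadj_of_mem hF hh, uadj_of_mem hF ((GU n F q).inv_mem hh), inv_inv, mul_assoc]

/-- the centraliser algebra of a unitary group is `*`-stable -/
theorem uadj_centAlg (hF : Fintype.card F = q ^ 2) {N : Subgroup (GL (Fin n) F)} (hN : N ≤ GU n F q)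
    {x : Matrix (Fin n) (Fin n) F} (hx : x ∈ centAlg N) : uadj q x ∈ centAlg N := by
  rw [Subalgebra.mem_centralizer_iff] at hx ⊢
  rintro _ ⟨g, hg, rfl⟩
  have h1 := hx _ ⟨g⁻¹, N.inv_mem hg, rfl⟩
  have h2 := congrArg (uadj q) h1
  rw [uadj_mul hF, uadj_mul hF, uadj_of_mem hF (hN (N.inv_mem hg)), inv_inv] at h2
  exact h2.symm

/-- the centre of the centraliser algebra is `*`-stable -/
theorem uadj_asgZ (hF : Fintype.card F = q ^ 2) {N : Subgroup (GL (Fin n) F)} (hN : N ≤ GU n F q)
    {x : Matrix (Fin n) (Fin n) F} (hx : x ∈ asgZ N) : uadj q x ∈ asgZ N := by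
  rw [asgclif_mem_Z] at hx ⊢
  refine ⟨uadj_centAlg hF hN hx.1, fun c hc => ?_⟩
  have h1 := hx.2 _ (uadj_centAlg hF hN hc)
  have h2 := congrArg (uadj q) h1
  rw [uadj_mul hF, uadj_mul hF, uadj_uadj hF] at h2
  exact h2.symm

/-- the double commutant of a unitary group is `*`-stable -/
theorem uadj_dcomm (hF : Fintype.card F = q ^ 2) {N : Subgroup (GL (Fin n) F)} (hN : N ≤ GU n F q)
    {x : Matrix (Fin n) (Fin n) F} (hx : x ∈ dcomm N) : uadj q x ∈ dcomm N := by
  rw [Subalgebra.mem_centralizer_iff] at hx ⊢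
  intro c hc
  have h1 := hx _ (uadj_centAlg hF hN hc)
  have h2 := congrArg (uadj q) h1
  rw [uadj_mul hF, uadj_mul hF, uadj_uadj hF] at h2
  exact h2.symm

/-- a `*`-stable subalgebra is closed under adjoints in the sense of the frozen definition -/
theorem uadj_adjointClosed (hF : Fintype.card F = q ^ 2) (K : Subalgebra F (Matrix (Fin n) (Fin n) F))
    (h : ∀ k ∈ K, uadj q k ∈ K) : IsAdjointClosedFor (hermForm n F q) K :=
  fun k hk => ⟨uadj q k, h k hk, fun u v => uadj_spec hF k u v⟩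

/-- and conversely -/
theorem uadj_mem_of_adjointClosed (hF : Fintype.card F = q ^ 2) (K : Subalgebra F (Matrix (Fin n) (Fin n) F))
    (h : IsAdjointClosedFor (hermForm n F q) K) {k : Matrix (Fin n) (Fin n) F} (hk : k ∈ K) : uadj q k ∈ K := by
  obtain ⟨k', hk', hs⟩ := h k hk
  rw [← uadj_unique hF hs]
  exact hk'

/-- the multiplier of a similitude: `f (x u) (x v) = c f u v ↔ x* x = c^q • 1`-type statement, one direction -/
theorem uadj_sim (hF : Fintype.card F = q ^ 2) (x : Matrix (Fin n) (Fin n) F) (c : F) :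
    (∀ u v, hermForm n F q (x *ᵥ u) (x *ᵥ v) = c * hermForm n F q u v) ↔
      uadj q x * x = (c ^ q) • (1 : Matrix (Fin n) (Fin n) F) := by
  constructor
  · intro h
    apply uadj_ext hF
    intro u v
    rw [← Matrix.mulVec_mulVec, ← uadj_spec hF, h, Matrix.smul_mulVec, Matrix.one_mulVec,
      Cfsg.Agent.Lib.Helper28.Herm.herm_smul_right, upow_pow hF]
  · intro h u v
    rw [uadj_spec hF, Matrix.mulVec_mulVec, h, Matrix.smul_mulVec, Matrix.one_mulVec,
      Cfsg.Agent.Lib.Helper28.Herm.herm_smul_right, upow_pow hF]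

end Cfsg.Agent.Lib.Helper19.ASU
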