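import Mathlib
import Cfsg.Prelude.Def_GeometricClasses
import Cfsg.Agent.Lib.Helper27.ASC.Defs
import Cfsg.Agent.Lib.Helper19.ASG.Defs
import Cfsg.Agent.Lib.Helper19.ASU.Defs
import Cfsg.Agent.Lib.Helper26.ASUC.Defs

/-!
# Project ASU, block C, exceptional case `(q, k, d) = (2, 3, 3)` (helper19) : shared definitions

Over a field with `ω² + ω + 1 = 0` (`F_4`): the Heisenberg matrices `X = diag(1, ω, ω²)`, `Y` (cyclic shift `e_j ↦ e_(j+1)`), the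
transposition `T` of the last two basis vectors, the Fourier matrix `W`, the Heisenberg set `{ω^c X^i Y^j}`, and the two embeddings
`a ↦ P R(a ⊗ 1) P⁻¹`, `b ↦ P R(1 ⊗ b) P⁻¹` of `M_3(F)` into `M_n(F)` along a Kronecker basis `(e, P)`, as monoid homs (and on units).
-/

set_option autoImplicit false

namespace Cfsg.Agent.Lib.Helper19.ASU

open Cfsg Cfsg.Geo Cfsg.Agent.Lib.Helper27.ASC Cfsg.Agent.Lib.Helper19.ASG
open scoped MatrixGroups Matrix Kronecker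

variable {n : ℕ} {F : Type*} [Field F]

/-- `diag(1, ω, ω²)` -/
def u33X (ω : F) : Matrix (Fin 3) (Fin 3) F := !![1, 0, 0; 0, ω, 0; 0, 0, ω ^ 2]

/-- the cyclic shift `e_j ↦ e_(j+1)` -/
def u33Y : Matrix (Fin 3) (Fin 3) F := !![0, 0, 1; 1, 0, 0; 0, 1, 0]

/-- the transposition of the last two basis vectors -/
def u33T : Matrix (Fin 3) (Fin 3) F := !![1, 0, 0; 0, 0, 1; 0, 1, 0]

/-- the Fourier matrix -/
def u33W (ω : F) : Matrix (Fin 3) (Fin 3) F := !![1, 1, 1; 1, ω, ω ^ 2; 1, ω ^ 2, ω]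

/-- the Heisenberg set `{ω^c X^i Y^j}` -/
def u33Heis (ω : F) : Set (Matrix (Fin 3) (Fin 3) F) :=
  {M | ∃ c i j : ℕ, M = ω ^ c • (u33X ω ^ i * (u33Y : Matrix (Fin 3) (Fin 3) F) ^ j)}

theorem u33X_def (ω : F) : u33X ω = !![1, 0, 0; 0, ω, 0; 0, 0, ω ^ 2] := rfl
theorem u33Y_def : (u33Y : Matrix (Fin 3) (Fin 3) F) = !![0, 0, 1; 1, 0, 0; 0, 1, 0] := rfl
theorem u33T_def : (u33T : Matrix (Fin 3) (Fin 3) F) = !![1, 0, 0; 0, 0, 1; 0, 1, 0] := rfl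
theorem u33W_def (ω : F) : u33W ω = !![1, 1, 1; 1, ω, ω ^ 2; 1, ω ^ 2, ω] := rfl

theorem mem_u33Heis (ω : F) (M : Matrix (Fin 3) (Fin 3) F) :
    M ∈ u33Heis ω ↔ ∃ c i j : ℕ, M = ω ^ c • (u33X ω ^ i * (u33Y : Matrix (Fin 3) (Fin 3) F) ^ j) := Iff.rfl

/-- `M ↦ P R(M) P⁻¹` (`ucKr e P`) as a monoid hom -/
def u33Hom {k d : ℕ} (e : Fin n ≃ Fin k × Fin d) (P : GL (Fin n) F) :
    Matrix (Fin k × Fin d) (Fin k × Fin d) F →* Matrix (Fin n) (Fin n) F where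
  toFun := ucKr e P
  map_one' := by
    unfold ucKr
    rw [map_one, mul_one, ← Units.val_mul, mul_inv_cancel, Units.val_one]
  map_mul' M M' := by
    unfold ucKr
    rw [map_mul]
    have h : ((P⁻¹ : GL (Fin n) F) : Matrix (Fin n) (Fin n) F) * (P : Matrix (Fin n) (Fin n) F) = 1 := by
      rw [← Units.val_mul, inv_mul_cancel, Units.val_one]
    calc (P : Matrix (Fin n) (Fin n) F) * (Matrix.reindexAlgEquiv F F e.symm M * Matrix.reindexAlgEquiv F F e.symm M') *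
          ((P⁻¹ : GL (Fin n) F) : Matrix (Fin n) (Fin n) F)
        = (P : Matrix (Fin n) (Fin n) F) * Matrix.reindexAlgEquiv F F e.symm M *
            (1 : Matrix (Fin n) (Fin n) F) * (Matrix.reindexAlgEquiv F F e.symm M' *
            ((P⁻¹ : GL (Fin n) F) : Matrix (Fin n) (Fin n) F)) := by
          rw [mul_one]; simp only [mul_assoc]
      _ = _ := by rw [← h]; simp only [mul_assoc]

theorem u33Hom_apply {k d : ℕ} (e : Fin n ≃ Fin k × Fin d) (P : GL (Fin n) F)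
    (M : Matrix (Fin k × Fin d) (Fin k × Fin d) F) : u33Hom e P M = ucKr e P M := rfl

/-- `a ↦ a ⊗ 1` -/
def u33K1 (k d : ℕ) : Matrix (Fin k) (Fin k) F →* Matrix (Fin k × Fin d) (Fin k × Fin d) F where
  toFun a := a ⊗ₖ (1 : Matrix (Fin d) (Fin d) F)
  map_one' := by simp
  map_mul' a b := by rw [← Matrix.mul_kronecker_mul, mul_one]

/-- `b ↦ 1 ⊗ b` -/
def u33K2 (k d : ℕ) : Matrix (Fin d) (Fin d) F →* Matrix (Fin k × Fin d) (Fin k × Fin d) F where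
  toFun b := (1 : Matrix (Fin k) (Fin k) F) ⊗ₖ b
  map_one' := by simp
  map_mul' a b := by rw [← Matrix.mul_kronecker_mul, mul_one]

theorem u33K1_apply (k d : ℕ) (a : Matrix (Fin k) (Fin k) F) :
    u33K1 (F := F) k d a = a ⊗ₖ (1 : Matrix (Fin d) (Fin d) F) := rfl

theorem u33K2_apply (k d : ℕ) (b : Matrix (Fin d) (Fin d) F) :
    u33K2 (F := F) k d b = (1 : Matrix (Fin k) (Fin k) F) ⊗ₖ b := rfl

/-- `a ↦ P R(a ⊗ 1) P⁻¹` on units -/
def u33I1 {k d : ℕ} (e : Fin n ≃ Fin k × Fin d) (P : GL (Fin n) F) : GL (Fin k) F →* GL (Fin n) F :=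
  Units.map ((u33Hom e P).comp (u33K1 k d))

/-- `b ↦ P R(1 ⊗ b) P⁻¹` on units -/
def u33I2 {k d : ℕ} (e : Fin n ≃ Fin k × Fin d) (P : GL (Fin n) F) : GL (Fin d) F →* GL (Fin n) F :=
  Units.map ((u33Hom e P).comp (u33K2 k d))

theorem u33I1_coe {k d : ℕ} (e : Fin n ≃ Fin k × Fin d) (P : GL (Fin n) F) (a : GL (Fin k) F) :
    ((u33I1 e P a : GL (Fin n) F) : Matrix (Fin n) (Fin n) F) =
      ucKr e P ((a : Matrix (Fin k) (Fin k) F) ⊗ₖ (1 : Matrix (Fin d) (Fin d) F)) := rfl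

theorem u33I2_coe {k d : ℕ} (e : Fin n ≃ Fin k × Fin d) (P : GL (Fin n) F) (b : GL (Fin d) F) :
    ((u33I2 e P b : GL (Fin n) F) : Matrix (Fin n) (Fin n) F) =
      ucKr e P ((1 : Matrix (Fin k) (Fin k) F) ⊗ₖ (b : Matrix (Fin d) (Fin d) F)) := rfl

/-- the two embeddings commute, and their product is `P R(a ⊗ b) P⁻¹` -/
theorem u33I1_mul_I2 {k d : ℕ} (e : Fin n ≃ Fin k × Fin d) (P : GL (Fin n) F) (a : GL (Fin k) F) (b : GL (Fin d) F) :
    ((u33I1 e P a * u33I2 e P b : GL (Fin n) F) : Matrix (Fin n) (Fin n) F) =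
      ucKr e P ((a : Matrix (Fin k) (Fin k) F) ⊗ₖ (b : Matrix (Fin d) (Fin d) F)) := by
  rw [Units.val_mul, u33I1_coe, u33I2_coe, ← u33Hom_apply, ← u33Hom_apply, ← map_mul, ← Matrix.mul_kronecker_mul,
    mul_one, one_mul, u33Hom_apply]

theorem u33I2_mul_I1 {k d : ℕ} (e : Fin n ≃ Fin k × Fin d) (P : GL (Fin n) F) (a : GL (Fin k) F) (b : GL (Fin d) F) :
    ((u33I2 e P b * u33I1 e P a : GL (Fin n) F) : Matrix (Fin n) (Fin n) F) =
      ucKr e P ((a : Matrix (Fin k) (Fin k) F) ⊗ₖ (b : Matrix (Fin d) (Fin d) F)) := by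
  rw [Units.val_mul, u33I1_coe, u33I2_coe, ← u33Hom_apply, ← u33Hom_apply, ← map_mul, ← Matrix.mul_kronecker_mul,
    mul_one, one_mul, u33Hom_apply]

theorem u33I1_comm_I2 {k d : ℕ} (e : Fin n ≃ Fin k × Fin d) (P : GL (Fin n) F) (a : GL (Fin k) F) (b : GL (Fin d) F) :
    u33I1 e P a * u33I2 e P b = u33I2 e P b * u33I1 e P a := by
  apply Units.ext
  rw [u33I1_mul_I2, u33I2_mul_I1]

end Cfsg.Agent.Lib.Helper19.ASU
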