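import Mathlib
import Cfsg.Agent.Lib.Helper27.MSS.Base

/-!
# MSS piece QDT-C (core): `qdt_card` and `qdt_isQD` from `qdt_not_mem` and `qdt_cases`
taken as explicit hypotheses.
-/

set_option autoImplicit false

namespace Cfsg.Agent.Lib.Helper27.MSS

open Cfsg

section QDTCcore

variable {G : Type*} [Group G] {k : ℕ} {r s : G}

theorem mssqdtc_set_eq
    (hcases : ∀ y ∈ Subgroup.closure {r, s}, ∃ i : ℕ, y = r ^ i ∨ y = r ^ i * s) :
    ((Subgroup.closure {r, s} : Subgroup G) : Set G) =
      (Subgroup.zpowers r : Set G) ∪ (fun z => z * s) '' (Subgroup.zpowers r : Set G) := by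
  have hr : r ∈ Subgroup.closure {r, s} := Subgroup.subset_closure (by simp)
  have hs : s ∈ Subgroup.closure {r, s} := Subgroup.subset_closure (by simp)
  have hZ : Subgroup.zpowers r ≤ Subgroup.closure {r, s} := by
    rw [Subgroup.zpowers_le]; exact hr
  ext y
  constructor
  · intro hy
    obtain ⟨i, hi | hi⟩ := hcases y hy
    · left
      rw [hi]
      exact Subgroup.npow_mem_zpowers r i
    · right
      exact ⟨r ^ i, Subgroup.npow_mem_zpowers r i, hi.symm⟩
  · rintro (hy | ⟨z, hz, rfl⟩)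
    · exact hZ hy
    · exact Subgroup.mul_mem _ (hZ hz) hs

theorem mssqdtc_card_core (hr : orderOf r = 2 ^ k)
    (hnm : s ∉ Subgroup.zpowers r)
    (hcases : ∀ y ∈ Subgroup.closure {r, s}, ∃ i : ℕ, y = r ^ i ∨ y = r ^ i * s) :
    Nat.card (Subgroup.closure {r, s}) = 2 ^ (k + 1) := by
  have hZcard : Nat.card (Subgroup.zpowers r) = 2 ^ k := by
    rw [Nat.card_zpowers, hr]
  have hZfin : (Subgroup.zpowers r : Set G).Finite := by
    have : Finite (Subgroup.zpowers r) := by
      apply Nat.finite_of_card_ne_zero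
      rw [hZcard]; positivity
    exact Set.toFinite _
  have hncZ : (Subgroup.zpowers r : Set G).ncard = 2 ^ k := by
    rw [← hZcard]; rfl
  have hinj : Function.Injective (fun z : G => z * s) := mul_left_injective s
  have hncI : ((fun z => z * s) '' (Subgroup.zpowers r : Set G)).ncard = 2 ^ k := by
    rw [Set.ncard_image_of_injective _ hinj, hncZ]
  have hdisj : Disjoint (Subgroup.zpowers r : Set G)
      ((fun z => z * s) '' (Subgroup.zpowers r : Set G)) := by
    rw [Set.disjoint_left]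
    rintro y hy ⟨z, hz, hzy⟩
    apply hnm
    have : s = z⁻¹ * y := by
      rw [← hzy]; group
    rw [this]
    exact Subgroup.mul_mem _ (Subgroup.inv_mem _ hz) hy
  have h1 : Nat.card (Subgroup.closure {r, s}) =
      ((Subgroup.closure {r, s} : Subgroup G) : Set G).ncard := rfl
  rw [h1, mssqdtc_set_eq hcases, Set.ncard_union_eq hdisj hZfin (hZfin.image _), hncZ, hncI]
  ring

theorem mssqdtc_isQD_core (hk : 3 ≤ k) (hr : orderOf r = 2 ^ k) (hs : s ^ 2 = 1)
    (hrs : s * r * s⁻¹ = r ^ (2 ^ (k - 1) - 1))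
    (hnm : s ∉ Subgroup.zpowers r)
    (hcases : ∀ y ∈ Subgroup.closure {r, s}, ∃ i : ℕ, y = r ^ i ∨ y = r ^ i * s) :
    Cfsg.IsQuasiDihedral ↥(Subgroup.closure {r, s}) := by
  have hrm : r ∈ Subgroup.closure {r, s} := Subgroup.subset_closure (by simp)
  have hsm : s ∈ Subgroup.closure {r, s} := Subgroup.subset_closure (by simp)
  refine ⟨k, hk, mssqdtc_card_core hr hnm hcases, ⟨r, hrm⟩, ⟨s, hsm⟩, ?_, ?_, ?_⟩
  · rw [← hr]
    exact Subgroup.orderOf_mk r hrm
  · have hs1 : s ≠ 1 := by
      intro h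
      apply hnm
      rw [h]
      exact Subgroup.one_mem _
    have : orderOf s = 2 := orderOf_eq_prime hs hs1
    rw [← this]
    exact Subgroup.orderOf_mk s hsm
  · apply Subtype.ext
    simpa using hrs

end QDTCcore

end Cfsg.Agent.Lib.Helper27.MSS
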