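import Mathlib
import Cfsg.Agent.Lib.Helper27.MSS.Base
import Cfsg.Agent.Lib.Helper29.MSSQDTA
import Cfsg.Agent.Lib.Helper29.MSSQDTB
import Cfsg.Agent.Lib.Helper19.MSSQDTCcore

/-!
# MSS piece QDT-C: `qdt_card` (QDT3) and `qdt_isQD` (QDT5), verbatim.
-/

set_option autoImplicit false

namespace Cfsg.Agent.Lib.Helper27.MSS

open Cfsg

section QDT

variable {G : Type*} [Group G] {k : ℕ} {r s : G}

/-- QDT3 -/
theorem qdt_card (hk : 3 ≤ k) (hr : orderOf r = 2 ^ k) (hs : s ^ 2 = 1)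
    (hrs : s * r * s⁻¹ = r ^ (2 ^ (k - 1) - 1)) :
    Nat.card (Subgroup.closure {r, s}) = 2 ^ (k + 1) :=
  mssqdtc_card_core hr (qdt_not_mem hk hr hrs) (qdt_cases hk hr hs hrs)

/-- QDT5 -/
theorem qdt_isQD (hk : 3 ≤ k) (hr : orderOf r = 2 ^ k) (hs : s ^ 2 = 1)
    (hrs : s * r * s⁻¹ = r ^ (2 ^ (k - 1) - 1)) :
    Cfsg.IsQuasiDihedral ↥(Subgroup.closure {r, s}) :=
  mssqdtc_isQD_core hk hr hs hrs (qdt_not_mem hk hr hrs) (qdt_cases hk hr hs hrs)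

end QDT

end Cfsg.Agent.Lib.Helper27.MSS
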