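import Mathlib
import Cfsg.Agent.Lib.Helper18.ONE.Defs
import Cfsg.Agent.Lib.Helper19.ONETYEXcore
import Cfsg.Agent.Lib.helper17.ONEPLANETY
import Cfsg.Agent.Lib.helper17.ONETYSUM

set_option autoImplicit false

/-!
# Project ONE, row TYEX (helper19): verbatim wrapper (core in `ONETYEXcore`; PLANETY, TYSUM by helper17).
-/

namespace Cfsg.Agent.Lib.Helper18.ONE

open Polynomial Module Cfsg.Agent.Lib.Helper13.S5955 Cfsg.Agent.Lib.helper15.S5972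

/-- TYEX [L] -/
theorem ty_ex {F : Type*} [Field F] [Fintype F] (h2 : (2 : F) ≠ 0)
    {V : Type*} [AddCommGroup V] [Module F V] [FiniteDimensional F V]
    (B : LinearMap.BilinForm F V) (hsymm : ∀ u v, B u v = B v u)
    (N : Submodule F V) (hN : SND B N) (e : ℕ) (he : Even e) (he0 : 0 < e)
    (heN : e < finrank F N) (s : ℤ) (hs : s = 1 ∨ s = -1) :
    ∃ W : Submodule F V, W ≤ N ∧ SND B W ∧ finrank F W = e ∧ OTy B W s :=
  onetyex_core h2 B hsymm (fun v₁ v₂ h12 h1 h2' => plane_ty h2 B hsymm v₁ v₂ h12 h1 h2')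
    (fun W₁ W₂ h₁ h₂ ho he₁ he₂ s₁ s₂ hs₁ hs₂ =>
      ty_sum h2 B hsymm W₁ W₂ h₁ h₂ ho he₁ he₂ s₁ s₂ hs₁ hs₂) N hN e he he0 heN s hs

end Cfsg.Agent.Lib.Helper18.ONE
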