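import Mathlib
import Cfsg.Agent.Lib.Helper16.PS4.Hyps

/-! PS4-I for helper16's S5320 project (part B). -/

set_option autoImplicit false
set_option linter.unusedSimpArgs false
set_option linter.unusedVariables false

namespace Cfsg.Agent.Lib.Helper19.PS4

open Matrix Cfsg.Agent.Lib.Helper16.PS4

section
variable (F : Type*) [Field F]

theorem blkM_inj {A B A' B' : Matrix (Fin 2) (Fin 2) F} (h : blkM A B = blkM A' B') :
    A = A' ∧ B = B' := by
  constructor
  · ext i j
    fin_cases i <;> fin_cases j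
    · simpa [blkM_apply] using congrFun (congrFun h (Sum.inl 0)) (Sum.inl 0)
    · simpa [blkM_apply] using congrFun (congrFun h (Sum.inl 0)) (Sum.inr 0)
    · simpa [blkM_apply] using congrFun (congrFun h (Sum.inr 0)) (Sum.inl 0)
    · simpa [blkM_apply] using congrFun (congrFun h (Sum.inr 0)) (Sum.inr 0)
  · ext i j
    fin_cases i <;> fin_cases j
    · simpa [blkM_apply] using congrFun (congrFun h (Sum.inl 1)) (Sum.inl 1)
    · simpa [blkM_apply] using congrFun (congrFun h (Sum.inl 1)) (Sum.inr 1)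
    · simpa [blkM_apply] using congrFun (congrFun h (Sum.inr 1)) (Sum.inl 1)
    · simpa [blkM_apply] using congrFun (congrFun h (Sum.inr 1)) (Sum.inr 1)

theorem blk_injective : Function.Injective (blk : SL2 F × SL2 F → Sp4 F) := by
  intro p p' h
  have h1 : blkM (p.1 : Matrix (Fin 2) (Fin 2) F) (p.2 : Matrix (Fin 2) (Fin 2) F) =
      blkM (p'.1 : Matrix (Fin 2) (Fin 2) F) (p'.2 : Matrix (Fin 2) (Fin 2) F) := by
    rw [← blk_coe, ← blk_coe, h]
  obtain ⟨h2, h3⟩ := blkM_inj F h1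
  exact Prod.ext (Subtype.ext h2) (Subtype.ext h3)

theorem swM_mul_self : (swM : Matrix (Fin 2 ⊕ Fin 2) (Fin 2 ⊕ Fin 2) F) * swM = 1 := by
  ext s t
  rcases s with s | s <;> rcases t with t | t <;> fin_cases s <;> fin_cases t <;>
    simp [swM_apply, Matrix.mul_apply, Fintype.sum_sum_type, Fin.sum_univ_two, Matrix.one_apply]

theorem sw_mul_self : (sw : Sp4 F) * sw = 1 := Subtype.ext (swM_mul_self F)

theorem sw_inv : (sw : Sp4 F)⁻¹ = sw := inv_eq_of_mul_eq_one_right (sw_mul_self F)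

theorem swM_mul_blkM (A B : Matrix (Fin 2) (Fin 2) F) :
    swM * blkM A B = blkM B A * swM := by
  ext s t
  rcases s with s | s <;> rcases t with t | t <;> fin_cases s <;> fin_cases t <;>
    simp [swM_apply, blkM_apply, Matrix.mul_apply, Fintype.sum_sum_type, Fin.sum_univ_two]

theorem sw_mul_blk (a b : SL2 F) : (sw : Sp4 F) * blk (a, b) = blk (b, a) * sw :=
  Subtype.ext (swM_mul_blkM F _ _)

theorem sw_conj_blk (a b : SL2 F) : (sw : Sp4 F) * blk (a, b) * sw⁻¹ = blk (b, a) := by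
  rw [sw_mul_blk, mul_assoc, mul_inv_cancel, mul_one]

theorem blk_mul_sw_ne_blk (p p' : SL2 F × SL2 F) : blk p * (sw : Sp4 F) ≠ blk p' := by
  intro h
  have h1 : blkM (p.1 : Matrix (Fin 2) (Fin 2) F) (p.2 : Matrix (Fin 2) (Fin 2) F) * swM =
      blkM (p'.1 : Matrix (Fin 2) (Fin 2) F) (p'.2 : Matrix (Fin 2) (Fin 2) F) := by
    have := congrArg Subtype.val h
    exact this
  have h00 := congrFun (congrFun h1 (Sum.inl 0)) (Sum.inl 0)
  have h01 := congrFun (congrFun h1 (Sum.inl 0)) (Sum.inr 0)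
  simp [swM_apply, blkM_apply, Matrix.mul_apply, Fintype.sum_sum_type, Fin.sum_univ_two] at h00 h01
  have hd := p'.1.2
  rw [Matrix.det_fin_two, ← h00, ← h01] at hd
  simp at hd

theorem blk_neg_one : blk ((-1 : SL2 F), (-1 : SL2 F)) = Cfsg.Agent.S0246.negOne F 2 := by
  apply Subtype.ext
  rw [blk_coe, Cfsg.Agent.S0246.negOne_coe]
  ext s t
  rcases s with s | s <;> rcases t with t | t <;> fin_cases s <;> fin_cases t <;>
    simp [blkM_apply, Matrix.one_apply]

theorem mem_S4_iff (Q : Subgroup (SL2 F)) (x : Sp4 F) :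
    x ∈ S4 Q ↔ ∃ a ∈ Q, ∃ b ∈ Q, x = blk (a, b) ∨ x = blk (a, b) * sw := by
  constructor
  · intro hx
    unfold S4 at hx
    induction hx using Subgroup.closure_induction with
    | mem y hy =>
      rcases hy with hy | hy
      · obtain ⟨p, hp, rfl⟩ := hy
        exact ⟨p.1, hp.1, p.2, hp.2, Or.inl rfl⟩
      · rw [Set.mem_singleton_iff] at hy
        refine ⟨1, Q.one_mem, 1, Q.one_mem, Or.inr ?_⟩
        rw [hy, show ((1 : SL2 F), (1 : SL2 F)) = (1 : SL2 F × SL2 F) from rfl, map_one, one_mul]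
    | one =>
      refine ⟨1, Q.one_mem, 1, Q.one_mem, Or.inl ?_⟩
      rw [show ((1 : SL2 F), (1 : SL2 F)) = (1 : SL2 F × SL2 F) from rfl, map_one]
    | mul y z _ _ hy hz =>
      obtain ⟨a, ha, b, hb, hy⟩ := hy
      obtain ⟨a', ha', b', hb', hz⟩ := hz
      rcases hy with rfl | rfl <;> rcases hz with rfl | rfl
      · refine ⟨a * a', Q.mul_mem ha ha', b * b', Q.mul_mem hb hb', Or.inl ?_⟩
        rw [← map_mul]; rfl
      · refine ⟨a * a', Q.mul_mem ha ha', b * b', Q.mul_mem hb hb', Or.inr ?_⟩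
        rw [← mul_assoc, ← map_mul]; rfl
      · refine ⟨a * b', Q.mul_mem ha hb', b * a', Q.mul_mem hb ha', Or.inr ?_⟩
        rw [mul_assoc, sw_mul_blk, ← mul_assoc, ← map_mul]; rfl
      · refine ⟨a * b', Q.mul_mem ha hb', b * a', Q.mul_mem hb ha', Or.inl ?_⟩
        rw [mul_assoc, ← mul_assoc sw, sw_mul_blk, mul_assoc, sw_mul_self, mul_one, ← map_mul]; rfl
    | inv y _ hy =>
      obtain ⟨a, ha, b, hb, hy⟩ := hy
      rcases hy with rfl | rfl
      · refine ⟨a⁻¹, Q.inv_mem ha, b⁻¹, Q.inv_mem hb, Or.inl ?_⟩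
        rw [← map_inv]; rfl
      · refine ⟨b⁻¹, Q.inv_mem hb, a⁻¹, Q.inv_mem ha, Or.inr ?_⟩
        rw [_root_.mul_inv_rev, sw_inv, ← map_inv, show ((a, b) : SL2 F × SL2 F)⁻¹ = (a⁻¹, b⁻¹) from rfl,
          sw_mul_blk]
  · rintro ⟨a, ha, b, hb, rfl | rfl⟩
    · exact Subgroup.subset_closure (Or.inl ⟨(a, b), ⟨ha, hb⟩, rfl⟩)
    · exact Subgroup.mul_mem _ (Subgroup.subset_closure (Or.inl ⟨(a, b), ⟨ha, hb⟩, rfl⟩))
        (Subgroup.subset_closure (Or.inr rfl))

theorem sl2_sq_eq_one (h2 : (2 : F) ≠ 0) (a : SL2 F) (ha : a * a = 1) : a = 1 ∨ a = -1 := by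
  have hd := a.2
  rw [Matrix.det_fin_two] at hd
  have hm : (a : Matrix (Fin 2) (Fin 2) F) * (a : Matrix (Fin 2) (Fin 2) F) = 1 := by
    have := congrArg Subtype.val ha
    simpa using this
  have e00 := congrFun (congrFun hm 0) 0
  have e01 := congrFun (congrFun hm 0) 1
  have e10 := congrFun (congrFun hm 1) 0
  have e11 := congrFun (congrFun hm 1) 1
  simp [Matrix.mul_apply, Fin.sum_univ_two] at e00 e01 e10 e11
  by_cases hs : (a : Matrix (Fin 2) (Fin 2) F) 0 0 + (a : Matrix (Fin 2) (Fin 2) F) 1 1 = 0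
  · exfalso
    apply h2
    have h11 : (a : Matrix (Fin 2) (Fin 2) F) 1 1 = -(a : Matrix (Fin 2) (Fin 2) F) 0 0 := by
      linear_combination hs
    rw [h11] at hd
    linear_combination -e00 - hd
  · have hq : (a : Matrix (Fin 2) (Fin 2) F) 0 1 = 0 := by
      have : (a : Matrix (Fin 2) (Fin 2) F) 0 1 *
          ((a : Matrix (Fin 2) (Fin 2) F) 0 0 + (a : Matrix (Fin 2) (Fin 2) F) 1 1) = 0 := by
        linear_combination e01
      rcases mul_eq_zero.1 this with h | h
      · exact h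
      · exact absurd h hs
    have hr : (a : Matrix (Fin 2) (Fin 2) F) 1 0 = 0 := by
      have : (a : Matrix (Fin 2) (Fin 2) F) 1 0 *
          ((a : Matrix (Fin 2) (Fin 2) F) 0 0 + (a : Matrix (Fin 2) (Fin 2) F) 1 1) = 0 := by
        linear_combination e10
      rcases mul_eq_zero.1 this with h | h
      · exact h
      · exact absurd h hs
    rw [hq, hr] at hd e00 e11
    have hp : ((a : Matrix (Fin 2) (Fin 2) F) 0 0 - 1) * ((a : Matrix (Fin 2) (Fin 2) F) 0 0 + 1) = 0 := by
      linear_combination e00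
    have hps : (a : Matrix (Fin 2) (Fin 2) F) 0 0 = (a : Matrix (Fin 2) (Fin 2) F) 1 1 := by
      have h3 : (a : Matrix (Fin 2) (Fin 2) F) 0 0 * ((a : Matrix (Fin 2) (Fin 2) F) 0 0 *
          (a : Matrix (Fin 2) (Fin 2) F) 1 1) = (a : Matrix (Fin 2) (Fin 2) F) 0 0 := by
        have : (a : Matrix (Fin 2) (Fin 2) F) 0 0 * (a : Matrix (Fin 2) (Fin 2) F) 1 1 = 1 := by
          linear_combination hd
        rw [this, mul_one]
      linear_combination -h3 + (a : Matrix (Fin 2) (Fin 2) F) 1 1 * e00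
    rcases mul_eq_zero.1 hp with h | h
    · left
      apply Subtype.ext
      ext i j
      fin_cases i <;> fin_cases j
      · simpa using sub_eq_zero.1 h
      · simpa using hq
      · simpa using hr
      · simp only [Fin.mk_one, Fin.isValue, Matrix.SpecialLinearGroup.coe_one, Matrix.one_apply_eq]
        rw [← hps]; exact sub_eq_zero.1 h
    · right
      apply Subtype.ext
      ext i j
      fin_cases i <;> fin_cases j
      · simpa using eq_neg_of_add_eq_zero_left h
      · simpa using hq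
      · simpa using hr
      · simp only [Fin.mk_one, Fin.isValue, Matrix.SpecialLinearGroup.coe_neg,
          Matrix.SpecialLinearGroup.coe_one, Matrix.neg_apply, Matrix.one_apply_eq]
        rw [← hps]; exact eq_neg_of_add_eq_zero_left h

theorem neg_one_ne_one (h2 : (2 : F) ≠ 0) : (-1 : SL2 F) ≠ 1 := by
  intro h
  have := congrArg (fun a : SL2 F => (a : Matrix (Fin 2) (Fin 2) F) 0 0) h
  simp at this
  apply h2
  linear_combination -this

end

end Cfsg.Agent.Lib.Helper19.PS4
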