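import Mathlib
import Cfsg.Agent.Lib.Helper11.S5956U.Defs

set_option autoImplicit false

/-!
# S5956U row ADJ (helper19): the adjoint of `(x - 1)^a` for an isometry `x` with `x ^ r = 1`.
-/

namespace Cfsg.Agent.Lib.Helper11.S5956U

open Polynomial Module Cfsg.Agent.Lib.Helper13.S5955 Cfsg.Agent.Lib.helper14.JTa

variable {F : Type*} [Field F] {V : Type*} [AddCommGroup V] [Module F V]

theorem s5956uadj_mul_inv {r : ℕ} (hr : 0 < r) {x : Module.End F V} (hx : x ^ r = 1) :
    x * x ^ (r - 1) = 1 := by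
  rw [← pow_succ', Nat.sub_add_cancel hr, hx]

theorem s5956uadj_one {r : ℕ} (hr : 0 < r) {B : LinearMap.BilinForm F V} {x : Module.End F V}
    (h : SCtx r B x) (u v : V) : B (x u) v = B u ((x ^ (r - 1)) v) := by
  have h1 : x * x ^ (r - 1) = 1 := s5956uadj_mul_inv hr h.pow
  have h2 : v = x ((x ^ (r - 1)) v) := by
    rw [← Module.End.mul_apply, h1, Module.End.one_apply]
  conv_lhs => rw [h2]
  exact h.pres _ _

theorem s5956uadj_step {r : ℕ} (hr : 0 < r) {B : LinearMap.BilinForm F V} {x : Module.End F V}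
    (h : SCtx r B x) (u v : V) : B ((x - 1) u) v = - B u ((x - 1) ((x ^ (r - 1)) v)) := by
  have h1 : x * x ^ (r - 1) = 1 := s5956uadj_mul_inv hr h.pow
  have h3 : (x - 1) ((x ^ (r - 1)) v) = v - (x ^ (r - 1)) v := by
    rw [← Module.End.mul_apply, sub_mul, h1, one_mul]; simp
  rw [h3, LinearMap.sub_apply, map_sub, LinearMap.sub_apply, s5956uadj_one hr h]
  simp

theorem s5956uadj_pow_mem {x : Module.End F V} {N : Submodule F V} (hN : SInv x N) (k : ℕ) {w : V}
    (hw : w ∈ N) : (x ^ k) w ∈ N := by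
  induction k with
  | zero => simpa using hw
  | succ k ih => rw [pow_succ', Module.End.mul_apply]; exact hN _ ih

theorem s5956uadj_sub_one_mem {x : Module.End F V} {N : Submodule F V} (hN : SInv x N) {w : V}
    (hw : w ∈ N) : (x - 1) w ∈ N := by
  simp only [LinearMap.sub_apply, Module.End.one_apply]
  exact N.sub_mem (hN w hw) hw

theorem s5956uadj_skew {B : LinearMap.BilinForm F V} (halt : ∀ v, B v v = 0) (u v : V) :
    B u v = - B v u := by
  have h1 := halt (u + v)
  simp only [map_add, LinearMap.add_apply, halt, zero_add, add_zero] at h1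
  linear_combination h1

/-- ADJ -/
theorem adj_pow {r : ℕ} (hr : 0 < r) {B : LinearMap.BilinForm F V} {x : Module.End F V}
    (h : SCtx r B x) (a : ℕ) (u v : V) :
    B (((x - 1) ^ a) u) v = (-1) ^ a * B u (((x - 1) ^ a) (((x ^ (r - 1)) ^ a) v)) := by
  induction a generalizing u v with
  | zero => simp
  | succ a ih =>
    have hc : Commute (x - 1) (x ^ (r - 1)) :=
      ((Commute.refl x).sub_left (Commute.one_left x)).pow_right _
    have e1 : ((x - 1) ^ (a + 1)) u = ((x - 1) ^ a) ((x - 1) u) := by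
      rw [pow_succ, Module.End.mul_apply]
    rw [e1, ih, s5956uadj_step hr h]
    have e2 : (x - 1) ((x ^ (r - 1)) (((x - 1) ^ a) (((x ^ (r - 1)) ^ a) v)))
        = ((x - 1) ^ (a + 1)) (((x ^ (r - 1)) ^ (a + 1)) v) := by
      simp only [← Module.End.mul_apply]
      congr 1
      have hc2 : Commute (x ^ (r - 1)) ((x - 1) ^ a) := (hc.pow_left a).symm
      calc (x - 1) * (x ^ (r - 1) * ((x - 1) ^ a * (x ^ (r - 1)) ^ a))
          = (x - 1) * ((x ^ (r - 1) * (x - 1) ^ a) * (x ^ (r - 1)) ^ a) := by rw [mul_assoc]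
        _ = (x - 1) * (((x - 1) ^ a * x ^ (r - 1)) * (x ^ (r - 1)) ^ a) := by rw [hc2.eq]
        _ = ((x - 1) * (x - 1) ^ a) * (x ^ (r - 1) * (x ^ (r - 1)) ^ a) := by
            simp only [mul_assoc]
        _ = (x - 1) ^ (a + 1) * (x ^ (r - 1)) ^ (a + 1) := by rw [← pow_succ', ← pow_succ']
    rw [e2, pow_succ]
    ring

end Cfsg.Agent.Lib.Helper11.S5956U
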