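import Mathlib
import Cfsg.Agent.Lib.Helper11.S5956U.Defs
import Cfsg.Agent.Lib.Helper19.S5956UADJ

set_option autoImplicit false

/-!
# S5956U row BETASYMM (helper19): `β(u, v) = B u (M^(s-1) v)` is `(-1)^s`-symmetric.
-/

namespace Cfsg.Agent.Lib.Helper11.S5956U

open Polynomial Module Cfsg.Agent.Lib.Helper13.S5955 Cfsg.Agent.Lib.helper14.JTa

variable {F : Type*} [Field F] {V : Type*} [AddCommGroup V] [Module F V]

theorem s5956ubetasymm_top_x {x : Module.End F V} {N : Submodule F V} (s : ℕ) (hs : 1 ≤ s)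
    (hnil : ∀ v ∈ N, ((x - 1) ^ s) v = 0) (w : V) (hw : w ∈ N) :
    ((x - 1) ^ (s - 1)) (x w) = ((x - 1) ^ (s - 1)) w := by
  have h1 : x w = w + (x - 1) w := by simp
  rw [h1, map_add, ← Module.End.mul_apply, ← pow_succ, Nat.sub_add_cancel hs, hnil w hw, add_zero]

theorem s5956ubetasymm_top_pow {x : Module.End F V} {N : Submodule F V} (hN : SInv x N) (s : ℕ)
    (hs : 1 ≤ s) (hnil : ∀ v ∈ N, ((x - 1) ^ s) v = 0) (k : ℕ) (w : V) (hw : w ∈ N) :
    ((x - 1) ^ (s - 1)) ((x ^ k) w) = ((x - 1) ^ (s - 1)) w := by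
  induction k with
  | zero => simp
  | succ k ih =>
    rw [pow_succ', Module.End.mul_apply,
      s5956ubetasymm_top_x s hs hnil _ (s5956uadj_pow_mem hN k hw), ih]

/-- BETASYMM -/
theorem beta_symm {r : ℕ} (hr : 0 < r) {B : LinearMap.BilinForm F V} {x : Module.End F V}
    (h : SCtx r B x) (N : Submodule F V) (hN : SInv x N) (s : ℕ) (hs : 1 ≤ s)
    (hnil : ∀ v ∈ N, ((x - 1) ^ s) v = 0) (u v : V) (hu : u ∈ N) (hv : v ∈ N) :
    B v (((x - 1) ^ (s - 1)) u) = (-1) ^ s * B u (((x - 1) ^ (s - 1)) v) := by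
  rw [s5956uadj_skew h.alt v, adj_pow hr h, ← pow_mul,
    s5956ubetasymm_top_pow hN s hs hnil _ v hv]
  obtain ⟨t, rfl⟩ : ∃ t, s = t + 1 := ⟨s - 1, by omega⟩
  simp only [Nat.add_sub_cancel]
  ring

end Cfsg.Agent.Lib.Helper11.S5956U
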