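import Mathlib
import Cfsg.Agent.Lib.Helper19.SO8.Defs
import Cfsg.Agent.Lib.Helper26.SO8C5
import Cfsg.Agent.Lib.Helper24.SO8RASSOC

set_option autoImplicit false

/-!
# Project SO8 (designer helper19), row STRUCT1, core: `so8struct1_core` = `sr_struct_aux` with the statements of the rows
C3 (`irr_dvd`), C4 (`irr_self_dvd`), PEELS (`peel_self`), PEELP (`peel_pair`) as hypotheses (C5 and RASSOC are cited).
-/

namespace Cfsg.Agent.Lib.Helper19.SO8

open Polynomial

section
variable {F : Type*} [Field F]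

theorem so8struct1_xpow_dvd (a m : ℕ) (h : a ∣ m) : (X ^ a - 1 : F[X]) ∣ X ^ m - 1 := by
  obtain ⟨k, rfl⟩ := h
  have := sub_dvd_pow_sub_pow ((X : F[X]) ^ a) 1 k
  rwa [one_pow, ← pow_mul] at this

theorem so8struct1_coeff0 (g : F[X]) (hg : g ≠ 0) (hr : g.reverse = g) : g.coeff 0 ≠ 0 := by
  rw [← hr, coeff_zero_reverse]
  exact leadingCoeff_ne_zero.mpr hg

theorem so8struct1_step (q n : ℕ) (g P g' : F[X]) (e j : ℕ) (ε : Bool) (hg : g ≠ 0)
    (hd : g.natDegree = 2 * n) (he : 1 ≤ e) (hj : 1 ≤ j) (hP : P.natDegree = 2 * e)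
    (hPd : P ∣ (X ^ (tyN q e ε) - 1 : F[X])) (hgeq : g = P ^ j * g') (hcop : IsCoprime P g')
    (IH : ∀ n' : ℕ, n' < n → g'.natDegree = 2 * n' →
      ∃ w : ℕ → Bool → ℕ, (∑ e ∈ Finset.range (n' + 1), e * (w e true + w e false) = n') ∧
        (∀ e ε, w e ε ≠ 0 → 1 ≤ e ∧ e ≤ n') ∧
        ∀ m t : ℕ, (∀ e ε, w e ε ≠ 0 → tyN q e ε ∣ m) → (∀ e ε, w e ε ≤ 2 ^ t) →
          g' ∣ (X ^ m - 1 : F[X]) ^ (2 ^ t)) :
    ∃ w : ℕ → Bool → ℕ, (∑ e ∈ Finset.range (n + 1), e * (w e true + w e false) = n) ∧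
      (∀ e ε, w e ε ≠ 0 → 1 ≤ e ∧ e ≤ n) ∧
      ∀ m t : ℕ, (∀ e ε, w e ε ≠ 0 → tyN q e ε ∣ m) → (∀ e ε, w e ε ≤ 2 ^ t) →
        g ∣ (X ^ m - 1 : F[X]) ^ (2 ^ t) := by
  classical
  have hP0 : P ≠ 0 := by
    rintro rfl
    rw [natDegree_zero] at hP
    omega
  have hg'0 : g' ≠ 0 := by
    rintro rfl
    rw [mul_zero] at hgeq
    exact hg hgeq
  have hdeg : g.natDegree = j * (2 * e) + g'.natDegree := by
    rw [hgeq, natDegree_mul (pow_ne_zero j hP0) hg'0, natDegree_pow, hP]
  have hej : e * j ≤ n := by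
    have : j * (2 * e) ≤ 2 * n := by omega
    nlinarith
  have hej1 : 1 ≤ e * j := Nat.mul_pos he hj
  obtain ⟨n', hn'⟩ : ∃ n', n' = n - e * j := ⟨_, rfl⟩
  have hdeg' : g'.natDegree = 2 * n' := by
    have : j * (2 * e) = 2 * (e * j) := by ring
    omega
  obtain ⟨w', hsum', hsupp', hdvd'⟩ := IH n' (by omega) hdeg'
  refine ⟨fun e' ε' => w' e' ε' + (if e' = e ∧ ε' = ε then j else 0), ?_, ?_, ?_⟩
  · -- the sum
    have h1 : ∑ e' ∈ Finset.range (n + 1), e' * (w' e' true + w' e' false) = n' := by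
      rw [← hsum']
      symm
      apply Finset.sum_subset
      · intro x hx
        rw [Finset.mem_range] at hx ⊢
        omega
      · intro x _ hx
        rw [Finset.mem_range] at hx
        have ht : w' x true = 0 := by
          by_contra h
          have := (hsupp' x true h).2
          omega
        have hf : w' x false = 0 := by
          by_contra h
          have := (hsupp' x false h).2
          omega
        rw [ht, hf]
        simp
    have h2 : ∑ e' ∈ Finset.range (n + 1),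
        e' * ((if e' = e ∧ true = ε then j else 0) + (if e' = e ∧ false = ε then j else 0)) = e * j := by
      rw [Finset.sum_eq_single e]
      · cases ε <;> simp
      · intro b _ hb
        simp [hb]
      · intro h
        exfalso
        apply h
        rw [Finset.mem_range]
        have : e ≤ e * j := Nat.le_mul_of_pos_right e hj
        omega
    calc ∑ e' ∈ Finset.range (n + 1), e' * ((w' e' true + (if e' = e ∧ true = ε then j else 0)) +
          (w' e' false + (if e' = e ∧ false = ε then j else 0)))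
        = ∑ e' ∈ Finset.range (n + 1), (e' * (w' e' true + w' e' false) +
          e' * ((if e' = e ∧ true = ε then j else 0) + (if e' = e ∧ false = ε then j else 0))) := by
          apply Finset.sum_congr rfl
          intro x _
          ring
      _ = n' + e * j := by rw [Finset.sum_add_distrib, h1, h2]
      _ = n := by omega
  · -- support
    intro e' ε' h
    by_cases hc : e' = e ∧ ε' = ε
    · obtain ⟨rfl, rfl⟩ := hc
      refine ⟨he, ?_⟩
      have : e' ≤ e' * j := Nat.le_mul_of_pos_right e' hj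
      omega
    · simp only [hc, if_false, add_zero] at h
      have := hsupp' e' ε' h
      omega
  · intro m t hm ht
    have hw'le : ∀ e' ε', w' e' ε' ≤ w' e' ε' + (if e' = e ∧ ε' = ε then j else 0) := fun _ _ =>
      Nat.le_add_right _ _
    have hg' : g' ∣ (X ^ m - 1 : F[X]) ^ (2 ^ t) := by
      apply hdvd' m t
      · intro e' ε' h
        apply hm e' ε'
        show w' e' ε' + (if e' = e ∧ ε' = ε then j else 0) ≠ 0
        have := hw'le e' ε'
        omega
      · intro e' ε'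
        exact le_trans (hw'le e' ε') (ht e' ε')
    have hjw : j ≤ 2 ^ t := by
      have : w' e ε + (if e = e ∧ ε = ε then j else 0) ≤ 2 ^ t := ht e ε
      rw [if_pos ⟨rfl, rfl⟩] at this
      omega
    have hPm : P ∣ (X ^ m - 1 : F[X]) := by
      apply dvd_trans hPd
      apply so8struct1_xpow_dvd
      apply hm e ε
      show w' e ε + (if e = e ∧ ε = ε then j else 0) ≠ 0
      rw [if_pos ⟨rfl, rfl⟩]
      omega
    have hPj : P ^ j ∣ (X ^ m - 1 : F[X]) ^ (2 ^ t) :=
      dvd_trans (pow_dvd_pow_of_dvd hPm j) (pow_dvd_pow _ hjw)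
    rw [hgeq]
    exact IsCoprime.mul_dvd (hcop.pow_left) hPj hg'

end

theorem so8struct1_core {F : Type*} [Field F] [Fintype F] [CharP F 2]
    (hC3 : ∀ f : F[X], Irreducible f → f.coeff 0 ≠ 0 →
      f ∣ (X ^ (Fintype.card F ^ f.natDegree - 1) - 1 : F[X]))
    (hC4 : ∀ f : F[X], Irreducible f → f.coeff 0 ≠ 0 → f.reverse = f → f.eval 1 ≠ 0 →
      ∃ e : ℕ, 1 ≤ e ∧ f.natDegree = 2 * e ∧ f ∣ (X ^ (Fintype.card F ^ e + 1) - 1 : F[X]))
    (hPS : ∀ χ f : F[X], χ ≠ 0 → χ.reverse = χ → Irreducible f → f.reverse = f → f ∣ χ →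
      ∃ (j : ℕ) (g : F[X]), 1 ≤ j ∧ χ = f ^ j * g ∧ IsCoprime f g ∧ g.reverse = g)
    (hPP : ∀ χ f : F[X], χ ≠ 0 → χ.coeff 0 ≠ 0 → χ.reverse = χ → Irreducible f →
      ¬ Associated f.reverse f → f ∣ χ →
      ∃ (j : ℕ) (g : F[X]), 1 ≤ j ∧ χ = (f * f.reverse) ^ j * g ∧ IsCoprime (f * f.reverse) g ∧
        g.reverse = g ∧ IsCoprime f f.reverse)
    (n : ℕ) (g : F[X]) (hg : g ≠ 0)
    (hr : g.reverse = g) (h1 : g.eval 1 ≠ 0) (hd : g.natDegree = 2 * n) :
    ∃ w : ℕ → Bool → ℕ, (∑ e ∈ Finset.range (n + 1), e * (w e true + w e false) = n) ∧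
      (∀ e ε, w e ε ≠ 0 → 1 ≤ e ∧ e ≤ n) ∧
      ∀ m t : ℕ, (∀ e ε, w e ε ≠ 0 → tyN (Fintype.card F) e ε ∣ m) → (∀ e ε, w e ε ≤ 2 ^ t) →
        g ∣ (X ^ m - 1 : F[X]) ^ (2 ^ t) := by
  classical
  induction n using Nat.strong_induction_on generalizing g with
  | _ n ih =>
  rcases Nat.eq_zero_or_pos n with hn0 | hnpos
  · subst hn0
    refine ⟨fun _ _ => 0, by simp, fun e ε h => absurd rfl h, ?_⟩
    intro m t _ _
    have hunit : IsUnit g := by
      rw [mul_zero] at hd
      rw [eq_C_of_natDegree_eq_zero hd]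
      apply isUnit_C.mpr
      rw [isUnit_iff_ne_zero]
      intro h
      apply hg
      rw [eq_C_of_natDegree_eq_zero hd, h, C_0]
    exact hunit.dvd
  · obtain ⟨f, hf, hfg⟩ := exists_irreducible_of_natDegree_pos (f := g) (by omega)
    obtain ⟨h, hh⟩ := hfg
    have hg0 : g.coeff 0 ≠ 0 := so8struct1_coeff0 g hg hr
    have hf1 : f.eval 1 ≠ 0 := by
      intro h0
      apply h1
      rw [hh, eval_mul, h0, zero_mul]
    have hf0 : f.coeff 0 ≠ 0 := by
      intro h0
      apply hg0
      rw [hh, mul_coeff_zero, h0, zero_mul]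
    have hfdvd : f ∣ g := ⟨h, hh⟩
    by_cases hass : Associated f.reverse f
    · have hfr : f.reverse = f := reverse_eq_of_associated f hf0 hass
      obtain ⟨e, he1, hdeg, hdvdf⟩ := hC4 f hf hf0 hfr hf1
      obtain ⟨j, g', hj, hgeq, hcop, hr'⟩ := hPS g f hg hr hf hfr hfdvd
      have hg'0 : g' ≠ 0 := by
        rintro rfl
        rw [mul_zero] at hgeq
        exact hg hgeq
      have hg'1 : g'.eval 1 ≠ 0 := by
        intro h0
        apply h1
        rw [hgeq, eval_mul, h0, mul_zero]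
      apply so8struct1_step (Fintype.card F) n g f g' e j false hg hd he1 hj hdeg
        (by rw [tyN_false]; exact hdvdf) hgeq hcop
      intro n' hn' hdn'
      exact ih n' hn' g' hg'0 hr' hg'1 hdn'
    · obtain ⟨j, g', hj, hgeq, hcop, hr', hcopff⟩ := hPP g f hg hg0 hr hf hass hfdvd
      obtain ⟨hrr, hirr⟩ := reverse_irreducible f hf hf0
      have hg'0 : g' ≠ 0 := by
        rintro rfl
        rw [mul_zero] at hgeq
        exact hg hgeq
      have hg'1 : g'.eval 1 ≠ 0 := by
        intro h0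
        apply h1
        rw [hgeq, eval_mul, h0, mul_zero]
      have hf00 : f ≠ 0 := hf.ne_zero
      have hndr : f.reverse.natDegree = f.natDegree := by
        rw [reverse_natDegree]
        have : f.natTrailingDegree = 0 := natTrailingDegree_eq_zero.mpr (Or.inr hf0)
        omega
      have hr0 : f.reverse.coeff 0 ≠ 0 := by
        rw [coeff_zero_reverse]
        exact leadingCoeff_ne_zero.mpr hf00
      have he1 : 1 ≤ f.natDegree := hf.natDegree_pos
      have hd1 := hC3 f hf hf0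
      have hd2 := hC3 f.reverse hirr hr0
      rw [hndr] at hd2
      have hPd : f * f.reverse ∣ (X ^ (tyN (Fintype.card F) f.natDegree true) - 1 : F[X]) := by
        rw [tyN_true]
        exact IsCoprime.mul_dvd hcopff hd1 hd2
      have hPdeg : (f * f.reverse).natDegree = 2 * f.natDegree := by
        rw [natDegree_mul hf00 hirr.ne_zero, hndr]
        ring
      apply so8struct1_step (Fintype.card F) n g (f * f.reverse) g' f.natDegree j true hg hd he1 hj
        hPdeg hPd hgeq hcop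
      intro n' hn' hdn'
      exact ih n' hn' g' hg'0 hr' hg'1 hdn'

end Cfsg.Agent.Lib.Helper19.SO8
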