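import Mathlib
import Cfsg.Agent.Lib.Helper19.SO8.Defs
import Cfsg.Agent.Lib.Helper19.SO8STRUCT1core
import Cfsg.Agent.Lib.Helper11.SO8C3
import Cfsg.Agent.Lib.Helper21.SO8C4
import Cfsg.Agent.Lib.Helper27.SO8PEELS
import Cfsg.Agent.Lib.helper17.SO8PEELP

set_option autoImplicit false

/-!
# Project SO8 (designer helper19), row STRUCT1 (`sr_struct_aux`), verbatim from `Helper19/SO8/Skel.lean.txt`:
`so8struct1_core` on the rows C3, C4, PEELS, PEELP.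
-/

namespace Cfsg.Agent.Lib.Helper19.SO8

open Polynomial

theorem sr_struct_aux {F : Type*} [Field F] [Fintype F] [CharP F 2] (n : ℕ) (g : F[X]) (hg : g ≠ 0)
    (hr : g.reverse = g) (h1 : g.eval 1 ≠ 0) (hd : g.natDegree = 2 * n) :
    ∃ w : ℕ → Bool → ℕ, (∑ e ∈ Finset.range (n + 1), e * (w e true + w e false) = n) ∧
      (∀ e ε, w e ε ≠ 0 → 1 ≤ e ∧ e ≤ n) ∧
      ∀ m t : ℕ, (∀ e ε, w e ε ≠ 0 → tyN (Fintype.card F) e ε ∣ m) → (∀ e ε, w e ε ≤ 2 ^ t) →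
        g ∣ (X ^ m - 1 : F[X]) ^ (2 ^ t) :=
  so8struct1_core irr_dvd irr_self_dvd peel_self peel_pair n g hg hr h1 hd

end Cfsg.Agent.Lib.Helper19.SO8
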