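import Mathlib
import Cfsg.Prelude.Def_Characters
import Cfsg.Prelude.Def_Blocks
import Cfsg.Agent.Lib.Helper25.CharLinear
import Cfsg.Agent.Lib.Helper29.LeoOrbit
import Cfsg.Agent.Lib.helper7.BR.Defs
import Cfsg.Agent.Lib.Helper13.BT.Defs

/-!
# Project BT, piece ARITH4 : the mod 4 argument (`e = 2` or `2 e + 1 = p`)
-/

set_option autoImplicit false
set_option linter.unusedVariables false
set_option linter.unusedSectionVars false

namespace Cfsg.Agent.Lib.Helper13.BT

open Classical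
open scoped ComplexConjugate
open Cfsg.Agent.Lib.Helper25 Cfsg.Agent.Lib.Helper29
open Cfsg.Agent.Lib.helper7.BR

universe u

/-- ARITH4 : in the branch `ε = -1` with `q = 2`: `e = 2` or `2 e + 1 = p`. -/
theorem arith_four (p b e z c : ℕ) (hp : p.Prime) (he2 : 2 ≤ e) (hep : 2 * e + 1 ≤ p) (hedvd : e ∣ p - 1)
    (hec : e = 2 ^ c) (hz : z + e = p) {ι : Type*} [DecidableEq ι] (X : Finset ι) (t0 : ι) (ht0 : t0 ∈ X)
    (a : ι → ℤ) (ha : ∀ i ∈ X, a i = 1 ∨ a i = -1) (deg : ι → ℕ) (hdeg0 : deg t0 = 1) (ha0 : a t0 = 1)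
    (hdeg2 : ∀ i ∈ X, i ≠ t0 → 2 ≤ deg i) (hcong : ∀ i ∈ X, (p : ℤ) ∣ (deg i : ℤ) - a i)
    (hdvd : ∀ i ∈ X, deg i ∣ p * 2 ^ b * z) (heven : ∀ i ∈ X, i ≠ t0 → Even (deg i))
    (hD : ∑ i ∈ X, a i * (deg i : ℤ) = -(z : ℤ)) : e = 2 ∨ 2 * e + 1 = p := by
  by_cases he : e = 2
  · exact Or.inl he
  right
  -- `4 ∣ e`
  have h4e : 4 ∣ e := by
    rcases c with _ | _ | c
    · simp at hec; omega
    · simp at hec; omega
    · exact ⟨2 ^ c, by rw [hec]; ring⟩
  have h4p : 4 ∣ p - 1 := dvd_trans h4e hedvd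
  obtain ⟨k, hk⟩ := h4e
  obtain ⟨m, hm⟩ := h4p
  have hp2 : 2 ≤ p := hp.two_le
  have hz4 : z % 4 = 1 := by omega
  have hzpos : 0 < z := by omega
  -- some non-principal degree is `≡ 2 (mod 4)`
  have hex : ∃ i ∈ X, i ≠ t0 ∧ deg i % 4 = 2 := by
    by_contra hcon
    push Not at hcon
    have h4 : ∀ i ∈ X.erase t0, (4 : ℤ) ∣ a i * (deg i : ℤ) := by
      intro i hi
      have hi' := Finset.mem_erase.mp hi
      have h1 := hcon i hi'.2 hi'.1
      obtain ⟨w, hw⟩ := heven i hi'.2 hi'.1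
      have : 4 ∣ deg i := by omega
      exact Dvd.dvd.mul_left (by exact_mod_cast this) _
    have hsum := Finset.dvd_sum h4
    rw [← Finset.add_sum_erase X _ ht0, ha0, hdeg0] at hD
    obtain ⟨w, hw⟩ := hsum
    rw [hw] at hD
    have : ((z : ℕ) : ℤ) % 4 = 1 := by exact_mod_cast hz4
    push_cast at hD
    omega
  obtain ⟨i, hiX, hit0, hi4⟩ := hex
  have hD2 := hdeg2 i hiX hit0
  -- `deg i` is prime to `p`
  have hcop : Nat.Coprime (deg i) p := by
    rw [Nat.coprime_comm, hp.coprime_iff_not_dvd]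
    intro hpd
    have h1 : (p : ℤ) ∣ (deg i : ℤ) := by exact_mod_cast hpd
    have h2 := (Int.dvd_sub h1 (hcong i hiX))
    have h3 : (p : ℤ) ∣ a i := by
      have : (deg i : ℤ) - ((deg i : ℤ) - a i) = a i := by ring
      rwa [this] at h2
    rcases ha i hiX with h | h
    · rw [h] at h3
      have := Int.le_of_dvd one_pos h3
      omega
    · rw [h] at h3
      have h4 : (p : ℤ) ∣ 1 := by simpa using (dvd_neg.mpr h3)
      have := Int.le_of_dvd one_pos h4
      omega
  have hd1 : deg i ∣ 2 ^ b * z := by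
    have := hdvd i hiX
    rw [mul_assoc] at this
    exact hcop.dvd_of_dvd_mul_left this
  -- the odd part divides `z`
  obtain ⟨d, hd⟩ : ∃ d, deg i = 2 * d := ⟨deg i / 2, by omega⟩
  have hdodd : d % 2 = 1 := by omega
  have hdz : d ∣ z := by
    have h1 : d ∣ 2 ^ b * z := dvd_trans ⟨2, by rw [hd, mul_comm]⟩ hd1
    have h2 : Nat.Coprime d (2 ^ b) := by
      apply Nat.Coprime.pow_right
      rw [Nat.coprime_comm, Nat.Prime.coprime_iff_not_dvd Nat.prime_two]
      omega
    exact h2.dvd_of_dvd_mul_left h1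
  obtain ⟨n, hn⟩ := hdz
  have hdpos : 0 < d := by omega
  rcases ha i hiX with hai | hai
  · -- `deg i = p + 1`
    have hc := hcong i hiX
    rw [hai] at hc
    obtain ⟨w, hw⟩ := hc
    have hle : d ≤ z := Nat.le_of_dvd hzpos ⟨n, hn⟩
    have hw1 : w = 1 := by
      have h1 : (0 : ℤ) < (p : ℤ) * w := by rw [← hw]; push_cast [hd]; omega
      have h2 : (p : ℤ) * w < (p : ℤ) * 2 := by rw [← hw]; push_cast [hd]; omega
      have hp0 : (0 : ℤ) < p := by exact_mod_cast hp.pos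
      have h3 : 0 < w := by nlinarith
      have h4 : w < 2 := lt_of_mul_lt_mul_left h2 hp0.le
      omega
    rw [hw1, mul_one] at hw
    have hdp : 2 * d = p + 1 := by
      have : ((2 * d : ℕ) : ℤ) = (p : ℤ) + 1 := by rw [← hd]; linarith
      exact_mod_cast this
    rcases n with _ | _ | n
    · omega
    · omega
    · have : 2 * d ≤ z := by rw [hn]; nlinarith
      omega
  · -- `deg i = p - 1`: impossible
    exfalso
    have hc := hcong i hiX
    rw [hai] at hc
    obtain ⟨w, hw⟩ := hc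
    have hle : d ≤ z := Nat.le_of_dvd hzpos ⟨n, hn⟩
    have hw1 : w = 1 := by
      have h1 : (0 : ℤ) < (p : ℤ) * w := by rw [← hw]; push_cast [hd]; omega
      have h2 : (p : ℤ) * w < (p : ℤ) * 2 := by rw [← hw]; push_cast [hd]; omega
      have hp0 : (0 : ℤ) < p := by exact_mod_cast hp.pos
      have h3 : 0 < w := by nlinarith
      have h4 : w < 2 := lt_of_mul_lt_mul_left h2 hp0.le
      omega
    rw [hw1, mul_one] at hw
    have hdp : 2 * d + 1 = p := by
      have : ((2 * d + 1 : ℕ) : ℤ) = (p : ℤ) := by push_cast; rw [← Nat.cast_ofNat (R := ℤ), ← Nat.cast_mul, ← hd]; linarith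
      exact_mod_cast this
    rcases n with _ | _ | n
    · omega
    · omega
    · have : 2 * d ≤ z := by rw [hn]; nlinarith
      omega

end Cfsg.Agent.Lib.Helper13.BT
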