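import Mathlib
import Cfsg.Agent.Lib.Helper28.CD3.Defs
import Cfsg.Agent.Lib.Helper25.CharAbelian
import Cfsg.Agent.Lib.Helper25.CharLinear
import Cfsg.Agent.Lib.Helper25.CharOrth
import Cfsg.Agent.Lib.helper2.CharInt

/-!
# CD3 piece BASIC: elementary facts on `Cfsg.charDegrees`.
-/

set_option autoImplicit false
open scoped commutatorElement ComplexConjugate

namespace Cfsg.Agent.Lib.Helper28.CD3

universe u

section basics
variable {G : Type u} [Group G] [Finite G]

theorem cd_finite (G : Type u) [Group G] [Finite G] : (Cfsg.charDegrees G).Finite := by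
  haveI : Finite (Cfsg.IrrCharacter G) := Cfsg.Agent.Lib.Helper25.irr_finite G
  have h : Cfsg.charDegrees G =
      Set.range (fun χ : Cfsg.IrrCharacter G => Cfsg.charDegree (χ : G → ℂ)) := by
    ext d
    simp [Cfsg.charDegrees]
  rw [h]
  exact Set.finite_range _

theorem one_mem_cd (G : Type u) [Group G] [Finite G] : 1 ∈ Cfsg.charDegrees G := by
  refine ⟨Cfsg.Agent.Lib.Helper25.trivIrr G, ?_⟩
  unfold Cfsg.charDegree
  rw [Cfsg.Agent.Lib.Helper25.trivIrr_apply]
  simp

theorem cd_pos {d : ℕ} (hd : d ∈ Cfsg.charDegrees G) : 0 < d := by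
  obtain ⟨χ, rfl⟩ := hd
  exact (Cfsg.Agent.Lib.Helper25.charDegree_irr χ).2

theorem cd_dvd_card {d : ℕ} (hd : d ∈ Cfsg.charDegrees G) : d ∣ Nat.card G := by
  obtain ⟨χ, rfl⟩ := hd
  obtain ⟨n, hn, h1, hdvd⟩ := Cfsg.Agent.Lib.helper2.irr_degree_dvd_card χ
  have h2 := (Cfsg.Agent.Lib.Helper25.charDegree_irr χ).1
  rw [h1] at h2
  have h3 : Cfsg.charDegree (χ : G → ℂ) = n := by exact_mod_cast h2
  rw [h3]
  exact hdvd

/-- a finite group all of whose irreducible characters are linear is abelian -/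
theorem cd3basic_all_linear_comm {P : Type u} [Group P] [Finite P]
    (h : ∀ ζ : Cfsg.IrrCharacter P, (ζ : P → ℂ) 1 = 1) : ∀ a c : P, a * c = c * a := by
  classical
  haveI : Fintype P := Fintype.ofFinite _
  haveI : Finite (Cfsg.IrrCharacter P) := Cfsg.Agent.Lib.Helper25.irr_finite P
  haveI : Fintype (Cfsg.IrrCharacter P) := Fintype.ofFinite _
  intro a c
  set w : P := a * c * a⁻¹ * c⁻¹ with hw
  have hwc : w ∈ commutator P := by
    rw [commutator_def]
    exact Subgroup.commutator_mem_commutator (Subgroup.mem_top a) (Subgroup.mem_top c)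
  have h1 : ∀ ζ : Cfsg.IrrCharacter P, (ζ : P → ℂ) w = 1 :=
    fun ζ => Cfsg.Agent.Lib.Helper25.irr_linear_commutator ζ (h ζ) hwc
  have h2 := Cfsg.Agent.Lib.Helper25.irr_column_orthogonality (G := P) w 1
  have h3 : ∑ χ : Cfsg.IrrCharacter P, (χ : P → ℂ) w * conj ((χ : P → ℂ) 1) =
      (Fintype.card (Cfsg.IrrCharacter P) : ℂ) := by
    rw [Finset.sum_congr rfl (fun χ _ => by rw [h1 χ, h χ, map_one, mul_one]),
      Finset.sum_const, Finset.card_univ, nsmul_eq_mul, mul_one]
  rw [h3] at h2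
  have h4 : IsConj (1 : P) w := by
    by_contra hcon
    rw [if_neg hcon] at h2
    have : (Fintype.card (Cfsg.IrrCharacter P) : ℂ) ≠ 0 := by
      have : Nonempty (Cfsg.IrrCharacter P) := ⟨Cfsg.Agent.Lib.Helper25.trivIrr P⟩
      exact_mod_cast Fintype.card_ne_zero
    exact this h2
  have h5 : w = 1 := isConj_one_right.mp h4
  have h6 : a * c * a⁻¹ * c⁻¹ = 1 := h5
  calc a * c = a * c * a⁻¹ * c⁻¹ * (c * a) := by group
    _ = c * a := by rw [h6, one_mul]

theorem cd_eq_one_iff : Cfsg.charDegrees G = {1} ↔ ∀ a b : G, a * b = b * a := by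
  constructor
  · intro h
    apply cd3basic_all_linear_comm
    intro ζ
    have h1 : Cfsg.charDegree (ζ : G → ℂ) ∈ Cfsg.charDegrees G := ⟨ζ, rfl⟩
    rw [h] at h1
    have h2 := (Cfsg.Agent.Lib.Helper25.charDegree_irr ζ).1
    rw [Set.mem_singleton_iff.mp h1] at h2
    rw [← h2]
    simp
  · intro h
    ext d
    constructor
    · rintro ⟨χ, rfl⟩
      letI : CommGroup G := { ‹Group G› with mul_comm := h }
      have h1 : (χ : G → ℂ) 1 = 1 := Cfsg.Agent.Lib.Helper25.irr_one_of_comm (G := G) χ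
      show Cfsg.charDegree (χ : G → ℂ) = 1
      unfold Cfsg.charDegree
      rw [h1]
      simp
    · intro hd
      rw [Set.mem_singleton_iff.mp hd]
      exact one_mem_cd G

end basics

end Cfsg.Agent.Lib.Helper28.CD3
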