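import Mathlib
import Cfsg.Agent.Lib.Helper28.CD3.Defs
import Cfsg.Agent.Lib.Helper19.CD3BASIC
import Cfsg.Agent.Lib.helper2.CD3FROB1

/-!
# CD3 piece DICH2: a Frobenius-type group `X` with abelian kernel `D` has `|X : D| ∈ cd(X)`.
-/

set_option autoImplicit false
open scoped commutatorElement ComplexConjugate

namespace Cfsg.Agent.Lib.Helper28.CD3

universe u

/-- a nontrivial finite abelian group has a nontrivial irreducible (linear) character -/
theorem cd3dich2_exists_nontrivial {D : Type u} [Group D] [Finite D]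
    (hab : ∀ a b : D, a * b = b * a) (d₀ : D) (hd₀ : d₀ ≠ 1) :
    ∃ ψ : Cfsg.IrrCharacter D, (ψ : D → ℂ) 1 = 1 ∧ (ψ : D → ℂ) d₀ ≠ 1 := by
  classical
  haveI : Fintype D := Fintype.ofFinite _
  haveI : Finite (Cfsg.IrrCharacter D) := Cfsg.Agent.Lib.Helper25.irr_finite D
  haveI : Fintype (Cfsg.IrrCharacter D) := Fintype.ofFinite _
  have hcd : Cfsg.charDegrees D = {1} := cd_eq_one_iff.mpr hab
  have hlin : ∀ ψ : Cfsg.IrrCharacter D, (ψ : D → ℂ) 1 = 1 := by
    intro ψ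
    have h1 : Cfsg.charDegree (ψ : D → ℂ) ∈ Cfsg.charDegrees D := ⟨ψ, rfl⟩
    rw [hcd] at h1
    have h2 := (Cfsg.Agent.Lib.Helper25.charDegree_irr ψ).1
    rw [Set.mem_singleton_iff.mp h1] at h2
    rw [← h2]
    simp
  by_contra hcon
  push_neg at hcon
  have h2 := Cfsg.Agent.Lib.Helper25.irr_column_orthogonality (G := D) d₀ 1
  have h3 : ∑ χ : Cfsg.IrrCharacter D, (χ : D → ℂ) d₀ * conj ((χ : D → ℂ) 1) =
      (Fintype.card (Cfsg.IrrCharacter D) : ℂ) := by
    rw [Finset.sum_congr rfl (fun χ _ => by rw [hcon χ (hlin χ), hlin χ, map_one, mul_one]),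
      Finset.sum_const, Finset.card_univ, nsmul_eq_mul, mul_one]
  rw [h3] at h2
  have h4 : ¬ IsConj (1 : D) d₀ := by
    intro h
    exact hd₀ (isConj_one_right.mp h)
  rw [if_neg h4] at h2
  have : (Fintype.card (Cfsg.IrrCharacter D) : ℂ) ≠ 0 := by
    have : Nonempty (Cfsg.IrrCharacter D) := ⟨Cfsg.Agent.Lib.Helper25.trivIrr D⟩
    exact_mod_cast Fintype.card_ne_zero
  exact this h2

-- piece DICH2
theorem dich_degree (X : Type u) [Group X] [Finite X] (D : Subgroup X) [D.Normal] (hD : D ≠ ⊥)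
    (hab : ∀ x ∈ D, ∀ y ∈ D, x * y = y * x)
    (hfpf : ∀ g : X, g ∉ D → ∀ d ∈ D, g * d = d * g → d = 1) :
    D.index ∈ Cfsg.charDegrees X := by
  classical
  -- a nontrivial element of D
  obtain ⟨x₀, hx₀D, hx₀⟩ : ∃ x ∈ D, x ≠ (1 : X) := by
    by_contra hcon
    push_neg at hcon
    apply hD
    rw [eq_bot_iff]
    intro x hx
    rw [Subgroup.mem_bot]
    exact hcon x hx
  have habD : ∀ a b : D, a * b = b * a := fun a b => Subtype.ext (hab a a.2 b b.2)
  have hd₀ : (⟨x₀, hx₀D⟩ : D) ≠ 1 := by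
    intro h
    apply hx₀
    exact congrArg Subtype.val h
  obtain ⟨ψ, hψ1, hψd⟩ := cd3dich2_exists_nontrivial habD ⟨x₀, hx₀D⟩ hd₀
  have hmul := Cfsg.Agent.Lib.Helper25.irr_linear_mul ψ hψ1
  have hstab : ∀ g : X, cjf D (ψ : D → ℂ) g = (ψ : D → ℂ) → g ∈ D := by
    intro g hg
    by_contra hgD
    -- the map d ↦ [g, d] on D
    have hmem : ∀ d : D, g * (d : X) * g⁻¹ * (d : X)⁻¹ ∈ D := fun d =>
      D.mul_mem (‹D.Normal›.conj_mem d d.2 g) (D.inv_mem d.2)
    let f : D → D := fun d => ⟨g * (d : X) * g⁻¹ * (d : X)⁻¹, hmem d⟩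
    have hinj : Function.Injective f := by
      intro d d' hdd
      have h1 : g * (d : X) * g⁻¹ * (d : X)⁻¹ = g * (d' : X) * g⁻¹ * (d' : X)⁻¹ :=
        congrArg Subtype.val hdd
      -- e = d'⁻¹ d commutes with g
      have h2 : g * ((d' : X)⁻¹ * (d : X)) = ((d' : X)⁻¹ * (d : X)) * g := by
        have h3 : (g * (d' : X) * g⁻¹)⁻¹ * (g * (d : X) * g⁻¹) = (d' : X)⁻¹ * (d : X) := by
          have h4 : g * (d : X) * g⁻¹ = g * (d' : X) * g⁻¹ * (d' : X)⁻¹ * (d : X) := by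
            rw [← h1]; group
          rw [h4]; group
        have h5 : (g * (d' : X) * g⁻¹)⁻¹ * (g * (d : X) * g⁻¹) =
            g * ((d' : X)⁻¹ * (d : X)) * g⁻¹ := by group
        rw [h5] at h3
        calc g * ((d' : X)⁻¹ * (d : X)) = g * ((d' : X)⁻¹ * (d : X)) * g⁻¹ * g := by group
          _ = ((d' : X)⁻¹ * (d : X)) * g := by rw [h3]
      have h6 := hfpf g hgD ((d' : X)⁻¹ * (d : X)) (D.mul_mem (D.inv_mem d'.2) d.2) h2
      apply Subtype.ext
      calc (d : X) = (d' : X) * ((d' : X)⁻¹ * (d : X)) := by group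
        _ = (d' : X) := by rw [h6, mul_one]
    have hsurj : Function.Surjective f := Finite.injective_iff_surjective.mp hinj
    -- ψ is trivial on the image of f
    have hone : ∀ d : D, (ψ : D → ℂ) (f d) = 1 := by
      intro d
      have h1 : f d = (⟨g * (d : X) * g⁻¹, ‹D.Normal›.conj_mem d d.2 g⟩ : D) * d⁻¹ := by
        apply Subtype.ext
        rfl
      have h2 : (ψ : D → ℂ) ⟨g * (d : X) * g⁻¹, ‹D.Normal›.conj_mem d d.2 g⟩ = (ψ : D → ℂ) d :=
        congrFun hg d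
      rw [h1, hmul, h2, ← hmul, mul_inv_cancel, hψ1]
    obtain ⟨d, hd⟩ := hsurj ⟨x₀, hx₀D⟩
    apply hψd
    rw [← hd]
    exact hone d
  have h1 := ind_irr_of_stab D ψ hstab
  have h2 : Cfsg.charDegree (ψ : D → ℂ) = 1 := by
    unfold Cfsg.charDegree
    rw [hψ1]
    simp
  rw [h2, mul_one] at h1
  exact h1

end Cfsg.Agent.Lib.Helper28.CD3
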