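import Mathlib
import Cfsg.Agent.Lib.helper14.SL2Card

set_option autoImplicit false

namespace Cfsg.Agent.Lib.Helper19.SL2Normal

open Matrix MatrixGroups
open scoped commutatorElement

variable {F : Type*} [Field F]

/-- An element of `SL₂(F)` that is its own inverse is `±1`, when `2 ≠ 0`. -/
theorem eq_one_or_neg_one_of_sq (h2 : (2 : F) ≠ 0) (A : SpecialLinearGroup (Fin 2) F)
    (hA : A * A = 1) : A = 1 ∨ A = -1 := by
  have hinv : A⁻¹ = A := by
    rw [inv_eq_iff_mul_eq_one]; exact hA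
  have hadj : (A : Matrix (Fin 2) (Fin 2) F).adjugate = (A : Matrix (Fin 2) (Fin 2) F) := by
    have := Matrix.SpecialLinearGroup.coe_inv A
    rw [hinv] at this
    exact this.symm
  rw [Matrix.adjugate_fin_two] at hadj
  have h01 : (A : Matrix (Fin 2) (Fin 2) F) 0 1 = 0 := by
    have := congrFun (congrFun hadj 0) 1
    simp only [Matrix.of_apply, Matrix.cons_val', Matrix.cons_val_zero, Matrix.cons_val_one] at this
    have h : (2 : F) * (A : Matrix (Fin 2) (Fin 2) F) 0 1 = 0 := by linear_combination -this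
    rcases mul_eq_zero.1 h with h | h
    · exact absurd h h2
    · exact h
  have h10 : (A : Matrix (Fin 2) (Fin 2) F) 1 0 = 0 := by
    have := congrFun (congrFun hadj 1) 0
    simp only [Matrix.of_apply, Matrix.cons_val', Matrix.cons_val_zero, Matrix.cons_val_one] at this
    have h : (2 : F) * (A : Matrix (Fin 2) (Fin 2) F) 1 0 = 0 := by linear_combination -this
    rcases mul_eq_zero.1 h with h | h
    · exact absurd h h2
    · exact h
  have h00 : (A : Matrix (Fin 2) (Fin 2) F) 1 1 = (A : Matrix (Fin 2) (Fin 2) F) 0 0 := by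
    have := congrFun (congrFun hadj 0) 0
    simpa using this
  have hdet : (A : Matrix (Fin 2) (Fin 2) F) 0 0 * (A : Matrix (Fin 2) (Fin 2) F) 1 1 -
      (A : Matrix (Fin 2) (Fin 2) F) 0 1 * (A : Matrix (Fin 2) (Fin 2) F) 1 0 = 1 := by
    have := A.2
    rw [Matrix.det_fin_two] at this
    exact this
  rw [h00, h01] at hdet
  have hsq : ((A : Matrix (Fin 2) (Fin 2) F) 0 0 - 1) * ((A : Matrix (Fin 2) (Fin 2) F) 0 0 + 1) = 0 := by
    linear_combination hdet
  rcases mul_eq_zero.1 hsq with h | h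
  · left
    have ha : (A : Matrix (Fin 2) (Fin 2) F) 0 0 = 1 := sub_eq_zero.1 h
    apply Subtype.ext
    ext i j
    fin_cases i <;> fin_cases j <;> simp [ha, h01, h10, h00]
  · right
    have ha : (A : Matrix (Fin 2) (Fin 2) F) 0 0 = -1 := eq_neg_of_add_eq_zero_left h
    apply Subtype.ext
    ext i j
    fin_cases i <;> fin_cases j <;> simp [ha, h01, h10, h00]

theorem neg_one_mem_center : (-1 : SpecialLinearGroup (Fin 2) F) ∈ Subgroup.center (SpecialLinearGroup (Fin 2) F) := by
  rw [Subgroup.mem_center_iff]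
  intro g
  apply Subtype.ext
  simp

theorem mem_center_iff' (h2 : (2 : F) ≠ 0) (A : SpecialLinearGroup (Fin 2) F) :
    A ∈ Subgroup.center (SpecialLinearGroup (Fin 2) F) ↔ A = 1 ∨ A = -1 := by
  constructor
  · intro h
    rw [Matrix.SpecialLinearGroup.mem_center_iff] at h
    obtain ⟨r, hr, hA⟩ := h
    simp only [Fintype.card_fin] at hr
    apply eq_one_or_neg_one_of_sq h2
    apply Subtype.ext
    rw [Matrix.SpecialLinearGroup.coe_mul, ← hA]
    simp only [Matrix.SpecialLinearGroup.coe_one]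
    rw [← map_mul, ← sq, hr, map_one]
  · rintro (rfl | rfl)
    · exact Subgroup.one_mem _
    · exact neg_one_mem_center

theorem exists_sq_ne_one [Finite F] (hF : 4 ≤ Nat.card F) : ∃ a : F, a ≠ 0 ∧ a ^ 2 ≠ 1 := by
  classical
  by_contra h
  push Not at h
  have hall : ∀ a : F, a = 0 ∨ a = 1 ∨ a = -1 := by
    intro a
    by_cases ha : a = 0
    · exact Or.inl ha
    · right
      have h1 := h a ha
      have h2 : (a - 1) * (a + 1) = 0 := by linear_combination h1
      rcases mul_eq_zero.1 h2 with h3 | h3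
      · exact Or.inl (sub_eq_zero.1 h3)
      · exact Or.inr (eq_neg_of_add_eq_zero_left h3)
  let _ : Fintype F := Fintype.ofFinite F
  have hsub : (Finset.univ : Finset F) ⊆ {0, 1, -1} := by
    intro a _
    rcases hall a with h | h | h <;> simp [h]
  have hc := Finset.card_le_card hsub
  have h3 : ({0, 1, -1} : Finset F).card ≤ 3 := Finset.card_le_three
  rw [Finset.card_univ, ← Nat.card_eq_fintype_card] at hc
  omega

theorem commutator_eq_top [Finite F] (hF : 4 ≤ Nat.card F) :
    commutator (SpecialLinearGroup (Fin 2) F) = ⊤ := by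
  obtain ⟨a, ha, hasq⟩ := exists_sq_ne_one hF
  exact Matrix.SL2.commutator_eq_top ha hasq

/-- Normal subgroups of `SL₂(F)`, `|F| ≥ 4`, are central or everything. -/
theorem normal_le_center_or_eq_top [Finite F] (hF : 4 ≤ Nat.card F)
    (N : Subgroup (SpecialLinearGroup (Fin 2) F)) (hN : N.Normal) :
    N ≤ Subgroup.center (SpecialLinearGroup (Fin 2) F) ∨ N = ⊤ := by
  have hs : IsSimpleGroup (Matrix.ProjectiveSpecialLinearGroup (Fin 2) F) :=
    Matrix.ProjectiveSpecialLinearGroup.rank_two_simple hF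
  set π := QuotientGroup.mk' (Subgroup.center (SpecialLinearGroup (Fin 2) F)) with hπ
  have hsurj : Function.Surjective π := QuotientGroup.mk'_surjective _
  have hNbar : (N.map π).Normal := hN.map π hsurj
  rcases hNbar.eq_bot_or_eq_top with h | h
  · left
    rw [Subgroup.map_eq_bot_iff, QuotientGroup.ker_mk'] at h
    exact h
  · right
    have hdecomp : ∀ g : SpecialLinearGroup (Fin 2) F, ∃ n ∈ N, n⁻¹ * g ∈ Subgroup.center (SpecialLinearGroup (Fin 2) F) := by
      intro g
      have hg : π g ∈ N.map π := by rw [h]; exact Subgroup.mem_top _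
      obtain ⟨n, hn, hng⟩ := hg
      refine ⟨n, hn, ?_⟩
      have := (QuotientGroup.eq (s := Subgroup.center (SpecialLinearGroup (Fin 2) F))).1 hng
      exact this
    rw [eq_top_iff, ← commutator_eq_top hF, commutator_def, Subgroup.commutator_le]
    intro g _ k _
    obtain ⟨n, hn, hz⟩ := hdecomp g
    obtain ⟨m, hm, hw⟩ := hdecomp k
    set z := n⁻¹ * g with hzdef
    set w := m⁻¹ * k with hwdef
    have hg : g = n * z := by rw [hzdef, mul_inv_cancel_left]
    have hk : k = m * w := by rw [hwdef, mul_inv_cancel_left]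
    have hzc : ∀ x, z * x = x * z := fun x => (Subgroup.mem_center_iff.1 hz x).symm
    have hwc : ∀ x, w * x = x * w := fun x => (Subgroup.mem_center_iff.1 hw x).symm
    have : ⁅g, k⁆ = ⁅n, m⁆ := by
      rw [hg, hk, commutatorElement_def, commutatorElement_def]
      have e1 : (n * z)⁻¹ = z⁻¹ * n⁻¹ := mul_inv_rev _ _
      have e2 : (m * w)⁻¹ = w⁻¹ * m⁻¹ := mul_inv_rev _ _
      rw [e1, e2]
      calc n * z * (m * w) * (z⁻¹ * n⁻¹) * (w⁻¹ * m⁻¹)
          = n * (z * (m * w * z⁻¹)) * n⁻¹ * (w⁻¹ * m⁻¹) := by group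
        _ = n * ((m * w * z⁻¹) * z) * n⁻¹ * (w⁻¹ * m⁻¹) := by rw [hzc]
        _ = n * m * (w * (n⁻¹ * w⁻¹)) * m⁻¹ := by group
        _ = n * m * ((n⁻¹ * w⁻¹) * w) * m⁻¹ := by rw [hwc]
        _ = n * m * n⁻¹ * m⁻¹ := by group
    rw [this, commutatorElement_def]
    have h1 : m * n⁻¹ * m⁻¹ ∈ N := hN.conj_mem _ (N.inv_mem hn) m
    have e : n * m * n⁻¹ * m⁻¹ = n * (m * n⁻¹ * m⁻¹) := by group
    rw [e]
    exact N.mul_mem hn h1

theorem card_ge [Fintype F] (hF : 5 ≤ Fintype.card F) :
    120 ≤ Nat.card (SpecialLinearGroup (Fin 2) F) := by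
  rw [Cfsg.Agent.Lib.helper14.card_sl2]
  have h1 : 24 ≤ Fintype.card F ^ 2 - 1 := by
    have : 25 ≤ Fintype.card F ^ 2 := by nlinarith
    omega
  calc 120 = 5 * 24 := by norm_num
    _ ≤ Fintype.card F * (Fintype.card F ^ 2 - 1) := Nat.mul_le_mul hF h1

theorem card_three [Fintype F] (hF : Fintype.card F = 3) :
    Nat.card (SpecialLinearGroup (Fin 2) F) = 24 := by
  rw [Cfsg.Agent.Lib.helper14.card_sl2, hF]
  norm_num

/-- the order of `SL₂(q)` determines `q`. -/
theorem card_inj {F' : Type*} [Field F'] [Fintype F] [Fintype F']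
    (h : Nat.card (SpecialLinearGroup (Fin 2) F) = Nat.card (SpecialLinearGroup (Fin 2) F')) :
    Fintype.card F = Fintype.card F' := by
  rw [Cfsg.Agent.Lib.helper14.card_sl2, Cfsg.Agent.Lib.helper14.card_sl2] at h
  have h1 : 1 < Fintype.card F := Fintype.one_lt_card
  have h2 : 1 < Fintype.card F' := Fintype.one_lt_card
  set a := Fintype.card F
  set b := Fintype.card F'
  have mono : ∀ x y : ℕ, 1 < x → x < y → x * (x ^ 2 - 1) < y * (y ^ 2 - 1) := by
    intro x y hx hxy
    have h3 : x ^ 2 - 1 < y ^ 2 - 1 := by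
      have : x ^ 2 < y ^ 2 := Nat.pow_lt_pow_left hxy (by norm_num)
      have : 1 ≤ x ^ 2 := Nat.one_le_pow _ _ (by omega)
      omega
    have h4 : 0 < x ^ 2 - 1 := by
      have : 4 ≤ x ^ 2 := by nlinarith
      omega
    calc x * (x ^ 2 - 1) < y * (x ^ 2 - 1) := Nat.mul_lt_mul_of_pos_right hxy h4
      _ ≤ y * (y ^ 2 - 1) := Nat.mul_le_mul_left _ h3.le
  rcases lt_trichotomy a b with hab | hab | hab
  · exact absurd h (mono a b h1 hab).ne
  · exact hab
  · exact absurd h.symm (mono b a h2 hab).ne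

end Cfsg.Agent.Lib.Helper19.SL2Normal
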