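import Mathlib
import Cfsg.Agent.Lib.helper17.T3.Defs
import Cfsg.Agent.Lib.Helper19.T3A.Defs
import Cfsg.Agent.Lib.Helper19.T3A.Comb

/-!
# Project T3A (sub-designer helper19): row B8 `InM_nS_mul` as a CORE on the statements of B5 `rank_one_cell`, B6 `cell_up`, B7 `braid`, B1 `Tor_le_Bor`.
-/

set_option autoImplicit false

namespace Cfsg.Agent.Lib.helper17.T3

open Matrix Cfsg.Agent.Lib.helper15.St2 Cfsg.Agent.Lib.helper7.Ce Cfsg.Agent.Lib.Helper19.T3A

variable {F K : Type*} [Field F] [Field K] [Algebra F K]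

namespace SysT

variable {C : Cub F K} {Γ : Type*} [Group Γ] (Q : SysT C Γ)

theorem t3ab8h19_nw_cons (s : Bool) (w : List Bool) : Q.nw (s :: w) = Q.nS s * Q.nw w := by
  unfold SysT.nw
  rw [List.map_cons, List.prod_cons]

theorem t3ab8h19_nw_nil : Q.nw [] = 1 := by
  unfold SysT.nw
  rfl

/-- (own copy of B9 `InM_Bor_mul`) -/
theorem t3ab8h19_Bor_mul {b g : Γ} (hb : b ∈ Q.Bor) (hg : Q.InM g) : Q.InM (b * g) := by
  obtain ⟨s, n, hn, b0, hb0, b', hb', rfl⟩ := hg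
  refine ⟨s, n, hn, b * b0, Subgroup.mul_mem _ hb hb0, b', hb', ?_⟩
  group

/-- (own copy of B9 `InM_one`) -/
theorem t3ab8h19_one : Q.InM 1 := by
  refine ⟨true, 0, by omega, 1, Subgroup.one_mem _, 1, Subgroup.one_mem _, ?_⟩
  rw [alt_zero, t3ab8h19_nw_nil]
  group

section core

variable (hB5 : ∀ (s : Bool) (b : Γ), b ∈ Q.Bor →
    Q.nS s * b * Q.nS s ∈ Q.Bor ∨ ∃ b1 ∈ Q.Bor, ∃ b2 ∈ Q.Bor, Q.nS s * b * Q.nS s = b1 * Q.nS s * b2)
  (hB6 : ∀ (s : Bool) (w : List Bool), simplePos s (wdW w) → ∀ b : Γ, b ∈ Q.Bor →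
    ∃ b1 ∈ Q.Bor, ∃ b2 ∈ Q.Bor, Q.nS s * b * Q.nw w = b1 * Q.nw (s :: w) * b2)
  (hB7 : ∃ h ∈ Q.Tor, Q.nw (alt true 6) = h * Q.nw (alt false 6))
  (hTB : Q.Tor ≤ Q.Bor)

include hB6 in
/-- case (i): the length goes up -/
theorem t3ab8h19_up (s : Bool) {n : ℕ} (hn : n ≤ 5) {b b' : Γ} (hb : b ∈ Q.Bor) (hb' : b' ∈ Q.Bor) :
    Q.InM (Q.nS s * (b * Q.nw (alt (!s) n) * b')) := by
  obtain ⟨b1, hb1, b2, hb2, e⟩ := hB6 s (alt (!s) n) (simplePos_alt s n hn) b hb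
  refine ⟨s, n + 1, by omega, b1, hb1, b2 * b', Subgroup.mul_mem _ hb2 hb', ?_⟩
  rw [alt_succ]
  calc Q.nS s * (b * Q.nw (alt (!s) n) * b') = (Q.nS s * b * Q.nw (alt (!s) n)) * b' := by group
    _ = b1 * Q.nw (s :: alt (!s) n) * b2 * b' := by rw [e]
    _ = _ := by group

include hB5 hB6 in
/-- case (ii): the word starts with `s` -/
theorem t3ab8h19_down (s : Bool) {m : ℕ} (hm : m ≤ 5) {b b' : Γ} (hb : b ∈ Q.Bor) (hb' : b' ∈ Q.Bor) :
    Q.InM (Q.nS s * (b * (Q.nS s * Q.nw (alt (!s) m)) * b')) := by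
  rcases hB5 s b hb with h0 | ⟨b1, hb1, b2, hb2, e⟩
  · refine ⟨!s, m, by omega, Q.nS s * b * Q.nS s, h0, b', hb', ?_⟩
    group
  · have h1 := Q.t3ab8h19_up hB6 s hm hb2 hb'
    have h2 := Q.t3ab8h19_Bor_mul hb1 h1
    have e2 : Q.nS s * (b * (Q.nS s * Q.nw (alt (!s) m)) * b') =
        b1 * (Q.nS s * (b2 * Q.nw (alt (!s) m) * b')) := by
      calc Q.nS s * (b * (Q.nS s * Q.nw (alt (!s) m)) * b')
          = (Q.nS s * b * Q.nS s) * Q.nw (alt (!s) m) * b' := by group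
        _ = (b1 * Q.nS s * b2) * Q.nw (alt (!s) m) * b' := by rw [e]
        _ = _ := by group
    rw [e2]
    exact h2

include hB5 hB6 hB7 hTB in
/-- B8 core: the union of the thirteen cells is closed under left multiplication by `n_s`. -/
theorem t3ab8h19_core (s : Bool) {g : Γ} (hg : Q.InM g) : Q.InM (Q.nS s * g) := by
  obtain ⟨s', n, hn, b, hb, b', hb', rfl⟩ := hg
  rcases n with _ | m
  · have e : alt s' 0 = alt (!s) 0 := rfl
    rw [e]
    exact Q.t3ab8h19_up hB6 s (by omega) hb hb'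
  · by_cases hs : s' = s
    · subst hs
      rw [alt_succ, Q.t3ab8h19_nw_cons]
      exact Q.t3ab8h19_down hB5 hB6 s' (by omega) hb hb'
    · have hs' : s' = !s := by cases s <;> cases s' <;> simp_all
      subst hs'
      by_cases h6 : m + 1 ≤ 5
      · exact Q.t3ab8h19_up hB6 s h6 hb hb'
      · have hm : m + 1 = 6 := by omega
        rw [hm]
        obtain ⟨h, hh, e⟩ := hB7
        have key : ∃ h' ∈ Q.Tor, Q.nw (alt (!s) 6) = h' * Q.nw (alt s 6) := by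
          cases s
          · exact ⟨h, hh, e⟩
          · refine ⟨h⁻¹, Subgroup.inv_mem _ hh, ?_⟩
            show Q.nw (alt false 6) = h⁻¹ * Q.nw (alt true 6)
            rw [e]
            group
        obtain ⟨h', hh', e'⟩ := key
        rw [e']
        have e3 : alt s 6 = s :: alt (!s) 5 := rfl
        rw [e3, Q.t3ab8h19_nw_cons]
        have hbh : b * h' ∈ Q.Bor := Subgroup.mul_mem _ hb (hTB hh')
        have h1 := Q.t3ab8h19_down hB5 hB6 s (by omega : 5 ≤ 5) hbh hb'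
        have e4 : Q.nS s * (b * (h' * (Q.nS s * Q.nw (alt (!s) 5))) * b') =
            Q.nS s * (b * h' * (Q.nS s * Q.nw (alt (!s) 5)) * b') := by group
        rw [e4]
        exact h1

end core

end SysT

end Cfsg.Agent.Lib.helper17.T3
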