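import Mathlib
import Cfsg.Agent.Lib.helper17.T3.Defs
import Cfsg.Agent.Lib.Helper19.T3A.Defs
import Cfsg.Agent.Lib.Helper19.T3A.Comb
import Cfsg.Agent.Lib.helper14.T3AD1

/-!
# Project T3A (sub-designer helper19): rows T1 `IsMon.comm_hs`, `IsMon.comm_hl` (CORE on the statements of R2 `hs_mul`, R3 `hl_mul`), T4 `IsMon.cj_ws_one`, `IsMon.cj_wl_one` (VERBATIM, on D3),
T3 `isMon_of_mem_Tor` (CORE on the statements of D6), T7 `Tor_normalizes_UU` (CORE on D6, D9).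
-/

set_option autoImplicit false

namespace Cfsg.Agent.Lib.helper17.T3

open Matrix Cfsg.Agent.Lib.helper15.St2 Cfsg.Agent.Lib.helper7.Ce Cfsg.Agent.Lib.Helper19.T3A

variable {F K : Type*} [Field F] [Field K] [Algebra F K]

namespace SysT

variable {C : Cub F K} {Γ : Type*} [Group Γ] (Q : SysT C Γ)

/-- (own copy of U0 `ws_eq`) -/
theorem t3at1h19_ws_eq (k : ZMod 6) (t : K) : Q.ws k t = Q.hs k t * Q.ws k 1 := by
  unfold SysT.hs
  group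

theorem t3at1h19_wl_eq (k : ZMod 6) (c : F) : Q.wl k c = Q.hl k c * Q.wl k 1 := by
  unfold SysT.hl
  group

/-- a monomial element with explicit scalars acts on the Weyl elements -/
theorem t3at1h19_cj_ws {g : Γ} {w : W} {a : ZMod 6 → K} (ha3 : ∀ j, a (j + 3) = (a j)⁻¹)
    (hs : ∀ j u, cj g (Q.xs j u) = Q.xs (actS w j) (a j * u)) (j : ZMod 6) (t : K) :
    cj g (Q.ws j t) = Q.ws (actS w j) (a j * t) := by
  unfold SysT.ws
  rw [cj_mul, cj_mul, hs, hs, (act_add_three w j).1, ha3, mul_inv]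

theorem t3at1h19_cj_wl {g : Γ} {w : W} {b : ZMod 6 → F} (hb3 : ∀ j, b (j + 3) = (b j)⁻¹)
    (hl : ∀ j c, cj g (Q.xl j c) = Q.xl (actL w j) (b j * c)) (j : ZMod 6) (c : F) :
    cj g (Q.wl j c) = Q.wl (actL w j) (b j * c) := by
  unfold SysT.wl
  rw [cj_mul, cj_mul, hl, hl, (act_add_three w j).2, hb3, mul_inv]

/-- (the statement of D8, proved directly) -/
theorem t3at1h19_D8s {g : Γ} {w : W} (h : Q.IsMon g w) (j : ZMod 6) {t : K} (ht : t ≠ 0) :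
    ∃ v : K, v ≠ 0 ∧ cj g (Q.ws j t) = Q.ws (actS w j) v := by
  obtain ⟨a, b, ha, hb, ha3, hb3, hs, hl⟩ := h
  exact ⟨a j * t, mul_ne_zero (ha j) ht, Q.t3at1h19_cj_ws ha3 hs j t⟩

theorem t3at1h19_D8l {g : Γ} {w : W} (h : Q.IsMon g w) (j : ZMod 6) {c : F} (hc : c ≠ 0) :
    ∃ v : F, v ≠ 0 ∧ cj g (Q.wl j c) = Q.wl (actL w j) v := by
  obtain ⟨a, b, ha, hb, ha3, hb3, hs, hl⟩ := h
  exact ⟨b j * c, mul_ne_zero (hb j) hc, Q.t3at1h19_cj_wl hb3 hl j c⟩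

/-- T1 core (short): hypothesis = the statement of R2 `hs_mul`. -/
theorem t3at1h19_comm_hs (hR2 : ∀ (k : ZMod 6) (t u : K), t ≠ 0 → u ≠ 0 → Q.hs k (t * u) = Q.hs k t * Q.hs k u)
    {h : Γ} (hh : Q.IsMon h W.one) (k : ZMod 6) {t : K} (ht : t ≠ 0) : h * Q.hs k t = Q.hs k t * h := by
  obtain ⟨a, b, ha, hb, ha3, hb3, hs, hl⟩ := hh
  have e1 : cj h (Q.ws k t) = Q.ws k (a k * t) := by
    rw [Q.t3at1h19_cj_ws ha3 hs k t, actS_one]
  have e2 : cj h (Q.ws k 1) = Q.ws k (a k) := by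
    rw [Q.t3at1h19_cj_ws ha3 hs k 1, actS_one, mul_one]
  have e3 : cj h (Q.hs k t) = Q.hs k t := by
    calc cj h (Q.hs k t) = cj h (Q.ws k t) * (cj h (Q.ws k 1))⁻¹ := by
          show cj h (Q.ws k t * (Q.ws k 1)⁻¹) = _
          rw [cj_mul, cj_inv]
      _ = Q.ws k (a k * t) * (Q.ws k (a k))⁻¹ := by rw [e1, e2]
      _ = Q.hs k (t * a k) * Q.ws k 1 * (Q.hs k (a k) * Q.ws k 1)⁻¹ := by
          rw [Q.t3at1h19_ws_eq k (a k * t), Q.t3at1h19_ws_eq k (a k), mul_comm (a k) t]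
      _ = Q.hs k t := by
          rw [hR2 k t (a k) ht (ha k)]
          group
  exact mul_eq_of_cj e3

/-- T1 core (long): hypothesis = the statement of R3 `hl_mul`. -/
theorem t3at1h19_comm_hl (hR3 : ∀ (k : ZMod 6) (c d : F), c ≠ 0 → d ≠ 0 → Q.hl k (c * d) = Q.hl k c * Q.hl k d)
    {h : Γ} (hh : Q.IsMon h W.one) (k : ZMod 6) {c : F} (hc : c ≠ 0) : h * Q.hl k c = Q.hl k c * h := by
  obtain ⟨a, b, ha, hb, ha3, hb3, hs, hl⟩ := hh
  have e1 : cj h (Q.wl k c) = Q.wl k (b k * c) := by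
    rw [Q.t3at1h19_cj_wl hb3 hl k c, actL_one]
  have e2 : cj h (Q.wl k 1) = Q.wl k (b k) := by
    rw [Q.t3at1h19_cj_wl hb3 hl k 1, actL_one, mul_one]
  have e3 : cj h (Q.hl k c) = Q.hl k c := by
    calc cj h (Q.hl k c) = cj h (Q.wl k c) * (cj h (Q.wl k 1))⁻¹ := by
          show cj h (Q.wl k c * (Q.wl k 1)⁻¹) = _
          rw [cj_mul, cj_inv]
      _ = Q.wl k (b k * c) * (Q.wl k (b k))⁻¹ := by rw [e1, e2]
      _ = Q.hl k (c * b k) * Q.wl k 1 * (Q.hl k (b k) * Q.wl k 1)⁻¹ := by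
          rw [Q.t3at1h19_wl_eq k (b k * c), Q.t3at1h19_wl_eq k (b k), mul_comm (b k) c]
      _ = Q.hl k c := by
          rw [hR3 k c (b k) hc (hb k)]
          group
  exact mul_eq_of_cj e3

-- ROW T4  [M]  `cj (ws k 1) h = h * (cj h⁻¹ (ws k 1)) * (ws k 1)⁻¹`, and `cj h⁻¹ (ws k 1) = ws k v` (D3 D8 at `W.one`, `actS_one`), so `cj (ws k 1) h = h * hs k v`.
theorem IsMon.cj_ws_one {h : Γ} (hh : Q.IsMon h W.one) (k : ZMod 6) : ∃ v : K, v ≠ 0 ∧ cj (Q.ws k 1) h = h * Q.hs k v := by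
  have hi := IsMon.inv Q hh
  obtain ⟨v, hv, e⟩ := Q.t3at1h19_D8s hi k (one_ne_zero : (1 : K) ≠ 0)
  have e0 : actS (W.inv W.one) k = k := by
    have : W.inv W.one = W.one := by decide
    rw [this, actS_one]
  rw [e0] at e
  refine ⟨v, hv, ?_⟩
  have e1 : cj (Q.ws k 1) h = h * cj h⁻¹ (Q.ws k 1) * (Q.ws k 1)⁻¹ := by
    unfold cj
    group
  rw [e1, e]
  unfold SysT.hs
  group

theorem IsMon.cj_wl_one {h : Γ} (hh : Q.IsMon h W.one) (k : ZMod 6) : ∃ v : F, v ≠ 0 ∧ cj (Q.wl k 1) h = h * Q.hl k v := by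
  have hi := IsMon.inv Q hh
  obtain ⟨v, hv, e⟩ := Q.t3at1h19_D8l hi k (one_ne_zero : (1 : F) ≠ 0)
  have e0 : actL (W.inv W.one) k = k := by
    have : W.inv W.one = W.one := by decide
    rw [this, actL_one]
  rw [e0] at e
  refine ⟨v, hv, ?_⟩
  have e1 : cj (Q.wl k 1) h = h * cj h⁻¹ (Q.wl k 1) * (Q.wl k 1)⁻¹ := by
    unfold cj
    group
  rw [e1, e]
  unfold SysT.hl
  group

/-- T3 core: hypotheses = the statements of D6 (at `k = 0` resp. `2`). -/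
theorem t3at3h19_core (hD6s : ∀ t : K, t ≠ 0 → Q.IsMon (Q.hs 0 t) W.one) (hD6l : ∀ c : F, c ≠ 0 → Q.IsMon (Q.hl 2 c) W.one)
    {h : Γ} (hh : h ∈ Q.Tor) : Q.IsMon h W.one := by
  have e1 : W.mul W.one W.one = W.one := by decide
  have e2 : W.inv W.one = W.one := by decide
  unfold SysT.Tor at hh
  induction hh using Subgroup.closure_induction with
  | mem x hx =>
    obtain ⟨t, c, ht, hc, rfl⟩ := hx
    have := IsMon.mul Q (hD6s t ht) (hD6l c hc)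
    rw [e1] at this
    exact this
  | one => exact Q.isMon_one
  | mul x y _ _ ihx ihy =>
    have := IsMon.mul Q ihx ihy
    rw [e1] at this
    exact this
  | inv x _ ih =>
    have := IsMon.inv Q ih
    rw [e2] at this
    exact this

/-- T7 core: hypotheses = the statements of D6 and D9 (at `W.one`). -/
theorem t3at7h19_core (hD6s : ∀ t : K, t ≠ 0 → Q.IsMon (Q.hs 0 t) W.one) (hD6l : ∀ c : F, c ≠ 0 → Q.IsMon (Q.hl 2 c) W.one)
    (hD9 : ∀ (g : Γ), Q.IsMon g W.one → ∀ (Ps Pl : ZMod 6 → Prop), ∀ x ∈ Q.UU Ps Pl, cj g x ∈ Q.UU Ps Pl)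
    {Ps Pl : ZMod 6 → Prop} {h : Γ} (hh : h ∈ Q.Tor) : ∀ x ∈ Q.UU Ps Pl, cj h x ∈ Q.UU Ps Pl :=
  hD9 h (Q.t3at3h19_core hD6s hD6l hh) Ps Pl

end SysT

end Cfsg.Agent.Lib.helper17.T3
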