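import Mathlib
import Cfsg.Agent.Lib.helper17.T3.Defs
import Cfsg.Agent.Lib.Helper19.T3A.Defs
import Cfsg.Agent.Lib.Helper19.T3A.Comb
import Cfsg.Agent.Lib.Helper10.T3AR1
import Cfsg.Agent.Lib.Helper19.T3AT1core

/-!
# Project T3A (sub-designer helper19): row T1 `IsMon.comm_hs`, `IsMon.comm_hl`, VERBATIM (core + helper10's R2 R3).
-/

set_option autoImplicit false

namespace Cfsg.Agent.Lib.helper17.T3

open Matrix Cfsg.Agent.Lib.helper15.St2 Cfsg.Agent.Lib.helper7.Ce Cfsg.Agent.Lib.Helper19.T3A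

variable {F K : Type*} [Field F] [Field K] [Algebra F K]

namespace SysT

variable {C : Cub F K} {Γ : Type*} [Group Γ] (Q : SysT C Γ)

-- ROW T1
theorem IsMon.comm_hs [Finite K] {h : Γ} (hh : Q.IsMon h W.one) (k : ZMod 6) {t : K} (ht : t ≠ 0) : h * Q.hs k t = Q.hs k t * h :=
  Q.t3at1h19_comm_hs (fun k _ _ ht hu => Q.hs_mul k ht hu) hh k ht

theorem IsMon.comm_hl [Finite K] {h : Γ} (hh : Q.IsMon h W.one) (k : ZMod 6) {c : F} (hc : c ≠ 0) : h * Q.hl k c = Q.hl k c * h :=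
  Q.t3at1h19_comm_hl (fun k _ _ hc hd => Q.hl_mul k hc hd) hh k hc

end SysT

end Cfsg.Agent.Lib.helper17.T3
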