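import Mathlib
import Cfsg.Agent.Lib.Helper19.U3P.Defs
import Cfsg.Agent.Lib.Helper19.U3PB2
import Cfsg.Agent.Lib.Helper25.SU3P.Basic
import Cfsg.Agent.Lib.Helper25.SU3P.Conj

/-!
# U3P rows X1 X3 X4 X5 X6 (helper19): the `U`-calculus in the coordinates `D.c`, verbatim.
-/

set_option autoImplicit false
set_option linter.unusedSectionVars false

namespace Cfsg.Agent.Lib.Helper19.U3P

open Cfsg.Agent.Lib.helper17.SLP Cfsg.Agent.Lib.helper14.SU3J Cfsg.Agent.Lib.Helper25.SU3P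
open Cfsg.Agent.Lib.Helper25.SU3P.ConjAux
open Polynomial Matrix

universe u v

section X

variable {F : Type u} [Field F] [Fintype F] {K : Type u} [Field K] [Fintype K] {q : ℕ}

/-- X1 -/
theorem uu_mul (σ : F →+* F) (α β α' β' : F) :
    uu σ α β * uu σ α' β' = uu σ (α + α') (β + β' - α * σ α') := by
  ext i j
  fin_cases i <;> fin_cases j <;> simp [uu, Matrix.mul_apply, Fin.sum_univ_three] <;> ring

theorem u3px1_uu_zero (σ : F →+* F) : uu σ 0 0 = 1 := by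
  ext i j
  fin_cases i <;> fin_cases j <;> simp [uu]

theorem u3px1_uu_inj (σ : F →+* F) {α β α' β' : F} (h : uu σ α β = uu σ α' β') : α = α' ∧ β = β' := by
  have h1 := congrFun (congrFun h 0) 1
  have h2 := congrFun (congrFun h 0) 2
  simp [uu] at h1 h2
  exact ⟨h1, h2⟩

/-- two right inverses of a square matrix agree. -/
theorem u3px1_inv_unique {n : Type*} [Fintype n] [DecidableEq n] (M N N' : Matrix n n F)
    (h : M * N = 1) (h' : M * N' = 1) : N = N' := by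
  have h2 : N * M = 1 := mul_eq_one_comm.mp h
  calc N = N * (M * N') := by rw [h', mul_one]
    _ = (N * M) * N' := by rw [mul_assoc]
    _ = N' := by rw [h2, one_mul]

theorem u3px1_uu_mul_inv (σ : F →+* F) (α β : F) (hv : β + σ β + α * σ α = 0) :
    uu σ α β * uu σ (-α) (σ β) = 1 := by
  rw [uu_mul, ← u3px1_uu_zero σ]
  congr 1
  · ring
  · rw [map_neg]; linear_combination hv

variable {D : Par F K q} {a b c : ↥(Cfsg.SU 3 F q)} {ρ : SL2 K →* ↥(Cfsg.SU 3 F q)}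

/-- inverse in `U`-coordinates. -/
theorem u3px1_cj_inv (X : ↥(Cfsg.SU 3 F q)) (α β : F) (hX : D.c.cj X = uu D.σ α β)
    (hv : β + D.σ β + α * D.σ α = 0) : D.c.cj X⁻¹ = uu D.σ (-α) (D.σ β) := by
  have h1 := D.c.cj_mul_inv X
  rw [hX] at h1
  exact u3px1_inv_unique _ _ _ h1 (u3px1_uu_mul_inv D.σ α β hv)

theorem u3px1_dd_conj (σ : F →+* F) (hσσ : ∀ x, σ (σ x) = x) (l : F) (hl : l ≠ 0) (α β : F) :
    dd σ l * uu σ α β * ddi σ l = uu σ (l ^ 2 / σ l * α) (l * σ l * β) := by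
  have hsl : σ l ≠ 0 := (map_ne_zero σ).mpr hl
  ext i j
  fin_cases i <;> fin_cases j <;>
    simp [dd, ddi, uu, Matrix.mul_apply, Fin.sum_univ_three, hσσ] <;> field_simp

theorem u3px1_ddi_conj (σ : F →+* F) (hσσ : ∀ x, σ (σ x) = x) (l : F) (hl : l ≠ 0) (α β : F) :
    ddi σ l * uu σ α β * dd σ l = uu σ ((l ^ 2 / σ l)⁻¹ * α) ((l * σ l)⁻¹ * β) := by
  have hsl : σ l ≠ 0 := (map_ne_zero σ).mpr hl
  ext i j
  fin_cases i <;> fin_cases j <;>
    simp [dd, ddi, uu, Matrix.mul_apply, Fin.sum_univ_three, hσσ] <;> field_simp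

theorem u3px1_cj_b_inv (hG : Gens D a b c ρ) : D.c.cj b⁻¹ = ddi D.σ (D.ζ : F) := by
  have h1 := D.c.cj_mul_inv b
  rw [hG.hb] at h1
  exact u3px1_inv_unique _ _ _ h1 (dd_mul_ddi D.σ _ (Units.ne_zero D.ζ))

theorem u3px1_al_ne (D : Par F K q) : D.al ≠ 0 := by
  unfold Par.al
  have h1 : (D.ζ : F) ≠ 0 := Units.ne_zero D.ζ
  have h2 : D.σ (D.ζ : F) ≠ 0 := (map_ne_zero D.σ).mpr h1
  exact div_ne_zero (pow_ne_zero _ h1) h2

theorem u3px1_bl_ne (D : Par F K q) : D.bl ≠ 0 := by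
  unfold Par.bl
  have h1 : (D.ζ : F) ≠ 0 := Units.ne_zero D.ζ
  have h2 : D.σ (D.ζ : F) ≠ 0 := (map_ne_zero D.σ).mpr h1
  exact mul_ne_zero h1 h2

/-- X3 -/
theorem cj_b_U (hG : Gens D a b c ρ) (hσσ : ∀ x, D.σ (D.σ x) = x) (X : ↥(Cfsg.SU 3 F q)) (α β : F)
    (hX : D.c.cj X = uu D.σ α β) (i : ℤ) :
    D.c.cj (cj b X i) = uu D.σ (D.al ^ i * α) (D.bl ^ i * β) := by
  have hal := u3px1_al_ne D
  have hbl := u3px1_bl_ne D
  induction i using Int.induction_on with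
  | zero => simp [cj_zero, hX]
  | succ i ih =>
    rw [u3pb2_cj_succ, D.c.cj_mul, D.c.cj_mul, ih, hG.hb, u3px1_cj_b_inv hG,
      u3px1_dd_conj D.σ hσσ _ (Units.ne_zero D.ζ)]
    congr 1
    · rw [zpow_add₀ hal, zpow_one]; unfold Par.al; ring
    · rw [zpow_add₀ hbl, zpow_one]; unfold Par.bl; ring
  | pred i ih =>
    rw [u3pb2_cj_pred, D.c.cj_mul, D.c.cj_mul, ih, hG.hb, u3px1_cj_b_inv hG,
      u3px1_ddi_conj D.σ hσσ _ (Units.ne_zero D.ζ)]
    congr 1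
    · rw [sub_eq_add_neg, zpow_add₀ hal, _root_.zpow_neg_one]; unfold Par.al; ring
    · rw [sub_eq_add_neg, zpow_add₀ hbl, _root_.zpow_neg_one]; unfold Par.bl; ring

/-- X4 -/
theorem rho_x (hG : Gens D a b c ρ) (t : K) : D.c.cj (ρ (xM t)) = uu D.σ 0 (D.γ0 * D.ι t) := by
  rw [hG.hρ]
  ext i j
  fin_cases i <;> fin_cases j <;> simp [rhoM, xM, uu]

/-- X5 -/
theorem Z_of_alpha_zero (hG : Gens D a b c ρ) (hγ : D.γ0 ≠ 0) (hγσ : D.σ D.γ0 = -D.γ0)
    (X : ↥(Cfsg.SU 3 F q)) (β : F) (hX : D.c.cj X = uu D.σ 0 β) : ∃ t : K, X = ρ (xM t) := by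
  have hP := D.c.cj_presJ X
  rw [hX] at hP
  have h1 := hP ![0, 0, 1] ![0, 0, 1]
  simp [hJ, mv3, uu] at h1
  -- `h1 : β + σ β = 0`
  have hfix : D.σ (β / D.γ0) = β / D.γ0 := by
    rw [map_div₀, hγσ]
    have : D.σ β = -β := by linear_combination h1
    rw [this, neg_div_neg_eq]
  obtain ⟨t, ht⟩ := (D.hι _).mp hfix
  refine ⟨t, D.c.cj_inj ?_⟩
  rw [hX, rho_x hG, ht, mul_div_cancel₀ _ hγ]

/-- `X` has `α`-coordinate `α`. -/
def u3px1_IsU (D : Par F K q) (X : ↥(Cfsg.SU 3 F q)) (α : F) : Prop := ∃ β, D.c.cj X = uu D.σ α β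

theorem u3px1_isU_mul {X Y : ↥(Cfsg.SU 3 F q)} {α α' : F} (hX : u3px1_IsU D X α)
    (hY : u3px1_IsU D Y α') : u3px1_IsU D (X * Y) (α + α') := by
  obtain ⟨β, hβ⟩ := hX
  obtain ⟨β', hβ'⟩ := hY
  exact ⟨_, by rw [D.c.cj_mul, hβ, hβ', uu_mul]⟩

theorem u3px1_isU_one : u3px1_IsU D (1 : ↥(Cfsg.SU 3 F q)) 0 :=
  ⟨0, by rw [D.c.cj_one, u3px1_uu_zero]⟩

theorem u3px1_isU_pow {X : ↥(Cfsg.SU 3 F q)} {α : F} (hX : u3px1_IsU D X α) (n : ℕ) :
    u3px1_IsU D (X ^ n) ((n : F) * α) := by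
  induction n with
  | zero => simpa using u3px1_isU_one
  | succ n ih =>
    rw [pow_succ]
    have := u3px1_isU_mul ih hX
    convert this using 1
    push_cast; ring

theorem u3px1_isU_prod (f : ℕ → ↥(Cfsg.SU 3 F q)) (g : ℕ → F) (hf : ∀ j, u3px1_IsU D (f j) (g j))
    (n : ℕ) : u3px1_IsU D ((List.range n).map f).prod (∑ j ∈ Finset.range n, g j) := by
  induction n with
  | zero => simpa using u3px1_isU_one
  | succ n ih =>
    rw [List.range_succ, List.map_append, List.prod_append, Finset.sum_range_succ]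
    simp only [List.map_cons, List.map_nil, List.prod_cons, List.prod_nil, mul_one]
    exact u3px1_isU_mul ih (hf n)

/-- X6 -/
theorem pw_U (hG : Gens D a b c ρ) (hσσ : ∀ x, D.σ (D.σ x) = x) (p : ℕ) [Fact p.Prime] [Algebra (ZMod p) F]
    (l : ℤ) (f : (ZMod p)[X]) :
    ∃ β, D.c.cj (pw p b a l f) = uu D.σ (aeval (D.al ^ l) f) β := by
  unfold pw
  have h1 : ∀ j : ℕ, u3px1_IsU D (cj b a (l * (j : ℤ)) ^ (f.coeff j).val)
      (algebraMap (ZMod p) F (f.coeff j) * (D.al ^ l) ^ j) := by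
    intro j
    have h2 : u3px1_IsU D (cj b a (l * (j : ℤ))) ((D.al ^ l) ^ j) := by
      refine ⟨D.bl ^ (l * (j : ℤ)) * D.β0, ?_⟩
      rw [cj_b_U hG hσσ a 1 D.β0 hG.ha, mul_one, _root_.zpow_mul, zpow_natCast]
    have := u3px1_isU_pow h2 (f.coeff j).val
    convert this using 2
    rw [← map_natCast (algebraMap (ZMod p) F), ZMod.natCast_zmod_val]
  have := u3px1_isU_prod (fun j => cj b a (l * (j : ℤ)) ^ (f.coeff j).val) _ h1 (f.natDegree + 1)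
  obtain ⟨β, hβ⟩ := this
  refine ⟨β, ?_⟩
  rw [hβ, Polynomial.aeval_eq_sum_range]
  congr 1
  apply Finset.sum_congr rfl
  intro j _
  rw [Algebra.smul_def]

end X

end Cfsg.Agent.Lib.Helper19.U3P
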