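import Mathlib
import Cfsg.Agent.Lib.Helper19.U3P.Defs
import Cfsg.Agent.Lib.Helper19.U3PX1

/-!
# U3P row X7 (helper19): the `M`-relations hold in the model `SU₃(q)`, verbatim.
-/

set_option autoImplicit false
set_option linter.unusedSectionVars false

namespace Cfsg.Agent.Lib.Helper19.U3P

open Cfsg.Agent.Lib.helper17.SLP Cfsg.Agent.Lib.helper14.SU3J Cfsg.Agent.Lib.Helper25.SU3P
open Cfsg.Agent.Lib.Helper25.SU3P.ConjAux
open Polynomial Matrix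

universe u v

section X

variable {F : Type u} [Field F] [Fintype F] {K : Type u} [Field K] [Fintype K] {q : ℕ}

theorem u3px7_dd_one (σ : F →+* F) : dd σ (1 : F) = 1 := by
  ext i j
  fin_cases i <;> fin_cases j <;> simp [dd]

theorem u3px7_dd_mul (σ : F →+* F) (l l' : F) : dd σ l * dd σ l' = dd σ (l * l') := by
  ext i j
  fin_cases i <;> fin_cases j <;>
    simp [dd, Matrix.mul_apply, Fin.sum_univ_three, div_mul_div_comm, mul_comm]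

theorem u3px7_dd_pow (σ : F →+* F) (l : F) (n : ℕ) : dd σ l ^ n = dd σ (l ^ n) := by
  induction n with
  | zero => simp [u3px7_dd_one]
  | succ n ih => rw [pow_succ, ih, u3px7_dd_mul, pow_succ]

theorem u3px7_ddi_one (σ : F →+* F) : ddi σ (1 : F) = 1 := by
  ext i j
  fin_cases i <;> fin_cases j <;> simp [ddi]

theorem u3px7_ddi_mul (σ : F →+* F) (l l' : F) : ddi σ l * ddi σ l' = ddi σ (l * l') := by
  ext i j
  fin_cases i <;> fin_cases j <;>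
    simp [ddi, Matrix.mul_apply, Fin.sum_univ_three, div_mul_div_comm, mul_comm]

theorem u3px7_ddi_pow (σ : F →+* F) (l : F) (n : ℕ) : ddi σ l ^ n = ddi σ (l ^ n) := by
  induction n with
  | zero => simp [u3px7_ddi_one]
  | succ n ih => rw [pow_succ, ih, u3px7_ddi_mul, pow_succ]

/-- `σ` is an involution when `|F| = q²`. -/
theorem u3px7_sigma_sigma (D : Par F K q) (hF : Fintype.card F = q ^ 2) (x : F) :
    D.σ (D.σ x) = x := by
  rw [D.hσ, D.hσ, ← pow_mul, ← sq, ← hF, FiniteField.pow_card]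

/-- `x ^ (q² - 1) = 1` for `x ≠ 0`. -/
theorem u3px7_pow_card (hF : Fintype.card F = q ^ 2) (x : F) (hx : x ≠ 0) :
    x ^ (q ^ 2 - 1) = 1 := by
  rw [← hF]; exact FiniteField.pow_card_sub_one_eq_one x hx

theorem u3px7_bl_eq (D : Par F K q) : D.bl = (D.ζ : F) ^ (q + 1) := by
  unfold Par.bl
  rw [D.hσ, pow_succ']

theorem u3px7_bl_pow (D : Par F K q) (hF : Fintype.card F = q ^ 2) (hq : 1 ≤ q) :
    D.bl ^ ((q : ℤ) - 1) = 1 := by
  have h1 : ((q : ℤ) - 1) = ((q - 1 : ℕ) : ℤ) := by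
    rw [Nat.cast_sub hq]; simp
  rw [h1, zpow_natCast, u3px7_bl_eq, ← pow_mul]
  have h2 : (q + 1) * (q - 1) = q ^ 2 - 1 := by
    obtain ⟨k, rfl⟩ : ∃ k, q = k + 1 := ⟨q - 1, by omega⟩
    simp only [Nat.add_sub_cancel]
    have : (k + 1) ^ 2 = (k + 1 + 1) * k + 1 := by ring
    rw [this, Nat.add_sub_cancel]
  rw [h2]
  exact u3px7_pow_card hF _ (Units.ne_zero D.ζ)

theorem u3px7_al_pow (D : Par F K q) (hq : 1 ≤ q) : D.al ^ ((q : ℤ) - 1) = D.nu := by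
  have h1 : ((q : ℤ) - 1) = ((q - 1 : ℕ) : ℤ) := by
    rw [Nat.cast_sub hq]; simp
  rw [h1, zpow_natCast]; rfl

/-- `ν · σ ν = 1`. -/
theorem u3px7_nu_norm (D : Par F K q) (hF : Fintype.card F = q ^ 2) (hq : 1 ≤ q) :
    D.nu * D.σ D.nu = 1 := by
  rw [D.hσ, ← pow_succ']
  unfold Par.nu
  rw [← pow_mul]
  have h2 : (q - 1) * (q + 1) = q ^ 2 - 1 := by
    obtain ⟨k, rfl⟩ : ∃ k, q = k + 1 := ⟨q - 1, by omega⟩
    simp only [Nat.add_sub_cancel]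
    have : (k + 1) ^ 2 = k * (k + 1 + 1) + 1 := by ring
    rw [this, Nat.add_sub_cancel]
  rw [h2]
  exact u3px7_pow_card hF _ (u3px1_al_ne D)

theorem u3px7_cj_inv {G : Type*} [Group G] (h x : G) (i : ℤ) : (cj h x i)⁻¹ = cj h x⁻¹ i := by
  simp [cj, mul_assoc]

variable {D : Par F K q} {a b c : ↥(Cfsg.SU 3 F q)} {ρ : SL2 K →* ↥(Cfsg.SU 3 F q)}

theorem u3px7_wJ_inv (γ : F) (hγ : γ ≠ 0) :
    wJ γ * !![0, 0, -γ; 0, 1, 0; γ⁻¹, 0, 0] = 1 := by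
  ext i j
  fin_cases i <;> fin_cases j <;>
    simp [wJ, Matrix.mul_apply, Fin.sum_univ_three, hγ]

theorem u3px7_cj_c_inv (hG : Gens D a b c ρ) (hγ : D.γ0 ≠ 0) :
    D.c.cj c⁻¹ = !![0, 0, -D.γ0; 0, 1, 0; D.γ0⁻¹, 0, 0] := by
  have h1 := D.c.cj_mul_inv c
  rw [hG.hc] at h1
  exact u3px1_inv_unique _ _ _ h1 (u3px7_wJ_inv _ hγ)

/-- the coordinates of `z0 q a b`. -/
theorem u3px7_z0 (hG : Gens D a b c ρ) (hF : Fintype.card F = q ^ 2) (hq : 1 ≤ q) :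
    D.c.cj (z0 q a b) = uu D.σ 0 D.γ0 := by
  have hσσ := u3px7_sigma_sigma D hF
  have hν := u3px7_nu_norm D hF hq
  have hβ0 : D.β0 + D.σ D.β0 + 1 * D.σ 1 = 0 := by rw [map_one, mul_one]; exact D.hβ0
  have hY : D.c.cj (cj b a ((q : ℤ) - 1)) = uu D.σ D.nu D.β0 := by
    rw [cj_b_U hG hσσ a 1 D.β0 hG.ha, u3px7_bl_pow D hF hq, u3px7_al_pow D hq, mul_one, one_mul]
  have hai : D.c.cj a⁻¹ = uu D.σ (-1) (D.σ D.β0) := u3px1_cj_inv a 1 D.β0 hG.ha hβ0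
  have hYi : D.c.cj (cj b a ((q : ℤ) - 1))⁻¹ = uu D.σ (-D.nu) (D.σ D.β0) := by
    rw [u3px7_cj_inv, cj_b_U hG hσσ a⁻¹ (-1) (D.σ D.β0) hai, u3px7_bl_pow D hF hq,
      u3px7_al_pow D hq, one_mul, mul_neg, mul_one]
  unfold z0 cm
  rw [D.c.cj_mul, D.c.cj_mul, D.c.cj_mul, hG.ha, hY, hai, hYi, uu_mul, uu_mul, uu_mul]
  congr 1
  · ring
  · unfold Par.γ0
    simp only [map_neg, map_one]
    linear_combination 2 * D.hβ0 + hν

/-- X7 -/
theorem relM_S (hG : Gens D a b c ρ) (hF : Fintype.card F = q ^ 2) (hK : Fintype.card K = q) (hq : 2 ≤ q)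
    (hγ : D.γ0 ≠ 0) : RelM q D.bK ρ a b c := by
  have hq1 : 1 ≤ q := by omega
  have hσσ := u3px7_sigma_sigma D hF
  have hζ : (D.ζ : F) ≠ 0 := Units.ne_zero D.ζ
  have hιb : D.σ (D.ι (D.bK : K)) = D.ι (D.bK : K) := (D.hι _).mpr ⟨_, rfl⟩
  have hιb0 : D.ι (D.bK : K) ≠ 0 := by
    rw [D.hbK]; exact mul_ne_zero hζ ((map_ne_zero D.σ).mpr hζ)
  have hx1 : ρ (xM 1) = z0 q a b := by
    apply D.c.cj_inj
    rw [rho_x hG, u3px7_z0 hG hF hq1, map_one, mul_one]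
  refine ⟨hx1, ?_, ?_, ?_, ?_⟩
  · -- phi_h
    apply D.c.cj_inj
    rw [D.c.cj_pow, hG.hb, u3px7_dd_pow, hG.hρ]
    have h1 : (D.ζ : F) ^ (q + 1) = D.ι (D.bK : K) := by
      rw [D.hbK, D.hσ, pow_succ']
    rw [h1]
    ext i j
    fin_cases i <;> fin_cases j <;>
      simp [rhoM, hM, dd, hιb, hιb0]
  · -- phi_w
    apply D.c.cj_inj
    rw [hG.hc, hG.hρ]
    ext i j
    fin_cases i <;> fin_cases j <;> simp [rhoM, wM, wJ]
  · -- m1
    apply D.c.cj_inj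
    rw [← cj_one, cj_b_U hG hσσ (ρ (xM 1)) 0 (D.γ0 * D.ι 1) (rho_x hG 1), rho_x hG, D.hbK]
    congr 1
    · simp
    · rw [map_one, zpow_one]; unfold Par.bl; ring
  · -- m2
    apply D.c.cj_inj
    rw [_root_.zpow_neg, zpow_natCast, ← inv_pow, D.c.cj_pow, u3px1_cj_b_inv hG, u3px7_ddi_pow,
      D.c.cj_mul, D.c.cj_mul, u3px7_cj_c_inv hG hγ, hG.hb, hG.hc]
    have h1 : D.σ ((D.ζ : F) ^ q) = (D.ζ : F) := by rw [← D.hσ, hσσ]
    have h2 : (D.ζ : F) ^ q = D.σ (D.ζ : F) := (D.hσ _).symm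
    have hsζ : D.σ (D.ζ : F) ≠ 0 := (map_ne_zero D.σ).mpr hζ
    ext i j
    fin_cases i <;> fin_cases j <;>
      simp [ddi, dd, wJ, Matrix.mul_apply, Fin.sum_univ_three, h2, hσσ] <;> field_simp

end X

end Cfsg.Agent.Lib.Helper19.U3P
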