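import Cfsg.Agent.Lib.Helper19.UTPSTABd
import Cfsg.Agent.Lib.Helper11.UTPSTABBETA

/-!
# UTP row STAB (helper19): `stab_u`, verbatim vs `helper6/UTP/Skel`
(`utpstab_core` of `Helper19/UTPSTABd` + helper11's `utpstab11_beta`)
-/

set_option autoImplicit false
set_option linter.unusedVariables false
set_option linter.unusedSectionVars false

namespace Cfsg.Agent.Lib.helper6.UTP

open Matrix
open scoped Kronecker
open Cfsg.Agent.Lib.helper7.TP

variable {F : Type*} [Field F] {a b : ℕ}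

theorem stab_u [Fintype F] (σ : F ≃+* F) (hσ : Inv2 σ) (ha : 1 ≤ a) (hb : 3 ≤ b)
    (M : Subgroup (Matrix.GeneralLinearGroup (Fin a × Fin b) F)) (hTM : T0u σ a b ≤ M)
    (hMS : M ≤ SUm σ (Fin a × Fin b)) (hNT : NTu σ M)
    (w w' : Fin b → F) (hw : w ≠ 0) (hw' : w' ≠ 0) (h : cj σ w ⬝ᵥ w = 0)
    (g : Matrix.GeneralLinearGroup (Fin a × Fin b) F) (hg : g ∈ M)
    (hl : ∀ u : Fin a → F, ∃ u' : Fin a → F,
      (g : Matrix (Fin a × Fin b) (Fin a × Fin b) F) *ᵥ ten u w = ten u' w') :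
    g ∈ K0 a b F :=
  utpstab_core σ hσ ha hb M hTM hMS hNT
    (fun w w₂ hw hw₂ h12 Γ hΓw hΓp lam ν hsim hν =>
      Cfsg.Agent.Lib.Helper11.utpstab11_beta σ hσ w w₂ hw hw₂ h12 Γ hΓw hΓp lam ν hsim hν)
    w w' hw hw' h g hg hl

end Cfsg.Agent.Lib.helper6.UTP
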