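import Cfsg.Agent.Lib.Helper19.UTPNScore
import Cfsg.Agent.Lib.Helper22.UTPBTV
import Cfsg.Agent.Lib.Helper22.UTPC1G
import Cfsg.Agent.Lib.Helper19.UTPSTAB

/-!
# UTP row NS (helper19): `ns_u`, verbatim vs `helper6/UTP/Skel` (wrapper of `utpns_core`)
-/

set_option autoImplicit false
set_option linter.unusedVariables false
set_option linter.unusedSectionVars false

namespace Cfsg.Agent.Lib.helper6.UTP

open Matrix
open scoped Kronecker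
open Cfsg.Agent.Lib.helper7.TP

variable {F : Type*} [Field F] {a b : ℕ}

theorem ns_u [Fintype F] (σ : F ≃+* F) (hσ : Inv2 σ) (ha : 1 ≤ a) (hb : 3 ≤ b) (hdiv : ¬ b ∣ a)
    (M : Subgroup (Matrix.GeneralLinearGroup (Fin a × Fin b) F)) (hTM : T0u σ a b ≤ M)
    (hMS : M ≤ SUm σ (Fin a × Fin b)) (hNT : NTu σ M)
    (g : Matrix.GeneralLinearGroup (Fin a × Fin b) F) (hg : g ∈ M)
    (w₀ w : Fin b → F) (hw₀ : w₀ ≠ 0) (hw : w ≠ 0) (h₀ : cj σ w₀ ⬝ᵥ w₀ = 0) (h : cj σ w ⬝ᵥ w = 0)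
    (hp : ∀ u : Fin a → F,
      ctr (cj σ w) ((g : Matrix (Fin a × Fin b) (Fin a × Fin b) F) *ᵥ ten u w₀) = 0) :
    ∃ w₁ : Fin b → F, w₁ ≠ 0 ∧ ∀ u : Fin a → F, ∃ u' : Fin a → F,
      (g : Matrix (Fin a × Fin b) (Fin a × Fin b) F) *ᵥ ten u w₀ = ten u' w₁ :=
  utpns_core σ hσ ha hb hdiv M hTM hMS hNT
    (fun c hc w h => btv_mem σ hσ c hc w h)
    (fun w w' hw hw' h g hg hl => stab_u σ hσ ha hb M hTM hMS hNT w w' hw hw' h g hg hl)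
    (fun t ht hsq hrk => sqzero_kron_gen ha hb hdiv t ht hsq hrk)
    g hg w₀ w hw₀ hw h₀ h hp

end Cfsg.Agent.Lib.helper6.UTP
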