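import Mathlib
import Cfsg.Agent.Lib.Helper19.U3P.Defs
import Cfsg.Agent.Lib.Helper19.U3PX1
import Cfsg.Agent.Lib.Helper19.U3PX7

/-!
# U3P row X19 (helper19): the stabiliser element `ĉ = ρ(gc) b` of the point `a c B`, verbatim.
-/

set_option autoImplicit false
set_option linter.unusedSectionVars false
set_option linter.unusedSimpArgs false

namespace Cfsg.Agent.Lib.Helper19.U3P

open Cfsg.Agent.Lib.helper17.SLP Cfsg.Agent.Lib.helper14.SU3J Cfsg.Agent.Lib.Helper25.SU3P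
open Cfsg.Agent.Lib.Helper25.SU3P.ConjAux
open Polynomial Matrix

universe u v

section X

variable {F : Type u} [Field F] [Fintype F] {K : Type u} [Field K] [Fintype K] {q : ℕ}

/-- the matrix `Ĉ` (`l = σ ζ / ζ`, `β' = σ β₀`). -/
def u3px19_Chat (l β β' : F) : Matrix (Fin 3) (Fin 3) F :=
  !![-β' * (l⁻¹) ^ 2 - β * l, 0, β * β' * ((l⁻¹) ^ 2 - l); 0, l, 0;
    (l⁻¹) ^ 2 - l, 0, -β' * l - β * (l⁻¹) ^ 2]

theorem u3px19_gc (σ : F →+* F) (hσσ : ∀ x, σ (σ x) = x) (ι : K →+* F)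
    (hι : ∀ x : F, σ x = x ↔ ∃ y : K, ι y = x) (ζ β0 γ : F) (hζ : ζ ≠ 0) (hγ : γ ≠ 0)
    (hγσ : σ γ = -γ) (hβ0 : β0 + σ β0 + 1 = 0) :
    ∃ gc : SL2 K, rhoM ι γ gc * dd σ ζ = u3px19_Chat (σ ζ / ζ) β0 (σ β0) := by
  have hsζ : σ ζ ≠ 0 := (map_ne_zero σ).mpr hζ
  obtain ⟨l, hl⟩ : ∃ l : F, l = σ ζ / ζ := ⟨_, rfl⟩
  have hl0 : l ≠ 0 := by rw [hl]; exact div_ne_zero hsζ hζ
  have hσζ : σ ζ = l * ζ := by rw [hl]; field_simp
  have hσl : σ l = l⁻¹ := by rw [hl, map_div₀, hσσ, inv_div]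
  have hβ : σ β0 = -1 - β0 := by linear_combination hβ0
  rw [← hl, hβ]
  obtain ⟨A, hA⟩ := (hι ((-(-1 - β0) * (l⁻¹) ^ 2 - β0 * l) / ζ)).mp (by
    simp only [map_div₀, map_sub, map_mul, map_neg, map_pow, map_inv₀, map_one, hβ, hσl, hσζ]
    field_simp
    ring)
  obtain ⟨B, hB⟩ := (hι (β0 * (-1 - β0) * ((l⁻¹) ^ 2 - l) * (l * ζ) / γ)).mp (by
    simp only [map_div₀, map_sub, map_mul, map_neg, map_pow, map_inv₀, map_one, hβ, hσl, hσζ, hγσ]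
    field_simp
    ring)
  obtain ⟨C, hC⟩ := (hι (γ * ((l⁻¹) ^ 2 - l) / ζ)).mp (by
    simp only [map_div₀, map_sub, map_mul, map_neg, map_pow, map_inv₀, map_one, hβ, hσl, hσζ, hγσ]
    field_simp
    ring)
  obtain ⟨E, hE⟩ := (hι ((-(-1 - β0) * l - β0 * (l⁻¹) ^ 2) * (l * ζ))).mp (by
    simp only [map_div₀, map_sub, map_mul, map_neg, map_pow, map_inv₀, map_one, hβ, hσl, hσζ, hγσ]
    field_simp
    ring)
  have hdet : A * E - B * C = 1 := by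
    apply ι.injective
    rw [map_sub, map_mul, map_mul, map_one, hA, hB, hC, hE]
    field_simp
    ring
  refine ⟨⟨!![A, B; C, E], by rw [Matrix.det_fin_two_of]; exact hdet⟩, ?_⟩
  ext i j
  fin_cases i <;> fin_cases j <;>
    simp [rhoM, dd, u3px19_Chat, Matrix.mul_apply, Fin.sum_univ_three, hA, hB, hC, hE, hσζ] <;>
    field_simp

/-- `M v = l v` gives `M^n v = l^n v`. -/
theorem u3px19_pow_mulVec (M : Matrix (Fin 3) (Fin 3) F) (v : Fin 3 → F) (l : F)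
    (h : M *ᵥ v = l • v) (n : ℕ) : (M ^ n) *ᵥ v = l ^ n • v := by
  induction n with
  | zero => simp
  | succ n ih =>
    rw [pow_succ, ← Matrix.mulVec_mulVec, h, Matrix.mulVec_smul, ih, smul_smul, pow_succ, mul_comm]

theorem u3px19_Chat_e2 (l β β' : F) :
    u3px19_Chat l β β' *ᵥ ![0, 1, 0] = l • ![0, 1, 0] := by
  ext i
  fin_cases i <;> simp [u3px19_Chat, Matrix.mulVec, dotProduct, Fin.sum_univ_three]

theorem u3px19_Chat_v (l β β' : F) (hl : l ≠ 0) (hβ : β + β' + 1 = 0) :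
    u3px19_Chat l β β' *ᵥ ![β, -1, 1] = l • ![β, -1, 1] := by
  have hβ' : β' = -1 - β := by linear_combination hβ
  subst hβ'
  ext i
  fin_cases i <;> simp [u3px19_Chat, Matrix.mulVec, dotProduct, Fin.sum_univ_three] <;>
    field_simp <;> ring

/-- the order of `σ ζ / ζ` is a multiple of `q + 1`. -/
theorem u3px19_order (D : Par F K q) (hF : Fintype.card F = q ^ 2) (hq : 2 ≤ q) (n : ℕ)
    (hn : (D.σ (D.ζ : F) / (D.ζ : F)) ^ n = 1) : q + 1 ∣ n := by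
  have hζ : (D.ζ : F) ≠ 0 := Units.ne_zero D.ζ
  have h1 : (D.ζ : F) ^ (q * n) = (D.ζ : F) ^ n := by
    rw [div_pow, div_eq_one_iff_eq (pow_ne_zero _ hζ), D.hσ, ← pow_mul] at hn
    exact hn
  have h2 : D.ζ ^ (q * n) = D.ζ ^ n := by
    apply Units.ext
    simpa using h1
  have hord : orderOf D.ζ = q ^ 2 - 1 := by
    rw [orderOf_eq_card_of_forall_mem_zpowers D.hζ, Nat.card_units, Nat.card_eq_fintype_card, hF]
  rw [pow_eq_pow_iff_modEq, hord] at h2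
  have h3 : q ^ 2 - 1 ∣ q * n - n := (Nat.modEq_iff_dvd' (Nat.le_mul_of_pos_left n (by omega))).mp h2.symm
  have h4 : q ^ 2 - 1 = (q - 1) * (q + 1) := by
    obtain ⟨k, rfl⟩ : ∃ k, q = k + 1 := ⟨q - 1, by omega⟩
    simp only [Nat.add_sub_cancel]
    have : (k + 1) ^ 2 = k * (k + 1 + 1) + 1 := by ring
    rw [this, Nat.add_sub_cancel]
  have h5 : q * n - n = (q - 1) * n := by
    rw [Nat.sub_mul, one_mul]
  rw [h4, h5] at h3
  exact Nat.dvd_of_mul_dvd_mul_left (by omega) h3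

variable {D : Par F K q} {a b c : ↥(Cfsg.SU 3 F q)} {ρ : SL2 K →* ↥(Cfsg.SU 3 F q)}

/-- X19 -/
theorem stab_S (hG : Gens D a b c ρ) (hF : Fintype.card F = q ^ 2) (hK : Fintype.card K = q) (hq : 4 ≤ q)
    (hγ : D.γ0 ≠ 0) :
    ∃ gc : SL2 K, IsUp (D.c.cj ((a * c)⁻¹ * (ρ gc * b) * (a * c))) ∧ q + 1 ≤ orderOf (ρ gc * b) := by
  have hσσ := u3px7_sigma_sigma D hF
  have hζ : (D.ζ : F) ≠ 0 := Units.ne_zero D.ζ
  have hsζ : D.σ (D.ζ : F) ≠ 0 := (map_ne_zero D.σ).mpr hζ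
  have hl0 : D.σ (D.ζ : F) / (D.ζ : F) ≠ 0 := div_ne_zero hsζ hζ
  have hγσ : D.σ D.γ0 = -D.γ0 := by
    unfold Par.γ0; rw [map_sub, hσσ]; ring
  obtain ⟨gc, hgc⟩ := u3px19_gc D.σ hσσ D.ι D.hι (D.ζ : F) D.β0 D.γ0 hζ hγ hγσ D.hβ0
  have hC : D.c.cj (ρ gc * b) = u3px19_Chat (D.σ (D.ζ : F) / (D.ζ : F)) D.β0 (D.σ D.β0) := by
    rw [D.c.cj_mul, hG.hρ, hG.hb, hgc]
  refine ⟨gc, ?_, ?_⟩
  · -- the first column
    have hv : D.c.cj (a * c) *ᵥ ![1, 0, 0] = (-D.γ0⁻¹) • ![D.β0, -1, 1] := by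
      rw [D.c.cj_mul, hG.ha, hG.hc]
      ext i
      fin_cases i <;> simp [uu, wJ, Matrix.mulVec, dotProduct, Fin.sum_univ_three, Matrix.mul_apply,
        mul_comm]
    have hN : D.c.cj ((a * c)⁻¹ * (ρ gc * b) * (a * c)) *ᵥ ![1, 0, 0]
        = (D.σ (D.ζ : F) / (D.ζ : F)) • ![1, 0, 0] := by
      rw [D.c.cj_mul, D.c.cj_mul, ← Matrix.mulVec_mulVec, ← Matrix.mulVec_mulVec, hv, hC,
        Matrix.mulVec_smul, u3px19_Chat_v _ _ _ hl0 D.hβ0, smul_comm, ← hv, Matrix.mulVec_smul,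
        Matrix.mulVec_mulVec, D.c.cj_inv_mul, Matrix.one_mulVec]
    have h10 : D.c.cj ((a * c)⁻¹ * (ρ gc * b) * (a * c)) 1 0 = 0 := by
      have := congrFun hN 1
      simpa [Matrix.mulVec, dotProduct, Fin.sum_univ_three] using this
    have h20 : D.c.cj ((a * c)⁻¹ * (ρ gc * b) * (a * c)) 2 0 = 0 := by
      have := congrFun hN 2
      simpa [Matrix.mulVec, dotProduct, Fin.sum_univ_three] using this
    exact isUp_of_presJ D.σ _ h10 h20 (D.c.cj_presJ _)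
  · -- the order
    have hfin : Finite ↥(Cfsg.SU 3 F q) := inferInstance
    have hpos : 0 < orderOf (ρ gc * b) := orderOf_pos _
    have h1 : D.c.cj ((ρ gc * b) ^ orderOf (ρ gc * b)) = 1 := by
      rw [pow_orderOf_eq_one, D.c.cj_one]
    rw [D.c.cj_pow, hC] at h1
    have h2 := u3px19_pow_mulVec _ _ _ (u3px19_Chat_e2 (D.σ (D.ζ : F) / (D.ζ : F)) D.β0 (D.σ D.β0))
      (orderOf (ρ gc * b))
    rw [h1, Matrix.one_mulVec] at h2
    have h3 := congrFun h2 1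
    simp at h3
    exact Nat.le_of_dvd hpos (u3px19_order D hF (by omega) _ h3.symm)

end X

end Cfsg.Agent.Lib.Helper19.U3P
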