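import Mathlib
import Cfsg.Prelude.Def_GeometricClasses
import Cfsg.Agent.Lib.Helper27.ASC.Defs
import Cfsg.Agent.Lib.Helper19.ASG.Defs
import Cfsg.Agent.Lib.Helper26.ASGD1.Defs
import Cfsg.Agent.Lib.Helper10.ASCIRRNS

/-! Project ASG, block D1, pieces D1-NONAB, D1-ELAB, D1-ROOT, D1-POW (verbatim `d1_nonab`, `d1_elab`, `d1_root`, `d1_pow`)
and the group theory behind them: a minimal non-scalar subgroup `N` normalised by `H` with scalar commutator
subgroup (all normal subgroups scalar or absolutely irreducible) is an `r`-group of class 2 with `N / Z` elementary abelian,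
commutators of order `r`, exponent `r` (`r` odd) or dividing `4` (`r = 2`). -/

set_option autoImplicit false
set_option linter.unusedVariables false
set_option linter.unusedSectionVars false

namespace Cfsg.Agent.Lib.Helper19.ASG

open Cfsg Cfsg.Geo Cfsg.Agent.Lib.Helper27.ASC
open scoped MatrixGroups Matrix commutatorElement

/-! ### generalities on groups -/

section General

variable {G : Type*} [Group G]

/-- class 2 : `⁅x ^ k, y⁆ = ⁅x, y⁆ ^ k` when `⁅x, y⁆` commutes with `x` -/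
theorem asgd1grp_comm_pow_left (x y : G) (h : Commute ⁅x, y⁆ x) (k : ℕ) : ⁅x ^ k, y⁆ = ⁅x, y⁆ ^ k := by
  induction k with
  | zero => simp
  | succ k ih =>
    have e : ⁅x ^ (k + 1), y⁆ = x * ⁅x ^ k, y⁆ * x⁻¹ * ⁅x, y⁆ := by
      simp only [commutatorElement_def, pow_succ']
      group
    rw [e, ih]
    have h2 : Commute (⁅x, y⁆ ^ k) x := h.pow_left k
    have : x * ⁅x, y⁆ ^ k * x⁻¹ = ⁅x, y⁆ ^ k := by
      rw [← h2.eq, mul_assoc, mul_inv_cancel, mul_one]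
    rw [this, ← pow_succ]

/-- class 2 : `(x y)^k = x^k y^k ⁅y, x⁆^(k choose 2)` when `⁅y, x⁆` commutes with `x` and `y` -/
theorem asgd1grp_mul_pow (x y : G) (hx : Commute ⁅y, x⁆ x) (hy : Commute ⁅y, x⁆ y) (k : ℕ) :
    (x * y) ^ k = x ^ k * y ^ k * ⁅y, x⁆ ^ (k.choose 2) := by
  induction k with
  | zero => simp
  | succ k ih =>
    have h1 : ⁅y ^ k, x⁆ = ⁅y, x⁆ ^ k := asgd1grp_comm_pow_left y x hy k
    have h2 : y ^ k * x = ⁅y, x⁆ ^ k * x * y ^ k := by
      rw [← h1, commutatorElement_def]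
      group
    have hd : ∀ j, Commute (⁅y, x⁆ ^ j) x := fun j => hx.pow_left j
    have hd' : ∀ j i, Commute (⁅y, x⁆ ^ j) (y ^ i) := fun j i => (hy.pow_left j).pow_right i
    have hd'' : ∀ j i, Commute (⁅y, x⁆ ^ j) (x ^ i) := fun j i => (hx.pow_left j).pow_right i
    have hc : (k + 1).choose 2 = k.choose 2 + k := by
      rw [Nat.choose_succ_succ' k 1, Nat.choose_one_right, add_comm]
    rw [hc, pow_add ⁅y, x⁆, pow_succ (x * y), ih]
    calc x ^ k * y ^ k * ⁅y, x⁆ ^ k.choose 2 * (x * y)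
        = x ^ k * (y ^ k * x) * y * ⁅y, x⁆ ^ k.choose 2 := by
          have := (hd (k.choose 2)).eq
          have h3 := (hy.pow_left (k.choose 2)).eq
          calc x ^ k * y ^ k * ⁅y, x⁆ ^ k.choose 2 * (x * y)
              = x ^ k * y ^ k * (⁅y, x⁆ ^ k.choose 2 * x) * y := by group
            _ = x ^ k * y ^ k * (x * ⁅y, x⁆ ^ k.choose 2) * y := by rw [this]
            _ = x ^ k * y ^ k * x * (⁅y, x⁆ ^ k.choose 2 * y) := by group
            _ = x ^ k * y ^ k * x * (y * ⁅y, x⁆ ^ k.choose 2) := by rw [h3]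
            _ = _ := by group
      _ = x ^ k * (⁅y, x⁆ ^ k * x * y ^ k) * y * ⁅y, x⁆ ^ k.choose 2 := by rw [h2]
      _ = x ^ (k + 1) * y ^ (k + 1) * (⁅y, x⁆ ^ k.choose 2 * ⁅y, x⁆ ^ k) := by
          have h4 := (hd'' k k).eq
          have h5 : ⁅y, x⁆ ^ k * (x * y ^ k * y) = (x * y ^ k * y) * ⁅y, x⁆ ^ k := by
            have a1 := (hd k).eq
            have a2 := (hd' k (k + 1)).eq
            calc ⁅y, x⁆ ^ k * (x * y ^ k * y) = (⁅y, x⁆ ^ k * x) * (y ^ k * y) := by group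
              _ = (x * ⁅y, x⁆ ^ k) * (y ^ k * y) := by rw [a1]
              _ = x * (⁅y, x⁆ ^ k * y ^ (k + 1)) := by rw [pow_succ]; group
              _ = x * (y ^ (k + 1) * ⁅y, x⁆ ^ k) := by rw [a2]
              _ = _ := by rw [pow_succ]; group
          have h6 := (Commute.pow_pow_self ⁅y, x⁆ (k.choose 2) k).eq
          calc x ^ k * (⁅y, x⁆ ^ k * x * y ^ k) * y * ⁅y, x⁆ ^ k.choose 2
              = x ^ k * (⁅y, x⁆ ^ k * (x * y ^ k * y)) * ⁅y, x⁆ ^ k.choose 2 := by group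
            _ = x ^ k * ((x * y ^ k * y) * ⁅y, x⁆ ^ k) * ⁅y, x⁆ ^ k.choose 2 := by rw [h5]
            _ = x ^ (k + 1) * y ^ (k + 1) * (⁅y, x⁆ ^ k * ⁅y, x⁆ ^ k.choose 2) := by
                rw [pow_succ, pow_succ]; group
            _ = _ := by rw [h6]

/-- an element outside a subgroup of a finite group has a power outside it whose `r`-th power is inside, `r` prime -/
theorem asgd1grp_exists_prime [Finite G] (S : Subgroup G) (x : G) (hx : x ∉ S) :
    ∃ (r j : ℕ), r.Prime ∧ x ^ j ∉ S ∧ (x ^ j) ^ r ∈ S := by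
  classical
  have hex : ∃ k : ℕ, 0 < k ∧ x ^ k ∈ S := ⟨orderOf x, orderOf_pos x, by rw [pow_orderOf_eq_one]; exact S.one_mem⟩
  set k := Nat.find hex with hk
  obtain ⟨hk0, hkS⟩ := Nat.find_spec hex
  have hk1 : k ≠ 1 := by
    intro h
    rw [← hk, h, pow_one] at hkS
    exact hx hkS
  have hr : (k.minFac).Prime := Nat.minFac_prime hk1
  obtain ⟨j, hj⟩ := Nat.minFac_dvd k
  have hj0 : 0 < j := by
    rcases Nat.eq_zero_or_pos j with h | h
    · rw [h, mul_zero] at hj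
      omega
    · exact h
  have hjk : j < k := by
    have := hr.two_le
    nlinarith
  refine ⟨k.minFac, j, hr, ?_, ?_⟩
  · intro h
    exact Nat.find_min hex hjk ⟨hj0, h⟩
  · rw [← pow_mul, mul_comm, ← hj]
    exact hkS

end General

variable {n : ℕ} {F : Type*} [Field F]

/-- scalars are central in `GL_n(F)` -/
theorem asgd1grp_scal_comm {z : GL (Fin n) F} (hz : z ∈ scalars (Fin n) F) (g : GL (Fin n) F) : Commute z g := by
  obtain ⟨c, rfl⟩ := (mem_scalars_iff_d1scal z).1 hz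
  exact d1scal_comm c g

/-- conjugation fixes scalars -/
theorem asgd1grp_conj_scal {z : GL (Fin n) F} (hz : z ∈ scalars (Fin n) F) (h : GL (Fin n) F) : h * z * h⁻¹ = z := by
  rw [← (asgd1grp_scal_comm hz h).eq, mul_assoc, mul_inv_cancel, mul_one]

/-- `GL_0(F)` is trivial -/
theorem asgd1grp_pos_of_ne {x y : GL (Fin n) F} (hxy : x ≠ y) : 0 < n := by
  by_contra h
  have h0 : n = 0 := by omega
  subst h0
  exact hxy (Units.ext (Subsingleton.elim _ _))

/-- G4 : commutators have order dividing `r` -/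
theorem asgd1grp_comm_pow {N : Subgroup (GL (Fin n) F)} (hab : ⁅N, N⁆ ≤ scalars (Fin n) F) {r : ℕ}
    (hel : ∀ x ∈ N, x ^ r ∈ scalars (Fin n) F) {x y : GL (Fin n) F} (hx : x ∈ N) (hy : y ∈ N) : ⁅x, y⁆ ^ r = 1 := by
  have hc : ⁅x, y⁆ ∈ scalars (Fin n) F := hab (Subgroup.commutator_mem_commutator hx hy)
  rw [← asgd1grp_comm_pow_left x y (asgd1grp_scal_comm hc x) r, commutatorElement_eq_one_iff_mul_comm]
  exact (asgd1grp_scal_comm (hel x hx) y).eq

/-- the power formula in `N` -/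
theorem asgd1grp_mul_pow' {N : Subgroup (GL (Fin n) F)} (hab : ⁅N, N⁆ ≤ scalars (Fin n) F) {r : ℕ}
    (hel : ∀ x ∈ N, x ^ r ∈ scalars (Fin n) F) {x y : GL (Fin n) F} (hx : x ∈ N) (hy : y ∈ N) (k : ℕ)
    (hk : r ∣ k.choose 2) : (x * y) ^ k = x ^ k * y ^ k := by
  have hc : ⁅y, x⁆ ∈ scalars (Fin n) F := hab (Subgroup.commutator_mem_commutator hy hx)
  rw [asgd1grp_mul_pow x y (asgd1grp_scal_comm hc x) (asgd1grp_scal_comm hc y) k]
  obtain ⟨d, hd⟩ := hk
  rw [hd, pow_mul, asgd1grp_comm_pow hab hel hy hx, one_pow, mul_one]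

/-- `r ∣ (k choose 2)` for `k = r * gcd(2, r)` -/
theorem asgd1grp_dvd_choose {r : ℕ} (hr : r.Prime) : r ∣ (r * Nat.gcd 2 r).choose 2 := by
  rcases hr.eq_two_or_odd' with h | h
  · subst h
    decide
  · have h2 : Nat.gcd 2 r = 1 := by
      rw [Nat.coprime_comm.1 (Nat.Coprime.symm (Nat.coprime_two_left.2 h))]
    rw [h2, mul_one]
    have : 2 < r := by
      rcases h with ⟨m, hm⟩
      have := hr.two_le
      rcases Nat.eq_zero_or_pos m with h0 | h0
      · subst h0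
        omega
      · omega
    exact hr.dvd_choose_self (by norm_num) this

variable [Fintype F]

/-- D1-NONAB -/
theorem d1_nonab (hn : 2 ≤ n) {N : Subgroup (GL (Fin n) F)} (hA : AbsIrr N) :
    ∃ x ∈ N, ∃ y ∈ N, x * y ≠ y * x := by
  by_contra hcon
  push Not at hcon
  apply irr_not_scalar hn hA.1
  intro x hx
  obtain ⟨c, hc⟩ := hA.2 (x : Matrix (Fin n) (Fin n) F) (by
    rintro _ ⟨y, hy, rfl⟩
    have := congrArg Units.val (hcon x hx y hy)
    simpa using this)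
  rw [mem_scalars_iff]
  have hc0 : c ≠ 0 := by
    rintro rfl
    have h1 : (x : Matrix (Fin n) (Fin n) F) * ((x⁻¹ : GL (Fin n) F) : Matrix (Fin n) (Fin n) F) = 1 := by
      rw [← Units.val_mul, mul_inv_cancel, Units.val_one]
    rw [hc, zero_smul, zero_mul] at h1
    have := congrFun (congrFun h1 ⟨0, by omega⟩) ⟨0, by omega⟩
    simp at this
  exact ⟨Units.mk0 c hc0, hc⟩

/-- D1-ELAB -/
theorem d1_elab {H N : Subgroup (GL (Fin n) F)} (hN : MinNonscalar N H) (hab : ⁅N, N⁆ ≤ scalars (Fin n) F) :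
    ∃ r : ℕ, r.Prime ∧ ∀ x ∈ N, x ^ r ∈ scalars (Fin n) F := by
  classical
  obtain ⟨hNH, hNs, hmin⟩ := hN
  obtain ⟨x, hxN, hxZ⟩ := SetLike.not_le_iff_exists.1 hNs
  obtain ⟨r, j, hr, hj, hjr⟩ := asgd1grp_exists_prime (scalars (Fin n) F) x hxZ
  refine ⟨r, hr, ?_⟩
  let M : Subgroup (GL (Fin n) F) :=
    { carrier := {y | y ∈ N ∧ y ^ r ∈ scalars (Fin n) F}
      one_mem' := ⟨N.one_mem, by rw [one_pow]; exact (scalars (Fin n) F).one_mem⟩
      mul_mem' := by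
        rintro y z ⟨hy, hyr⟩ ⟨hz, hzr⟩
        refine ⟨N.mul_mem hy hz, ?_⟩
        have hc : ⁅z, y⁆ ∈ scalars (Fin n) F := hab (Subgroup.commutator_mem_commutator hz hy)
        rw [asgd1grp_mul_pow y z (asgd1grp_scal_comm hc y) (asgd1grp_scal_comm hc z) r]
        exact (scalars (Fin n) F).mul_mem ((scalars (Fin n) F).mul_mem hyr hzr) ((scalars (Fin n) F).pow_mem hc _)
      inv_mem' := by
        rintro y ⟨hy, hyr⟩
        refine ⟨N.inv_mem hy, ?_⟩
        rw [inv_pow]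
        exact (scalars (Fin n) F).inv_mem hyr }
  have hMN : M ≤ N := fun y hy => hy.1
  have hMH : NormalIn M H := by
    refine ⟨hMN.trans hNH.1, fun h hh y hy => ⟨hNH.2 h hh y hy.1, ?_⟩⟩
    rw [conj_pow, asgd1grp_conj_scal hy.2]
    exact hy.2
  rcases hmin M hMH hMN with h | h
  · exact absurd (h (show x ^ j ∈ M from ⟨N.pow_mem hxN j, hjr⟩)) hj
  · intro y hy
    have : y ∈ M := h ▸ hy
    exact this.2

/-- D1-ROOT -/
theorem d1_root {N : Subgroup (GL (Fin n) F)} (hnc : ∃ x ∈ N, ∃ y ∈ N, x * y ≠ y * x)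
    (hab : ⁅N, N⁆ ≤ scalars (Fin n) F) {r : ℕ} (hel : ∀ x ∈ N, x ^ r ∈ scalars (Fin n) F) :
    ∃ ω : Fˣ, ω ≠ 1 ∧ ω ^ r = 1 := by
  obtain ⟨x, hx, y, hy, hxy⟩ := hnc
  have hn : 0 < n := asgd1grp_pos_of_ne hxy
  have hc : ⁅x, y⁆ ∈ scalars (Fin n) F := hab (Subgroup.commutator_mem_commutator hx hy)
  obtain ⟨ω, hω⟩ := (mem_scalars_iff_d1scal _).1 hc
  refine ⟨ω, ?_, ?_⟩
  · rintro rfl
    rw [d1scal_one, commutatorElement_eq_one_iff_mul_comm] at hω
    exact hxy hω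
  · apply d1scal_injective hn
    rw [d1scal_pow, ← hω, d1scal_one]
    exact asgd1grp_comm_pow hab hel hx hy

/-- D1-POW -/
theorem d1_pow {H N : Subgroup (GL (Fin n) F)} (hN : MinNonscalar N H)
    (hnc : ∃ x ∈ N, ∃ y ∈ N, x * y ≠ y * x)
    (hab : ⁅N, N⁆ ≤ scalars (Fin n) F) {r : ℕ} (hr : r.Prime) (hel : ∀ x ∈ N, x ^ r ∈ scalars (Fin n) F) :
    ∀ x ∈ N, ∃ c : Fˣ, (d1scal c * x) ^ (r * Nat.gcd 2 r) = 1 := by
  classical
  obtain ⟨hNH, hNs, hmin⟩ := hN
  obtain ⟨x₀, hx₀, y₀, hy₀, hxy₀⟩ := hnc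
  have hn : 0 < n := asgd1grp_pos_of_ne hxy₀
  set k := r * Nat.gcd 2 r with hk
  have hdvd : r ∣ k.choose 2 := asgd1grp_dvd_choose hr
  -- `y ^ k` is scalar
  have hpk : ∀ y ∈ N, ∃ c : Fˣ, y ^ k = d1scal c := by
    intro y hy
    rw [hk, pow_mul]
    exact (mem_scalars_iff_d1scal _).1 ((scalars (Fin n) F).pow_mem (hel y hy) _)
  -- the homomorphism `ψ : N → Fˣ`
  let ψ₀ : N → Fˣ := fun y => Classical.choose (hpk y y.2)
  have hψ₀ : ∀ y : N, ((y : GL (Fin n) F)) ^ k = d1scal (ψ₀ y) := fun y => Classical.choose_spec (hpk y y.2)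
  let ψ : N →* Fˣ := MonoidHom.mk' ψ₀ (by
    intro a b
    apply d1scal_injective hn
    rw [d1scal_mul, ← hψ₀, ← hψ₀, ← hψ₀, Subgroup.coe_mul]
    exact asgd1grp_mul_pow' hab hel a.2 b.2 k hdvd)
  have hψ : ∀ y : N, ((y : GL (Fin n) F)) ^ k = d1scal (ψ y) := hψ₀
  let P : Subgroup Fˣ := (powMonoidHom k : Fˣ →* Fˣ).range
  let f : N →* Fˣ ⧸ P := (QuotientGroup.mk' P).comp ψ
  have : IsCyclic (Fˣ ⧸ P) := isCyclic_of_surjective (QuotientGroup.mk' P) (QuotientGroup.mk'_surjective P)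
  have hf : ∀ y : N, y ∈ f.ker ↔ ∃ c : Fˣ, c ^ k = ψ y := by
    intro y
    rw [MonoidHom.mem_ker]
    show (QuotientGroup.mk' P) (ψ y) = 1 ↔ _
    rw [QuotientGroup.mk'_apply, QuotientGroup.eq_one_iff]
    rfl
  let K : Subgroup (GL (Fin n) F) := f.ker.map N.subtype
  have hKN : K ≤ N := by
    rintro _ ⟨y, _, rfl⟩
    exact y.2
  have hKH : NormalIn K H := by
    refine ⟨hKN.trans hNH.1, ?_⟩
    rintro h hh _ ⟨y, hy, rfl⟩
    refine ⟨⟨h * y * h⁻¹, hNH.2 h hh y y.2⟩, ?_, rfl⟩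
    rw [SetLike.mem_coe, hf] at hy ⊢
    obtain ⟨c, hc⟩ := hy
    refine ⟨c, ?_⟩
    rw [hc]
    apply d1scal_injective hn
    rw [← hψ, ← hψ]
    show (y : GL (Fin n) F) ^ k = (h * (y : GL (Fin n) F) * h⁻¹) ^ k
    rw [conj_pow, hψ, asgd1grp_conj_scal (d1scal_mem _)]
  rcases hmin K hKH hKN with h | h
  · exfalso
    have hcen : f.ker ≤ Subgroup.center N := by
      intro y hy
      rw [Subgroup.mem_center_iff]
      intro g
      have hyZ : (y : GL (Fin n) F) ∈ scalars (Fin n) F := h ⟨y, hy, rfl⟩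
      apply Subtype.ext
      rw [Subgroup.coe_mul, Subgroup.coe_mul]
      exact ((asgd1grp_scal_comm hyZ (g : GL (Fin n) F)).eq).symm
    have hcm := MonoidHom.isMulCommutative_of_isCyclic_of_ker_le_center f hcen
    have := mul_comm' (⟨x₀, hx₀⟩ : N) ⟨y₀, hy₀⟩
    exact hxy₀ (congrArg Subtype.val this)
  · intro x hx
    have hxK : x ∈ K := h ▸ hx
    obtain ⟨y, hy, rfl⟩ := hxK
    rw [SetLike.mem_coe, hf] at hy
    obtain ⟨c, hc⟩ := hy
    refine ⟨c⁻¹, ?_⟩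
    show (d1scal c⁻¹ * (y : GL (Fin n) F)) ^ k = 1
    rw [d1scal_mul_pow, hψ, ← hc, ← d1scal_mul, inv_pow, inv_mul_cancel, d1scal_one]

end Cfsg.Agent.Lib.Helper19.ASG
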