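import Mathlib
import Cfsg.Agent.Lib.helper3.CEUO.Defs2
import Cfsg.Agent.Lib.Helper27.STU.Defs3
import Cfsg.Agent.Lib.Helper27.STU.Frob
import Cfsg.Agent.Lib.Helper27.STUH8
import Cfsg.Agent.Lib.Helper24.STCI1
import Cfsg.Agent.Lib.Helper24.STUM0
import Cfsg.Agent.Lib.Helper28.CEUOK1
import Cfsg.Agent.Lib.Helper28.CEUOK4
import Cfsg.Agent.Lib.Helper25.CEUOX1core

/-!
# Project CEUO (sub-designer helper3), rows X2 `Xo_sym`, X3 `Xo_eqv`, VERBATIM, and the core of X5 `shortLift_odd` (helper19)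

`HK_odd` (second half of X5) is verbatim here too (it needs only K1, K4).  `shortLift_odd` needs X4 `Xo_c3`: core `ceuox5_core` on the statement of X4.
-/

set_option autoImplicit false

namespace Cfsg.Agent.Lib.helper3.CEUO

open Cfsg.Agent.Lib.helper15.St2 Cfsg.Agent.Lib.helper7.Ce Cfsg.Agent.Lib.helper3.STC Cfsg.Agent.Lib.Helper27.STU
  Cfsg.Agent.Lib.helper7.CEU

open Cfsg.Agent.Lib.helper7.CEC (I2 I3 I4 U2 U3)

section X

variable {F : Type*} [Field F] [StarRing F] {od : Prop} {ι : Type*} {Γ G : Type*} [Group Γ] [Group G] {S : SysU F od ι G} {σ : Γ →* G}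

/-- own-name copy of X1 `Xo_map` -/
theorem ceuox2_map (h : IsCE σ) (hF : Hyp F) (hod : od) {a b : ι ⊕ ι} (hab : ab a ≠ ab b) (t : F) :
    σ (Xo S h hF hod a b t) = S.xs a b t :=
  ceuox1_map_core h hF hod (Kb_map h hab) t

/-- own-name copy of X1 `Xo_add` -/
theorem ceuox2_add (h : IsCE σ) (hF : Hyp F) (hod : od) (hCs : HCs S σ) (hCl : HCl S σ) {a b : ι ⊕ ι} (hab : ab a ≠ ab b) (t u : F) :
    Xo S h hF hod a b (t + u) = Xo S h hF hod a b t * Xo S h hF hod a b u :=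
  ceuox1_add_core h hF hod (Kb_mul_left h hCs hCl hab) (fun h1 h2 => Kb_v h hF hod hCs hCl hab h1 h2) t u

/-- own-name copy of X1 `Xo_neg` -/
theorem ceuox2_neg (h : IsCE σ) (hF : Hyp F) (hod : od) (hCs : HCs S σ) (hCl : HCl S σ) {a b : ι ⊕ ι} (hab : ab a ≠ ab b) (t : F) :
    Xo S h hF hod a b (-t) = (Xo S h hF hod a b t)⁻¹ :=
  ceuox1_neg_core h hF hod (ceuox2_add h hF hod hCs hCl hab) t

/-- `ab (ng b) ≠ ab (ng a)` -/
theorem ceuox2_ab_ng {a b : ι ⊕ ι} (hab : ab a ≠ ab b) : ab (ng b) ≠ ab (ng a) := by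
  rw [ab_ng, ab_ng]
  exact fun e => hab e.symm

/-- X2 [M] -/
theorem Xo_sym (h : IsCE σ) (hF : Hyp F) (hod : od) (hCs : HCs S σ) (hCl : HCl S σ) (htb : TorB S) {a b : ι ⊕ ι} (hab : ab a ≠ ab b) (t : F) :
    Xo S h hF hod a b t = Xo S h hF hod (ng b) (ng a) (-(star t)) := by
  -- general `s`
  have key : ∀ s : F, Xo S h hF hod (ng b) (ng a) s = Xo S h hF hod a b (-(star s)) := by
    intro s
    have hP : σ (lf h (S.xl (ng b) (ofV hF hod (-s)))) = S.xl (ng b) (ofV hF hod (-s)) := map_lf h _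
    have hQ : σ (lf h (S.xl (ng (ng a)) (ofV hF hod 1))) = S.xl a (ofV hF hod 1) := by
      rw [map_lf, ng_ng]
    have e1 : cm (lf h (S.xl (ng (ng a)) (ofV hF hod 1))) (lf h (S.xl (ng b) (ofV hF hod (-s)))) =
        Kb S h a b (ofV hF hod 1) (ofV hF hod (-s)) := Kb_eq h hQ hP
    have e2 : Xo S h hF hod (ng b) (ng a) s =
        (cm (lf h (S.xl (ng (ng a)) (ofV hF hod 1))) (lf h (S.xl (ng b) (ofV hF hod (-s)))))⁻¹ := by
      rw [cm_inv_swap]
      rfl
    rw [e2, e1, Kb_B h hF hod hCs hCl htb hab, ← ceuox2_neg h hF hod hCs hCl hab, ofV_v, ofV_v, one_mul, star_neg, neg_neg]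
  rw [key, star_neg, star_star, neg_neg]

/-- X3 [M] -/
theorem Xo_eqv (h : IsCE σ) (hF : Hyp F) (hod : od) (hCs : HCs S σ) (hCl : HCl S σ) (htb : TorB S) {g : G} {π : Equiv.Perm (ι ⊕ ι)}
    {d : ι ⊕ ι → F} {d0 : F} (hg : S.IsMon g π d d0) {e : Γ} (he : σ e = g) {a b : ι ⊕ ι} (hab : ab a ≠ ab b) (t : F) :
    cj e (Xo S h hF hod a b t) = Xo S h hF hod (π a) (π b) (d a * (d b)⁻¹ * t) := by
  have hπ : ab (π a) ≠ ab (π b) := by
    intro e'
    apply hab
    rcases ab_eq_iff.1 e' with e'' | e''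
    · rw [π.injective e'']
    · rw [← hg.1.pi_ng] at e''
      rw [π.injective e'', ab_ng]
  have hdb : d b ≠ 0 := hg.1.d_ne b
  have hd0 : d0 ≠ 0 := hg.1.d0_ne
  have hsd0 : star d0 ≠ 0 := fun e' => hd0 (by simpa using congrArg star e')
  have h1 : star (d (ng b)) = (d b)⁻¹ := by
    have := congrArg star (hg.1.d_ng b)
    rw [star_mul', star_star, star_one] at this
    exact eq_inv_of_mul_eq_one_left this
  have h2 : d0⁻¹ * (star d0)⁻¹ = 1 := by
    rw [← mul_inv, hg.1.d0_norm, inv_one]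
  have e1 : cj e (Xo S h hF hod a b t) =
      Kb S h (π a) (π b) (Lam.act (d a * d0⁻¹) (ofV hF hod (-t))) (Lam.act (d (ng b) * d0⁻¹) (ofV hF hod 1)) :=
    Kb_cj h hg he a b _ _
  rw [e1, Kb_B h hF hod hCs hCl htb hπ]
  congr 1
  rw [Lam.act_v, Lam.act_v, ofV_v, ofV_v, star_mul', star_mul', star_one, h1, star_inv₀]
  linear_combination (d a * (d b)⁻¹ * t) * h2

/-- core of X5 (first half) on the statement of X4 `Xo_c3` -/
theorem ceuox5_core (h : IsCE σ) (hF : Hyp F) (hod : od) (hCs : HCs S σ) (hCl : HCl S σ) (htb : TorB S)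
    (hc3 : ∀ a c b : ι ⊕ ι, ab a ≠ ab c → ab c ≠ ab b → ab a ≠ ab b → ∀ t u : F,
      cm (Xo S h hF hod a c t) (Xo S h hF hod c b u) = Xo S h hF hod a b (t * u)) :
    ∃ L : ShortLift S h, ∀ a b t, L.X a b t = Xo S h hF hod a b t := by
  refine ⟨{ X := Xo S h hF hod
            map := fun a b hab t => ceuox2_map h hF hod hab t
            add := fun a b hab t u => ceuox2_add h hF hod hCs hCl hab t u
            sym := fun a b hab t => Xo_sym h hF hod hCs hCl htb hab t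
            eqv := fun g π d d0 hg e he a b hab t => Xo_eqv h hF hod hCs hCl htb hg he hab t
            c3 := hc3 }, fun a b t => rfl⟩

/-- X5 [S]  the lifted relation `hh` -/
theorem HK_odd (h : IsCE σ) (hF : Hyp F) (hod : od) (hCs : HCs S σ) (hCl : HCl S σ) (htb : TorB S) (L : ShortLift S h)
    (hL : ∀ a b t, L.X a b t = Xo S h hF hod a b t) : HK L := by
  intro a b hab ξ η p q hp hq
  have hab' : ab a ≠ ab (ng b) := by rw [ab_ng]; exact hab
  have hq' : σ q = S.xl (ng (ng b)) η := by rw [ng_ng]; exact hq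
  rw [Kb_eq h hp hq', Kb_B h hF hod hCs hCl htb hab', hL]

end X

end Cfsg.Agent.Lib.helper3.CEUO
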