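import Mathlib
import Cfsg.Agent.Lib.Helper19.CEUOX2
import Cfsg.Agent.Lib.Helper1.CEUOX4core

/-!
# Project CEUO (sub-designer helper3), row X5 `shortLift_odd`, VERBATIM (helper19)

On `ceuox5_core` (`Helper19.CEUOX2`) and helper1's `ceuox4_core` (the core of X4 `Xo_c3`) fed with K4 `Kb_B` (`Helper28.CEUOK4`).  `HK_odd` (the second half of X5) is in `Helper19.CEUOX2`.
-/

set_option autoImplicit false

namespace Cfsg.Agent.Lib.helper3.CEUO

open Cfsg.Agent.Lib.helper15.St2 Cfsg.Agent.Lib.helper7.Ce Cfsg.Agent.Lib.helper3.STC Cfsg.Agent.Lib.Helper27.STU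
  Cfsg.Agent.Lib.helper7.CEU

open Cfsg.Agent.Lib.helper7.CEC (I2 I3 I4 U2 U3)

section X

variable {F : Type*} [Field F] [StarRing F] {od : Prop} {ι : Type*} {Γ G : Type*} [Group Γ] [Group G] {S : SysU F od ι G} {σ : Γ →* G}

/-- X5 [S]  the structure: `Xo_map`, `Xo_add`, `Xo_sym`, `Xo_eqv`, `Xo_c3`. -/
theorem shortLift_odd (h : IsCE σ) (hF : Hyp F) (hod : od) (hCs : HCs S σ) (hCl : HCl S σ) (htb : TorB S) :
    ∃ L : ShortLift S h, ∀ a b t, L.X a b t = Xo S h hF hod a b t :=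
  ceuox5_core h hF hod hCs hCl htb (fun _ _ _ hac hcb hab t u =>
    ceuox4_core h hF hod hCs hCl (fun hab' ξ η => Kb_B h hF hod hCs hCl htb hab' ξ η) hac hcb hab t u)

end X

end Cfsg.Agent.Lib.helper3.CEUO
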