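import Mathlib
import Cfsg.Agent.Lib.Helper28.Gen4C

set_option autoImplicit false

namespace Cfsg.Agent.Lib.Helper19.Hall4

open Cfsg.Agent.Lib.Helper28.Gen4
open scoped commutatorElement

/-- strong four-group generation for solvable subgroups of odd order -/
theorem gen4_of_solvable {G : Type*} [Group G] (a b : G) (ha : a * a = 1) (hb : b * b = 1)
    (hab : a * b = b * a) (S : Subgroup G) :
    ∀ (d : ℕ) (K : Subgroup G), Nat.card K = d → Finite K → Odd (Nat.card K) → Group.IsSolvable K →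
      a ∈ Subgroup.normalizer (K : Set G) → b ∈ Subgroup.normalizer (K : Set G) →
      (∀ k ∈ K, k * a = a * k → k ∈ S) → (∀ k ∈ K, k * b = b * k → k ∈ S) →
      (∀ k ∈ K, k * (a * b) = (a * b) * k → k ∈ S) → K ≤ S := by
  intro d
  induction d using Nat.strong_induction_on with
  | _ d ih =>
  intro K hd hfin hodd hsol haK hbK h1 h2 h3
  by_cases htriv : K = ⊥
  · rw [htriv]; exact bot_le
  have : Nontrivial ↥K := (Subgroup.nontrivial_iff_ne_bot K).mpr htriv
  have : Group.IsSolvable ↥K := hsol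
  -- the derived subgroup
  have hlt : ⁅K, K⁆ < K := by
    have h1 := Group.IsSolvable.commutator_lt_top_of_nontrivial ↥K
    rw [← Subgroup.map_subtype_commutator]
    have h2 : (commutator ↥K).map K.subtype < (⊤ : Subgroup ↥K).map K.subtype :=
      (Subgroup.map_lt_map_iff_of_injective K.subtype_injective).mpr h1
    rwa [← MonoidHom.range_eq_map, Subgroup.range_subtype] at h2
  have hNfin : Finite ↥(⁅K, K⁆ : Subgroup G) :=
    Finite.of_injective _ (Subgroup.inclusion_injective hlt.le)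
  have hNcard : Nat.card ↥(⁅K, K⁆ : Subgroup G) < d := by
    rw [← hd]
    exact Set.Finite.card_lt_card (Set.toFinite _) hlt
  have hNodd : Odd (Nat.card ↥(⁅K, K⁆ : Subgroup G)) :=
    Odd.of_dvd_nat hodd (Subgroup.card_dvd_of_le hlt.le)
  have hNsol : Group.IsSolvable ↥(⁅K, K⁆ : Subgroup G) :=
    Group.isSolvable_of_isSolvable_injective (Subgroup.inclusion_injective hlt.le)
  have hN : ⁅K, K⁆ ≤ S :=
    ih _ hNcard _ rfl hNfin hNodd hNsol (commutator_normalized K a haK)
      (commutator_normalized K b hbK) (fun k hk => h1 k (hlt.le hk)) (fun k hk => h2 k (hlt.le hk))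
      (fun k hk => h3 k (hlt.le hk))
  -- decompose
  intro k hk
  have hα : ∀ k, conjAut K a haK (conjAut K a haK k) = k := by
    intro k
    apply Subtype.ext
    rw [conjAut_coe, conjAut_coe]
    have : a⁻¹ = a := inv_eq_of_mul_eq_one_left ha
    rw [this]
    calc a * (a * ↑k * a) * a = (a * a) * ↑k * (a * a) := by group
      _ = ↑k := by rw [ha, one_mul, mul_one]
  have hβ : ∀ k, conjAut K b hbK (conjAut K b hbK k) = k := by
    intro k
    apply Subtype.ext
    rw [conjAut_coe, conjAut_coe]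
    have : b⁻¹ = b := inv_eq_of_mul_eq_one_left hb
    rw [this]
    calc b * (b * ↑k * b) * b = (b * b) * ↑k * (b * b) := by group
      _ = ↑k := by rw [hb, one_mul, mul_one]
  have hαβ : ∀ k, conjAut K a haK (conjAut K b hbK k) = conjAut K b hbK (conjAut K a haK k) := by
    intro k
    apply Subtype.ext
    rw [conjAut_coe, conjAut_coe, conjAut_coe, conjAut_coe]
    have hab' : a⁻¹ * b⁻¹ = b⁻¹ * a⁻¹ := by
      rw [← mul_inv_rev, ← mul_inv_rev, hab]
    calc a * (b * ↑k * b⁻¹) * a⁻¹ = (a * b) * ↑k * (b⁻¹ * a⁻¹) := by group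
      _ = (b * a) * ↑k * (a⁻¹ * b⁻¹) := by rw [hab, hab']
      _ = b * (a * ↑k * a⁻¹) * b⁻¹ := by group
  obtain ⟨c₁, c₂, c₃, n, e1', e2', e3', hn, hkk⟩ :=
    decomp3 hodd (conjAut K a haK) (conjAut K b hbK) hα hβ hαβ (commutator ↥K) le_rfl ⟨k, hk⟩
  have e1 : (c₁ : G) ∈ S := by
    apply h1 _ c₁.2
    have := congrArg Subtype.val e1'
    rw [conjAut_coe] at this
    exact (mul_inv_eq_iff_eq_mul.mp this).symm
  have e2 : (c₂ : G) ∈ S := by
    apply h2 _ c₂.2
    have := congrArg Subtype.val e2'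
    rw [conjAut_coe] at this
    exact (mul_inv_eq_iff_eq_mul.mp this).symm
  have e3 : (c₃ : G) ∈ S := by
    apply h3 _ c₃.2
    have := congrArg Subtype.val e3'
    rw [conjAut_coe, conjAut_coe] at this
    have h4 : a * b * ↑c₃ * (a * b)⁻¹ = ↑c₃ := by
      calc a * b * ↑c₃ * (a * b)⁻¹ = a * (b * ↑c₃ * b⁻¹) * a⁻¹ := by group
        _ = ↑c₃ := this
    exact (mul_inv_eq_iff_eq_mul.mp h4).symm
  have e4 : (n : G) ∈ S := by
    apply hN
    rw [← Subgroup.map_subtype_commutator]
    exact ⟨n, hn, rfl⟩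
  have e5 : k = (c₁ : G) * c₂ * c₃ * n := by
    have := congrArg Subtype.val hkk
    simpa using this
  rw [e5]
  exact S.mul_mem (S.mul_mem (S.mul_mem e1 e2) e3) e4

/-- strong four-group generation, with normaliser hypotheses -/
theorem gen4_normalizer {G : Type*} [Group G] (a b : G) (ha : a * a = 1) (hb : b * b = 1)
    (hab : a * b = b * a) (K : Subgroup G) [Finite K] (hodd : Odd (Nat.card K))
    (haK : a ∈ Subgroup.normalizer (K : Set G)) (hbK : b ∈ Subgroup.normalizer (K : Set G))
    (S : Subgroup G)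
    (h1 : ∀ k ∈ K, k * a = a * k → k ∈ S) (h2 : ∀ k ∈ K, k * b = b * k → k ∈ S)
    (h3 : ∀ k ∈ K, k * (a * b) = (a * b) * k → k ∈ S) : K ≤ S := by
  -- the automorphisms
  have hα : ∀ k, conjAut K a haK (conjAut K a haK k) = k := by
    intro k
    apply Subtype.ext
    rw [conjAut_coe, conjAut_coe]
    have : a⁻¹ = a := inv_eq_of_mul_eq_one_left ha
    rw [this]
    calc a * (a * ↑k * a) * a = (a * a) * ↑k * (a * a) := by group
      _ = ↑k := by rw [ha, one_mul, mul_one]
  have hβ : ∀ k, conjAut K b hbK (conjAut K b hbK k) = k := by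
    intro k
    apply Subtype.ext
    rw [conjAut_coe, conjAut_coe]
    have : b⁻¹ = b := inv_eq_of_mul_eq_one_left hb
    rw [this]
    calc b * (b * ↑k * b) * b = (b * b) * ↑k * (b * b) := by group
      _ = ↑k := by rw [hb, one_mul, mul_one]
  have hαβ : ∀ k, conjAut K a haK (conjAut K b hbK k) = conjAut K b hbK (conjAut K a haK k) := by
    intro k
    apply Subtype.ext
    rw [conjAut_coe, conjAut_coe, conjAut_coe, conjAut_coe]
    have hab' : a⁻¹ * b⁻¹ = b⁻¹ * a⁻¹ := by
      rw [← mul_inv_rev, ← mul_inv_rev, hab]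
    calc a * (b * ↑k * b⁻¹) * a⁻¹ = (a * b) * ↑k * (b⁻¹ * a⁻¹) := by group
      _ = (b * a) * ↑k * (a⁻¹ * b⁻¹) := by rw [hab, hab']
      _ = b * (a * ↑k * a⁻¹) * b⁻¹ := by group
  -- the part of `K` inside `S`
  have htop : S.subgroupOf K = ⊤ := by
    rw [← Subgroup.index_eq_one]
    by_contra hne
    obtain ⟨q, hq, hqdvd⟩ := Nat.exists_prime_and_dvd hne
    have : Fact q.Prime := ⟨hq⟩
    obtain ⟨T, hTa, hTb⟩ := exists_invariant_sylow hodd (conjAut K a haK) (conjAut K b hbK)
      hα hβ hαβ q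
    -- the Sylow subgroup lies in `S`
    have hT : (T : Subgroup ↥K).map K.subtype ≤ S := by
      have hle : (T : Subgroup ↥K).map K.subtype ≤ K := by
        rintro _ ⟨k, -, rfl⟩
        exact k.2
      have hfin : Finite ↥((T : Subgroup ↥K).map K.subtype) :=
        Finite.of_injective _ (Subgroup.inclusion_injective hle)
      have hcard : Nat.card ↥((T : Subgroup ↥K).map K.subtype) = Nat.card ↥(T : Subgroup ↥K) :=
        Subgroup.card_map_of_injective K.subtype_injective
      have hodd' : Odd (Nat.card ↥((T : Subgroup ↥K).map K.subtype)) := by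
        rw [hcard]
        exact Odd.of_dvd_nat hodd (Subgroup.card_subgroup_dvd_card _)
      have hpg : IsPGroup q ↥((T : Subgroup ↥K).map K.subtype) := T.2.map _
      have hsol : Group.IsSolvable ↥((T : Subgroup ↥K).map K.subtype) := by
        have := hpg.isNilpotent
        infer_instance
      have hnorm : ∀ (c : G) (hc : c ∈ Subgroup.normalizer (K : Set G)),
          (∀ s ∈ T, conjAut K c hc s ∈ T) → (∀ k : ↥K, conjAut K c hc (conjAut K c hc k) = k) →
          c ∈ Subgroup.normalizer (((T : Subgroup ↥K).map K.subtype : Subgroup G) : Set G) := by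
        intro c hc hS hinv
        rw [Subgroup.mem_normalizer_iff]
        intro x
        constructor
        · rintro ⟨s, hs, rfl⟩
          exact ⟨conjAut K c hc s, hS s hs, rfl⟩
        · rintro ⟨s, hs, hsx⟩
          have hxK : x ∈ K := by
            have h1 : c * x * c⁻¹ ∈ K := by rw [← hsx]; exact s.2
            exact ((Subgroup.mem_normalizer_iff.mp hc) x).mpr h1
          refine ⟨conjAut K c hc s, hS s hs, ?_⟩
          have h2 : s = conjAut K c hc ⟨x, hxK⟩ := Subtype.ext hsx
          rw [h2, hinv]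
          rfl
      exact gen4_of_solvable a b ha hb hab S _ _ rfl hfin hodd' hsol
        (hnorm a haK hTa hα) (hnorm b hbK hTb hβ) (fun k hk => h1 k (hle hk))
        (fun k hk => h2 k (hle hk)) (fun k hk => h3 k (hle hk))
    have hT' : (T : Subgroup ↥K) ≤ S.subgroupOf K := by
      intro s hs
      rw [Subgroup.mem_subgroupOf]
      exact hT ⟨s, hs, rfl⟩
    have h1 : (S.subgroupOf K).index ∣ (T : Subgroup ↥K).index :=
      Subgroup.index_dvd_of_le hT'
    exact T.not_dvd_index (hqdvd.trans h1)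
  intro k hk
  have : (⟨k, hk⟩ : ↥K) ∈ S.subgroupOf K := by rw [htop]; trivial
  exact Subgroup.mem_subgroupOf.mp this

theorem gen4 {G : Type*} [Group G] (a b : G) (ha : a * a = 1) (hb : b * b = 1)
    (hab : a * b = b * a) (H : Subgroup G) [Finite H] (hodd : Odd (Nat.card H))
    (haH : ∀ k ∈ H, a * k * a⁻¹ ∈ H) (hbH : ∀ k ∈ H, b * k * b⁻¹ ∈ H) (S : Subgroup G)
    (h1 : ∀ k ∈ H, k * a = a * k → k ∈ S) (h2 : ∀ k ∈ H, k * b = b * k → k ∈ S)
    (h3 : ∀ k ∈ H, k * (a * b) = (a * b) * k → k ∈ S) : H ≤ S := by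
  have hnorm : ∀ c : G, c * c = 1 → (∀ k ∈ H, c * k * c⁻¹ ∈ H) →
      c ∈ Subgroup.normalizer (H : Set G) := by
    intro c hc hcH
    rw [Subgroup.mem_normalizer_iff]
    intro x
    refine ⟨hcH x, fun hx => ?_⟩
    have h := hcH _ hx
    have hci : c⁻¹ = c := inv_eq_of_mul_eq_one_left hc
    have : c * (c * x * c⁻¹) * c⁻¹ = x := by
      rw [hci]
      calc c * (c * x * c) * c = (c * c) * x * (c * c) := by group
        _ = x := by rw [hc, one_mul, mul_one]
    rw [this] at h
    exact h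
  exact gen4_normalizer a b ha hb hab H hodd (hnorm a ha haH) (hnorm b hb hbH) S h1 h2 h3

end Cfsg.Agent.Lib.Helper19.Hall4
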