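import Mathlib
import Cfsg.Agent.Lib.Helper25.Hall4.Defs

set_option autoImplicit false

namespace Cfsg.Agent.Lib.Helper19.Hall4

open MulAction Cfsg.Agent.Lib.helper4 Cfsg.Agent.Lib.Helper22.LW Cfsg.Agent.Lib.Helper25.Hall4

variable {K β : Type*} [Group K] [Finite K] [MulAction K β] [Fintype β] [DecidableEq β] {h : ℕ}

theorem three_points (B L : Subgroup K) (Y : Finset β) (p q : β)
    (hBtrans : ∀ y ∈ Y, ∀ y' ∈ Y, ∃ g ∈ B, g • y = y')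
    (hBpq : ∀ g ∈ B, g • p = p ∨ g • p = q) (hBqp : ∀ g ∈ B, g • p = q → g • q = p)
    (hBL : ∀ g ∈ B, g • p = p → g ∈ L) :
    ∀ y₁ ∈ Y, ∀ y₂ ∈ Y, ∀ y₃ ∈ Y, (∃ k ∈ L, k • y₁ = y₂) ∨ (∃ k ∈ L, k • y₁ = y₃) ∨
      (∃ k ∈ L, k • y₂ = y₃) := by
  intro y₁ hy₁ y₂ hy₂ y₃ hy₃
  obtain ⟨g₂, hg₂B, hg₂⟩ := hBtrans y₁ hy₁ y₂ hy₂
  obtain ⟨g₃, hg₃B, hg₃⟩ := hBtrans y₁ hy₁ y₃ hy₃
  rcases hBpq g₂ hg₂B with h2 | h2
  · exact Or.inl ⟨g₂, hBL g₂ hg₂B h2, hg₂⟩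
  rcases hBpq g₃ hg₃B with h3 | h3
  · exact Or.inr (Or.inl ⟨g₃, hBL g₃ hg₃B h3, hg₃⟩)
  refine Or.inr (Or.inr ⟨g₃ * g₂⁻¹, hBL _ (B.mul_mem hg₃B (B.inv_mem hg₂B)) ?_, ?_⟩)
  · have h2' : g₂ • q = p := hBqp g₂ hg₂B h2
    have h3' : g₃ • q = p := hBqp g₃ hg₃B h3
    have : g₂⁻¹ • p = q := by rw [← h2', inv_smul_smul]
    rw [mul_smul, this, h3']
  · rw [mul_smul, ← hg₂, inv_smul_smul, hg₃]

open Classical in
omit [Finite K] [Fintype β] in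
/-- the part of an `L`-orbit inside an `L`-invariant finset -/
theorem card_orbitFinset_dvd (L : Subgroup K) (Y : Finset β)
    (hYinv : ∀ k ∈ L, ∀ y ∈ Y, k • y ∈ Y) (y₀ : β) (hy₀ : y₀ ∈ Y) :
    (Y.filter fun y => ∃ k ∈ L, k • y₀ = y).card ∣ Nat.card L := by
  have hset : ((Y.filter fun y => ∃ k ∈ L, k • y₀ = y : Finset β) : Set β) = orbit L y₀ := by
    ext y
    simp only [Finset.coe_filter, Set.mem_ofPred_eq]
    constructor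
    · rintro ⟨_, k, hk, rfl⟩
      exact ⟨⟨k, hk⟩, rfl⟩
    · rintro ⟨⟨k, hk⟩, rfl⟩
      exact ⟨hYinv k hk y₀ hy₀, k, hk, rfl⟩
  rw [← Set.ncard_coe_finset, hset, ← MulAction.index_stabilizer]
  exact Subgroup.index_dvd_card _

theorem two_orbits (L : Subgroup K) (hLodd : Odd (Nat.card L)) (Y : Finset β)
    (hYinv : ∀ k ∈ L, ∀ y ∈ Y, k • y ∈ Y) (hYev : Even Y.card) (hYne : Y.Nonempty)
    (h3 : ∀ y₁ ∈ Y, ∀ y₂ ∈ Y, ∀ y₃ ∈ Y, (∃ k ∈ L, k • y₁ = y₂) ∨ (∃ k ∈ L, k • y₁ = y₃) ∨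
      (∃ k ∈ L, k • y₂ = y₃)) :
    ∃ Q Q' : Finset β, TwoOrb L Y Q Q' := by
  classical
  obtain ⟨y₀, hy₀⟩ := hYne
  set Q : Finset β := Y.filter fun y => ∃ k ∈ L, k • y₀ = y with hQ
  have hQodd : Odd Q.card := Odd.of_dvd_nat hLodd (card_orbitFinset_dvd L Y hYinv y₀ hy₀)
  have hQY : Q ⊆ Y := Finset.filter_subset _ _
  have hQne : Q ≠ Y := by
    intro h
    rw [h] at hQodd
    exact (Nat.not_even_iff_odd.2 hQodd) hYev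
  obtain ⟨y₁, hy₁Y, hy₁Q⟩ : ∃ y₁ ∈ Y, y₁ ∉ Q := by
    by_contra hcon
    push Not at hcon
    exact hQne (Finset.Subset.antisymm hQY hcon)
  set Q' : Finset β := Y.filter fun y => ∃ k ∈ L, k • y₁ = y with hQ'
  have hQ'odd : Odd Q'.card := Odd.of_dvd_nat hLodd (card_orbitFinset_dvd L Y hYinv y₁ hy₁Y)
  have hnot : ¬ ∃ k ∈ L, k • y₀ = y₁ := by
    rintro ⟨k, hk, hky⟩
    apply hy₁Q
    rw [hQ, Finset.mem_filter]
    exact ⟨hy₁Y, k, hk, hky⟩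
  refine ⟨Q, Q', ?_, ?_, hQodd, hQ'odd, ?_, ?_, ?_, ?_⟩
  · apply Finset.Subset.antisymm
    · exact Finset.union_subset hQY (Finset.filter_subset _ _)
    · intro y hy
      rcases h3 y₀ hy₀ y₁ hy₁Y y hy with h | h | h
      · exact absurd h hnot
      · exact Finset.mem_union_left _ (Finset.mem_filter.2 ⟨hy, h⟩)
      · exact Finset.mem_union_right _ (Finset.mem_filter.2 ⟨hy, h⟩)
  · rw [Finset.disjoint_left]
    intro y hyQ hyQ'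
    rw [hQ, Finset.mem_filter] at hyQ
    rw [hQ', Finset.mem_filter] at hyQ'
    obtain ⟨_, k, hk, hky⟩ := hyQ
    obtain ⟨_, k', hk', hky'⟩ := hyQ'
    apply hnot
    refine ⟨k'⁻¹ * k, L.mul_mem (L.inv_mem hk') hk, ?_⟩
    rw [mul_smul, hky, ← hky', inv_smul_smul]
  · intro k hk y hy
    rw [hQ, Finset.mem_filter] at hy ⊢
    obtain ⟨hyY, k', hk', rfl⟩ := hy
    exact ⟨hYinv k hk _ hyY, k * k', L.mul_mem hk hk', mul_smul _ _ _⟩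
  · intro k hk y hy
    rw [hQ', Finset.mem_filter] at hy ⊢
    obtain ⟨hyY, k', hk', rfl⟩ := hy
    exact ⟨hYinv k hk _ hyY, k * k', L.mul_mem hk hk', mul_smul _ _ _⟩
  · intro y hy y' hy'
    rw [hQ, Finset.mem_filter] at hy hy'
    obtain ⟨_, k, hk, rfl⟩ := hy
    obtain ⟨_, k', hk', rfl⟩ := hy'
    refine ⟨k' * k⁻¹, L.mul_mem hk' (L.inv_mem hk), ?_⟩
    rw [mul_smul, inv_smul_smul]
  · intro y hy y' hy'
    rw [hQ', Finset.mem_filter] at hy hy'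
    obtain ⟨_, k, hk, rfl⟩ := hy
    obtain ⟨_, k', hk', rfl⟩ := hy'
    refine ⟨k' * k⁻¹, L.mul_mem hk' (L.inv_mem hk), ?_⟩
    rw [mul_smul, inv_smul_smul]

end Cfsg.Agent.Lib.Helper19.Hall4
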