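import Mathlib
import Cfsg.Agent.Lib.Helper1.Hig.Basic

set_option autoImplicit false

namespace Cfsg.Agent.Lib.Helper19.Hig

open Matrix Cfsg.Agent.Lib.helper15.NatMod Cfsg.Agent.Lib.helper15.QS Cfsg.Agent.Lib.Helper1.Hig

universe u

lemma g1_coe {F : Type u} [Field F] [CharP F 2] :
    ((g1 F : SpecialLinearGroup (Fin 2) F) : Matrix (Fin 2) (Fin 2) F) = !![0, 1; 1, 1] := by
  have h2 : (2 : F) = 0 := CharTwo.two_eq_zero
  have h11 : (1 : F) + 1 = 0 := by rw [one_add_one_eq_two]; exact h2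
  unfold g1
  rw [mul_coe, uu_coe, ll_coe]
  ext i j
  fin_cases i <;> fin_cases j <;> simp [Matrix.mul_apply, Fin.sum_univ_two, h11]

/-- conjugating matrix from a cyclic vector -/
lemma o3_aux {F : Type u} [Field F] [Fintype F] [CharP F 2]
    (a b c d : F) (hdet : a * d - b * c = 1) (htr : a + d = 1)
    (v0 v1 : F) (hD : c * v0 ^ 2 + (d - a) * v0 * v1 - b * v1 ^ 2 ≠ 0) :
    ∃ P : SpecialLinearGroup (Fin 2) F,
      (P : Matrix (Fin 2) (Fin 2) F) * !![0, 1; 1, 1] = !![a, b; c, d] * (P : Matrix (Fin 2) (Fin 2) F) := by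
  have h2 : (2 : F) = 0 := CharTwo.two_eq_zero
  set D := c * v0 ^ 2 + (d - a) * v0 * v1 - b * v1 ^ 2 with hDdef
  obtain ⟨s, hs⟩ := exists_sq (D⁻¹)
  have hsD : s ^ 2 * D = 1 := by rw [hs, inv_mul_cancel₀ hD]
  refine ⟨⟨!![s * v0, s * (a * v0 + b * v1); s * v1, s * (c * v0 + d * v1)], ?_⟩, ?_⟩
  · rw [Matrix.det_fin_two_of]
    rw [← hsD, hDdef]
    ring
  · simp only []
    ext i j
    fin_cases i <;> fin_cases j
    · simp [Matrix.mul_apply, Fin.sum_univ_two]
      ring
    · simp [Matrix.mul_apply, Fin.sum_univ_two]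
      have e : a * a + b * c = a + 1 := by linear_combination a * htr - hdet - h2
      linear_combination (-s * v0) * e - s * b * v1 * htr
    · simp [Matrix.mul_apply, Fin.sum_univ_two]
      ring
    · simp [Matrix.mul_apply, Fin.sum_univ_two]
      have e : c * b + d * d = d + 1 := by linear_combination d * htr - hdet - h2
      linear_combination (-s * v1) * e - s * c * v0 * htr

theorem order_three_conj {F : Type u} [Field F] [Fintype F] [CharP F 2]
    (g : SpecialLinearGroup (Fin 2) F) (hg : orderOf g = 3) :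
    ∃ c : SpecialLinearGroup (Fin 2) F, c * g1 F * c⁻¹ = g := by
  have h2 : (2 : F) = 0 := CharTwo.two_eq_zero
  have hg3 : g ^ 3 = 1 := by rw [← hg]; exact pow_orderOf_eq_one g
  have hg1 : g ≠ 1 := by
    intro h
    rw [h, orderOf_one] at hg
    norm_num at hg
  set a := (g : Matrix (Fin 2) (Fin 2) F) 0 0 with ha
  set b := (g : Matrix (Fin 2) (Fin 2) F) 0 1 with hb
  set c := (g : Matrix (Fin 2) (Fin 2) F) 1 0 with hc
  set d := (g : Matrix (Fin 2) (Fin 2) F) 1 1 with hd
  have hM : (g : Matrix (Fin 2) (Fin 2) F) = !![a, b; c, d] := Matrix.eta_fin_two _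
  have hdet : a * d - b * c = 1 := by
    have := g.2
    rw [Matrix.det_fin_two] at this
    exact this
  have hM3 : (g : Matrix (Fin 2) (Fin 2) F) * ((g : Matrix (Fin 2) (Fin 2) F) * (g : Matrix (Fin 2) (Fin 2) F)) = 1 := by
    have := congrArg (fun x : SpecialLinearGroup (Fin 2) F => (x : Matrix (Fin 2) (Fin 2) F)) hg3
    simp only [pow_succ, pow_zero, one_mul] at this
    rw [mul_coe, mul_coe] at this
    rw [← mul_assoc]
    exact this
  rw [hM] at hM3
  have e00 := congrFun (congrFun hM3 0) 0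
  have e01 := congrFun (congrFun hM3 0) 1
  have e10 := congrFun (congrFun hM3 1) 0
  have e11 := congrFun (congrFun hM3 1) 1
  simp [Matrix.mul_apply, Fin.sum_univ_two] at e00 e01 e10 e11
  set τ := a + d with hτ
  have f01 : b * (τ ^ 2 - 1) = 0 := by rw [hτ]; linear_combination e01 + b * hdet
  have f10 : c * (τ ^ 2 - 1) = 0 := by rw [hτ]; linear_combination e10 + c * hdet
  have f00 : a * (τ ^ 2 - 1) = 1 + τ := by rw [hτ]; linear_combination e00 + (a + (a + d)) * hdet
  have f11 : d * (τ ^ 2 - 1) = 1 + τ := by rw [hτ]; linear_combination e11 + (d + (a + d)) * hdet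
  have htr : τ = 1 := by
    by_contra hne
    have hu : τ - 1 ≠ 0 := sub_ne_zero.mpr hne
    have hu' : τ + 1 ≠ 0 := by
      have : τ + 1 = τ - 1 := by linear_combination h2
      rw [this]; exact hu
    have hfac : τ ^ 2 - 1 = (τ - 1) * (τ + 1) := by ring
    have hne2 : τ ^ 2 - 1 ≠ 0 := by rw [hfac]; exact mul_ne_zero hu hu'
    have hb0 : b = 0 := (mul_eq_zero.mp f01).resolve_right hne2
    have hc0 : c = 0 := (mul_eq_zero.mp f10).resolve_right hne2
    have ha1 : a * (τ - 1) = 1 := by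
      have : (a * (τ - 1)) * (τ + 1) = 1 * (τ + 1) := by rw [one_mul, mul_assoc, ← hfac, f00]; ring
      exact mul_right_cancel₀ hu' this
    have hd1 : d * (τ - 1) = 1 := by
      have : (d * (τ - 1)) * (τ + 1) = 1 * (τ + 1) := by rw [one_mul, mul_assoc, ← hfac, f11]; ring
      exact mul_right_cancel₀ hu' this
    have hτ0 : τ * (τ - 1) = 0 := by rw [hτ] at ha1 hd1 ⊢; linear_combination ha1 + hd1 + h2
    have hτ00 : τ = 0 := (mul_eq_zero.mp hτ0).resolve_right hu
    have ha' : a = 1 := by rw [hτ00] at ha1; linear_combination (-1 : F) * ha1 - h2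
    have hd' : d = 1 := by rw [hτ00] at hd1; linear_combination (-1 : F) * hd1 - h2
    apply hg1
    apply sl_ext
    · show a = _; rw [ha']; rfl
    · show b = _; rw [hb0]; rfl
    · show c = _; rw [hc0]; rfl
    · show d = _; rw [hd']; rfl
  -- choose the cyclic vector
  have key : ∃ v0 v1 : F, c * v0 ^ 2 + (d - a) * v0 * v1 - b * v1 ^ 2 ≠ 0 := by
    by_cases hb0 : b = 0
    · by_cases hc0 : c = 0
      · refine ⟨1, 1, ?_⟩
        rw [hb0, hc0]
        have : (0 : F) * 1 ^ 2 + (d - a) * 1 * 1 - 0 * 1 ^ 2 = 1 := by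
          rw [hτ] at htr; linear_combination htr - a * h2
        rw [this]; exact one_ne_zero
      · refine ⟨1, 0, ?_⟩
        have : c * 1 ^ 2 + (d - a) * 1 * 0 - b * 0 ^ 2 = c := by ring
        rw [this]; exact hc0
    · refine ⟨0, 1, ?_⟩
      have : c * 0 ^ 2 + (d - a) * 0 * 1 - b * 1 ^ 2 = -b := by ring
      rw [this]; exact neg_ne_zero.mpr hb0
  obtain ⟨v0, v1, hD⟩ := key
  obtain ⟨P, hP⟩ := o3_aux a b c d hdet htr v0 v1 hD
  refine ⟨P, ?_⟩
  rw [mul_inv_eq_iff_eq_mul]
  apply Subtype.ext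
  rw [mul_coe, mul_coe, g1_coe, hM]
  exact hP

end Cfsg.Agent.Lib.Helper19.Hig
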