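import Mathlib
import Cfsg.Prelude.Def_Classical

/-!
# U3P MAIN core (helper19): S2289 from `su3_pres` (FIN5) and `psu3_pres` (FIN6).
-/

set_option autoImplicit false

namespace Cfsg.Agent.Lib.Helper19.U3P

universe u

theorem u3pmain_core {F : Type u} [Field F] [Fintype F] (q : ℕ) (hF : Fintype.card F = q ^ 2) (h2 : q ≠ 2)
    (h3 : q ≠ 3) (h5 : q ≠ 5)
    (hSU : 4 ≤ q → q ≠ 5 → ∃ rels : Finset (FreeGroup (Fin 3)), rels.card ≤ 23 ∧
      Nonempty (PresentedGroup (↑rels : Set (FreeGroup (Fin 3))) ≃* ↥(Cfsg.SU 3 F q)))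
    (hPSU : 4 ≤ q → q ≠ 5 → ∃ rels : Finset (FreeGroup (Fin 3)), rels.card ≤ 24 ∧
      Nonempty (PresentedGroup (↑rels : Set (FreeGroup (Fin 3))) ≃* Cfsg.PSU 3 F q)) :
    (∃ rels : Finset (FreeGroup (Fin 3)), rels.card ≤ 23 ∧ Nonempty (PresentedGroup (↑rels : Set (FreeGroup (Fin 3))) ≃* ↥(Cfsg.SU 3 F q))) ∧ (∃ rels : Finset (FreeGroup (Fin 3)), rels.card ≤ 24 ∧ Nonempty (PresentedGroup (↑rels : Set (FreeGroup (Fin 3))) ≃* Cfsg.PSU 3 F q)) := by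
  have hq : 4 ≤ q := by
    have h1 : 1 < Fintype.card F := Fintype.one_lt_card
    rw [hF] at h1
    rcases Nat.lt_or_ge q 4 with h | h
    · interval_cases q <;> simp_all
    · exact h
  exact ⟨hSU hq h5, hPSU hq h5⟩

end Cfsg.Agent.Lib.Helper19.U3P
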