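import Mathlib
import Cfsg.Agent.Lib.Helper19.U3P.Defs

/-!
# U3P row B6 (helper19): `card_le_of_x_h` (generic), verbatim.
-/

set_option autoImplicit false

namespace Cfsg.Agent.Lib.Helper19.U3P

open Cfsg.Agent.Lib.helper17.SLP
open Polynomial

universe u v

theorem u3pb6_x_zero {F : Type*} [Field F] {G : Type*} [Group G] (x : F → G)
    (hadd : ∀ s t, x (s + t) = x s * x t) : x 0 = 1 := by
  have := hadd 0 0
  rw [add_zero] at this
  have h2 : x 0 * 1 = x 0 * x 0 := by rw [mul_one]; exact this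
  exact (mul_left_cancel h2).symm

theorem u3pb6_x_neg {F : Type*} [Field F] {G : Type*} [Group G] (x : F → G)
    (hadd : ∀ s t, x (s + t) = x s * x t) (t : F) : x (-t) = (x t)⁻¹ := by
  have h0 := u3pb6_x_zero x hadd
  have := hadd (-t) t
  rw [neg_add_cancel, h0] at this
  exact eq_inv_of_mul_eq_one_left this.symm

theorem u3pb6_conj_zpow {F : Type*} [Field F] {G : Type*} [Group G] (h : G) (x : F → G) (lam : F)
    (hlam : lam ≠ 0) (hconj : ∀ t, h * x t * h⁻¹ = x (lam * t)) (i : ℤ) (t : F) :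
    h ^ i * x t * h ^ (-i) = x (lam ^ i * t) := by
  have hconj' : ∀ t, h⁻¹ * x t * h = x (lam⁻¹ * t) := by
    intro t
    have := hconj (lam⁻¹ * t)
    rw [← mul_assoc, mul_inv_cancel₀ hlam, one_mul] at this
    rw [← this]; group
  induction i using Int.induction_on generalizing t with
  | zero => simp
  | succ i ih =>
    have e : h ^ ((i : ℤ) + 1) * x t * h ^ (-((i : ℤ) + 1)) =
        h * (h ^ (i : ℤ) * x t * h ^ (-(i : ℤ))) * h⁻¹ := by
      rw [zpow_add, zpow_one, neg_add, zpow_add, zpow_neg_one]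
      have hc : Commute (h ^ (i : ℤ)) h := (Commute.refl h).zpow_left _
      rw [hc.eq]; group
    rw [e, ih, hconj, ← mul_assoc, zpow_add₀ hlam, zpow_one, mul_comm lam]
  | pred i ih =>
    have e : h ^ (-(i : ℤ) - 1) * x t * h ^ (-(-(i : ℤ) - 1)) =
        h⁻¹ * (h ^ (-(i : ℤ)) * x t * h ^ (-(-(i : ℤ)))) * h := by
      rw [sub_eq_add_neg, zpow_add, zpow_neg_one, neg_add, zpow_add, neg_neg, neg_neg, zpow_one]
      have hc : Commute (h ^ (-(i : ℤ))) h⁻¹ := ((Commute.refl h).zpow_left _).inv_right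
      rw [hc.eq]; group
    rw [e, ih, hconj', ← mul_assoc, sub_eq_add_neg, zpow_add₀ hlam, zpow_neg_one, mul_comm lam⁻¹]

/-- B6 -/
theorem card_le_of_x_h {F : Type*} [Field F] [Fintype F] {G : Type*} [Group G] (u h : G)
    (hgen : Subgroup.closure ({u, h} : Set G) = ⊤) (x : F → G) (hadd : ∀ s t, x (s + t) = x s * x t)
    (lam : F) (hlam : lam ≠ 0) (hconj : ∀ t, h * x t * h⁻¹ = x (lam * t)) (hx1 : x 1 = u)
    (N : ℕ) (hN0 : 0 < N) (hN : h ^ N = 1) : Finite G ∧ Nat.card G ≤ Fintype.card F * N := by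
  classical
  have hx0 := u3pb6_x_zero x hadd
  have hxneg := u3pb6_x_neg x hadd
  have hcz := u3pb6_conj_zpow h x lam hlam hconj
  -- the subgroup of all `x t * h^i`
  let S : Subgroup G :=
    { carrier := {g | ∃ (t : F) (i : ℤ), g = x t * h ^ i}
      one_mem' := ⟨0, 0, by simp [hx0]⟩
      mul_mem' := by
        rintro _ _ ⟨t, i, rfl⟩ ⟨t', j, rfl⟩
        refine ⟨t + lam ^ i * t', i + j, ?_⟩
        rw [hadd, ← hcz i t', zpow_add]; group
      inv_mem' := by
        rintro _ ⟨t, i, rfl⟩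
        refine ⟨lam ^ (-i) * (-t), -i, ?_⟩
        rw [← hcz (-i) (-t), hxneg, neg_neg]; group }
  have hS : S = ⊤ := by
    rw [eq_top_iff, ← hgen, Subgroup.closure_le]
    intro g hg
    rcases hg with hg | hg
    · exact ⟨1, 0, by rw [hg]; simp [hx1]⟩
    · rw [Set.mem_singleton_iff] at hg
      exact ⟨0, 1, by rw [hg]; simp [hx0]⟩
  have hall : ∀ g : G, ∃ (t : F) (i : ℤ), g = x t * h ^ i := by
    intro g
    have : g ∈ S := by rw [hS]; trivial
    exact this
  -- reduce the exponent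
  have hNz : (N : ℤ) ≠ 0 := by exact_mod_cast hN0.ne'
  have hred : ∀ k : ℤ, h ^ k = h ^ (k % (N : ℤ)).toNat := by
    intro k
    have h0 : 0 ≤ k % (N : ℤ) := Int.emod_nonneg k hNz
    have h1 : h ^ k = h ^ (k % (N : ℤ)) := by
      conv_lhs => rw [← Int.emod_add_mul_ediv k N]
      rw [zpow_add, zpow_mul, zpow_natCast, hN, one_zpow, mul_one]
    rw [h1]
    conv_lhs => rw [← Int.toNat_of_nonneg h0]
    rw [zpow_natCast]
  have hlt : ∀ k : ℤ, (k % (N : ℤ)).toNat < N := by
    intro k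
    have h0 : 0 ≤ k % (N : ℤ) := Int.emod_nonneg k hNz
    have h1 : k % (N : ℤ) < N := Int.emod_lt_of_pos k (by exact_mod_cast hN0)
    omega
  let f : F × Fin N → G := fun p => x p.1 * h ^ (p.2 : ℕ)
  have hf : Function.Surjective f := by
    intro g
    obtain ⟨t, i, rfl⟩ := hall g
    refine ⟨(t, ⟨(i % (N : ℤ)).toNat, hlt i⟩), ?_⟩
    show x t * h ^ (i % (N : ℤ)).toNat = x t * h ^ i
    rw [← hred]
  have hfin : Finite G := Finite.of_surjective f hf
  refine ⟨hfin, ?_⟩
  have := Nat.card_le_card_of_surjective f hf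
  have e : Nat.card (F × Fin N) = Fintype.card F * N := by
    rw [Nat.card_eq_fintype_card, Fintype.card_prod, Fintype.card_fin]
  rwa [e] at this

end Cfsg.Agent.Lib.Helper19.U3P
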