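import Mathlib
import Cfsg.Agent.Lib.Helper19.U3P.Defs
import Cfsg.Agent.Lib.Helper19.U3PB6
import Cfsg.Agent.Lib.helper8.SLPB5

/-!
# U3P row B7 (helper19): `card_ext_R` (generic), verbatim.
-/

set_option autoImplicit false

namespace Cfsg.Agent.Lib.Helper19.U3P

open Cfsg.Agent.Lib.helper17.SLP
open Polynomial

universe u v

/-- finiteness and cardinality of an extension. -/
theorem u3pb7_card_ext {G : Type*} [Group G] (Z : Subgroup G) [Z.Normal] [Finite Z] (M : ℕ)
    (hQ : Finite (G ⧸ Z) ∧ Nat.card (G ⧸ Z) ≤ M) : Finite G ∧ Nat.card G ≤ Nat.card Z * M := by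
  obtain ⟨hQf, hQc⟩ := hQ
  have hfin : Finite G := by
    have e := Subgroup.groupEquivQuotientProdSubgroup (s := Z)
    exact Finite.of_equiv _ e.symm
  refine ⟨hfin, ?_⟩
  rw [Subgroup.card_eq_card_quotient_mul_card_subgroup Z, mul_comm]
  exact Nat.mul_le_mul_left _ hQc

/-- the image of a generating pair generates the quotient. -/
theorem u3pb7_gen_quot {G : Type*} [Group G] (Z : Subgroup G) [Z.Normal] (u h : G)
    (hgen : Subgroup.closure ({u, h} : Set G) = ⊤) :
    Subgroup.closure ({(QuotientGroup.mk' Z) u, (QuotientGroup.mk' Z) h} : Set (G ⧸ Z)) = ⊤ := by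
  have h1 : Subgroup.map (QuotientGroup.mk' Z) (Subgroup.closure ({u, h} : Set G)) = ⊤ := by
    rw [hgen]
    exact Subgroup.map_top_of_surjective _ (QuotientGroup.mk'_surjective Z)
  rw [MonoidHom.map_closure, Set.image_pair] at h1
  exact h1

/-- B7 -/
theorem card_ext_R {F : Type*} [Field F] [Fintype F] (p : ℕ) [Fact p.Prime] [Algebra (ZMod p) F]
    {G : Type*} [Group G] (u h : G) (hgen : Subgroup.closure ({u, h} : Set G) = ⊤) (Z : Subgroup G)
    [Z.Normal] [Finite Z] (N : ℕ) (hN0 : 0 < N) (hN : h ^ N = 1) (k l : ℤ) (lam mu : F)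
    (hlam : lam ≠ 0) (hmu : mu = lam ^ l) (hk : lam ^ k = mu + 1) (fl : (ZMod p)[X])
    (hfl : aeval mu fl = lam) (hsurj : Function.Surjective (fun f : (ZMod p)[X] => aeval mu f))
    (a1 : u ^ p ∈ Z) (a2 : cm u (cj h u l) ∈ Z) (a3 : (cj h u l * u)⁻¹ * cj h u k ∈ Z)
    (a4 : pw p h u l (minpoly (ZMod p) mu) ∈ Z) (a5 : (pw p h u l fl)⁻¹ * cj h u 1 ∈ Z) :
    Finite G ∧ Nat.card G ≤ Nat.card Z * (Fintype.card F * N) := by
  classical
  set π : G →* G ⧸ Z := QuotientGroup.mk' Z with hπ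
  have hker : ∀ g : G, g ∈ Z → π g = 1 := by
    intro g hg
    exact (QuotientGroup.eq_one_iff g).mpr hg
  have b1 : (π u) ^ p = 1 := by rw [← map_pow]; exact hker _ a1
  have b2 : Commute (π u) (cj (π h) (π u) l) := by
    rw [← cm_eq_one_iff, ← map_cj, ← map_cm]; exact hker _ a2
  have b3 : cj (π h) (π u) k = cj (π h) (π u) l * π u := by
    have := hker _ a3
    rw [map_mul, map_inv, map_mul, map_cj, map_cj] at this
    exact (inv_mul_eq_one.mp this).symm
  have b4 : pw p (π h) (π u) l (minpoly (ZMod p) mu) = 1 := by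
    rw [← map_pw]; exact hker _ a4
  have b5 : cj (π h) (π u) 1 = pw p (π h) (π u) l fl := by
    have := hker _ a5
    rw [map_mul, map_inv, map_pw, map_cj] at this
    exact (inv_mul_eq_one.mp this).symm
  obtain ⟨x, hadd, hconj, hx1, -⟩ := exists_x_R p (π u) (π h) k l lam mu hlam hmu hk fl hfl hsurj
    b1 b2 b3 b4 b5
  have hgenQ := u3pb7_gen_quot Z u h hgen
  have hNQ : (π h) ^ N = 1 := by rw [← map_pow, hN, map_one]
  have hQ := card_le_of_x_h (π u) (π h) hgenQ x hadd lam hlam hconj hx1 N hN0 hNQ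
  exact u3pb7_card_ext Z _ hQ

end Cfsg.Agent.Lib.Helper19.U3P
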