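import Mathlib
import Cfsg.Agent.Lib.Helper19.U3P.Defs
import Cfsg.Agent.Lib.Helper19.U3PB7
import Cfsg.Agent.Lib.helper2.SLPM1
import Cfsg.Agent.Lib.Helper28.SP4R1

/-!
# U3P row B10 (helper19): `card_B_generic`, core on the statements of B2, B3, B4.
-/

set_option autoImplicit false

namespace Cfsg.Agent.Lib.Helper19.U3P

open Cfsg.Agent.Lib.helper17.SLP Cfsg.Agent.Lib.helper3.SP4
open Polynomial

universe u v

/-- the pair `u', h'` of elements of `↥(closure {u, h})` generates it. -/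
theorem u3pb10_gen_sub {G : Type*} [Group G] (u h : G) (hu : u ∈ Subgroup.closure ({u, h} : Set G))
    (hh : h ∈ Subgroup.closure ({u, h} : Set G)) :
    Subgroup.closure ({(⟨u, hu⟩ : ↥(Subgroup.closure ({u, h} : Set G))), ⟨h, hh⟩} :
      Set ↥(Subgroup.closure ({u, h} : Set G))) = ⊤ := by
  have := Subgroup.closure_closure_coe_preimage (k := ({u, h} : Set G))
  rw [← this]
  congr 1
  ext x
  simp only [Set.mem_insert_iff, Set.mem_singleton_iff, Set.mem_preimage]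
  constructor
  · rintro (rfl | rfl)
    · left; rfl
    · right; rfl
  · rintro (hx | hx)
    · left; exact Subtype.ext hx
    · right; exact Subtype.ext hx

/-- `card_ext_R` for a subgroup `Z` of `closure {u, h}` normalised by `u`, `h`. -/
theorem u3pb10_ext_R {F : Type*} [Field F] [Fintype F] (p : ℕ) [Fact p.Prime] [Algebra (ZMod p) F]
    {G : Type*} [Group G] (u h : G) (Z : Subgroup G) [Finite Z]
    (hZle : Z ≤ Subgroup.closure ({u, h} : Set G))
    (hZu : ∀ z ∈ Z, u * z * u⁻¹ ∈ Z) (hZu' : ∀ z ∈ Z, u⁻¹ * z * u ∈ Z)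
    (hZh : ∀ z ∈ Z, h * z * h⁻¹ ∈ Z) (hZh' : ∀ z ∈ Z, h⁻¹ * z * h ∈ Z)
    (N : ℕ) (hN0 : 0 < N) (hN : h ^ N = 1) (k l : ℤ) (lam mu : F)
    (hlam : lam ≠ 0) (hmu : mu = lam ^ l) (hk : lam ^ k = mu + 1) (fl : (ZMod p)[X])
    (hfl : aeval mu fl = lam) (hsurj : Function.Surjective (fun f : (ZMod p)[X] => aeval mu f))
    (a1 : u ^ p ∈ Z) (a2 : cm u (cj h u l) ∈ Z) (a3 : (cj h u l * u)⁻¹ * cj h u k ∈ Z)
    (a4 : pw p h u l (minpoly (ZMod p) mu) ∈ Z) (a5 : (pw p h u l fl)⁻¹ * cj h u 1 ∈ Z) :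
    Finite ↥(Subgroup.closure ({u, h} : Set G)) ∧
      Nat.card ↥(Subgroup.closure ({u, h} : Set G)) ≤ Nat.card Z * (Fintype.card F * N) := by
  classical
  set B : Subgroup G := Subgroup.closure ({u, h} : Set G) with hBdef
  have hu : u ∈ B := Subgroup.subset_closure (by simp)
  have hh : h ∈ B := Subgroup.subset_closure (by simp)
  -- `B` normalises `Z`
  have hnorm : B ≤ Subgroup.normalizer (Z : Set G) := by
    rw [hBdef, Subgroup.closure_le]
    intro g hg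
    rcases hg with rfl | hg
    · rw [SetLike.mem_coe, Subgroup.mem_normalizer_iff]
      intro n
      constructor
      · exact hZu n
      · intro hn
        have := hZu' _ hn
        have e : g⁻¹ * (g * n * g⁻¹) * g = n := by group
        rwa [e] at this
    · rw [Set.mem_singleton_iff] at hg
      rw [hg, SetLike.mem_coe, Subgroup.mem_normalizer_iff]
      intro n
      constructor
      · exact hZh n
      · intro hn
        have := hZh' _ hn
        have e : h⁻¹ * (h * n * h⁻¹) * h = n := by group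
        rwa [e] at this
  have hN' : (Z.subgroupOf B).Normal := (Subgroup.normal_subgroupOf_iff_le_normalizer hZle).mpr hnorm
  have eZ : ↥(Z.subgroupOf B) ≃* ↥Z := Subgroup.subgroupOfEquivOfLe hZle
  have : Finite ↥(Z.subgroupOf B) := Finite.of_equiv _ eZ.symm.toEquiv
  have hcardZ : Nat.card ↥(Z.subgroupOf B) = Nat.card Z := Nat.card_congr eZ.toEquiv
  set u' : ↥B := ⟨u, hu⟩ with hu'
  set h' : ↥B := ⟨h, hh⟩ with hh'
  have hgen' : Subgroup.closure ({u', h'} : Set ↥B) = ⊤ := u3pb10_gen_sub u h hu hh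
  have hmem : ∀ x : ↥B, (B.subtype x) ∈ Z → x ∈ Z.subgroupOf B := by
    intro x hx
    exact Subgroup.mem_subgroupOf.mpr hx
  have hsu : B.subtype u' = u := rfl
  have hsh : B.subtype h' = h := rfl
  have hN'' : h' ^ N = 1 := by
    apply Subtype.ext
    show (B.subtype (h' ^ N)) = 1
    rw [map_pow, hsh, hN]
  have c1 : u' ^ p ∈ Z.subgroupOf B := by
    apply hmem; rw [map_pow, hsu]; exact a1
  have c2 : cm u' (cj h' u' l) ∈ Z.subgroupOf B := by
    apply hmem; rw [map_cm, map_cj, hsu, hsh]; exact a2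
  have c3 : (cj h' u' l * u')⁻¹ * cj h' u' k ∈ Z.subgroupOf B := by
    apply hmem; rw [map_mul, map_inv, map_mul, map_cj, map_cj, hsu, hsh]; exact a3
  have c4 : pw p h' u' l (minpoly (ZMod p) mu) ∈ Z.subgroupOf B := by
    apply hmem; rw [map_pw, hsu, hsh]; exact a4
  have c5 : (pw p h' u' l fl)⁻¹ * cj h' u' 1 ∈ Z.subgroupOf B := by
    apply hmem; rw [map_mul, map_inv, map_pw, map_cj, hsu, hsh]; exact a5
  have := card_ext_R p u' h' hgen' (Z.subgroupOf B) N hN0 hN'' k l lam mu hlam hmu hk fl hfl hsurj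
    c1 c2 c3 c4 c5
  rw [hcardZ] at this
  exact this

section core

variable {K : Type u} [Field K] [Fintype K] {F : Type u} [Field F] [Fintype F] {G : Type v} [Group G]

/-- the long root group `Ẑ = {φ (xM t)}` as a subgroup. -/
def u3pb10_Z (φ : SL2 K →* G) : Subgroup G where
  carrier := {g | ∃ t : K, g = φ (xM t)}
  one_mem' := ⟨0, by rw [xM_zero, map_one]⟩
  mul_mem' := by
    rintro _ _ ⟨s, rfl⟩ ⟨t, rfl⟩
    exact ⟨s + t, by rw [← map_mul, xM_mul]⟩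
  inv_mem' := by
    rintro _ ⟨t, rfl⟩
    exact ⟨-t, by rw [xM_neg, map_inv]⟩

theorem u3pb10_Z_card (φ : SL2 K →* G) :
    Finite ↥(u3pb10_Z φ) ∧ Nat.card ↥(u3pb10_Z φ) ≤ Fintype.card K := by
  let f : K → ↥(u3pb10_Z φ) := fun t => ⟨φ (xM t), t, rfl⟩
  have hf : Function.Surjective f := by
    rintro ⟨g, t, rfl⟩
    exact ⟨t, rfl⟩
  have hfin : Finite ↥(u3pb10_Z φ) := Finite.of_surjective f hf
  refine ⟨hfin, ?_⟩
  have := Nat.card_le_card_of_surjective f hf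
  have e : Nat.card K = Fintype.card K := Nat.card_eq_fintype_card
  rwa [e] at this

/-- B10 core: the statements of B2 (items (1), (4)), B3, B4 as hypotheses `P1 P4 hZB hZc`. -/
theorem u3pb10_core (p : ℕ) [Fact p.Prime] [Algebra (ZMod p) F] (q : ℕ) (hq : 2 ≤ q)
    (hK : Fintype.card K = q) (hF : Fintype.card F = q ^ 2) (bK : Kˣ)
    (φ : SL2 K →* G) (u h w : G) (R : RelM q bK φ u h w)
    (C : ConstsB K p) (hB : RelB p q φ u h C) (al ν : F) (hal : al ≠ 0)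
    (hν : ν = al ^ ((q : ℤ) - 1)) (hk : al ^ C.k = ν + 1) (hfl : aeval ν C.fl = al)
    (hmν : C.mν = minpoly (ZMod p) ν)
    (hsurj : Function.Surjective (fun f : (ZMod p)[X] => aeval ν f))
    (P1 : ∀ (t : K) (i : ℤ), cj h (φ (xM t)) i = φ (xM (((bK ^ i : Kˣ) : K) * t)))
    (P4 : h ^ ((q + 1) * (q - 1)) = 1)
    (hZB : ∀ t : K, φ (xM t) ∈ Subgroup.closure ({u, h} : Set G))
    (hZc : ∀ (t : K) (j : ℤ), Commute (φ (xM t)) (cj h u j)) :
    Finite ↥(Subgroup.closure ({u, h} : Set G)) ∧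
      Nat.card ↥(Subgroup.closure ({u, h} : Set G)) ≤ q ^ 3 * (q ^ 2 - 1) := by
  classical
  set Z := u3pb10_Z φ with hZ
  obtain ⟨hZfin, hZcard⟩ := u3pb10_Z_card φ
  have := hZfin
  have hZle : Z ≤ Subgroup.closure ({u, h} : Set G) := by
    rintro _ ⟨t, rfl⟩
    exact hZB t
  have hcomm : ∀ t : K, Commute (φ (xM t)) u := by
    intro t
    have := hZc t 0
    rwa [cj_zero] at this
  have hZu : ∀ z ∈ Z, u * z * u⁻¹ ∈ Z := by
    rintro _ ⟨t, rfl⟩
    refine ⟨t, ?_⟩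
    rw [← (hcomm t).eq]; group
  have hZu' : ∀ z ∈ Z, u⁻¹ * z * u ∈ Z := by
    rintro _ ⟨t, rfl⟩
    refine ⟨t, ?_⟩
    rw [mul_assoc, (hcomm t).eq]; group
  have hZh : ∀ z ∈ Z, h * z * h⁻¹ ∈ Z := by
    rintro _ ⟨t, rfl⟩
    have := P1 t 1
    rw [cj_one] at this
    exact ⟨_, this⟩
  have hZh' : ∀ z ∈ Z, h⁻¹ * z * h ∈ Z := by
    rintro _ ⟨t, rfl⟩
    have := P1 t (-1)
    unfold cj at this
    rw [zpow_neg, zpow_one, neg_neg, zpow_one] at this
    exact ⟨_, this⟩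
  have hN0 : 0 < (q + 1) * (q - 1) := Nat.mul_pos (by omega) (by omega)
  have a1 : u ^ p ∈ Z := ⟨C.t4, hB.b4⟩
  have a2 : cm u (cj h u ((q : ℤ) - 1)) ∈ Z := ⟨1, by rw [R.phi_x]; rfl⟩
  have a3 : (cj h u ((q : ℤ) - 1) * u)⁻¹ * cj h u C.k ∈ Z := by
    refine ⟨C.t6, ?_⟩
    rw [hB.b6]; group
  have a4 : pw p h u ((q : ℤ) - 1) (minpoly (ZMod p) ν) ∈ Z := by
    refine ⟨C.t8, ?_⟩
    rw [← hmν, hB.b8]
  have a5 : (pw p h u ((q : ℤ) - 1) C.fl)⁻¹ * cj h u 1 ∈ Z := by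
    refine ⟨C.t7, ?_⟩
    rw [hB.b7]; group
  have key := u3pb10_ext_R p u h Z hZle hZu hZu' hZh hZh' ((q + 1) * (q - 1)) hN0 P4 C.k
    ((q : ℤ) - 1) al ν hal hν hk C.fl hfl hsurj a1 a2 a3 a4 a5
  refine ⟨key.1, key.2.trans ?_⟩
  rw [hF]
  have e : (q + 1) * (q - 1) = q ^ 2 - 1 := by
    obtain ⟨m, rfl⟩ : ∃ m, q = m + 1 := ⟨q - 1, by omega⟩
    simp only [Nat.add_sub_cancel]
    have : (m + 1) ^ 2 = (m + 1 + 1) * m + 1 := by ring
    rw [this, Nat.add_sub_cancel]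
  rw [e]
  calc Nat.card ↥Z * (q ^ 2 * (q ^ 2 - 1)) ≤ q * (q ^ 2 * (q ^ 2 - 1)) :=
        Nat.mul_le_mul_right _ (hK ▸ hZcard)
    _ = q ^ 3 * (q ^ 2 - 1) := by ring

end core

end Cfsg.Agent.Lib.Helper19.U3P
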