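import Mathlib
import Cfsg.Agent.Lib.Helper19.U3P.Defs
import Cfsg.Agent.Lib.helper2.SLPM1

/-!
# U3P row B4 (helper19): `Z_central` (the K-trick), core on the statement of B2.
-/

set_option autoImplicit false

namespace Cfsg.Agent.Lib.Helper19.U3P

open Cfsg.Agent.Lib.helper17.SLP
open Polynomial

universe u v

section

variable {G : Type v} [Group G]

theorem u3pb4_cj_mul (h a b : G) (i : ℤ) : cj h (a * b) i = cj h a i * cj h b i := by
  simp only [cj]; group

theorem u3pb4_cj_pow (h a : G) (i : ℤ) (n : ℕ) : cj h (a ^ n) i = cj h a i ^ n := cj_pow h a i n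

theorem u3pb4_cj_succ (h a : G) (i : ℤ) : cj h a (i + 1) = h * cj h a i * h⁻¹ := by
  have := conj_cj h a i 1
  rw [zpow_one, zpow_neg, zpow_one] at this
  rw [this, add_comm]

theorem u3pb4_cj_pred (h a : G) (i : ℤ) : cj h a (i - 1) = h⁻¹ * cj h a i * h := by
  have := conj_cj h a i (-1)
  rw [zpow_neg, zpow_one, neg_neg, zpow_one] at this
  rw [this]; congr 1; ring

/-- conjugating a commuting pair. -/
theorem u3pb4_commute_cj (h a b : G) (i : ℤ) (hab : Commute a b) : Commute (cj h a i) (cj h b i) := by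
  unfold Commute SemiconjBy
  rw [← u3pb4_cj_mul, ← u3pb4_cj_mul, hab.eq]

/-- the word `pw` lies in any subgroup containing the conjugates. -/
theorem u3pb4_pw_mem (p : ℕ) (h u : G) (l : ℤ) (f : (ZMod p)[X]) (V : Subgroup G)
    (hV : ∀ j : ℤ, cj h u j ∈ V) : pw p h u l f ∈ V := by
  unfold pw
  apply Subgroup.list_prod_mem
  intro x hx
  rw [List.mem_map] at hx
  obtain ⟨j, -, rfl⟩ := hx
  exact V.pow_mem (hV _) _

end

section core

variable {K : Type u} [Field K] {G : Type v} [Group G]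

/-- B4 core: the statement of B2 (items (1) and (5)) as hypotheses. -/
theorem u3pb4_core (p q : ℕ) (hq : 2 ≤ q) (bK : Kˣ) (hbK : ∀ y : Kˣ, y ∈ Subgroup.zpowers bK)
    (φ : SL2 K →* G) (u h : G)
    (H1 : ∀ (t : K) (i : ℤ), cj h (φ (xM t)) i = φ (xM (((bK ^ i : Kˣ) : K) * t)))
    (H5 : ∀ t : K, Commute (h ^ (q - 1)) (φ (xM t)))
    (C : ConstsB K p) (hB : RelB p q φ u h C) :
    ∀ (t : K) (j : ℤ), Commute (φ (xM t)) (cj h u j) := by
  classical
  set h1 : G := h ^ (q - 1) with hh1
  have hh1z : h ^ ((q : ℤ) - 1) = h1 := by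
    rw [hh1, ← zpow_natCast]
    congr 1
    omega
  set z : G := φ (xM 1) with hz
  -- `Z` commutes elementwise
  have hZZ : ∀ s t : K, Commute (φ (xM s)) (φ (xM t)) := by
    intro s t
    unfold Commute SemiconjBy
    rw [← map_mul, ← map_mul, xM_mul, xM_mul, add_comm]
  -- `h1` and `h` commute
  have hhh1 : Commute h h1 := by
    rw [hh1]; exact (Commute.refl h).pow_right _
  -- the subgroup `V`
  set V : Subgroup G := Subgroup.closure ({g | ∃ i : ℤ, g = cj h1 u i} ∪ Set.range (fun t : K => φ (xM t)))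
    with hV
  have hgenV : ∀ i : ℤ, cj h1 u i ∈ V := fun i => Subgroup.subset_closure (Or.inl ⟨i, rfl⟩)
  have hZV : ∀ t : K, φ (xM t) ∈ V := fun t => Subgroup.subset_closure (Or.inr ⟨t, rfl⟩)
  -- `z` commutes with `V`
  have hzu : ∀ i : ℤ, Commute z (cj h1 u i) := by
    intro i
    have h5 : Commute h1 z := H5 1
    have h5' : cj h1 z i = z := by
      have : Commute (h1 ^ i) z := h5.zpow_left i
      unfold cj
      rw [this.eq, mul_assoc, ← zpow_add, add_neg_cancel, zpow_zero, mul_one]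
    have := u3pb4_commute_cj h1 z u i hB.b1
    rwa [h5'] at this
  have hzV : ∀ v ∈ V, Commute z v := by
    have hle : V ≤ Subgroup.centralizer {z} := by
      rw [hV, Subgroup.closure_le]
      rintro g (⟨i, rfl⟩ | ⟨t, rfl⟩)
      · rw [SetLike.mem_coe, Subgroup.mem_centralizer_iff]
        intro y hy
        rw [Set.mem_singleton_iff] at hy
        rw [hy]
        exact (hzu i).eq
      · rw [SetLike.mem_coe, Subgroup.mem_centralizer_iff]
        intro y hy
        rw [Set.mem_singleton_iff] at hy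
        rw [hy]
        exact (hZZ 1 t).eq
    intro v hv
    have := hle hv
    rw [Subgroup.mem_centralizer_iff] at this
    exact this z rfl
  -- conjugation by `h1^i` preserves `V`
  have hh1Z : ∀ (t : K) (i : ℤ), cj h1 (φ (xM t)) i = φ (xM t) := by
    intro t i
    have : Commute (h1 ^ i) (φ (xM t)) := (H5 t).zpow_left i
    unfold cj
    rw [this.eq, mul_assoc, ← zpow_add, add_neg_cancel, zpow_zero, mul_one]
  have hh1V : ∀ (i : ℤ), ∀ v ∈ V, cj h1 v i ∈ V := by
    intro i v hv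
    have hmap : V.map (MulAut.conj (h1 ^ i)).toMonoidHom ≤ V := by
      rw [hV, MonoidHom.map_closure, Subgroup.closure_le]
      rintro _ ⟨y, hy, rfl⟩
      show h1 ^ i * y * (h1 ^ i)⁻¹ ∈ V
      rw [← zpow_neg]
      rcases hy with ⟨j, rfl⟩ | ⟨t, rfl⟩
      · have := conj_cj h1 u j i
        rw [this]
        exact hgenV _
      · have := hh1Z t i
        unfold cj at this
        rw [this]
        exact hZV t
    have := hmap ⟨v, hv, rfl⟩
    have e : (MulAut.conj (h1 ^ i)).toMonoidHom v = cj h1 v i := by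
      show h1 ^ i * v * (h1 ^ i)⁻¹ = _
      rw [← zpow_neg]; rfl
    rwa [e] at this
  -- conjugation by `h` maps `V` into `V`
  have hcj1 : cj h u 1 = pw p h1 u 1 C.fl * φ (xM C.t7) := by
    rw [hB.b7, ← hh1z, pw_zpow]
  have hhV : ∀ v ∈ V, h * v * h⁻¹ ∈ V := by
    intro v hv
    have hmap : V.map (MulAut.conj h).toMonoidHom ≤ V := by
      rw [hV, MonoidHom.map_closure, Subgroup.closure_le]
      rintro _ ⟨y, hy, rfl⟩
      show h * y * h⁻¹ ∈ V
      rcases hy with ⟨i, rfl⟩ | ⟨t, rfl⟩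
      · -- `h (cj h1 u i) h⁻¹ = cj h1 (cj h u 1) i`
        have e1 : h * cj h1 u i * h⁻¹ = cj h1 (cj h u 1) i := by
          have hc : Commute h (h1 ^ i) := hhh1.zpow_right i
          simp only [cj, zpow_one, zpow_neg]
          calc h * (h1 ^ i * u * (h1 ^ i)⁻¹) * h⁻¹
              = (h * h1 ^ i) * u * (h * h1 ^ i)⁻¹ := by group
            _ = (h1 ^ i * h) * u * (h1 ^ i * h)⁻¹ := by rw [hc.eq]
            _ = h1 ^ i * (h * u * h⁻¹) * (h1 ^ i)⁻¹ := by group
        rw [e1, hcj1, u3pb4_cj_mul, hh1Z]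
        apply V.mul_mem _ (hZV _)
        apply hh1V
        exact u3pb4_pw_mem p h1 u 1 C.fl V hgenV
      · have := H1 t 1
        rw [cj_one] at this
        rw [this]
        exact hZV _
    exact hmap ⟨v, hv, rfl⟩
  have hhVpow : ∀ (n : ℕ), ∀ v ∈ V, h ^ n * v * (h ^ n)⁻¹ ∈ V := by
    intro n
    induction n with
    | zero => intro v hv; simpa using hv
    | succ n ih =>
      intro v hv
      have := hhV _ (ih v hv)
      have e : h ^ (n + 1) * v * (h ^ (n + 1))⁻¹ = h * (h ^ n * v * (h ^ n)⁻¹) * h⁻¹ := by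
        rw [pow_succ']; group
      rw [e]; exact this
  have hhV' : ∀ v ∈ V, h⁻¹ * v * h ∈ V := by
    intro v hv
    -- `h⁻¹ = h^(q-2) * h1⁻¹`
    have hv1 : cj h1 v (-1) ∈ V := hh1V (-1) v hv
    have := hhVpow (q - 2) _ hv1
    have e : h ^ (q - 2) * cj h1 v (-1) * (h ^ (q - 2))⁻¹ = h⁻¹ * v * h := by
      unfold cj
      rw [zpow_neg, zpow_one, neg_neg, zpow_one, hh1]
      have e1 : h ^ (q - 2) * (h ^ (q - 1))⁻¹ = h⁻¹ := by
        have : q - 1 = (q - 2) + 1 := by omega
        rw [this, pow_succ]; group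
      have e2 : h ^ (q - 1) * (h ^ (q - 2))⁻¹ = h := by
        have : q - 1 = (q - 2) + 1 := by omega
        rw [this, pow_succ']; group
      calc h ^ (q - 2) * ((h ^ (q - 1))⁻¹ * v * h ^ (q - 1)) * (h ^ (q - 2))⁻¹
          = (h ^ (q - 2) * (h ^ (q - 1))⁻¹) * v * (h ^ (q - 1) * (h ^ (q - 2))⁻¹) := by group
        _ = h⁻¹ * v * h := by rw [e1, e2]
    rwa [e] at this
  -- all `cj h u j` lie in `V`
  have huV : u ∈ V := by
    have := hgenV 0
    rwa [cj_zero] at this
  have hallV : ∀ j : ℤ, cj h u j ∈ V := by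
    intro j
    induction j using Int.induction_on with
    | zero => rw [cj_zero]; exact huV
    | succ i ih => rw [u3pb4_cj_succ]; exact hhV _ ih
    | pred i ih => rw [u3pb4_cj_pred]; exact hhV' _ ih
  have hzall : ∀ j : ℤ, Commute z (cj h u j) := fun j => hzV _ (hallV j)
  -- general `t`
  intro t j
  by_cases ht : t = 0
  · rw [ht, xM_zero, map_one]
    exact Commute.one_left _
  · obtain ⟨i, hi⟩ := Subgroup.mem_zpowers_iff.mp (hbK (Units.mk0 t ht))
    have ht' : t = ((bK ^ i : Kˣ) : K) * 1 := by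
      rw [mul_one, hi]; rfl
    have e1 : φ (xM t) = cj h z i := by
      rw [hz, H1 1 i, ← ht']
    have e2 : cj h u j = cj h (cj h u (j - i)) i := by
      show cj h u j = h ^ i * cj h u (j - i) * h ^ (-i)
      rw [conj_cj h u (j - i) i]
      congr 1
      ring
    rw [e1, e2]
    exact u3pb4_commute_cj h z _ i (hzall (j - i))

end core

end Cfsg.Agent.Lib.Helper19.U3P
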