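import Mathlib
import Cfsg.Agent.Lib.Helper19.U3P.Defs
import Cfsg.Agent.Lib.Helper22.U3PB1
import Cfsg.Agent.Lib.Helper19.U3PB2
import Cfsg.Agent.Lib.Helper19.U3PB4
import Cfsg.Agent.Lib.Helper19.U3PB10

/-!
# U3P rows B2 B3 B4 B10 (helper19), verbatim.
-/

set_option autoImplicit false

namespace Cfsg.Agent.Lib.Helper19.U3P

open Cfsg.Agent.Lib.helper17.SLP
open Polynomial

universe u v

section B

variable {K : Type u} [Field K] [Fintype K] {G : Type v} [Group G]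

/-- B2 -/
theorem relM_basic (q : ℕ) (hq : 2 ≤ q) (hK : Fintype.card K = q) (bK : Kˣ)
    (hbK : ∀ y : Kˣ, y ∈ Subgroup.zpowers bK) (φ : SL2 K →* G) (u h w : G) (R : RelM q bK φ u h w) :
    (∀ (t : K) (i : ℤ), cj h (φ (xM t)) i = φ (xM (((bK ^ i : Kˣ) : K) * t))) ∧
    (∀ g, ∃ g', h * φ g * h⁻¹ = φ g') ∧ (∀ g, ∃ g', h⁻¹ * φ g * h = φ g') ∧
    h ^ ((q + 1) * (q - 1)) = 1 ∧
    (∀ t : K, Commute (h ^ (q - 1)) (φ (xM t))) ∧
    w ^ 2 ∈ Subgroup.zpowers h ∧ (∀ s : Kˣ, φ (hM s) ∈ Subgroup.zpowers h) ∧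
    ∀ i : ℤ, w⁻¹ * h ^ i * w = h ^ (-(q : ℤ) * i) := by
  obtain ⟨h1, h2, h3⟩ := u3pb2_hyps q bK φ u h w R
  obtain ⟨hc1, hc2⟩ := conj_phi bK hbK φ h h1 h2 h3
  exact u3pb2_core q hq hK bK hbK φ u h w R hc1 hc2

/-- B3 -/
theorem Z_le_B (q : ℕ) (hq : 2 ≤ q) (hK : Fintype.card K = q) (bK : Kˣ)
    (hbK : ∀ y : Kˣ, y ∈ Subgroup.zpowers bK) (φ : SL2 K →* G) (u h w : G) (R : RelM q bK φ u h w) :
    ∀ t : K, φ (xM t) ∈ Subgroup.closure ({u, h} : Set G) :=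
  u3pb3_core q bK hbK φ u h w R (relM_basic q hq hK bK hbK φ u h w R).1

/-- B4 -/
theorem Z_central (p q : ℕ) (hq : 2 ≤ q) (hK : Fintype.card K = q) (bK : Kˣ)
    (hbK : ∀ y : Kˣ, y ∈ Subgroup.zpowers bK) (φ : SL2 K →* G) (u h w : G) (R : RelM q bK φ u h w)
    (C : ConstsB K p) (hB : RelB p q φ u h C) :
    ∀ (t : K) (j : ℤ), Commute (φ (xM t)) (cj h u j) := by
  obtain ⟨H1, -, -, -, H5, -, -, -⟩ := relM_basic q hq hK bK hbK φ u h w R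
  exact u3pb4_core p q hq bK hbK φ u h H1 H5 C hB

end B

section B2

variable {K : Type u} [Field K] [Fintype K] {F : Type u} [Field F] [Fintype F] {G : Type v} [Group G]

/-- B10 -/
theorem card_B_generic (p : ℕ) [Fact p.Prime] [Algebra (ZMod p) F] (q : ℕ) (hq : 2 ≤ q)
    (hK : Fintype.card K = q) (hF : Fintype.card F = q ^ 2) (bK : Kˣ)
    (hbK : ∀ y : Kˣ, y ∈ Subgroup.zpowers bK) (φ : SL2 K →* G) (u h w : G) (R : RelM q bK φ u h w)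
    (C : ConstsB K p) (hB : RelB p q φ u h C) (al ν : F) (hal : al ≠ 0)
    (hν : ν = al ^ ((q : ℤ) - 1)) (hk : al ^ C.k = ν + 1) (hfl : aeval ν C.fl = al)
    (hmν : C.mν = minpoly (ZMod p) ν)
    (hsurj : Function.Surjective (fun f : (ZMod p)[X] => aeval ν f)) :
    Finite ↥(Subgroup.closure ({u, h} : Set G)) ∧
      Nat.card ↥(Subgroup.closure ({u, h} : Set G)) ≤ q ^ 3 * (q ^ 2 - 1) := by
  obtain ⟨P1, -, -, P4, -, -, -, -⟩ := relM_basic q hq hK bK hbK φ u h w R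
  exact u3pb10_core p q hq hK hF bK φ u h w R C hB al ν hal hν hk hfl hmν hsurj P1 P4
    (Z_le_B q hq hK bK hbK φ u h w R) (Z_central p q hq hK bK hbK φ u h w R C hB)

end B2

end Cfsg.Agent.Lib.Helper19.U3P
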