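import Mathlib
import Cfsg.Agent.Lib.Helper19.U3PMainCore
import Cfsg.Agent.Lib.Helper25.U3PFIN4
import Cfsg.Agent.Lib.Helper25.U3PFIN6
import Cfsg.Agent.Lib.Helper18.U3PFIN5core

/-!
# U3P MAIN (helper19): S2289.  `SU₃(q)` (`q ∉ {2, 3, 5}`) has a presentation with 3 generators and at most
23 relations, `PSU₃(q)` one with 3 generators and at most 24 relations.
-/

set_option autoImplicit false

namespace Cfsg.Agent.Lib.Helper19.U3P

/-- MAIN = S2289 -/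
theorem su3_s2289 {F : Type*} [Field F] [Fintype F] (q : ℕ) (hF : Fintype.card F = q ^ 2) (h2 : q ≠ 2) (h3 : q ≠ 3) (h5 : q ≠ 5) :
    (∃ rels : Finset (FreeGroup (Fin 3)), rels.card ≤ 23 ∧ Nonempty (PresentedGroup (↑rels : Set (FreeGroup (Fin 3))) ≃* ↥(Cfsg.SU 3 F q))) ∧ (∃ rels : Finset (FreeGroup (Fin 3)), rels.card ≤ 24 ∧ Nonempty (PresentedGroup (↑rels : Set (FreeGroup (Fin 3))) ≃* Cfsg.PSU 3 F q)) :=
  u3pmain_core q hF h2 h3 h5 (fun hq h5 => u3pfin5_core (su3_list hF hq h5))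
    (fun hq h5 => psu3_pres hF hq h5)

end Cfsg.Agent.Lib.Helper19.U3P
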