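import Mathlib
import Cfsg.Prelude.Def_GeometricClasses
import Cfsg.Agent.Lib.Helper27.ASC.Defs
import Cfsg.Agent.Lib.Helper19.ASG.Defs
import Cfsg.Agent.Lib.Helper9.ASGD2T.Defs

/-! Project ASG, block D2T, piece THETA: pairwise commuting unital copies of `M_m(F)` in `M_n(F)` assemble to one algebra
homomorphism from `M_(Fin t → Fin m)(F)`. -/

set_option autoImplicit false
set_option linter.unusedVariables false
set_option linter.unusedSectionVars false

namespace Cfsg.Agent.Lib.Helper19.ASG

open Cfsg Cfsg.Geo Cfsg.Agent.Lib.Helper27.ASC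
open scoped MatrixGroups Matrix

variable {n : ℕ} {F : Type*} [Field F]

section

variable {m t : ℕ} (θ : Fin t → (Matrix (Fin m) (Fin m) F →ₐ[F] Matrix (Fin n) (Fin n) F))
    (hcomm : ∀ i j, i ≠ j → ∀ a b, θ i a * θ j b = θ j b * θ i a)

include hcomm in
theorem asgd2ttheta_pairwise :
    Pairwise fun i j : Fin t => ∀ x y : Matrix (Fin m) (Fin m) F,
      Commute (((θ i : Matrix (Fin m) (Fin m) F →ₐ[F] Matrix (Fin n) (Fin n) F) :
        Matrix (Fin m) (Fin m) F →* Matrix (Fin n) (Fin n) F) x)
      (((θ j : Matrix (Fin m) (Fin m) F →ₐ[F] Matrix (Fin n) (Fin n) F) :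
        Matrix (Fin m) (Fin m) F →* Matrix (Fin n) (Fin n) F) y) := by
  intro i j hij a b
  exact hcomm i j hij a b

/-- the product of the `θ i (c i)` -/
noncomputable def asgd2tthetaPhi : (Fin t → Matrix (Fin m) (Fin m) F) →* Matrix (Fin n) (Fin n) F :=
  MonoidHom.noncommPiCoprod (fun i => ((θ i : Matrix (Fin m) (Fin m) F →ₐ[F] Matrix (Fin n) (Fin n) F) :
    Matrix (Fin m) (Fin m) F →* Matrix (Fin n) (Fin n) F)) (asgd2ttheta_pairwise θ hcomm)

theorem asgd2ttheta_mulSingle (i : Fin t) (a : Matrix (Fin m) (Fin m) F) :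
    asgd2tthetaPhi θ hcomm (Pi.mulSingle i a) = θ i a := by
  unfold asgd2tthetaPhi
  exact MonoidHom.noncommPiCoprod_mulSingle (N := fun _ : Fin t => Matrix (Fin m) (Fin m) F)
    (fun i => ((θ i : Matrix (Fin m) (Fin m) F →ₐ[F] Matrix (Fin n) (Fin n) F) :
    Matrix (Fin m) (Fin m) F →* Matrix (Fin n) (Fin n) F)) i a

theorem asgd2ttheta_update (c : Fin t → Matrix (Fin m) (Fin m) F) (i : Fin t)
    (a : Matrix (Fin m) (Fin m) F) :
    asgd2tthetaPhi θ hcomm (Function.update c i a) =
      θ i a * asgd2tthetaPhi θ hcomm (Function.update c i 1) := by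
  have e : Function.update c i a = Pi.mulSingle i a * Function.update c i 1 := by
    funext j
    by_cases hj : j = i
    · subst hj
      simp
    · simp [Function.update_of_ne hj, Pi.mulSingle_eq_of_ne hj]
  rw [e, map_mul, asgd2ttheta_mulSingle]

/-- the product map as a multilinear map -/
noncomputable def asgd2tthetaPsi :
    MultilinearMap F (fun _ : Fin t => Matrix (Fin m) (Fin m) F) (Matrix (Fin n) (Fin n) F) where
  toFun := asgd2tthetaPhi θ hcomm
  map_update_add' := by
    intro _ c i a b
    have e : (‹DecidableEq (Fin t)› : DecidableEq (Fin t)) = instDecidableEqFin t := Subsingleton.elim _ _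
    subst e
    rw [asgd2ttheta_update θ hcomm c i (a + b), asgd2ttheta_update θ hcomm c i a,
      asgd2ttheta_update θ hcomm c i b, map_add, add_mul]
  map_update_smul' := by
    intro _ c i r a
    have e : (‹DecidableEq (Fin t)› : DecidableEq (Fin t)) = instDecidableEqFin t := Subsingleton.elim _ _
    subst e
    rw [asgd2ttheta_update θ hcomm c i (r • a), asgd2ttheta_update θ hcomm c i a, map_smul, smul_mul_assoc]

theorem asgd2ttheta_psi_apply (c : Fin t → Matrix (Fin m) (Fin m) F) :
    asgd2tthetaPsi θ hcomm c = asgd2tthetaPhi θ hcomm c := rfl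

/-- the images of the matrix units -/
noncomputable def asgd2tthetaE (x y : Fin t → Fin m) : Matrix (Fin n) (Fin n) F :=
  asgd2tthetaPhi θ hcomm (fun i => Matrix.single (x i) (y i) 1)

/-- the multilinear expansion -/
theorem asgd2ttheta_expand (c : Fin t → Matrix (Fin m) (Fin m) F) :
    asgd2tthetaPhi θ hcomm c =
      ∑ x : Fin t → Fin m, ∑ y : Fin t → Fin m, (∏ i, c i (x i) (y i)) • asgd2tthetaE θ hcomm x y := by
  classical
  have h1 : c = fun i => ∑ p : Fin m × Fin m, c i p.1 p.2 • Matrix.single p.1 p.2 (1 : F) := by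
    funext i
    conv_lhs => rw [Matrix.matrix_eq_sum_single (c i)]
    rw [Fintype.sum_prod_type]
    refine Finset.sum_congr rfl (fun a _ => Finset.sum_congr rfl (fun b _ => ?_))
    rw [Matrix.smul_single, smul_eq_mul, mul_one]
  rw [← asgd2ttheta_psi_apply]
  conv_lhs => rw [h1]
  rw [MultilinearMap.map_sum]
  have h2 : ∀ r : Fin t → Fin m × Fin m,
      (asgd2tthetaPsi θ hcomm fun i => c i (r i).1 (r i).2 • Matrix.single (r i).1 (r i).2 (1 : F)) =
        (∏ i, c i (r i).1 (r i).2) • asgd2tthetaE θ hcomm (fun i => (r i).1) (fun i => (r i).2) := by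
    intro r
    rw [MultilinearMap.map_smul_univ]
    rfl
  rw [Finset.sum_congr rfl (fun r _ => h2 r)]
  rw [← Fintype.sum_prod_type']
  exact Fintype.sum_equiv (Equiv.arrowProdEquivProdArrow (Fin t) (fun _ => Fin m) (fun _ => Fin m)) _ _
    (fun r => rfl)

/-- products of the images of the matrix units -/
theorem asgd2ttheta_E_mul (x y x' y' : Fin t → Fin m) :
    asgd2tthetaE θ hcomm x y * asgd2tthetaE θ hcomm x' y' =
      if y = x' then asgd2tthetaE θ hcomm x y' else 0 := by
  classical
  unfold asgd2tthetaE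
  rw [← map_mul]
  split_ifs with h
  · subst h
    congr 1
    funext i
    rw [Pi.mul_apply, Matrix.single_mul_single_same, mul_one]
  · obtain ⟨i, hi⟩ : ∃ i, y i ≠ x' i := by
      by_contra hcon
      push Not at hcon
      exact h (funext hcon)
    have e : ((fun i => Matrix.single (x i) (y i) (1 : F)) * fun i => Matrix.single (x' i) (y' i) (1 : F)) =
        Function.update ((fun i => Matrix.single (x i) (y i) (1 : F)) *
          fun i => Matrix.single (x' i) (y' i) (1 : F)) i 0 := by
      funext j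
      by_cases hj : j = i
      · subst hj
        rw [Function.update_self, Pi.mul_apply, Matrix.single_mul_single_of_ne _ _ _ _ hi]
      · rw [Function.update_of_ne hj]
    rw [e, asgd2ttheta_update, map_zero, zero_mul]

/-- the linear map `A ↦ ∑ A x y • E x y` -/
noncomputable def asgd2tthetaLin :
    Matrix (Fin t → Fin m) (Fin t → Fin m) F →ₗ[F] Matrix (Fin n) (Fin n) F where
  toFun A := ∑ x : Fin t → Fin m, ∑ y : Fin t → Fin m, A x y • asgd2tthetaE θ hcomm x y
  map_add' A B := by
    simp only [Matrix.add_apply, add_smul, Finset.sum_add_distrib]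
  map_smul' r A := by
    simp only [Matrix.smul_apply, smul_eq_mul, mul_smul, Finset.smul_sum, RingHom.id_apply]

theorem asgd2ttheta_lin_apply (A : Matrix (Fin t → Fin m) (Fin t → Fin m) F) :
    asgd2tthetaLin θ hcomm A =
      ∑ x : Fin t → Fin m, ∑ y : Fin t → Fin m, A x y • asgd2tthetaE θ hcomm x y := rfl

theorem asgd2ttheta_lin_ptMat (c : Fin t → Matrix (Fin m) (Fin m) F) :
    asgd2tthetaLin θ hcomm (ptMat c) = asgd2tthetaPhi θ hcomm c := by
  rw [asgd2ttheta_lin_apply, asgd2ttheta_expand]
  rfl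

theorem asgd2ttheta_lin_single (x y : Fin t → Fin m) :
    asgd2tthetaLin θ hcomm (Matrix.single x y 1) = asgd2tthetaE θ hcomm x y := by
  classical
  rw [asgd2ttheta_lin_apply]
  rw [Finset.sum_eq_single x]
  · rw [Finset.sum_eq_single y]
    · rw [Matrix.single_apply_same, one_smul]
    · intro b _ hb
      rw [Matrix.single_apply_of_col_ne _ _ (Ne.symm hb), zero_smul]
    · intro h
      exact absurd (Finset.mem_univ _) h
  · intro b _ hb
    apply Finset.sum_eq_zero
    intro b' _
    rw [Matrix.single_apply_of_row_ne (Ne.symm hb), zero_smul]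
  · intro h
    exact absurd (Finset.mem_univ _) h

theorem asgd2ttheta_lin_mul (A B : Matrix (Fin t → Fin m) (Fin t → Fin m) F) :
    asgd2tthetaLin θ hcomm (A * B) = asgd2tthetaLin θ hcomm A * asgd2tthetaLin θ hcomm B := by
  classical
  have key : (LinearMap.mul F (Matrix (Fin t → Fin m) (Fin t → Fin m) F)).compr₂ (asgd2tthetaLin θ hcomm) =
      ((LinearMap.mul F (Matrix (Fin n) (Fin n) F)).compl₁₂ (asgd2tthetaLin θ hcomm)
        (asgd2tthetaLin θ hcomm)) := by
    apply Matrix.ext_linearMap
    intro x y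
    apply LinearMap.ext
    intro r
    apply Matrix.ext_linearMap
    intro x' y'
    apply LinearMap.ext
    intro s
    simp only [LinearMap.coe_comp, Function.comp_apply, Matrix.singleLinearMap_apply,
      LinearMap.compr₂_apply, LinearMap.mul_apply', LinearMap.compl₁₂_apply]
    have e1 : ∀ (u v : Fin t → Fin m) (r : F), Matrix.single u v r = r • Matrix.single u v (1 : F) := by
      intro u v r
      rw [Matrix.smul_single, smul_eq_mul, mul_one]
    rw [e1 x y r, e1 x' y' s, smul_mul_smul_comm, map_smul, map_smul, map_smul, smul_mul_smul_comm,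
      asgd2ttheta_lin_single, asgd2ttheta_lin_single, asgd2ttheta_E_mul]
    congr 1
    by_cases h : y = x'
    · subst h
      rw [Matrix.single_mul_single_same, mul_one, asgd2ttheta_lin_single, if_pos rfl]
    · rw [Matrix.single_mul_single_of_ne _ _ _ _ h, map_zero, if_neg h]
  have := congrArg (fun f => f A B) key
  simpa using this

theorem asgd2ttheta_lin_one : asgd2tthetaLin θ hcomm 1 = 1 := by
  have h1 : (1 : Matrix (Fin t → Fin m) (Fin t → Fin m) F) =
      ptMat (1 : Fin t → Matrix (Fin m) (Fin m) F) := by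
    ext x y
    rw [ptMat_apply]
    simp only [Pi.one_apply, Matrix.one_apply]
    by_cases h : x = y
    · subst h
      simp
    · rw [if_neg h]
      obtain ⟨i, hi⟩ : ∃ i, x i ≠ y i := by
        by_contra hcon
        push Not at hcon
        exact h (funext hcon)
      exact (Finset.prod_eq_zero (Finset.mem_univ i) (by rw [if_neg hi])).symm
  rw [h1, asgd2ttheta_lin_ptMat, map_one]

end

/-- D2T-THETA -/
theorem big_hom {m t : ℕ} (θ : Fin t → (Matrix (Fin m) (Fin m) F →ₐ[F] Matrix (Fin n) (Fin n) F))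
    (hcomm : ∀ i j, i ≠ j → ∀ a b, θ i a * θ j b = θ j b * θ i a) :
    ∃ Θ : Matrix (Fin t → Fin m) (Fin t → Fin m) F →ₐ[F] Matrix (Fin n) (Fin n) F,
      ∀ (i : Fin t) (a : Matrix (Fin m) (Fin m) F), Θ (ptMat (Pi.mulSingle i a)) = θ i a := by
  refine ⟨AlgHom.ofLinearMap (asgd2tthetaLin θ hcomm) (asgd2ttheta_lin_one θ hcomm)
    (asgd2ttheta_lin_mul θ hcomm), fun i a => ?_⟩
  rw [AlgHom.ofLinearMap_apply, asgd2ttheta_lin_ptMat, asgd2ttheta_mulSingle]

end Cfsg.Agent.Lib.Helper19.ASG
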