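import Mathlib
import Cfsg.Prelude.Def_CaseTheorems
import Cfsg.Agent.Lib.helper7.BR.Defs
import Cfsg.Agent.Lib.Helper18.BRF.Defs

/-!
# Project BRF (S4700), pieces A1F (`af_plus`) and A2F (`af_minus`): pure arithmetic
-/

set_option autoImplicit false
set_option linter.unusedVariables false
set_option linter.unusedSectionVars false

namespace Cfsg.Agent.Lib.Helper18.BRF

open Classical
open Cfsg.Agent.Lib.Helper25
open Cfsg.Agent.Lib.helper7.BR

universe u

/-- A1F : a divisor `d ≡ 1 mod p`, `d ≥ 2`, of `q (1 + n p)` (`q ∣ p - 1`) is `1 + n p`, unless `FF p n`.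
(`d = 1 + u p`, cofactor `q + h p`, `h + u q + u h p = q n`.  `h = 0`: `u = n`.  `h ≥ 1`: `q ∣ h (u + 1)` as
`p ≡ 1 mod q`; with `h (u + 1) = q h'` one gets `n (u + 1) = h' u p + u^2 + u + h'`.) -/
theorem af_plus (p q t n d : ℕ) (hp : p.Prime) (hqt : q * t = p - 1) (hq : 1 ≤ q) (hn : 1 ≤ n)
    (hF : ¬ FF p n) (hd : d ∣ q * (1 + n * p)) (h1 : d % p = 1) (h2 : 2 ≤ d) : d = 1 + n * p := by
  have hp2 := hp.two_le
  have hpq : p = q * t + 1 := by omega
  have ht1 : 1 ≤ t := by
    rcases Nat.eq_zero_or_pos t with h | h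
    · subst h; omega
    · exact h
  have hqlt : q < p := by nlinarith
  obtain ⟨c, hc⟩ := hd
  obtain ⟨u, hu⟩ : ∃ u, d = 1 + u * p := by
    refine ⟨d / p, ?_⟩
    have := Nat.div_add_mod d p
    rw [h1] at this
    nlinarith [mul_comm p (d / p)]
  have hu1 : 1 ≤ u := by
    rcases Nat.eq_zero_or_pos u with h | h
    · subst h; omega
    · exact h
  -- the cofactor is `q + h p`
  have hcq : c % p = q := by
    have e1 : c + p * (u * c) = q + p * (q * n) := by
      rw [hu] at hc
      nlinarith [hc]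
    have e2 : (c + p * (u * c)) % p = c % p := Nat.add_mul_mod_self_left _ _ _
    have e3 : (q + p * (q * n)) % p = q % p := Nat.add_mul_mod_self_left _ _ _
    rw [← e2, e1, e3]
    exact Nat.mod_eq_of_lt hqlt
  obtain ⟨h, hh⟩ : ∃ h, c = q + h * p := by
    refine ⟨c / p, ?_⟩
    have := Nat.div_add_mod c p
    rw [hcq] at this
    nlinarith [mul_comm p (c / p)]
  have key : h + u * q + u * h * p = q * n := by
    have e1 : p * (h + u * q + u * h * p) = p * (q * n) := by
      rw [hu, hh] at hc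
      nlinarith [hc]
    exact Nat.eq_of_mul_eq_mul_left (by omega) e1
  rcases Nat.eq_zero_or_pos h with h0 | hpos
  · subst h0
    have e1 : q * u = q * n := by nlinarith [key]
    have e2 : u = n := Nat.eq_of_mul_eq_mul_left (by omega) e1
    rw [hu, e2]
  · exfalso
    apply hF
    -- `q ∣ h (u + 1)`
    have e1 : h * (u + 1) + q * (u + u * h * t) = q * n := by
      rw [hpq] at key
      nlinarith [key]
    have e2 : q ∣ h * (u + 1) := by
      have e3 : q ∣ h * (u + 1) + q * (u + u * h * t) := ⟨n, e1⟩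
      exact (Nat.dvd_add_iff_left (dvd_mul_right q _)).mpr e3
    obtain ⟨h', hh'⟩ := e2
    have hh'1 : 1 ≤ h' := by
      rcases Nat.eq_zero_or_pos h' with h0 | h0
      · subst h0
        have : 1 ≤ h * (u + 1) := Nat.mul_pos hpos (by omega)
        omega
      · exact h0
    refine ⟨h', u, hh'1, hu1, ?_⟩
    have e4 : q * (n * (u + 1)) = q * (h' * u * p + u ^ 2 + u + h') := by
      have e5 : (h + u * q + u * h * p) * (u + 1) = q * n * (u + 1) := by rw [key]
      have e6 : u * p * (h * (u + 1)) = u * p * (q * h') := by rw [hh']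
      nlinarith [e5, e6, hh']
    exact Nat.eq_of_mul_eq_mul_left (by omega) e4

/-- A2F : a divisor `d ≡ -1 mod p` of `q (1 + n p)` (`q t = p - 1`) is `p - 1`, or `t = 1` and
`d = q (1 + n p)`, unless `FF p n`.
(`d = u p - 1`, cofactor `h p - q`, `h (u p - 1) = q (n + u)`.  `u = 1`: done.  `u ≥ 2`: `q ∣ h (u - 1)`,
`h (u - 1) = q j`, `j ≥ 1`, `n + u = j + h u t`.  If `h t ≥ 2` then `FF p n` with `u' = h t - 1`, `h' = j`:
`(u' + 1) (n - u') = h t (j + (u - 1)(h t - 1)) = j ((h t - 1) p + 1)`.  If `h t = 1` the cofactor is `p - q = 1`.) -/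
theorem af_minus (p q t n d : ℕ) (hp : p.Prime) (hqt : q * t = p - 1) (hq : 1 ≤ q) (hn : 1 ≤ n)
    (hF : ¬ FF p n) (hd : d ∣ q * (1 + n * p)) (h1 : (d + 1) % p = 0) :
    d + 1 = p ∨ (t = 1 ∧ d = q * (1 + n * p)) := by
  have hp2 := hp.two_le
  have hpq : p = q * t + 1 := by omega
  have ht1 : 1 ≤ t := by
    rcases Nat.eq_zero_or_pos t with h | h
    · subst h; omega
    · exact h
  obtain ⟨c, hc⟩ := hd
  obtain ⟨u, hu⟩ : ∃ u, d + 1 = u * p := by
    obtain ⟨u, hu⟩ := Nat.dvd_of_mod_eq_zero h1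
    exact ⟨u, by rw [hu, mul_comm]⟩
  have hu1 : 1 ≤ u := by
    rcases Nat.eq_zero_or_pos u with h | h
    · subst h; omega
    · exact h
  rcases Nat.lt_or_ge u 2 with hu2 | hu2
  · left
    have : u = 1 := by omega
    rw [hu, this, one_mul]
  · right
    obtain ⟨v, rfl⟩ : ∃ v, u = v + 1 := ⟨u - 1, by omega⟩
    have hv1 : 1 ≤ v := by omega
    -- cofactor: `c + q = h p`
    have e1 : c + q + p * (q * n) = p * ((v + 1) * c) := by
      have e2 : (d + 1) * c = (v + 1) * p * c := by rw [hu]
      nlinarith [e2, hc]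
    have e3 : p ∣ c + q := by
      have e4 : p ∣ c + q + p * (q * n) := ⟨(v + 1) * c, e1⟩
      exact (Nat.dvd_add_iff_left (dvd_mul_right p _)).mpr e4
    obtain ⟨h, hh⟩ := e3
    have hh1 : 1 ≤ h := by
      rcases Nat.eq_zero_or_pos h with h0 | h0
      · subst h0; omega
      · exact h0
    -- `(v+1) h p = q n + (v+1) q + h`
    have key : (v + 1) * h * p = q * n + (v + 1) * q + h := by
      have e5 : (d + 1) * (c + q) = ((v + 1) * p) * (p * h) := by rw [hu, hh]
      have e6 : (d + 1) * q = (v + 1) * p * q := by rw [hu]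
      have e7 : p * ((v + 1) * h * p) = p * (q * n + (v + 1) * q + h) := by
        nlinarith [e5, e6, hc, hh]
      exact Nat.eq_of_mul_eq_mul_left (by omega) e7
    -- `h v = q j`
    have e8 : h * v + q * ((v + 1) * h * t) = q * (n + (v + 1)) := by
      rw [hpq] at key
      nlinarith [key]
    have e9 : q ∣ h * v := by
      have e10 : q ∣ h * v + q * ((v + 1) * h * t) := ⟨_, e8⟩
      exact (Nat.dvd_add_iff_left (dvd_mul_right q _)).mpr e10
    obtain ⟨j, hj⟩ := e9
    have hj1 : 1 ≤ j := by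
      rcases Nat.eq_zero_or_pos j with h0 | h0
      · subst h0
        have : 1 ≤ h * v := Nat.mul_pos hh1 hv1
        omega
      · exact h0
    have e11 : n + (v + 1) = j + (v + 1) * h * t := by
      have e12 : q * (n + (v + 1)) = q * (j + (v + 1) * h * t) := by
        rw [← e8, hj]; ring
      exact Nat.eq_of_mul_eq_mul_left (by omega) e12
    rcases Nat.lt_or_ge (h * t) 2 with hht | hht
    · -- `h t = 1`
      have hht1 : h * t = 1 := by
        have : 1 ≤ h * t := Nat.mul_pos hh1 ht1
        omega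
      have hh' : h = 1 := (mul_eq_one.mp hht1).1
      have ht' : t = 1 := (mul_eq_one.mp hht1).2
      subst hh' ht'
      have hc1 : c = 1 := by
        rw [hpq] at hh
        omega
      refine ⟨rfl, ?_⟩
      rw [hc, hc1, mul_one]
    · exfalso
      apply hF
      obtain ⟨w, hw⟩ : ∃ w, h * t = w + 1 := ⟨h * t - 1, by omega⟩
      have hw1 : 1 ≤ w := by omega
      refine ⟨j, w, hj1, hw1, ?_⟩
      have e13 : v * (w + 1) = j * q * t := by
        rw [← hw]
        calc v * (h * t) = (h * v) * t := by ring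
          _ = q * j * t := by rw [hj]
          _ = j * q * t := by ring
      have e14 : (v + 1) * h * t = (v + 1) * (w + 1) := by
        rw [← hw]; ring
      have e15 : n = j + v * w + w := by
        rw [e14] at e11
        nlinarith [e11]
      rw [e15, hpq]
      have e16 : w * (v * (w + 1)) = w * (j * q * t) := by rw [e13]
      nlinarith [e16]

end Cfsg.Agent.Lib.Helper18.BRF
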