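import Mathlib
import Cfsg.Agent.Lib.Helper18.OPE.Defs

set_option autoImplicit false

/-!
# Project OPE (designer helper18), row TRANSVCOMM: `transv_comm` verbatim
-/

namespace Cfsg.Agent.Lib.Helper18.OPE

open scoped Matrix

/-- a transvection as an element of `GL` -/
noncomputable def opetransvcomm_tv {F : Type*} [Field F] {d : ℕ} (i j : Fin d) (hij : i ≠ j) (c : F) :
    GL (Fin d) F :=
  ⟨Matrix.transvection i j c, Matrix.transvection i j (-c),
    by rw [Matrix.transvection_mul_transvection_same i j hij, add_neg_cancel, Matrix.transvection_zero],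
    by rw [Matrix.transvection_mul_transvection_same i j hij, neg_add_cancel, Matrix.transvection_zero]⟩

theorem opetransvcomm_tv_val {F : Type*} [Field F] {d : ℕ} (i j : Fin d) (hij : i ≠ j) (c : F) :
    ((opetransvcomm_tv i j hij c : GL (Fin d) F) : Matrix (Fin d) (Fin d) F) = Matrix.transvection i j c := rfl

theorem opetransvcomm_tv_inv {F : Type*} [Field F] {d : ℕ} (i j : Fin d) (hij : i ≠ j) (c : F) :
    (((opetransvcomm_tv i j hij c)⁻¹ : GL (Fin d) F) : Matrix (Fin d) (Fin d) F) = Matrix.transvection i j (-c) := rfl

/-- the commutator identity `[1 + E_ik, 1 + c E_kj] = 1 + c E_ij` -/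
theorem opetransvcomm_id {F : Type*} [Field F] {d : ℕ} (i j k : Fin d) (hij : i ≠ j) (hik : i ≠ k) (hkj : k ≠ j)
    (c : F) :
    Matrix.transvection i k (1 : F) * Matrix.transvection k j c * Matrix.transvection i k (-1 : F) *
      Matrix.transvection k j (-c) = Matrix.transvection i j c := by
  have e1 : ∀ a b : F, Matrix.single i k a * Matrix.single k j b = Matrix.single i j (a * b) :=
    fun a b => Matrix.single_mul_single_same a i k j b
  have e2 : ∀ a b : F, Matrix.single k j a * Matrix.single i k b = (0 : Matrix (Fin d) (Fin d) F) :=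
    fun a b => Matrix.single_mul_single_of_ne a k j i hij.symm b
  have e3 : ∀ a b : F, Matrix.single i k a * Matrix.single i k b = (0 : Matrix (Fin d) (Fin d) F) :=
    fun a b => Matrix.single_mul_single_of_ne a i k i hik.symm b
  have e4 : ∀ a b : F, Matrix.single k j a * Matrix.single k j b = (0 : Matrix (Fin d) (Fin d) F) :=
    fun a b => Matrix.single_mul_single_of_ne a k j k hkj.symm b
  have e5 : ∀ a b : F, Matrix.single i j a * Matrix.single i k b = (0 : Matrix (Fin d) (Fin d) F) :=
    fun a b => Matrix.single_mul_single_of_ne a i j i hij.symm b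
  have e6 : ∀ a b : F, Matrix.single i j a * Matrix.single k j b = (0 : Matrix (Fin d) (Fin d) F) :=
    fun a b => Matrix.single_mul_single_of_ne a i j k hkj.symm b
  have h1 : Matrix.transvection i k (1 : F) * Matrix.transvection k j c =
      1 + Matrix.single i k 1 + Matrix.single k j c + Matrix.single i j c := by
    simp only [Matrix.transvection, Matrix.add_mul, Matrix.mul_add, Matrix.mul_one, e1, one_mul]
    abel
  have h2 : (1 + Matrix.single i k 1 + Matrix.single k j c + Matrix.single i j c) *
      Matrix.transvection i k (-1 : F) = 1 + Matrix.single k j c + Matrix.single i j c := by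
    simp only [Matrix.transvection, Matrix.add_mul, Matrix.mul_add, Matrix.one_mul, Matrix.mul_one, e2, e3, e5]
    rw [show (Matrix.single i k (-1 : F) : Matrix (Fin d) (Fin d) F) = - Matrix.single i k 1 by
      rw [← Matrix.single_neg]]
    abel
  have h3 : (1 + Matrix.single k j c + Matrix.single i j c) * Matrix.transvection k j (-c) =
      Matrix.transvection i j c := by
    simp only [Matrix.transvection, Matrix.add_mul, Matrix.mul_add, Matrix.one_mul, Matrix.mul_one, e4, e6]
    rw [show (Matrix.single k j (-c) : Matrix (Fin d) (Fin d) F) = - Matrix.single k j c by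
      rw [← Matrix.single_neg]]
    abel
  rw [h1, h2, h3]

/-- TRANSVCOMM [M]: for `d ≥ 3` every transvection `1 + c E_ij` is a commutator in `GL_d(F)`. -/
theorem transv_comm {F : Type*} [Field F] (d : ℕ) (i j : Fin d) (hij : i ≠ j) (hd : 3 ≤ d) (c : F)
    (g : GL (Fin d) F) (hg : (g : Matrix (Fin d) (Fin d) F) = Matrix.transvection i j c) :
    g ∈ commutator (GL (Fin d) F) := by
  -- a third index
  obtain ⟨k, hki, hkj⟩ : ∃ k : Fin d, k ≠ i ∧ k ≠ j := by
    by_contra hcon
    push Not at hcon
    have hsub : (Finset.univ : Finset (Fin d)) ⊆ {i, j} := by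
      intro k _
      by_cases hk : k = i
      · simp [hk]
      · simp [hcon k hk]
    have h1 := Finset.card_le_card hsub
    rw [Finset.card_univ, Fintype.card_fin] at h1
    have h2 : ({i, j} : Finset (Fin d)).card ≤ 2 := Finset.card_le_two
    omega
  set A : GL (Fin d) F := opetransvcomm_tv i k hki.symm (1 : F) with hA
  set B : GL (Fin d) F := opetransvcomm_tv k j hkj c with hB
  have hgc : g = A * B * A⁻¹ * B⁻¹ := by
    apply Units.ext
    rw [Units.val_mul, Units.val_mul, Units.val_mul, hA, hB, opetransvcomm_tv_val,
      opetransvcomm_tv_val, opetransvcomm_tv_inv, opetransvcomm_tv_inv, hg,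
      opetransvcomm_id i j k hij hki.symm hkj c]
  have hmem : A * B * A⁻¹ * B⁻¹ ∈ commutator (GL (Fin d) F) := by
    have h1 := Subgroup.commutator_mem_commutator (Subgroup.mem_top A) (Subgroup.mem_top B)
    rw [commutatorElement_def] at h1
    exact h1
  rw [hgc]
  exact hmem

end Cfsg.Agent.Lib.Helper18.OPE
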