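import Mathlib
import Cfsg.Prelude.Def_GeometricClasses
import Cfsg.Agent.Lib.Helper27.ASC.Defs
import Cfsg.Agent.Lib.Helper19.ASCCLIFFA

/-!
# Project ASC, piece CLIFF, part B : the lines of a basis of common eigenvectors are permuted

`v` a basis of common eigenvectors of `N` (normalised by the irreducible group `H`), `ch i : N → F` the
character of `N` on `v i`.  `H` permutes the fibres of `ch` transitively, so they have the same size `m ∣ r`;
`m = r` makes `N` scalar, `m = 1` makes `H` permute the lines `F ∙ v i`.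
-/

set_option autoImplicit false
set_option linter.unusedVariables false

namespace Cfsg.Agent.Lib.Helper27.ASC

open Cfsg Cfsg.Geo
open scoped MatrixGroups Matrix

variable {n : ℕ} {F : Type*} [Field F] [Fintype F]

omit [Fintype F] in
/-- part B in coordinates -/
theorem asccliff_perm {r : ℕ} (hr : r.Prime) {H N : Subgroup (GL (Fin r) F)} (hH : Irr H)
    (hN : NormalIn N H) (h2 : ¬ N ≤ scalars (Fin r) F) (v : Fin r → (Fin r → F))
    (hli : LinearIndependent F v)
    (hv : ∀ i, ∀ x ∈ N, ∃ c : F, (x : Matrix (Fin r) (Fin r) F) *ᵥ v i = c • v i) :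
    H ≤ decompositionStabilizer (fun i => F ∙ v i) := by
  classical
  have hspan : Submodule.span F (Set.range v) = ⊤ :=
    hli.span_eq_top_of_card_eq_finrank' (by simp)
  set b : Module.Basis (Fin r) F (Fin r → F) := Module.Basis.mk hli hspan.ge with hbdef
  have hbv : ∀ i, b i = v i := fun i => by rw [hbdef, Module.Basis.coe_mk]
  -- the characters
  choose ch hch using fun (i : Fin r) (x : N) => hv i x x.2
  -- `N` is diagonal
  have hdiag : ∀ (x : N) (u : Fin r → F) (j : Fin r),
      b.repr (((x : GL (Fin r) F) : Matrix (Fin r) (Fin r) F) *ᵥ u) j = ch j x * b.repr u j := by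
    intro x u j
    have hu : u = ∑ k, b.repr u k • b k := (b.sum_repr u).symm
    have e : ((x : GL (Fin r) F) : Matrix (Fin r) (Fin r) F) *ᵥ u =
        ∑ k, (ch k x * b.repr u k) • b k := by
      conv_lhs => rw [hu]
      rw [Matrix.mulVec_sum]
      refine Finset.sum_congr rfl fun k _ => ?_
      rw [Matrix.mulVec_smul, hbv, hch, smul_smul, mul_comm]
    rw [e, b.repr_sum_self]
  -- conjugation inside `N`
  have hcjmem : ∀ g ∈ H, ∀ x : N, g⁻¹ * (x : GL (Fin r) F) * g ∈ N := by
    intro g hg x
    have := hN.2 g⁻¹ (H.inv_mem hg) x x.2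
    simpa using this
  -- key: the support of `g v_i` lies in one fibre
  have hK : ∀ g (hg : g ∈ H) (i j : Fin r),
      b.repr ((g : Matrix (Fin r) (Fin r) F) *ᵥ v i) j ≠ 0 →
      ∀ x : N, ch j x = ch i ⟨g⁻¹ * (x : GL (Fin r) F) * g, hcjmem g hg x⟩ := by
    intro g hg i j ha x
    have e0 : ((x : GL (Fin r) F) : Matrix (Fin r) (Fin r) F) * (g : Matrix (Fin r) (Fin r) F) =
        (g : Matrix (Fin r) (Fin r) F) *
          ((g⁻¹ * (x : GL (Fin r) F) * g : GL (Fin r) F) : Matrix (Fin r) (Fin r) F) := by
      rw [← Units.val_mul, ← Units.val_mul]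
      congr 1
      group
    have e1 : ((x : GL (Fin r) F) : Matrix (Fin r) (Fin r) F) *ᵥ
        ((g : Matrix (Fin r) (Fin r) F) *ᵥ v i) =
        ch i ⟨g⁻¹ * (x : GL (Fin r) F) * g, hcjmem g hg x⟩ •
          ((g : Matrix (Fin r) (Fin r) F) *ᵥ v i) := by
      rw [Matrix.mulVec_mulVec, e0, ← Matrix.mulVec_mulVec]
      have := hch i ⟨g⁻¹ * (x : GL (Fin r) F) * g, hcjmem g hg x⟩
      rw [this, Matrix.mulVec_smul]
    have e2 := hdiag x ((g : Matrix (Fin r) (Fin r) F) *ᵥ v i) j
    rw [e1, map_smul, Finsupp.smul_apply, smul_eq_mul] at e2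
    exact (mul_right_cancel₀ ha e2).symm
  -- expansion of a vector whose coordinates live in a set
  have hexp : ∀ (u : Fin r → F) (T : Set (Fin r)), (∀ k, b.repr u k ≠ 0 → k ∈ T) →
      u ∈ Submodule.span F (v '' T) := by
    intro u T hT
    rw [← b.sum_repr u]
    refine Submodule.sum_mem _ fun k _ => ?_
    by_cases hk : b.repr u k = 0
    · rw [hk, zero_smul]; exact Submodule.zero_mem _
    · rw [hbv]
      exact Submodule.smul_mem _ _ (Submodule.subset_span ⟨k, hT k hk, rfl⟩)
  -- transitivity
  have htrans : ∀ i j : Fin r, ∃ g, ∃ hg : g ∈ H,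
      ∀ x : N, ch j x = ch i ⟨g⁻¹ * (x : GL (Fin r) F) * g, hcjmem g hg x⟩ := by
    intro i j
    set T : Set (Fin r) := {j | ∃ g, ∃ hg : g ∈ H,
      ∀ x : N, ch j x = ch i ⟨g⁻¹ * (x : GL (Fin r) F) * g, hcjmem g hg x⟩} with hT
    have hinv : ∀ s ∈ matrixSet H,
        (Submodule.span F (v '' T)).map (Matrix.toLin' s) ≤ Submodule.span F (v '' T) := by
      rintro s ⟨g', hg', rfl⟩
      rw [Submodule.map_span, Submodule.span_le]
      rintro _ ⟨_, ⟨j', hj', rfl⟩, rfl⟩
      rw [Matrix.toLin'_apply]
      apply hexp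
      intro k hk
      obtain ⟨g, hg, hgj⟩ := hj'
      refine ⟨g' * g, H.mul_mem hg' hg, fun x => ?_⟩
      rw [hK g' hg' j' k hk x, hgj]
      congr 1
      apply Subtype.ext
      show g⁻¹ * (g'⁻¹ * (x : GL (Fin r) F) * g') * g = (g' * g)⁻¹ * (x : GL (Fin r) F) * (g' * g)
      group
    have hiT : i ∈ T := by
      refine ⟨1, H.one_mem, fun x => ?_⟩
      congr 1
      apply Subtype.ext
      simp
    rcases hH _ hinv with hb | ht
    · exfalso
      have : v i ∈ Submodule.span F (v '' T) := Submodule.subset_span ⟨i, hiT, rfl⟩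
      rw [hb, Submodule.mem_bot] at this
      exact hli.ne_zero i this
    · by_contra hj
      have hjT : j ∉ T := hj
      exact hli.notMem_span_image hjT (by rw [ht]; exact Submodule.mem_top)
  -- the fibres have the same size
  have hfib : ∀ i j : Fin r, (Finset.univ.filter (fun k => ch k = ch i)).card ≤
      (Finset.univ.filter (fun k => ch k = ch j)).card := by
    intro i j
    obtain ⟨g, hg, hgj⟩ := htrans i j
    have hcard : ∀ s : Finset (Fin r),
        Module.finrank F (Submodule.span F (v '' (s : Set (Fin r)))) = s.card := by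
      intro s
      have h1 : LinearIndependent F (fun k : s => v k) :=
        hli.comp (fun k : s => (k : Fin r)) Subtype.val_injective
      have h2 := finrank_span_eq_card h1
      have h3 : Set.range (fun k : s => v k) = v '' (s : Set (Fin r)) := by
        ext u
        constructor
        · rintro ⟨k, rfl⟩; exact ⟨k, k.2, rfl⟩
        · rintro ⟨k, hk, rfl⟩; exact ⟨⟨k, hk⟩, rfl⟩
      rw [h3] at h2
      rw [h2, Fintype.card_coe]
    have hmap : (Submodule.span F (v '' ((Finset.univ.filter (fun k => ch k = ch i) :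
        Finset (Fin r)) : Set (Fin r)))).map (Matrix.toLin' (g : Matrix (Fin r) (Fin r) F)) ≤
        Submodule.span F (v '' ((Finset.univ.filter (fun k => ch k = ch j) :
          Finset (Fin r)) : Set (Fin r))) := by
      rw [Submodule.map_span, Submodule.span_le]
      rintro _ ⟨_, ⟨k, hk, rfl⟩, rfl⟩
      rw [Matrix.toLin'_apply]
      apply hexp
      intro l hl
      have hk' : ch k = ch i := by simpa using hk
      simp only [Finset.coe_filter, Finset.mem_univ, true_and, Set.mem_ofPred_eq]
      funext x
      rw [hK g hg k l hl x, hk', ← hgj]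
    rw [← hcard, ← hcard, ← asccliff_finrank_map g]
    exact Submodule.finrank_mono hmap
  -- counting
  have hr0 : 0 < r := hr.pos
  set i₀ : Fin r := ⟨0, hr0⟩ with hi₀
  set m := (Finset.univ.filter (fun k => ch k = ch i₀)).card with hm
  have hcount : r = (Finset.univ.image ch).card * m := by
    have h1 := Finset.card_eq_sum_card_image ch (Finset.univ : Finset (Fin r))
    rw [Finset.card_univ, Fintype.card_fin] at h1
    refine h1.trans ?_
    have h2 : ∀ ψ ∈ Finset.univ.image ch, (Finset.univ.filter (fun k => ch k = ψ)).card = m := by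
      intro ψ hψ
      obtain ⟨i, _, rfl⟩ := Finset.mem_image.mp hψ
      exact le_antisymm (hfib i i₀) (hfib i₀ i)
    rw [Finset.sum_congr rfl h2, Finset.sum_const, smul_eq_mul]
  have hm1 : m = 1 := by
    have hdvd : m ∣ r := ⟨(Finset.univ.image ch).card, by rw [mul_comm]; exact hcount⟩
    rcases (Nat.dvd_prime hr).mp hdvd with h | h
    · exact h
    · exfalso
      apply h2
      have hall : ∀ k, ch k = ch i₀ := by
        intro k
        have huniv : Finset.univ.filter (fun k => ch k = ch i₀) = Finset.univ := by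
          apply Finset.eq_univ_of_card
          rw [← hm, h, Fintype.card_fin]
        have : k ∈ Finset.univ.filter (fun k => ch k = ch i₀) := by rw [huniv]; exact Finset.mem_univ k
        simpa using this
      intro x hx
      have hc0 : ch i₀ ⟨x, hx⟩ ≠ 0 := by
        intro h0
        have := hch i₀ ⟨x, hx⟩
        rw [h0, zero_smul] at this
        have hinj := asccliff_toLin_injective x
        apply hli.ne_zero i₀
        apply hinj
        rw [Matrix.toLin'_apply, map_zero]
        exact this
      rw [mem_scalars_iff]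
      refine ⟨Units.mk0 _ hc0, ?_⟩
      apply Matrix.toLin'.injective
      apply LinearMap.ext_on_range hspan
      intro k
      rw [Matrix.toLin'_apply, Matrix.toLin'_apply, Units.val_mk0, Matrix.smul_mulVec,
        Matrix.one_mulVec]
      have := hch k ⟨x, hx⟩
      rw [hall k] at this
      exact this
  have hsingle : ∀ i k : Fin r, ch k = ch i → k = i := by
    intro i k hk
    have hci : (Finset.univ.filter (fun k => ch k = ch i)).card = 1 := by
      rw [← hm1]
      exact le_antisymm (hfib i i₀) (hfib i₀ i)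
    obtain ⟨a, ha⟩ := Finset.card_eq_one.mp hci
    have h1 : k ∈ Finset.univ.filter (fun k => ch k = ch i) := by simpa using hk
    have h2 : i ∈ Finset.univ.filter (fun k => ch k = ch i) := by simp
    rw [ha, Finset.mem_singleton] at h1 h2
    rw [h1, h2]
  -- the permutation
  intro g hg
  have hex : ∀ i, ∃ l, b.repr ((g : Matrix (Fin r) (Fin r) F) *ᵥ v i) l ≠ 0 := by
    intro i
    by_contra hcon
    push Not at hcon
    have h0 : (g : Matrix (Fin r) (Fin r) F) *ᵥ v i = 0 := by
      rw [← b.sum_repr ((g : Matrix (Fin r) (Fin r) F) *ᵥ v i)]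
      exact Finset.sum_eq_zero fun k _ => by rw [hcon k, zero_smul]
    apply hli.ne_zero i
    apply asccliff_toLin_injective g
    rw [Matrix.toLin'_apply, map_zero]
    exact h0
  choose σf hσf using hex
  have huniq : ∀ i l, b.repr ((g : Matrix (Fin r) (Fin r) F) *ᵥ v i) l ≠ 0 → l = σf i := by
    intro i l hl
    apply hsingle
    funext x
    rw [hK g hg i l hl x, hK g hg i (σf i) (hσf i) x]
  have hline : ∀ i, (F ∙ v i).map (Matrix.toLin' (g : Matrix (Fin r) (Fin r) F)) = F ∙ v (σf i) := by
    intro i
    rw [Submodule.map_span, Set.image_singleton, Matrix.toLin'_apply]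
    have e : (g : Matrix (Fin r) (Fin r) F) *ᵥ v i =
        b.repr ((g : Matrix (Fin r) (Fin r) F) *ᵥ v i) (σf i) • v (σf i) := by
      conv_lhs => rw [← b.sum_repr ((g : Matrix (Fin r) (Fin r) F) *ᵥ v i)]
      rw [Finset.sum_eq_single (σf i), hbv]
      · intro k _ hk
        by_cases h0 : b.repr ((g : Matrix (Fin r) (Fin r) F) *ᵥ v i) k = 0
        · rw [h0, zero_smul]
        · exact absurd (huniq i k h0) hk
      · intro h; exact absurd (Finset.mem_univ _) h
    rw [e]
    exact Submodule.span_singleton_smul_eq (IsUnit.mk0 _ (hσf i)) _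
  have hinj : Function.Injective σf := by
    intro i i' heq
    have h1 : F ∙ v i = F ∙ v i' := by
      apply Submodule.map_injective_of_injective (asccliff_toLin_injective g)
      rw [hline i, hline i', heq]
    by_contra hne
    have hni : i ∉ ({i'} : Set (Fin r)) := hne
    apply hli.notMem_span_image hni
    rw [Set.image_singleton, ← h1]
    exact Submodule.mem_span_singleton_self _
  exact ⟨Equiv.ofBijective σf (Finite.injective_iff_bijective.mp hinj), fun i => hline i⟩

/-- CLIFF-L -/
theorem clifford_lines {r : ℕ} (hr : r.Prime) {H N : Subgroup (GL (Fin r) F)} (hH : Irr H) (hN : NormalIn N H)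
    (h1 : ¬ Irr N) (h2 : ¬ N ≤ scalars (Fin r) F) :
    ∃ D : Fin r → Submodule F (Fin r → F), IsMDecomposition 1 D ∧ H ≤ decompositionStabilizer D := by
  obtain ⟨v, hli, hv⟩ := asccliff_eigenbasis hr hH hN h1
  refine ⟨fun i => F ∙ v i, ?_, asccliff_perm hr hH hN h2 v hli hv⟩
  refine ⟨hr.two_le, one_pos, fun i => finrank_span_singleton (hli.ne_zero i),
    hli.iSupIndep_span_singleton, ?_⟩
  rw [← Submodule.span_range_eq_iSup]
  exact hli.span_eq_top_of_card_eq_finrank' (by simp)

end Cfsg.Agent.Lib.Helper27.ASC
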