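import Mathlib
import Cfsg.Prelude.Def_GeometricClasses
import Cfsg.Agent.Lib.Helper27.ASC.Defs

/-!
# Project ASC, piece DEC2 : over the field with two elements a group permuting `t` independent
lines fixes the sum of their non-zero vectors, so it is reducible
-/

set_option autoImplicit false
set_option linter.unusedVariables false

namespace Cfsg.Agent.Lib.Helper27.ASC

open Cfsg Cfsg.Geo
open scoped MatrixGroups Matrix

variable {n : ℕ} {F : Type*} [Field F] [Fintype F]

/-- in a field with two elements every element is `0` or `1` -/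
theorem ascdec2_zero_or_one (hq : Fintype.card F = 2) (c : F) : c = 0 ∨ c = 1 := by
  classical
  by_contra hc
  push Not at hc
  have h3 : ({0, 1, c} : Finset F).card = 3 := by
    rw [Finset.card_insert_of_notMem, Finset.card_insert_of_notMem, Finset.card_singleton]
    · simpa using hc.2.symm
    · simp only [Finset.mem_insert, Finset.mem_singleton, not_or]
      exact ⟨zero_ne_one, hc.1.symm⟩
  have := Finset.card_le_univ ({0, 1, c} : Finset F)
  omega

/-- DEC2 -/
theorem dec_q2 {t : ℕ} (D : Fin t → Submodule F (Fin n → F)) (hD : IsMDecomposition 1 D) (hq : Fintype.card F = 2)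
    {H : Subgroup (GL (Fin n) F)} (hH : H ≤ decompositionStabilizer D) : ¬ Irr H := by
  classical
  intro hirr
  -- the non-zero vectors of the lines
  have hex : ∀ i, ∃ d : Fin n → F, d ∈ D i ∧ d ≠ 0 ∧ ∀ w ∈ D i, w = 0 ∨ w = d := by
    intro i
    obtain ⟨d, hd0, hd⟩ := finrank_eq_one_iff'.mp (hD.finrank_eq i)
    refine ⟨d, d.2, fun h => hd0 (Subtype.ext h), fun w hw => ?_⟩
    obtain ⟨c, hc⟩ := hd ⟨w, hw⟩
    have hc' : c • (d : Fin n → F) = w := by
      have := congrArg (fun z : D i => (z : Fin n → F)) hc
      simpa using this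
    rcases ascdec2_zero_or_one hq c with rfl | rfl
    · left; rw [← hc', zero_smul]
    · right; rw [← hc', one_smul]
  choose d hdD hd0 hdall using hex
  have hli : LinearIndependent F d := hD.indep.linearIndependent D hdD hd0
  have ht : 2 ≤ t := hD.two_le
  -- the fixed vector
  set v : Fin n → F := ∑ i, d i with hv
  have hv0 : v ≠ 0 := by
    intro h0
    have := (Fintype.linearIndependent_iff.mp hli) (fun _ => (1 : F)) (by simpa using h0)
      ⟨0, by omega⟩
    exact one_ne_zero this
  have hfix : ∀ g ∈ H, (g : Matrix (Fin n) (Fin n) F) *ᵥ v = v := by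
    intro g hg
    obtain ⟨σ, hσ⟩ := hH hg
    have h1 : ∀ i, (g : Matrix (Fin n) (Fin n) F) *ᵥ d i = d (σ i) := by
      intro i
      have hmem : (g : Matrix (Fin n) (Fin n) F) *ᵥ d i ∈ D (σ i) := by
        rw [← hσ i]
        exact ⟨d i, hdD i, by simp [Matrix.toLin'_apply]⟩
      rcases hdall (σ i) _ hmem with h | h
      · exfalso
        have hinj : Function.Injective ((g : Matrix (Fin n) (Fin n) F).mulVec) :=
          Matrix.mulVec_injective_of_isUnit ((Matrix.isUnit_iff_isUnit_det _).mpr
            (Matrix.isUnits_det_units g))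
        apply hd0 i
        apply hinj
        rw [h, Matrix.mulVec_zero]
      · exact h
    rw [hv, Matrix.mulVec_sum]
    simp only [h1]
    exact Equiv.sum_comp σ d
  -- the invariant line
  have hinv : ∀ s ∈ matrixSet H, (F ∙ v).map (Matrix.toLin' s) ≤ F ∙ v := by
    rintro s ⟨g, hg, rfl⟩
    rw [Submodule.map_span, Set.image_singleton, Matrix.toLin'_apply, hfix g hg]
  rcases hirr (F ∙ v) hinv with h | h
  · rw [Submodule.span_singleton_eq_bot] at h
    exact hv0 h
  · have h1 : Module.finrank F (F ∙ v) = 1 := finrank_span_singleton hv0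
    rw [h, finrank_top, Module.finrank_fin_fun] at h1
    have h2 : Fintype.card (Fin t) ≤ Module.finrank F (Fin n → F) :=
      hli.fintype_card_le_finrank
    rw [Module.finrank_fin_fun, Fintype.card_fin] at h2
    omega

end Cfsg.Agent.Lib.Helper27.ASC
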