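import Mathlib
import Cfsg.Prelude.Def_GeometricClasses
import Cfsg.Agent.Lib.Helper27.ASC.Defs
import Cfsg.Agent.Lib.Lead.ASCU.Defs
import Cfsg.Agent.Lib.Helper25.ASCARITH

/-!
# Project ASCU, piece UARITH (core) : `q ^ 2 = p ^ e`, `e > 0` the order of `p` modulo `r ∈ {7, 11}`
-/

set_option autoImplicit false
set_option linter.unusedVariables false

namespace Cfsg.Agent.Lib.Lead.ASCU

open Cfsg Cfsg.Geo Cfsg.Agent.Lib.Helper27.ASC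
open scoped MatrixGroups Matrix

/-- `q ^ 2 = p ^ e` with `p` prime: `e = 2 k` and `q = p ^ k` -/
theorem ascuuarith_sqrt (q p e : ℕ) (hp : p.Prime) (hq : q ^ 2 = p ^ e) :
    ∃ k, e = 2 * k ∧ q = p ^ k := by
  have hq0 : q ≠ 0 := by
    rintro rfl
    have : 0 < p ^ e := pos_of_ne_zero (pow_ne_zero _ hp.ne_zero)
    rw [← hq] at this
    simp at this
  refine ⟨q.factorization p, ?_, ?_⟩
  · have h1 := congrArg (fun n => n.factorization p) hq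
    simp only [Nat.factorization_pow, Finsupp.smul_apply, smul_eq_mul, hp.factorization_self,
      mul_one] at h1
    exact h1.symm
  · have h1 := congrArg (fun n => n.factorization p) hq
    simp only [Nat.factorization_pow, Finsupp.smul_apply, smul_eq_mul, hp.factorization_self,
      mul_one] at h1
    have h2 : q ^ 2 = (p ^ q.factorization p) ^ 2 := by
      rw [hq, ← pow_mul, ← h1, mul_comm]
    exact Nat.pow_left_injective (by norm_num : 2 ≠ 0) h2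

/-- the common reduction: the data `(a, e)` with `a = p % r`, `e < r` -/
theorem ascuuarith_reduce (r p e : ℕ) (hr : r.Prime) (hp : p.Prime) (h3 : r ≠ p)
    (hdvd : r ∣ p ^ e - 1) (hmin : ∀ d : ℕ, 0 < d → d < e → ¬ r ∣ p ^ d - 1)
    (hfermat : ∀ a : ℕ, a < r → a ≠ 0 → a ^ (r - 1) % r = 1) :
    p % r < r ∧ p % r ≠ 0 ∧ e < r ∧ (p % r) ^ e % r = 1 ∧
      ∀ d : ℕ, d < e → 0 < d → (p % r) ^ d % r ≠ 1 := by
  have hr2 : 2 ≤ r := hr.two_le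
  have hp0 : 0 < p := hp.pos
  have ha : p % r < r := Nat.mod_lt _ (by omega)
  have ha0 := ascarith_res_ne_zero r p hr hp h3
  refine ⟨ha, ha0, ?_, (ascarith_key r p e hr2 hp0).mp hdvd, ?_⟩
  · by_contra hcon
    push Not at hcon
    have h1 := hfermat (p % r) ha ha0
    exact hmin (r - 1) (by omega) (by omega) ((ascarith_key r p (r - 1) hr2 hp0).mpr h1)
  · intro d hd hd0 h
    exact hmin d hd0 hd ((ascarith_key r p d hr2 hp0).mpr h)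

theorem ascuuarith_fin7 : ∀ a : Fin 7, ∀ e : Fin 7, a.val ≠ 0 → 0 < e.val → e.val % 2 = 0 →
    a.val ^ e.val % 7 = 1 →
    (∀ d : Fin 7, d.val < e.val → 0 < d.val → a.val ^ d.val % 7 ≠ 1) →
    (e.val = 2 ∧ a.val = 6) ∨ (e.val = 6 ∧ (a.val = 3 ∨ a.val = 5)) := by
  decide

theorem ascuuarith_table7 : ∀ a : ℕ, a < 7 → ∀ e : ℕ, e < 7 → a ≠ 0 → 0 < e → e % 2 = 0 →
    a ^ e % 7 = 1 → (∀ d : ℕ, d < e → 0 < d → a ^ d % 7 ≠ 1) →
    (e = 2 ∧ a = 6) ∨ (e = 6 ∧ (a = 3 ∨ a = 5)) := by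
  intro a ha e he h1 h0 h2 h3 h4
  exact ascuuarith_fin7 ⟨a, ha⟩ ⟨e, he⟩ h1 h0 h2 h3 (fun d hd hd0 => h4 d.val hd hd0)

set_option maxRecDepth 100000 in
set_option synthInstance.maxSize 100000 in
set_option synthInstance.maxHeartbeats 2000000 in
theorem ascuuarith_fin11 : ∀ a : Fin 11, ∀ e : Fin 11, a.val ≠ 0 → 0 < e.val → e.val % 2 = 0 →
    a.val ^ e.val % 11 = 1 →
    (∀ d : Fin 11, d.val < e.val → 0 < d.val → a.val ^ d.val % 11 ≠ 1) →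
    (e.val = 2 ∧ a.val = 10) ∨
      (e.val = 10 ∧ (a.val = 2 ∨ a.val = 6 ∨ a.val = 7 ∨ a.val = 8)) := by
  decide

theorem ascuuarith_table11 : ∀ a : ℕ, a < 11 → ∀ e : ℕ, e < 11 → a ≠ 0 → 0 < e → e % 2 = 0 →
    a ^ e % 11 = 1 → (∀ d : ℕ, d < e → 0 < d → a ^ d % 11 ≠ 1) →
    (e = 2 ∧ a = 10) ∨ (e = 10 ∧ (a = 2 ∨ a = 6 ∨ a = 7 ∨ a = 8)) := by
  intro a ha e he h1 h0 h2 h3 h4
  exact ascuuarith_fin11 ⟨a, ha⟩ ⟨e, he⟩ h1 h0 h2 h3 (fun d hd hd0 => h4 d.val hd hd0)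

/-- UARITH7 with `0 < e` -/
theorem ascuuarith_7 (q p e : ℕ) (hp : p.Prime) (hq : q ^ 2 = p ^ e) (he0 : 0 < e) (h7 : 7 ≠ p)
    (hdvd : 7 ∣ p ^ e - 1) (hmin : ∀ d : ℕ, 0 < d → d < e → ¬ 7 ∣ p ^ d - 1) :
    (q = p ∧ p % 7 = 6) ∨ (q = p ^ 3 ∧ (p % 7 = 3 ∨ p % 7 = 5)) := by
  obtain ⟨k, hk, hqk⟩ := ascuuarith_sqrt q p e hp hq
  obtain ⟨h1, h2, h4, h6, h7'⟩ :=
    ascuuarith_reduce 7 p e (by norm_num) hp h7 hdvd hmin (by decide)
  rcases ascuuarith_table7 _ h1 e h4 h2 he0 (by omega) h6 h7' with ⟨he, ha⟩ | ⟨he, ha⟩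
  · left
    have : k = 1 := by omega
    rw [this, pow_one] at hqk
    exact ⟨hqk, ha⟩
  · right
    have : k = 3 := by omega
    rw [this] at hqk
    exact ⟨hqk, ha⟩

/-- UARITH11 with `0 < e` -/
theorem ascuuarith_11 (q p e : ℕ) (hp : p.Prime) (hq : q ^ 2 = p ^ e) (he0 : 0 < e) (h11 : 11 ≠ p)
    (hdvd : 11 ∣ p ^ e - 1) (hmin : ∀ d : ℕ, 0 < d → d < e → ¬ 11 ∣ p ^ d - 1) :
    (q = p ∧ p % 11 = 10) ∨
      (q = p ^ 5 ∧ (p % 11 = 2 ∨ p % 11 = 6 ∨ p % 11 = 7 ∨ p % 11 = 8)) := by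
  obtain ⟨k, hk, hqk⟩ := ascuuarith_sqrt q p e hp hq
  obtain ⟨h1, h2, h4, h6, h7'⟩ :=
    ascuuarith_reduce 11 p e (by norm_num) hp h11 hdvd hmin (by decide)
  rcases ascuuarith_table11 _ h1 e h4 h2 he0 (by omega) h6 h7' with ⟨he, ha⟩ | ⟨he, ha⟩
  · left
    have : k = 1 := by omega
    rw [this, pow_one] at hqk
    exact ⟨hqk, ha⟩
  · right
    have : k = 5 := by omega
    rw [this] at hqk
    exact ⟨hqk, ha⟩

/-- `0 < e` from `1 < q` -/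
theorem ascuuarith_pos (q p e : ℕ) (hq : q ^ 2 = p ^ e) (hq1 : 1 < q) : 0 < e := by
  rcases Nat.eq_zero_or_pos e with rfl | h
  · exfalso
    rw [pow_zero] at hq
    have : 1 < q ^ 2 := Nat.one_lt_pow (by norm_num) hq1
    omega
  · exact h

end Cfsg.Agent.Lib.Lead.ASCU
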