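import Mathlib

set_option autoImplicit false

namespace Cfsg.Agent.Lib.Helper19.A6Inv

open Equiv Equiv.Perm

/-- the base involution `(0 1)(2 3)` -/
def z0p : Perm (Fin 6) := swap 0 1 * swap 2 3

/-- computable order predicate -/
def ordIs (y : Perm (Fin 6)) (m : ℕ) : Prop :=
  y ^ m = 1 ∧ ∀ k ∈ Finset.range m, 0 < k → y ^ k ≠ 1

instance ordIs_decidable (y : Perm (Fin 6)) (m : ℕ) : Decidable (ordIs y m) := by
  unfold ordIs; infer_instance

set_option maxRecDepth 100000 in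
theorem cent8 : (Finset.univ.filter (fun σ : Perm (Fin 6) =>
    Equiv.Perm.sign σ = 1 ∧ σ * z0p = z0p * σ)).card = 8 := by
  decide +kernel

set_option maxRecDepth 100000 in
theorem cnt16 : ∀ m ∈ Finset.Icc 1 6, (Finset.univ.filter (fun w : Perm (Fin 6) =>
    Equiv.Perm.sign w = 1 ∧ w ≠ 1 ∧ w * w = 1 ∧ ordIs (z0p * w) m)).card ≤ 16 := by
  decide +kernel

set_option maxRecDepth 100000 in
theorem ordle6 : ∀ y : Perm (Fin 6), ∃ k ∈ Finset.range 7, 0 < k ∧ y ^ k = 1 := by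
  decide +kernel

theorem orderOf_le6 (y : Perm (Fin 6)) : 1 ≤ orderOf y ∧ orderOf y ≤ 6 := by
  obtain ⟨k, hk, hk0, hk1⟩ := ordle6 y
  have hd : orderOf y ∣ k := orderOf_dvd_of_pow_eq_one hk1
  have hle := Nat.le_of_dvd hk0 hd
  have hk7 : k < 7 := Finset.mem_range.1 hk
  exact ⟨orderOf_pos y, by omega⟩

theorem ordIs_of_orderOf (y : Perm (Fin 6)) {m : ℕ} (h : orderOf y = m) : ordIs y m := by
  refine ⟨by rw [← h]; exact pow_orderOf_eq_one y, ?_⟩
  intro k hk hk0
  rw [← h] at hk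
  exact pow_ne_one_of_lt_orderOf (by omega) (Finset.mem_range.1 hk)

theorem z0p_mem : z0p ∈ alternatingGroup (Fin 6) := by
  rw [Equiv.Perm.mem_alternatingGroup]; decide

/-- the base involution in `A_6` -/
def z0 : alternatingGroup (Fin 6) := ⟨z0p, z0p_mem⟩

theorem cycleType_z0p : z0p.cycleType = {2, 2} := by
  have d1 : Equiv.Perm.Disjoint (swap (0 : Fin 6) 1) (swap 2 3) := by
    unfold Equiv.Perm.Disjoint; decide
  have c1 : (swap (0 : Fin 6) 1).cycleType = {2} := by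
    rw [(Equiv.Perm.isCycle_swap (by decide)).cycleType, Equiv.Perm.card_support_swap (by decide)]
  have c2 : (swap (2 : Fin 6) 3).cycleType = {2} := by
    rw [(Equiv.Perm.isCycle_swap (by decide)).cycleType, Equiv.Perm.card_support_swap (by decide)]
  show (swap (0 : Fin 6) 1 * swap 2 3).cycleType = _
  rw [Equiv.Perm.Disjoint.cycleType_mul d1, c1, c2]
  rfl

/-- involutions of `A_6` have cycle type `2,2` -/
theorem cycleType_of_involution (a : Perm (Fin 6)) (h2 : orderOf a = 2)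
    (hs : Equiv.Perm.sign a = 1) : a.cycleType = {2, 2} := by
  have hp : (orderOf a).Prime := by rw [h2]; norm_num
  obtain ⟨n, hn⟩ := Equiv.Perm.cycleType_prime_order hp
  rw [h2] at hn
  have hsum : a.cycleType.sum = a.support.card := Equiv.Perm.sum_cycleType a
  have hle : a.support.card ≤ 6 := by
    have := Finset.card_le_univ a.support
    simpa using this
  rw [hn, Multiset.sum_replicate, smul_eq_mul] at hsum
  have hn3 : n = 0 ∨ n = 1 ∨ n = 2 := by omega
  have hsg := Equiv.Perm.sign_of_cycleType a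
  rw [hs, hn] at hsg
  rcases hn3 with h | h | h
  · exfalso; rw [h] at hsg; revert hsg; decide
  · rw [hn, h]; rfl
  · exfalso; rw [h] at hsg; revert hsg; decide

/-- all involutions of `A_6` are conjugate to `z0` inside `A_6` -/
theorem conj_z0 (a : alternatingGroup (Fin 6)) (ha : orderOf a = 2) :
    ∃ σ : alternatingGroup (Fin 6), σ * z0 * σ⁻¹ = a := by
  have ha' : orderOf (a : Perm (Fin 6)) = 2 := by rw [Subgroup.orderOf_coe]; exact ha
  have hs : Equiv.Perm.sign (a : Perm (Fin 6)) = 1 := Equiv.Perm.mem_alternatingGroup.1 a.2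
  have hct := cycleType_of_involution _ ha' hs
  have hconj : IsConj z0p (a : Perm (Fin 6)) := by
    rw [Equiv.Perm.isConj_iff_cycleType_eq, cycleType_z0p, hct]
  obtain ⟨σ, hσ⟩ := isConj_iff.1 hconj
  rcases Int.units_eq_one_or (Equiv.Perm.sign σ) with h1 | h1
  · refine ⟨⟨σ, Equiv.Perm.mem_alternatingGroup.2 h1⟩, ?_⟩
    apply Subtype.ext
    exact hσ
  · have hcomm : swap (0 : Fin 6) 1 * z0p * (swap (0 : Fin 6) 1)⁻¹ = z0p := by decide
    have hsgn : Equiv.Perm.sign (σ * swap (0 : Fin 6) 1) = 1 := by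
      rw [map_mul, h1, Equiv.Perm.sign_swap (by decide)]; rfl
    refine ⟨⟨σ * swap (0 : Fin 6) 1, Equiv.Perm.mem_alternatingGroup.2 hsgn⟩, ?_⟩
    apply Subtype.ext
    show σ * swap (0 : Fin 6) 1 * z0p * (σ * swap (0 : Fin 6) 1)⁻¹ = (a : Perm (Fin 6))
    rw [mul_inv_rev, ← hσ]
    calc σ * swap (0 : Fin 6) 1 * z0p * ((swap (0 : Fin 6) 1)⁻¹ * σ⁻¹)
        = σ * (swap (0 : Fin 6) 1 * z0p * (swap (0 : Fin 6) 1)⁻¹) * σ⁻¹ := by group
      _ = σ * z0p * σ⁻¹ := by rw [hcomm]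

end Cfsg.Agent.Lib.Helper19.A6Inv
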