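import Mathlib
import Cfsg.Agent.Lib.Helper19.A6Inv

set_option autoImplicit false

namespace Cfsg.Agent.Lib.Helper19.D8A6

open Equiv Equiv.Perm DihedralGroup Cfsg.Agent.Lib.Helper19.A6Inv

/-- conjugate elements have isomorphic centralisers -/
def centralizerConj {H : Type*} [Group H] (σ x y : H) (h : σ * x * σ⁻¹ = y) :
    ↥(Subgroup.centralizer ({x} : Set H)) ≃* ↥(Subgroup.centralizer ({y} : Set H)) where
  toFun g := ⟨σ * g * σ⁻¹, by
    have hg : (g : H) * x = x * g := Subgroup.mem_centralizer_singleton_iff.mp g.2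
    rw [Subgroup.mem_centralizer_singleton_iff, ← h]
    calc σ * g * σ⁻¹ * (σ * x * σ⁻¹) = σ * ((g : H) * x) * σ⁻¹ := by group
      _ = σ * (x * g) * σ⁻¹ := by rw [hg]
      _ = σ * x * σ⁻¹ * (σ * g * σ⁻¹) := by group⟩
  invFun g := ⟨σ⁻¹ * g * σ, by
    have hg : (g : H) * y = y * g := Subgroup.mem_centralizer_singleton_iff.mp g.2
    have hx : x = σ⁻¹ * y * σ := by rw [← h]; group
    rw [Subgroup.mem_centralizer_singleton_iff, hx]
    calc σ⁻¹ * g * σ * (σ⁻¹ * y * σ) = σ⁻¹ * ((g : H) * y) * σ := by group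
      _ = σ⁻¹ * (y * g) * σ := by rw [hg]
      _ = σ⁻¹ * y * σ * (σ⁻¹ * g * σ) := by group⟩
  left_inv g := by
    apply Subtype.ext
    show σ⁻¹ * (σ * (g : H) * σ⁻¹) * σ = g
    group
  right_inv g := by
    apply Subtype.ext
    show σ * (σ⁻¹ * (g : H) * σ) * σ⁻¹ = g
    group
  map_mul' g g' := by
    apply Subtype.ext
    show σ * ((g : H) * (g' : H)) * σ⁻¹ = σ * g * σ⁻¹ * (σ * g' * σ⁻¹)
    group

/-- the rotation `(0 2 1 3)(4 5)` -/
def rho : Perm (Fin 6) := swap 0 2 * swap 2 1 * swap 1 3 * swap 4 5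

/-- the reflection `(0 2)(1 3)` -/
def sig : Perm (Fin 6) := swap 0 2 * swap 1 3

/-- the explicit copy of `D₈` inside `Sym 6` -/
def phiP : DihedralGroup 4 → Perm (Fin 6)
  | r i => rho ^ i.val
  | sr i => sig * rho ^ i.val

theorem phiP_even : ∀ y : DihedralGroup 4, Perm.sign (phiP y) = 1 := by decide

theorem phiP_mul : ∀ x y : DihedralGroup 4, phiP (x * y) = phiP x * phiP y := by decide

theorem phiP_comm : ∀ y : DihedralGroup 4, phiP y * z0p = z0p * phiP y := by decide

theorem phiP_inj : ∀ x y : DihedralGroup 4, phiP x = phiP y → x = y := by decide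

/-- the homomorphism from `D₈` onto the centraliser of `z0` in `A₆` -/
def phi : DihedralGroup 4 →* ↥(Subgroup.centralizer ({z0} : Set ↥(alternatingGroup (Fin 6)))) where
  toFun y := ⟨⟨phiP y, Perm.mem_alternatingGroup.mpr (phiP_even y)⟩, by
    rw [Subgroup.mem_centralizer_singleton_iff]
    apply Subtype.ext
    exact phiP_comm y⟩
  map_one' := by
    apply Subtype.ext
    apply Subtype.ext
    show phiP 1 = 1
    decide
  map_mul' x y := by
    apply Subtype.ext
    apply Subtype.ext
    exact phiP_mul x y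

theorem card_centralizer_z0 :
    Nat.card ↥(Subgroup.centralizer ({z0} : Set ↥(alternatingGroup (Fin 6)))) = 8 := by
  classical
  let f : ↥(Subgroup.centralizer ({z0} : Set ↥(alternatingGroup (Fin 6)))) ≃
      {σ : Perm (Fin 6) // Perm.sign σ = 1 ∧ σ * z0p = z0p * σ} :=
    { toFun := fun g => ⟨((g : ↥(alternatingGroup (Fin 6))) : Perm (Fin 6)),
        Perm.mem_alternatingGroup.mp (g : ↥(alternatingGroup (Fin 6))).2, by
          have h := Subgroup.mem_centralizer_singleton_iff.mp g.2
          exact congrArg Subtype.val h⟩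
      invFun := fun σ => ⟨⟨σ.1, Perm.mem_alternatingGroup.mpr σ.2.1⟩, by
        rw [Subgroup.mem_centralizer_singleton_iff]
        apply Subtype.ext
        exact σ.2.2⟩
      left_inv := fun g => rfl
      right_inv := fun σ => rfl }
  rw [Nat.card_congr f, Nat.card_eq_fintype_card, Fintype.card_subtype]
  exact cent8

/-- the centraliser of `z0` in `A₆` is dihedral of order 8 -/
noncomputable def centZ0Equiv :
    ↥(Subgroup.centralizer ({z0} : Set ↥(alternatingGroup (Fin 6)))) ≃* DihedralGroup 4 := by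
  have hinj : Function.Injective phi := by
    intro x y h
    apply phiP_inj
    have h1 : ((phi x : ↥(Subgroup.centralizer ({z0} : Set ↥(alternatingGroup (Fin 6))))) :
        ↥(alternatingGroup (Fin 6))) = phi y := congrArg Subtype.val h
    exact congrArg Subtype.val h1
  have hle : Nat.card ↥(Subgroup.centralizer ({z0} : Set ↥(alternatingGroup (Fin 6)))) ≤
      Nat.card (DihedralGroup 4) := by
    rw [card_centralizer_z0, DihedralGroup.nat_card]
  exact (MulEquiv.ofBijective phi (hinj.bijective_of_nat_card_le hle)).symm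

/-- the centraliser of any involution of `A₆` is dihedral of order 8 -/
theorem nonempty_cent_equiv (a : ↥(alternatingGroup (Fin 6))) (ha : orderOf a = 2) :
    Nonempty (↥(Subgroup.centralizer ({a} : Set ↥(alternatingGroup (Fin 6)))) ≃* DihedralGroup 4) := by
  obtain ⟨σ, hσ⟩ := conj_z0 a ha
  exact ⟨(centralizerConj σ z0 a hσ).symm.trans centZ0Equiv⟩

end Cfsg.Agent.Lib.Helper19.D8A6
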