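import Mathlib

set_option autoImplicit false

namespace Cfsg.Agent.Lib.Helper19.D8Arith

/-- the final Diophantine step -/
theorem core2 (ε w d1 dξ N : ℤ) (hε : ε = 1 ∨ ε = -1) (hw : w = 2 ∨ w = -2)
    (hd1 : 2 ≤ d1) (hdξ : 2 ≤ dξ)
    (h1 : 2 + 2 * ε * d1 + w * dξ = 0)
    (h2 : (N : ℚ) * (2 + 2 * ε / d1 + 4 * w / dξ) = 512)
    (hmod : (8 : ℤ) ∣ d1 - ε) (hN8 : (8 : ℤ) ∣ N) : N = 168 ∨ N = 360 := by
  obtain ⟨M, rfl⟩ := hN8
  have hd1q : (d1 : ℚ) ≠ 0 := by
    have : (0 : ℤ) < d1 := by omega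
    exact_mod_cast this.ne'
  have hdξq : (dξ : ℚ) ≠ 0 := by
    have : (0 : ℤ) < dξ := by omega
    exact_mod_cast this.ne'
  rcases hε with rfl | rfl <;> rcases hw with rfl | rfl
  · exfalso; nlinarith
  · -- ε = 1, w = -2 : dξ = d1 + 1
    right
    have hdξ' : dξ = d1 + 1 := by linarith
    subst hdξ'
    obtain ⟨j, hj⟩ := hmod
    have hd1' : d1 = 8 * j + 1 := by linarith
    subst hd1'
    have hj1 : 1 ≤ j := by omega
    have h3 : (M : ℚ) * (j : ℚ) ^ 2 = 32 * (j : ℚ) ^ 2 + 12 * j + 1 := by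
      field_simp at h2
      push_cast at h2 ⊢
      linear_combination (1 / 1024 : ℚ) * h2
    have h5 : M * j ^ 2 = 32 * j ^ 2 + 12 * j + 1 := by
      exact_mod_cast h3
    have h6 : j ∣ 1 := by
      have : j ∣ M * j ^ 2 - 32 * j ^ 2 - 12 * j :=
        ⟨M * j - 32 * j - 12, by ring⟩
      rwa [show M * j ^ 2 - 32 * j ^ 2 - 12 * j = 1 by linarith] at this
    have hj : j = 1 := by
      have := Int.le_of_dvd one_pos h6
      omega
    subst hj
    omega
  · -- ε = -1, w = 2 : dξ = d1 - 1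
    left
    have hdξ' : dξ = d1 - 1 := by linarith
    subst hdξ'
    obtain ⟨j, hj⟩ := hmod
    have hd1' : d1 = 8 * j - 1 := by linarith
    subst hd1'
    have hj1 : 1 ≤ j := by omega
    have h3 : (M : ℚ) * (j : ℚ) ^ 2 = 32 * (j : ℚ) ^ 2 - 12 * j + 1 := by
      field_simp at h2
      push_cast at h2 ⊢
      linear_combination (1 / 1024 : ℚ) * h2
    have h5 : M * j ^ 2 = 32 * j ^ 2 - 12 * j + 1 := by
      exact_mod_cast h3
    have h6 : j ∣ 1 := by
      have : j ∣ M * j ^ 2 - 32 * j ^ 2 + 12 * j :=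
        ⟨M * j - 32 * j + 12, by ring⟩
      rwa [show M * j ^ 2 - 32 * j ^ 2 + 12 * j = 1 by linarith] at this
    have hj : j = 1 := by
      have := Int.le_of_dvd one_pos h6
      omega
    subst hj
    omega
  · exfalso; nlinarith

/-- arithmetic heart of the `D₈`-centraliser theorem -/
theorem d8_arith {X : Type*} [Fintype X] [DecidableEq X] (x0 : X) (u v d : X → ℤ) (N : ℤ)
    (hd1 : ∀ x, x ≠ x0 → 2 ≤ d x)
    (hu0 : u x0 = 1) (hv0 : v x0 = 1) (hd0 : d x0 = 1)
    (hpar : ∀ x, (2 : ℤ) ∣ u x + v x)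
    (hmod : ∀ x, (8 : ℤ) ∣ d x + u x - 2 * v x)
    (O1 : ∑ x, v x * v x = 4) (O2 : ∑ x, u x * u x = 8) (O3 : ∑ x, u x * v x = 0)
    (O45 : ∑ x, d x * (u x + v x) = 0)
    (C12 : (N : ℚ) * ∑ x, (u x : ℚ) * u x * (u x + v x) / d x = 512)
    (hN8 : (8 : ℤ) ∣ N) : N = 168 ∨ N = 360 := by
  classical
  set Y := (Finset.univ : Finset X).erase x0 with hY
  have hsplit : ∀ f : X → ℤ, ∑ x, f x = f x0 + ∑ x ∈ Y, f x := fun f =>
    (Finset.add_sum_erase _ f (Finset.mem_univ x0)).symm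
  have Y1 : ∑ x ∈ Y, v x * v x = 3 := by
    have := hsplit (fun x => v x * v x)
    simp only [O1, hv0] at this
    linarith
  have Y2 : ∑ x ∈ Y, u x * u x = 7 := by
    have := hsplit (fun x => u x * u x)
    simp only [O2, hu0] at this
    linarith
  have Y3 : ∑ x ∈ Y, u x * v x = -1 := by
    have := hsplit (fun x => u x * v x)
    simp only [O3, hu0, hv0] at this
    linarith
  have Yz : ∑ x ∈ Y, (u x + v x) * (u x + v x) = 8 := by
    have h : ∀ x, (u x + v x) * (u x + v x) = u x * u x + 2 * (u x * v x) + v x * v x :=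
      fun x => by ring
    simp only [h, Finset.sum_add_distrib, ← Finset.mul_sum]
    rw [Y1, Y2, Y3]
    norm_num
  have bv : ∀ x ∈ Y, v x * v x ≤ 3 := fun x hx =>
    Y1 ▸ Finset.single_le_sum (f := fun x => v x * v x) (fun i _ => mul_self_nonneg _) hx
  have bu : ∀ x ∈ Y, u x * u x ≤ 7 := fun x hx =>
    Y2 ▸ Finset.single_le_sum (f := fun x => u x * u x) (fun i _ => mul_self_nonneg _) hx
  have bz : ∀ x ∈ Y, (u x + v x) * (u x + v x) ≤ 8 := fun x hx =>
    Yz ▸ Finset.single_le_sum (f := fun x => (u x + v x) * (u x + v x))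
      (fun i _ => mul_self_nonneg _) hx
  set Z := Y.filter (fun x => u x + v x ≠ 0) with hZ
  have hZ4 : ∀ x ∈ Z, (u x + v x) * (u x + v x) = 4 := by
    intro x hx
    obtain ⟨hxY, hne⟩ := Finset.mem_filter.mp hx
    obtain ⟨k, hk⟩ := hpar x
    have hb := bz x hxY
    rw [hk] at hb hne ⊢
    have hk2 : k * k ≤ 2 := by nlinarith
    have hk0 : k ≠ 0 := by
      rintro rfl
      simp at hne
    have hk1 : k = 1 ∨ k = -1 := by
      have h1 : -1 ≤ k := by nlinarith
      have h2 : k ≤ 1 := by nlinarith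
      omega
    rcases hk1 with rfl | rfl <;> norm_num
  have hZsum : ∑ x ∈ Z, (u x + v x) * (u x + v x) = 8 := by
    rw [← Yz]
    apply Finset.sum_filter_of_ne
    intro x _ h h0
    apply h
    rw [h0, zero_mul]
  have hZcard : Z.card = 2 := by
    rw [Finset.sum_congr rfl hZ4, Finset.sum_const, nsmul_eq_mul] at hZsum
    have : (Z.card : ℤ) = 2 := by linarith
    exact_mod_cast this
  obtain ⟨y1, y2, hne, hZeq⟩ := Finset.card_eq_two.mp hZcard
  have hy1Z : y1 ∈ Z := by rw [hZeq]; simp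
  have hy2Z : y2 ∈ Z := by rw [hZeq]; simp
  have hy1Y : y1 ∈ Y := (Finset.mem_filter.mp hy1Z).1
  have hy2Y : y2 ∈ Y := (Finset.mem_filter.mp hy2Z).1
  have hy10 : y1 ≠ x0 := (Finset.mem_erase.mp hy1Y).1
  have hy20 : y2 ≠ x0 := (Finset.mem_erase.mp hy2Y).1
  have hoff : ∀ x, x ≠ x0 → x ≠ y1 → x ≠ y2 → u x + v x = 0 := by
    intro x h0 h1 h2
    by_contra hne0
    have hxZ : x ∈ Z := Finset.mem_filter.mpr ⟨Finset.mem_erase.mpr ⟨h0, Finset.mem_univ x⟩, hne0⟩
    rw [hZeq] at hxZ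
    simp only [Finset.mem_insert, Finset.mem_singleton] at hxZ
    rcases hxZ with h | h
    · exact h1 h
    · exact h2 h
  have hthree : ∀ {R : Type} [AddCommMonoid R] (g : X → R), (∀ x, u x + v x = 0 → g x = 0) →
      ∑ x, g x = g x0 + (g y1 + g y2) := by
    intro R _ g hg
    have hsub : ({x0, y1, y2} : Finset X) ⊆ Finset.univ := Finset.subset_univ _
    rw [← Finset.sum_subset hsub]
    · rw [Finset.sum_insert, Finset.sum_insert, Finset.sum_singleton]
      · simp only [Finset.mem_singleton]; exact hne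
      · simp only [Finset.mem_insert, Finset.mem_singleton, not_or]
        exact ⟨Ne.symm hy10, Ne.symm hy20⟩
    · intro x _ hx
      simp only [Finset.mem_insert, Finset.mem_singleton, not_or] at hx
      exact hg x (hoff x hx.1 hx.2.1 hx.2.2)
  -- the three relevant equations
  have E1 := hthree (fun x => d x * (u x + v x)) (fun x h => by simp only [h, mul_zero])
  rw [O45] at E1
  have E2 := hthree (fun x => (u x - v x) * (u x + v x)) (fun x h => by simp only [h, mul_zero])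
  have E2' : ∑ x, (u x - v x) * (u x + v x) = 4 := by
    have h : ∀ x, (u x - v x) * (u x + v x) = u x * u x - v x * v x := fun x => by ring
    simp only [h, Finset.sum_sub_distrib, O1, O2]
    norm_num
  rw [E2'] at E2
  have E3 := hthree (fun x => (u x : ℚ) * u x * (u x + v x) / d x) (fun x h => by
    have h' : (u x : ℚ) + v x = 0 := by exact_mod_cast h
    simp only [h', mul_zero, zero_div])
  rw [E3] at C12
  -- the types of y1 and y2
  have htype : ∀ y ∈ Z, (u y = 1 ∧ v y = 1) ∨ (u y = -1 ∧ v y = -1) ∨ (u y = 2 ∧ v y = 0) ∨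
      (u y = -2 ∧ v y = 0) := by
    intro y hy
    have hyY := (Finset.mem_filter.mp hy).1
    have h4 := hZ4 y hy
    have h1 := bv y hyY
    have h2 := bu y hyY
    have hv1 : -1 ≤ v y ∧ v y ≤ 1 := by constructor <;> nlinarith
    have hu1 : -2 ≤ u y ∧ u y ≤ 2 := by constructor <;> nlinarith
    have hz : u y + v y = 2 ∨ u y + v y = -2 := by
      have h5 : (u y + v y - 2) * (u y + v y + 2) = 0 := by linarith
      rcases mul_eq_zero.mp h5 with h | h
      · left; linarith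
      · right; linarith
    omega
  have hm1 := hmod y1
  have hm2 := hmod y2
  have hdy1 := hd1 y1 hy10
  have hdy2 := hd1 y2 hy20
  have hcast0 : ((1 : ℤ) : ℚ) = 1 := by norm_num
  rcases htype y1 hy1Z with ⟨hu1, hv1⟩ | ⟨hu1, hv1⟩ | ⟨hu1, hv1⟩ | ⟨hu1, hv1⟩ <;>
  rcases htype y2 hy2Z with ⟨hu2, hv2⟩ | ⟨hu2, hv2⟩ | ⟨hu2, hv2⟩ | ⟨hu2, hv2⟩ <;>
  simp only [hu1, hv1, hu2, hv2, hu0, hv0, hd0] at E1 E2 C12 hm1 hm2 <;>
  first
  | (exfalso; omega)
  | exact core2 1 2 (d y1) (d y2) N (Or.inl rfl) (Or.inl rfl) hdy1 hdy2 (by linarith)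
      (by push_cast at C12 ⊢; linear_combination C12) (by omega) hN8
  | exact core2 1 (-2) (d y1) (d y2) N (Or.inl rfl) (Or.inr rfl) hdy1 hdy2 (by linarith)
      (by push_cast at C12 ⊢; linear_combination C12) (by omega) hN8
  | exact core2 (-1) 2 (d y1) (d y2) N (Or.inr rfl) (Or.inl rfl) hdy1 hdy2 (by linarith)
      (by push_cast at C12 ⊢; linear_combination C12) (by omega) hN8
  | exact core2 (-1) (-2) (d y1) (d y2) N (Or.inr rfl) (Or.inr rfl) hdy1 hdy2 (by linarith)
      (by push_cast at C12 ⊢; linear_combination C12) (by omega) hN8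
  | exact core2 1 2 (d y2) (d y1) N (Or.inl rfl) (Or.inl rfl) hdy2 hdy1 (by linarith)
      (by push_cast at C12 ⊢; linear_combination C12) (by omega) hN8
  | exact core2 1 (-2) (d y2) (d y1) N (Or.inl rfl) (Or.inr rfl) hdy2 hdy1 (by linarith)
      (by push_cast at C12 ⊢; linear_combination C12) (by omega) hN8
  | exact core2 (-1) 2 (d y2) (d y1) N (Or.inr rfl) (Or.inl rfl) hdy2 hdy1 (by linarith)
      (by push_cast at C12 ⊢; linear_combination C12) (by omega) hN8
  | exact core2 (-1) (-2) (d y2) (d y1) N (Or.inr rfl) (Or.inr rfl) hdy2 hdy1 (by linarith)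
      (by push_cast at C12 ⊢; linear_combination C12) (by omega) hN8

end Cfsg.Agent.Lib.Helper19.D8Arith
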