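import Mathlib

set_option autoImplicit false

namespace Cfsg.Agent.Lib.Helper19.D8Group

open DihedralGroup

theorem d4_center : ∀ y : DihedralGroup 4, (∀ x : DihedralGroup 4, x * y = y * x) → y ≠ 1 →
    y = r 2 := by
  decide

theorem d4_cent_r1_card : Fintype.card {y : DihedralGroup 4 // y * r 1 = r 1 * y} = 4 := by
  decide

theorem d4_invert_r1 : ∀ y : DihedralGroup 4, y * r 1 * y⁻¹ = (r 1)⁻¹ → ∃ i : ZMod 4, y = sr i := by
  decide

theorem d4_invol : ∀ y : DihedralGroup 4, y * y = 1 → y ≠ 1 → y ≠ r 2 → ∃ i : ZMod 4, y = sr i := by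
  decide

theorem d4_sr_conj : ∀ i : ZMod 4, (sr i : DihedralGroup 4) * r 1 * (sr i)⁻¹ = (r 1)⁻¹ := by
  decide

theorem d4_sr_sq : ∀ i : ZMod 4, (sr i : DihedralGroup 4) * sr i = 1 := by
  decide

section basic

variable {G : Type*} [Group G] {t : G}
  (e : ↥(Subgroup.centralizer ({t} : Set G)) ≃* DihedralGroup 4)

/-- the element of `G` corresponding to an element of the dihedral group -/
def el (y : DihedralGroup 4) : G := ((e.symm y : ↥(Subgroup.centralizer ({t} : Set G))) : G)

theorem el_mul (x y : DihedralGroup 4) : el e (x * y) = el e x * el e y := by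
  unfold el
  rw [map_mul, Subgroup.coe_mul]

theorem el_one : el e 1 = 1 := by
  unfold el
  rw [map_one, Subgroup.coe_one]

theorem el_inv (x : DihedralGroup 4) : el e x⁻¹ = (el e x)⁻¹ := by
  unfold el
  rw [map_inv, Subgroup.coe_inv]

theorem el_injective : Function.Injective (el e) := by
  intro x y h
  unfold el at h
  exact e.symm.injective (Subtype.ext h)

theorem el_mem (y : DihedralGroup 4) : el e y ∈ Subgroup.centralizer ({t} : Set G) :=
  (e.symm y).2

theorem exists_el {g : G} (hg : g ∈ Subgroup.centralizer ({t} : Set G)) :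
    ∃ y : DihedralGroup 4, el e y = g := by
  refine ⟨e ⟨g, hg⟩, ?_⟩
  unfold el
  rw [MulEquiv.symm_apply_apply]

theorem t_mem : t ∈ Subgroup.centralizer ({t} : Set G) := by
  rw [Subgroup.mem_centralizer_singleton_iff]

theorem el_comm_t (y : DihedralGroup 4) : el e y * t = t * el e y :=
  Subgroup.mem_centralizer_singleton_iff.mp (el_mem e y)

theorem el_r2 (ht1 : t ≠ 1) : el e (r 2) = t := by
  have h1 : e ⟨t, t_mem⟩ = r 2 := by
    apply d4_center
    · intro x
      obtain ⟨x', rfl⟩ := e.surjective x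
      rw [← map_mul, ← map_mul]
      congr 1
      apply Subtype.ext
      rw [Subgroup.coe_mul, Subgroup.coe_mul]
      exact Subgroup.mem_centralizer_singleton_iff.mp x'.2
    · intro h
      apply ht1
      have h2 : (⟨t, t_mem⟩ : ↥(Subgroup.centralizer ({t} : Set G))) = 1 := by
        apply e.injective
        rw [h, map_one]
      exact congrArg Subtype.val h2
  unfold el
  rw [← h1, MulEquiv.symm_apply_apply]

theorem a_sq (ht1 : t ≠ 1) : el e (r 1) * el e (r 1) = t := by
  rw [← el_mul, r_mul_r]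
  exact el_r2 e ht1

theorem orderOf_el (y : DihedralGroup 4) : orderOf (el e y) = orderOf y := by
  unfold el
  rw [Subgroup.orderOf_coe, MulEquiv.orderOf_eq]

theorem orderOf_el_sr (i : ZMod 4) : orderOf (el e (sr i)) = 2 := by
  rw [orderOf_el, orderOf_sr]

theorem a_conj_inv : el e (sr 0) * el e (r 1) * (el e (sr 0))⁻¹ = (el e (r 1))⁻¹ := by
  rw [← el_inv, ← el_mul, ← el_mul, ← el_inv, d4_sr_conj]

theorem centralizer_a_le (ht1 : t ≠ 1) :
    Subgroup.centralizer ({el e (r 1)} : Set G) ≤ Subgroup.centralizer ({t} : Set G) := by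
  intro g hg
  rw [Subgroup.mem_centralizer_singleton_iff] at hg ⊢
  rw [← a_sq e ht1, ← mul_assoc, hg, mul_assoc, hg, mul_assoc]

theorem card_centralizer_a [Finite G] (ht1 : t ≠ 1) :
    Nat.card (Subgroup.centralizer ({el e (r 1)} : Set G)) = 4 := by
  have hle := centralizer_a_le e ht1
  let f : ↥(Subgroup.centralizer ({el e (r 1)} : Set G)) ≃
      {y : DihedralGroup 4 // y * r 1 = r 1 * y} :=
    { toFun := fun g => ⟨e ⟨g, hle g.2⟩, by
        have h1 : (g : G) * el e (r 1) = el e (r 1) * (g : G) :=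
          Subgroup.mem_centralizer_singleton_iff.mp g.2
        have h2 : (⟨g, hle g.2⟩ : ↥(Subgroup.centralizer ({t} : Set G))) * e.symm (r 1) =
            e.symm (r 1) * ⟨g, hle g.2⟩ := Subtype.ext h1
        have h3 := congrArg e h2
        rwa [map_mul, map_mul, MulEquiv.apply_symm_apply] at h3⟩
      invFun := fun y => ⟨el e y, by
        rw [Subgroup.mem_centralizer_singleton_iff, ← el_mul, ← el_mul, y.2]⟩
      left_inv := fun g => by
        apply Subtype.ext
        show el e (e ⟨g, hle g.2⟩) = g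
        unfold el
        rw [MulEquiv.symm_apply_apply]
      right_inv := fun y => by
        apply Subtype.ext
        show e ⟨el e y, _⟩ = y
        unfold el
        simp }
  rw [Nat.card_congr f, Nat.card_eq_fintype_card, d4_cent_r1_card]

include e in
theorem card_centralizer_t : Nat.card (Subgroup.centralizer ({t} : Set G)) = 8 := by
  rw [Nat.card_congr e.toEquiv, DihedralGroup.nat_card]

end basic

section sylow

variable {G : Type*} [Group G] [Finite G] {t : G}
  (e : ↥(Subgroup.centralizer ({t} : Set G)) ≃* DihedralGroup 4)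

include e in
/-- a nonidentity element of the centraliser of `t` commuting with the whole centraliser is `t` -/
theorem central_eq_t (ht1 : t ≠ 1) (z : G) (hz : z ∈ Subgroup.centralizer ({t} : Set G))
    (hz1 : z ≠ 1) (hc : ∀ x ∈ Subgroup.centralizer ({t} : Set G), x * z = z * x) : z = t := by
  obtain ⟨y, rfl⟩ := exists_el e hz
  have hy : y = r 2 := by
    apply d4_center
    · intro x
      apply el_injective e
      rw [el_mul, el_mul]
      exact hc _ (el_mem e x)
    · rintro rfl
      exact hz1 (el_one e)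
  rw [hy]
  exact el_r2 e ht1

include e in
theorem exists_sylow_eq (ht1 : t ≠ 1) :
    ∃ P : Sylow 2 G, (P : Subgroup G) = Subgroup.centralizer ({t} : Set G) := by
  set D := Subgroup.centralizer ({t} : Set G) with hD
  have hD2 : IsPGroup 2 D := IsPGroup.of_card (n := 3) (by rw [card_centralizer_t e]; norm_num)
  obtain ⟨P, hP⟩ := hD2.exists_le_sylow
  refine ⟨P, ?_⟩
  by_contra hne
  have hlt : D < P := lt_of_le_of_ne hP (Ne.symm hne)
  haveI : Group.IsNilpotent ↥(P : Subgroup G) := P.2.isNilpotent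
  have hnc := Group.normalizerCondition_of_isNilpotent (G := ↥(P : Subgroup G))
  have hlt' : D.subgroupOf P < ⊤ := by
    rw [lt_top_iff_ne_top]
    intro h
    rw [Subgroup.subgroupOf_eq_top] at h
    exact (not_le_of_gt hlt) h
  obtain ⟨x, hxN, hxD⟩ := SetLike.exists_of_lt (hnc _ hlt')
  apply hxD
  rw [Subgroup.mem_subgroupOf]
  -- `x` normalises `D`, so fixes `t`
  rw [Subgroup.mem_normalizer_iff] at hxN
  have hconj : ∀ d ∈ D, (x : G) * d * (x : G)⁻¹ ∈ D := by
    intro d hd
    have h1 : (⟨d, hP hd⟩ : ↥(P : Subgroup G)) ∈ D.subgroupOf P := by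
      rw [Subgroup.mem_subgroupOf]; exact hd
    have h2 := (hxN _).mp h1
    rw [Subgroup.mem_subgroupOf] at h2
    exact h2
  have hconj' : ∀ d ∈ D, (x : G)⁻¹ * d * (x : G) ∈ D := by
    intro d hd
    have h1 : x * (x⁻¹ * (⟨d, hP hd⟩ : ↥(P : Subgroup G)) * x) * x⁻¹ ∈ D.subgroupOf P := by
      rw [Subgroup.mem_subgroupOf]
      have : x * (x⁻¹ * (⟨d, hP hd⟩ : ↥(P : Subgroup G)) * x) * x⁻¹ = ⟨d, hP hd⟩ := by group
      rw [this]
      exact hd
    have h2 := (hxN _).mpr h1
    rw [Subgroup.mem_subgroupOf] at h2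
    exact h2
  have hz : (x : G) * t * (x : G)⁻¹ = t := by
    apply central_eq_t e ht1 _ (hconj t t_mem)
    · intro h
      apply ht1
      have : t = (x : G)⁻¹ * ((x : G) * t * (x : G)⁻¹) * (x : G) := by group
      rw [this, h]
      group
    · intro y hy
      have h1 := hconj' y hy
      have h2 : (x : G)⁻¹ * y * (x : G) * t = t * ((x : G)⁻¹ * y * (x : G)) :=
        Subgroup.mem_centralizer_singleton_iff.mp h1
      calc y * ((x : G) * t * (x : G)⁻¹)
          = (x : G) * ((x : G)⁻¹ * y * (x : G) * t) * (x : G)⁻¹ := by group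
        _ = (x : G) * (t * ((x : G)⁻¹ * y * (x : G))) * (x : G)⁻¹ := by rw [h2]
        _ = (x : G) * t * (x : G)⁻¹ * y := by group
  show (x : G) ∈ Subgroup.centralizer ({t} : Set G)
  rw [Subgroup.mem_centralizer_singleton_iff]
  calc (x : G) * t = ((x : G) * t * (x : G)⁻¹) * (x : G) := by group
    _ = t * (x : G) := by rw [hz]

end sylow

end Cfsg.Agent.Lib.Helper19.D8Group
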