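import Mathlib
import Cfsg.Agent.S0107
import Cfsg.Agent.Lib.Helper1.Residual
import Cfsg.Agent.Lib.Helper19.D8Group

set_option autoImplicit false

namespace Cfsg.Agent.Lib.Helper19.D8Conj

open DihedralGroup Cfsg.Agent.Lib.Helper19.D8Group

section

variable {G : Type*} [Group G] [Finite G]

/-- a perfect finite group has no nontrivial 2-quotient -/
theorem pResidual_eq_top_of_perfect (hperf : commutator G = ⊤) : Cfsg.pResidual 2 G = ⊤ := by
  haveI := Cfsg.Agent.Lib.Helper1.pResidual_normal (G := G) 2
  have hq : IsPGroup 2 (G ⧸ Cfsg.pResidual 2 G) :=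
    Cfsg.Agent.Lib.Helper1.quotient_pResidual_isPGroup 2
  haveI : Group.IsNilpotent (G ⧸ Cfsg.pResidual 2 G) := hq.isNilpotent
  haveI : Group.IsSolvable (G ⧸ Cfsg.pResidual 2 G) := inferInstance
  by_contra hne
  haveI : Nontrivial (G ⧸ Cfsg.pResidual 2 G) := by
    by_contra hn
    rw [not_nontrivial_iff_subsingleton] at hn
    exact hne (QuotientGroup.subgroup_eq_top_of_subsingleton _ hn)
  have h1 := Group.IsSolvable.commutator_lt_top_of_nontrivial (G ⧸ Cfsg.pResidual 2 G)
  apply h1.ne
  rw [commutator_def] at hperf ⊢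
  have h2 := Subgroup.map_commutator (⊤ : Subgroup G) ⊤ (QuotientGroup.mk' (Cfsg.pResidual 2 G))
  rw [hperf] at h2
  have h3 : Subgroup.map (QuotientGroup.mk' (Cfsg.pResidual 2 G)) ⊤ = ⊤ := by
    rw [← MonoidHom.range_eq_map]
    exact MonoidHom.range_eq_top.mpr (QuotientGroup.mk'_surjective _)
  rw [h3] at h2
  exact h2.symm

variable {t : G} (e : ↥(Subgroup.centralizer ({t} : Set G)) ≃* DihedralGroup 4)

include e in
/-- all involutions are conjugate -/
theorem invol_conj_of_res (hO : Cfsg.pResidual 2 G = ⊤) (ht : orderOf t = 2) (x : G)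
    (hx : orderOf x = 2) : IsConj t x := by
  have ht1 : t ≠ 1 := by
    rintro rfl
    rw [orderOf_one] at ht
    omega
  obtain ⟨P, hP⟩ := exists_sylow_eq e ht1
  have e' : ↥(P : Subgroup G) ≃* DihedralGroup (2 ^ 2) :=
    (MulEquiv.subgroupCongr hP).trans e
  obtain ⟨g, hg⟩ := Cfsg.Agent.S0107.result P 2 le_rfl ⟨e'⟩ hO t x ht hx
  exact isConj_iff.mpr ⟨g, hg⟩

include e in
/-- all involutions are conjugate -/
theorem invol_conj (hperf : commutator G = ⊤) (ht : orderOf t = 2) (x : G) (hx : orderOf x = 2) :
    IsConj t x :=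
  invol_conj_of_res e (pResidual_eq_top_of_perfect hperf) ht x hx

include e in
theorem isConj_iff_orderOf (hperf : commutator G = ⊤) (ht : orderOf t = 2) (x : G) :
    IsConj t x ↔ orderOf x = 2 := by
  constructor
  · intro h
    obtain ⟨g, hg⟩ := isConj_iff.mp h
    rw [← hg]
    have : g * t * g⁻¹ = MulAut.conj g t := by simp [MulAut.conj_apply]
    rw [this, MulEquiv.orderOf_eq, ht]
  · exact invol_conj e hperf ht x

end

theorem d4_sr_sr2 : ∀ i : ZMod 4, (sr i : DihedralGroup 4) * sr (i + 2) = r 2 := by decide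

theorem d4_sr_sr1 : ∀ i : ZMod 4, (sr i : DihedralGroup 4) * sr (i + 1) = r 1 := by decide

theorem d4_sr_inv_r2 : ∀ i : ZMod 4, (sr i : DihedralGroup 4)⁻¹ * r 2 = sr (i + 2) := by decide

theorem d4_sr_inv_r1 : ∀ i : ZMod 4, (sr i : DihedralGroup 4)⁻¹ * r 1 = sr (i + 1) := by decide

section count

variable {G : Type*} [Group G] [Finite G] {t : G}
  (e : ↥(Subgroup.centralizer ({t} : Set G)) ≃* DihedralGroup 4)

theorem sq_eq_one_of_orderOf {x : G} (hx : orderOf x = 2) : x * x = 1 := by
  rw [← pow_two, ← hx]
  exact pow_orderOf_eq_one x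

theorem ne_one_of_orderOf {x : G} (hx : orderOf x = 2) : x ≠ 1 := by
  rintro rfl
  rw [orderOf_one] at hx
  omega

include e in
/-- the number of ways to write `t` as a product of two involutions -/
theorem card_pairs_t (hperf : commutator G = ⊤) (ht : orderOf t = 2) :
    Nat.card {p : G × G // IsConj t p.1 ∧ IsConj t p.2 ∧ p.1 * p.2 = t} = 4 := by
  have ht1 : t ≠ 1 := ne_one_of_orderOf ht
  have hiff := isConj_iff_orderOf e hperf ht
  let f : ZMod 4 → {p : G × G // IsConj t p.1 ∧ IsConj t p.2 ∧ p.1 * p.2 = t} := fun i =>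
    ⟨(el e (sr i), el e (sr (i + 2))), (hiff _).mpr (orderOf_el_sr e i),
      (hiff _).mpr (orderOf_el_sr e (i + 2)), by
        show el e (sr i) * el e (sr (i + 2)) = t
        rw [← el_mul, d4_sr_sr2, el_r2 e ht1]⟩
  have hf : Function.Bijective f := by
    constructor
    · intro i j hij
      have h1 : el e (sr i) = el e (sr j) := congrArg (fun p => p.1.1) hij
      have h2 := el_injective e h1
      injection h2
    · rintro ⟨⟨x, y⟩, hx, hy, hxy⟩
      have hx2 := (hiff x).mp hx
      have hy2 := (hiff y).mp hy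
      simp only at hxy
      have hxx := sq_eq_one_of_orderOf hx2
      have hyy := sq_eq_one_of_orderOf hy2
      have htt := sq_eq_one_of_orderOf ht
      have hyx : y = x * t := by rw [← hxy, ← mul_assoc, hxx, one_mul]
      -- x commutes with t
      have hcomm : x * t = t * x := by
        have h1 : x * y * (x * y) = 1 := by rw [hxy, htt]
        have h2 : x * y * x = y := by
          calc x * y * x = x * y * x * (y * y) := by rw [hyy, mul_one]
            _ = (x * y * (x * y)) * y := by group
            _ = y := by rw [h1, one_mul]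
        calc x * t = y := hyx.symm
          _ = x * y * x := h2.symm
          _ = t * x := by rw [hxy]
      have hxD : x ∈ Subgroup.centralizer ({t} : Set G) :=
        Subgroup.mem_centralizer_singleton_iff.mpr hcomm
      obtain ⟨y', rfl⟩ := exists_el e hxD
      have hy'2 : y' * y' = 1 := by
        apply el_injective e
        rw [el_mul, hxx, el_one]
      have hy'1 : y' ≠ 1 := by
        rintro rfl
        exact ne_one_of_orderOf hx2 (el_one e)
      have hy'r : y' ≠ r 2 := by
        rintro rfl
        rw [el_r2 e ht1] at hyx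
        rw [hyx, htt] at hy2
        rw [orderOf_one] at hy2
        omega
      obtain ⟨i, rfl⟩ := d4_invol y' hy'2 hy'1 hy'r
      refine ⟨i, ?_⟩
      apply Subtype.ext
      show (el e (sr i), el e (sr (i + 2))) = (el e (sr i), y)
      rw [hyx, ← d4_sr_inv_r2, el_mul, el_r2 e ht1, el_inv]
      have : (el e (sr i))⁻¹ = el e (sr i) := inv_eq_of_mul_eq_one_left hxx
      rw [this]
  rw [← Nat.card_eq_of_bijective f hf, Nat.card_zmod]

/-- the number of ways to write the element of order four as a product of two involutions -/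
theorem card_pairs_a (hperf : commutator G = ⊤) (ht : orderOf t = 2) :
    Nat.card {p : G × G // IsConj t p.1 ∧ IsConj t p.2 ∧ p.1 * p.2 = el e (r 1)} = 4 := by
  have ht1 : t ≠ 1 := ne_one_of_orderOf ht
  have hiff := isConj_iff_orderOf e hperf ht
  let f : ZMod 4 → {p : G × G // IsConj t p.1 ∧ IsConj t p.2 ∧ p.1 * p.2 = el e (r 1)} :=
    fun i =>
    ⟨(el e (sr i), el e (sr (i + 1))), (hiff _).mpr (orderOf_el_sr e i),
      (hiff _).mpr (orderOf_el_sr e (i + 1)), by
        show el e (sr i) * el e (sr (i + 1)) = el e (r 1)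
        rw [← el_mul, d4_sr_sr1]⟩
  have hf : Function.Bijective f := by
    constructor
    · intro i j hij
      have h1 : el e (sr i) = el e (sr j) := congrArg (fun p => p.1.1) hij
      have h2 := el_injective e h1
      injection h2
    · rintro ⟨⟨x, y⟩, hx, hy, hxy⟩
      have hx2 := (hiff x).mp hx
      have hy2 := (hiff y).mp hy
      simp only at hxy
      have hxx := sq_eq_one_of_orderOf hx2
      have hyy := sq_eq_one_of_orderOf hy2
      have htt := sq_eq_one_of_orderOf ht
      have hxi : x⁻¹ = x := inv_eq_of_mul_eq_one_left hxx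
      have hyi : y⁻¹ = y := inv_eq_of_mul_eq_one_left hyy
      have hyx : y = x * el e (r 1) := by rw [← hxy, ← mul_assoc, hxx, one_mul]
      -- x inverts a
      have hinv : x * el e (r 1) * x⁻¹ = (el e (r 1))⁻¹ := by
        rw [← hxy, mul_inv_rev, hxi, hyi]
        calc x * (x * y) * x = (x * x) * y * x := by group
          _ = y * x := by rw [hxx, one_mul]
      have hcomm : x * t = t * x := by
        have h1 : x * t * x⁻¹ = t := by
          rw [← a_sq e ht1]
          calc x * (el e (r 1) * el e (r 1)) * x⁻¹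
              = (x * el e (r 1) * x⁻¹) * (x * el e (r 1) * x⁻¹) := by group
            _ = (el e (r 1) * el e (r 1))⁻¹ := by rw [hinv, mul_inv_rev]
            _ = el e (r 1) * el e (r 1) := by
                rw [a_sq e ht1]; exact inv_eq_of_mul_eq_one_left htt
        calc x * t = (x * t * x⁻¹) * x := by group
          _ = t * x := by rw [h1]
      have hxD : x ∈ Subgroup.centralizer ({t} : Set G) :=
        Subgroup.mem_centralizer_singleton_iff.mpr hcomm
      obtain ⟨y', rfl⟩ := exists_el e hxD
      have hy' : y' * r 1 * y'⁻¹ = (r 1)⁻¹ := by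
        apply el_injective e
        rw [el_mul, el_mul, el_inv, el_inv]
        exact hinv
      obtain ⟨i, rfl⟩ := d4_invert_r1 y' hy'
      refine ⟨i, ?_⟩
      apply Subtype.ext
      show (el e (sr i), el e (sr (i + 1))) = (el e (sr i), y)
      rw [hyx, ← d4_sr_inv_r1, el_mul, el_inv, hxi]
  rw [← Nat.card_eq_of_bijective f hf, Nat.card_zmod]

end count

end Cfsg.Agent.Lib.Helper19.D8Conj
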