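import Mathlib
import Cfsg.Agent.S0145
import Cfsg.Agent.S0840
import Cfsg.Agent.Lib.Helper25.CharOrth
import Cfsg.Agent.Lib.Helper25.CharQuot
import Cfsg.Agent.Lib.Helper25.CharLinear
import Cfsg.Agent.Lib.helper2.CharNat
import Cfsg.Agent.Lib.Helper19.D8Conj
import Cfsg.Agent.Lib.Helper19.D8Arith

set_option autoImplicit false

namespace Cfsg.Agent.Lib.Helper19.D8Char

open DihedralGroup Cfsg.Agent.Lib.Helper19.D8Group Cfsg.Agent.Lib.Helper19.D8Conj
  Cfsg.Agent.Lib.Helper25 Cfsg.Agent.Lib.helper2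
open scoped ComplexConjugate

/-- the linear character of `D₈` with kernel the cyclic subgroup of order four -/
def nu1 : DihedralGroup 4 →* ℤˣ where
  toFun y := match y with
    | r _ => 1
    | sr _ => -1
  map_one' := by decide
  map_mul' := by decide

/-- the linear character of `D₈` with kernel a four-group -/
def nu2 : DihedralGroup 4 →* ℤˣ where
  toFun y := match y with
    | r i => (-1) ^ i.val
    | sr i => (-1) ^ i.val
  map_one' := by decide
  map_mul' := by decide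

theorem sum_d4 (F : DihedralGroup 4 → ℂ) :
    ∑ y, F y = F (r 0) + F (r 1) + F (r 2) + F (r 3) + F (sr 0) + F (sr 1) + F (sr 2) + F (sr 3) := by
  have h : (Finset.univ : Finset (DihedralGroup 4)) =
      {r 0, r 1, r 2, r 3, sr 0, sr 1, sr 2, sr 3} := by decide
  rw [h, Finset.sum_insert (by decide), Finset.sum_insert (by decide), Finset.sum_insert (by decide),
    Finset.sum_insert (by decide), Finset.sum_insert (by decide), Finset.sum_insert (by decide),
    Finset.sum_insert (by decide), Finset.sum_singleton]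
  ring

/-- a homomorphism to `ℤˣ` as a complex linear character -/
noncomputable def toC {H : Type*} [Group H] (ν : H →* ℤˣ) : H →* ℂˣ :=
  (Units.map (Int.castRingHom ℂ).toMonoidHom).comp ν

theorem toC_apply {H : Type*} [Group H] (ν : H →* ℤˣ) (h : H) :
    ((toC ν h : ℂˣ) : ℂ) = (((ν h : ℤˣ) : ℤ) : ℂ) := rfl

theorem d4_r3 : (r 3 : DihedralGroup 4) = (r 1)⁻¹ := by decide

section vals

variable {G : Type*} [Group G] [Finite G] {t : G}
  (e : ↥(Subgroup.centralizer ({t} : Set G)) ≃* DihedralGroup 4)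

/-- the inner product of the restriction of an irreducible character to the centraliser of `t`
with a linear character of the centraliser is a natural number -/
theorem restrict_inner (hperf : commutator G = ⊤) (ht : orderOf t = 2)
    (χ : Cfsg.IrrCharacter G) (ν : DihedralGroup 4 →* ℤˣ) :
    ∃ m : ℕ, (8 : ℂ) * m =
      (χ : G → ℂ) 1 * (((ν (r 0) : ℤˣ) : ℤ) : ℂ)
      + (χ : G → ℂ) (el e (r 1)) * (((ν (r 1) : ℤˣ) : ℤ) : ℂ)
      + (χ : G → ℂ) t * (((ν (r 2) : ℤˣ) : ℤ) : ℂ)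
      + (χ : G → ℂ) (el e (r 1)) * (((ν (r 3) : ℤˣ) : ℤ) : ℂ)
      + (χ : G → ℂ) t * ((((ν (sr 0) : ℤˣ) : ℤ) : ℂ) + (((ν (sr 1) : ℤˣ) : ℤ) : ℂ)
          + (((ν (sr 2) : ℤˣ) : ℤ) : ℂ) + (((ν (sr 3) : ℤˣ) : ℤ) : ℂ)) := by
  classical
  letI : Fintype G := Fintype.ofFinite G
  letI : Fintype ↥(Subgroup.centralizer ({t} : Set G)) := Fintype.ofFinite _
  have ht1 : t ≠ 1 := ne_one_of_orderOf ht
  let μ : ↥(Subgroup.centralizer ({t} : Set G)) →* ℂˣ := (toC ν).comp e.toMonoidHom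
  obtain ⟨m, hm⟩ := classInner_character_nat
    (isCharacter_restrict (isCharacter_of_irr χ) (Subgroup.centralizer ({t} : Set G)))
    (isCharacter_of_irr (linIrr μ))
  refine ⟨m, ?_⟩
  unfold Cfsg.classInner at hm
  rw [card_centralizer_t e] at hm
  have hsum : ∑ x : ↥(Subgroup.centralizer ({t} : Set G)),
      (χ : G → ℂ) x * conj ((linIrr μ : ↥(Subgroup.centralizer ({t} : Set G)) → ℂ) x) =
      ∑ y : DihedralGroup 4, (χ : G → ℂ) (el e y) * (((ν y : ℤˣ) : ℤ) : ℂ) := by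
    rw [← Equiv.sum_comp e.symm.toEquiv]
    apply Finset.sum_congr rfl
    intro y _
    have h1 : (linIrr μ : ↥(Subgroup.centralizer ({t} : Set G)) → ℂ) (e.symm y) =
        (((ν y : ℤˣ) : ℤ) : ℂ) := by
      rw [linIrr_apply]
      show ((toC ν (e (e.symm y)) : ℂˣ) : ℂ) = _
      rw [MulEquiv.apply_symm_apply, toC_apply]
    show (χ : G → ℂ) (el e y) * conj ((linIrr μ : ↥(Subgroup.centralizer ({t} : Set G)) → ℂ)
      (e.symm y)) = _
    rw [h1, map_intCast]
  rw [hsum, sum_d4] at hm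
  have hr0 : el e (r 0) = 1 := el_one e
  have hr2 : el e (r 2) = t := el_r2 e ht1
  have hr3 : (χ : G → ℂ) (el e (r 3)) = (χ : G → ℂ) (el e (r 1)) := by
    rw [d4_r3, el_inv, ← a_conj_inv e, irr_conj_invariant]
  have hsr : ∀ i : ZMod 4, (χ : G → ℂ) (el e (sr i)) = (χ : G → ℂ) t := fun i =>
    (irr_isConj_eq χ (invol_conj e hperf ht _ (orderOf_el_sr e i))).symm
  rw [hr0, hr2, hr3, hsr, hsr, hsr, hsr] at hm
  have h8 : ((8 : ℕ) : ℂ) ≠ 0 := by norm_num
  have hm' := (inv_mul_eq_iff_eq_mul₀ h8).mp hm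
  push_cast at hm'
  rw [← hm']
  ring

theorem nu1_vals : nu1 (r 0) = 1 ∧ nu1 (r 1) = 1 ∧ nu1 (r 2) = 1 ∧ nu1 (r 3) = 1 ∧
    nu1 (sr 0) = -1 ∧ nu1 (sr 1) = -1 ∧ nu1 (sr 2) = -1 ∧ nu1 (sr 3) = -1 := by decide

theorem nu2_vals : nu2 (r 0) = 1 ∧ nu2 (r 1) = -1 ∧ nu2 (r 2) = 1 ∧ nu2 (r 3) = -1 ∧
    nu2 (sr 0) = 1 ∧ nu2 (sr 1) = -1 ∧ nu2 (sr 2) = 1 ∧ nu2 (sr 3) = -1 := by decide

/-- the values of an irreducible character at `1`, `t` and the element of order four are
integers satisfying congruences -/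
theorem values (hperf : commutator G = ⊤) (ht : orderOf t = 2) (χ : Cfsg.IrrCharacter G) :
    ∃ U V Dg : ℤ, (χ : G → ℂ) t = U ∧ (χ : G → ℂ) (el e (r 1)) = V ∧ (χ : G → ℂ) 1 = Dg ∧
      1 ≤ Dg ∧ (2 : ℤ) ∣ U + V ∧ (8 : ℤ) ∣ Dg + U - 2 * V := by
  obtain ⟨m0, h0⟩ := restrict_inner e hperf ht χ 1
  obtain ⟨m1, h1⟩ := restrict_inner e hperf ht χ nu1
  obtain ⟨m2, h2⟩ := restrict_inner e hperf ht χ nu2
  obtain ⟨n, hn, hd⟩ := irr_one_eq_finrank χ
  obtain ⟨a0, a1, a2, a3, a4, a5, a6, a7⟩ := nu1_vals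
  obtain ⟨b0, b1, b2, b3, b4, b5, b6, b7⟩ := nu2_vals
  simp only [MonoidHom.one_apply, Units.val_one, Int.cast_one, mul_one] at h0
  simp only [a0, a1, a2, a3, a4, a5, a6, a7, Units.val_one, Units.val_neg, Int.cast_one,
    Int.cast_neg, mul_one] at h1
  simp only [b0, b1, b2, b3, b4, b5, b6, b7, Units.val_one, Units.val_neg, Int.cast_one,
    Int.cast_neg, mul_one] at h2
  set u := (χ : G → ℂ) t with hu
  set v := (χ : G → ℂ) (el e (r 1)) with hv
  rw [hd] at h0 h1 h2
  have hU : u = (((m0 : ℤ) - m1 : ℤ) : ℂ) := by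
    push_cast
    linear_combination (1 / 8 : ℂ) * h1 - (1 / 8 : ℂ) * h0
  have hV : v = ((2 * ((m0 : ℤ) - m2) - ((m0 : ℤ) - m1) : ℤ) : ℂ) := by
    push_cast
    linear_combination (1 / 4 : ℂ) * h2 - (1 / 8 : ℂ) * h0 - (1 / 8 : ℂ) * h1
  refine ⟨(m0 : ℤ) - m1, 2 * ((m0 : ℤ) - m2) - ((m0 : ℤ) - m1), (n : ℤ), hU, hV, ?_, ?_, ?_, ?_⟩
  · rw [hd]; push_cast; rfl
  · exact_mod_cast hn
  · exact ⟨(m0 : ℤ) - m2, by ring⟩
  · refine ⟨(m2 : ℤ), ?_⟩
    have h3 : ((n : ℤ) : ℂ) + (((m0 : ℤ) - m1 : ℤ) : ℂ)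
        - 2 * ((2 * ((m0 : ℤ) - m2) - ((m0 : ℤ) - m1) : ℤ) : ℂ) = 8 * ((m2 : ℤ) : ℂ) := by
      rw [← hU, ← hV]
      push_cast
      linear_combination (-1 : ℂ) * h2
    exact_mod_cast h3

end vals

section main

variable {G : Type*} [Group G] [Finite G] {t : G}
  (e : ↥(Subgroup.centralizer ({t} : Set G)) ≃* DihedralGroup 4)

include e in
/-- a perfect group with an involution whose centraliser is dihedral of order 8 has order
168 or 360 -/
theorem card_eq (hperf : commutator G = ⊤) (ht : orderOf t = 2) :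
    Nat.card G = 168 ∨ Nat.card G = 360 := by
  classical
  letI : Fintype G := Fintype.ofFinite G
  letI : Fintype (Cfsg.IrrCharacter G) := Fintype.ofFinite _
  have ht1 : t ≠ 1 := ne_one_of_orderOf ht
  choose U V Dg hU hV hD hD1 hpar hmod using values e hperf ht
  -- the trivial character
  have hU0 : U (trivIrr G) = 1 := by
    have := hU (trivIrr G)
    rw [trivIrr_apply] at this
    exact_mod_cast this.symm
  have hV0 : V (trivIrr G) = 1 := by
    have := hV (trivIrr G)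
    rw [trivIrr_apply] at this
    exact_mod_cast this.symm
  have hD0 : Dg (trivIrr G) = 1 := by
    have := hD (trivIrr G)
    rw [trivIrr_apply] at this
    exact_mod_cast this.symm
  -- nontrivial characters have degree at least two
  have hd1 : ∀ χ, χ ≠ trivIrr G → 2 ≤ Dg χ := by
    intro χ hχ
    by_contra hlt
    have h1 : Dg χ = 1 := by have := hD1 χ; omega
    apply hχ
    have h2 : (χ : G → ℂ) 1 = 1 := by rw [hD χ, h1]; norm_num
    apply Subtype.ext
    funext g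
    rw [trivIrr_apply]
    exact irr_linear_commutator χ h2 (by rw [hperf]; trivial)
  -- conjugacy facts
  have hnc_ta : ¬ IsConj t (el e (r 1)) := by
    intro h
    have h2 := (isConj_iff_orderOf e hperf ht _).mp h
    rw [orderOf_el, orderOf_r_one] at h2
    omega
  have hnc_1t : ¬ IsConj (1 : G) t := by
    intro h
    exact ht1 (isConj_one_right.mp h)
  have hnc_1a : ¬ IsConj (1 : G) (el e (r 1)) := by
    intro h
    have h2 : el e (r 1) = 1 := isConj_one_right.mp h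
    have h3 := orderOf_el e (r 1)
    rw [h2, orderOf_one, orderOf_r_one] at h3
    omega
  -- column orthogonality
  have O1 : ∑ χ, V χ * V χ = 4 := by
    have h := (Cfsg.Agent.S0145.result (el e (r 1)) (el e (r 1))).1 (IsConj.refl _)
    rw [finsum_eq_sum_of_fintype, card_centralizer_a e ht1] at h
    simp only [hV, map_intCast] at h
    exact_mod_cast h
  have O2 : ∑ χ, U χ * U χ = 8 := by
    have h := (Cfsg.Agent.S0145.result t t).1 (IsConj.refl _)
    rw [finsum_eq_sum_of_fintype, card_centralizer_t e] at h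
    simp only [hU, map_intCast] at h
    exact_mod_cast h
  have O3 : ∑ χ, U χ * V χ = 0 := by
    have h := (Cfsg.Agent.S0145.result t (el e (r 1))).2 hnc_ta
    rw [finsum_eq_sum_of_fintype] at h
    simp only [hU, hV, map_intCast] at h
    exact_mod_cast h
  have O4 : ∑ χ, Dg χ * V χ = 0 := by
    have h := (Cfsg.Agent.S0145.result (1 : G) (el e (r 1))).2 hnc_1a
    rw [finsum_eq_sum_of_fintype] at h
    simp only [hD, hV, map_intCast] at h
    exact_mod_cast h
  have O5 : ∑ χ, Dg χ * U χ = 0 := by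
    have h := (Cfsg.Agent.S0145.result (1 : G) t).2 hnc_1t
    rw [finsum_eq_sum_of_fintype] at h
    simp only [hD, hU, map_intCast] at h
    exact_mod_cast h
  have O45 : ∑ χ, Dg χ * (U χ + V χ) = 0 := by
    simp only [mul_add, Finset.sum_add_distrib, O4, O5, add_zero]
  -- class sizes
  have hcl := card_conj_mul_card_centralizer t
  rw [card_centralizer_t e] at hcl
  set cl := Nat.card {x : G // IsConj t x} with hcldef
  have hclpos : 0 < cl := by
    by_contra h
    have : cl = 0 := by omega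
    rw [this, zero_mul] at hcl
    exact (Nat.card_pos (α := G)).ne' hcl.symm
  have hclC : (cl : ℂ) ≠ 0 := by exact_mod_cast hclpos.ne'
  have hNC : (Nat.card G : ℂ) = (cl : ℂ) * 8 := by exact_mod_cast hcl.symm
  -- class multiplication constants
  have C1 : ((Nat.card G : ℤ) : ℚ) * ∑ χ, (U χ : ℚ) * U χ * U χ / Dg χ = 256 := by
    have h := Cfsg.Agent.S0840.result t t t
    rw [card_pairs_t e hperf ht, finsum_eq_sum_of_fintype, ← hcldef, hNC] at h
    simp only [hU, hD, map_intCast] at h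
    have h2 : ((cl : ℂ) * 8) * ∑ χ, (U χ : ℂ) * U χ * U χ / Dg χ = 256 := by
      have h3 : (cl : ℂ) * cl / (cl * 8) = cl / 8 := by field_simp
      rw [h3] at h
      push_cast at h
      linear_combination (-64 : ℂ) * h
    have h4 : (((((Nat.card G : ℤ) : ℚ) * ∑ χ, (U χ : ℚ) * U χ * U χ / Dg χ : ℚ)) : ℂ) = 256 := by
      push_cast
      rw [hNC]
      exact h2
    exact_mod_cast h4
  have C2 : ((Nat.card G : ℤ) : ℚ) * ∑ χ, (U χ : ℚ) * U χ * V χ / Dg χ = 256 := by
    have h := Cfsg.Agent.S0840.result t t (el e (r 1))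
    rw [card_pairs_a e hperf ht, finsum_eq_sum_of_fintype, ← hcldef, hNC] at h
    simp only [hU, hV, hD, map_intCast] at h
    have h2 : ((cl : ℂ) * 8) * ∑ χ, (U χ : ℂ) * U χ * V χ / Dg χ = 256 := by
      have h3 : (cl : ℂ) * cl / (cl * 8) = cl / 8 := by field_simp
      rw [h3] at h
      push_cast at h
      linear_combination (-64 : ℂ) * h
    have h4 : (((((Nat.card G : ℤ) : ℚ) * ∑ χ, (U χ : ℚ) * U χ * V χ / Dg χ : ℚ)) : ℂ) = 256 := by
      push_cast
      rw [hNC]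
      exact h2
    exact_mod_cast h4
  have C12 : ((Nat.card G : ℤ) : ℚ) * ∑ χ, (U χ : ℚ) * U χ * (U χ + V χ) / Dg χ = 512 := by
    have h : ∀ χ, (U χ : ℚ) * U χ * (U χ + V χ) / Dg χ =
        (U χ : ℚ) * U χ * U χ / Dg χ + (U χ : ℚ) * U χ * V χ / Dg χ := fun χ => by ring
    rw [Finset.sum_congr rfl (fun χ _ => h χ), Finset.sum_add_distrib, mul_add, C1, C2]
    norm_num
  have hN8 : (8 : ℤ) ∣ (Nat.card G : ℤ) := ⟨(cl : ℤ), by exact_mod_cast (by rw [← hcl]; ring)⟩
  have := Cfsg.Agent.Lib.Helper19.D8Arith.d8_arith (trivIrr G) U V Dg (Nat.card G : ℤ) hd1 hU0 hV0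
    hD0 hpar hmod O1 O2 O3 O45 C12 hN8
  rcases this with h | h
  · left; exact_mod_cast h
  · right; exact_mod_cast h

end main

end Cfsg.Agent.Lib.Helper19.D8Char
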