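import Mathlib
import Cfsg.Agent.Lib.Helper9.Transfer
import Cfsg.Agent.Lib.Helper19.D8Char

set_option autoImplicit false

namespace Cfsg.Agent.Lib.Helper19.D8Simple

open DihedralGroup Cfsg.Agent.Lib.Helper19.D8Group Cfsg.Agent.Lib.Helper19.D8Conj

section generic

variable {G : Type*} [Group G]

/-- an involution acting without nontrivial fixed points on a finite normal subgroup inverts it -/
theorem invol_inverts_of_fpf (N : Subgroup G) [N.Normal] [Finite N] (x : G) (hx2 : x * x = 1)
    (hfix : ∀ n ∈ N, x * n = n * x → n = 1) (k : G) (hk : k ∈ N) : x * k * x⁻¹ = k⁻¹ := by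
  have hxi : x⁻¹ = x := inv_eq_of_mul_eq_one_left hx2
  let f : N → N := fun n => ⟨(n : G)⁻¹ * (x * n * x⁻¹),
    N.mul_mem (N.inv_mem n.2) (Subgroup.Normal.conj_mem inferInstance _ n.2 x)⟩
  have hf : Function.Injective f := by
    intro n m hnm
    have h1 : (n : G)⁻¹ * (x * n * x⁻¹) = (m : G)⁻¹ * (x * m * x⁻¹) := congrArg Subtype.val hnm
    have h2 : x * ((m : G) * (n : G)⁻¹) = ((m : G) * (n : G)⁻¹) * x := by
      have h3 : (m : G) * (n : G)⁻¹ = x * ((m : G) * (n : G)⁻¹) * x⁻¹ := by
        calc (m : G) * (n : G)⁻¹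
            = (m : G) * ((n : G)⁻¹ * (x * n * x⁻¹)) * (x * n * x⁻¹)⁻¹ := by group
          _ = (m : G) * ((m : G)⁻¹ * (x * m * x⁻¹)) * (x * n * x⁻¹)⁻¹ := by rw [h1]
          _ = x * ((m : G) * (n : G)⁻¹) * x⁻¹ := by group
      calc x * ((m : G) * (n : G)⁻¹) = (x * ((m : G) * (n : G)⁻¹) * x⁻¹) * x := by group
        _ = ((m : G) * (n : G)⁻¹) * x := by rw [← h3]
    have h4 := hfix _ (N.mul_mem m.2 (N.inv_mem n.2)) h2
    apply Subtype.ext
    have : (n : G) = ((m : G) * (n : G)⁻¹)⁻¹ * (m : G) := by group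
    rw [this, h4, inv_one, one_mul]
  obtain ⟨n, hn⟩ := hf.bijective_of_finite.2 ⟨k, hk⟩
  have hk' : k = (n : G)⁻¹ * (x * n * x⁻¹) := (congrArg Subtype.val hn).symm
  rw [hk']
  calc x * ((n : G)⁻¹ * (x * n * x⁻¹)) * x⁻¹
      = (x * (n : G)⁻¹ * x⁻¹) * ((x * x) * n * (x * x)⁻¹) := by group
    _ = (x * (n : G)⁻¹ * x⁻¹) * n := by rw [hx2]; group
    _ = ((n : G)⁻¹ * (x * n * x⁻¹))⁻¹ := by group

end generic

section main

variable {G : Type*} [Group G] [Finite G] {t : G}
  (e : ↥(Subgroup.centralizer ({t} : Set G)) ≃* DihedralGroup 4)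

/-- no subgroup of index two forces a trivial 2-residual quotient -/
theorem pResidual_eq_top_of_no_index_two (hG : ∀ H : Subgroup G, H.index ≠ 2) :
    Cfsg.pResidual 2 G = ⊤ := by
  haveI := Cfsg.Agent.Lib.Helper1.pResidual_normal (G := G) 2
  have hq : IsPGroup 2 (G ⧸ Cfsg.pResidual 2 G) :=
    Cfsg.Agent.Lib.Helper1.quotient_pResidual_isPGroup 2
  by_contra hne
  obtain ⟨g, hg⟩ : ∃ g : G, g ∉ Cfsg.pResidual 2 G := by
    by_contra hcon
    push Not at hcon
    exact hne (eq_top_iff.mpr fun g _ => hcon g)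
  have hg' : QuotientGroup.mk' (Cfsg.pResidual 2 G) g ≠ 1 := by
    intro h
    exact hg ((QuotientGroup.eq_one_iff g).mp h)
  obtain ⟨K, hK⟩ := Cfsg.Agent.Lib.Helper9.exists_index_two_of_hom_ne_one hq
    (QuotientGroup.mk' (Cfsg.pResidual 2 G)) g hg'
  exact hG K hK

include e in
/-- the normaliser of the centraliser of `t` is the centraliser -/
theorem normalizer_le (ht1 : t ≠ 1) :
    Subgroup.normalizer ((Subgroup.centralizer ({t} : Set G) : Subgroup G) : Set G) ≤
      Subgroup.centralizer ({t} : Set G) := by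
  intro x hx
  rw [Subgroup.mem_normalizer_iff] at hx
  have hz : x * t * x⁻¹ = t := by
    apply central_eq_t e ht1 _ ((hx t).mp t_mem)
    · intro h
      apply ht1
      have : t = x⁻¹ * (x * t * x⁻¹) * x := by group
      rw [this, h]
      group
    · intro y hy
      have h1 : x⁻¹ * y * x ∈ Subgroup.centralizer ({t} : Set G) := by
        rw [hx]
        have : x * (x⁻¹ * y * x) * x⁻¹ = y := by group
        rw [this]
        exact hy
      have h2 : x⁻¹ * y * x * t = t * (x⁻¹ * y * x) :=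
        Subgroup.mem_centralizer_singleton_iff.mp h1
      calc y * (x * t * x⁻¹)
          = x * (x⁻¹ * y * x * t) * x⁻¹ := by group
        _ = x * (t * (x⁻¹ * y * x)) * x⁻¹ := by rw [h2]
        _ = x * t * x⁻¹ * y := by group
  rw [Subgroup.mem_centralizer_singleton_iff]
  calc x * t = (x * t * x⁻¹) * x := by group
    _ = t * x := by rw [hz]

include e in
/-- a normal subgroup containing the centraliser of `t` is everything -/
theorem eq_top_of_le (ht1 : t ≠ 1) (N : Subgroup G) [N.Normal]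
    (hN : Subgroup.centralizer ({t} : Set G) ≤ N) : N = ⊤ := by
  obtain ⟨P, hP⟩ := exists_sylow_eq e ht1
  have h1 := Sylow.normalizer_sup_eq_top' P (N := N) (by rw [hP]; exact hN)
  have h2 : ((P : Sylow 2 G) : Set G) =
      ((Subgroup.centralizer ({t} : Set G) : Subgroup G) : Set G) := by
    rw [← hP]; rfl
  rw [h2] at h1
  rw [eq_top_iff, ← h1]
  exact sup_le ((normalizer_le e ht1).trans hN) le_rfl

end main

section main2

variable {G : Type*} [Group G] [Finite G] {t : G}
  (e : ↥(Subgroup.centralizer ({t} : Set G)) ≃* DihedralGroup 4)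

/-- with no subgroup of index two the abelianisation has odd order -/
theorem odd_card_abelianization (hG : ∀ H : Subgroup G, H.index ≠ 2) :
    ¬ 2 ∣ Nat.card (Abelianization G) := by
  intro h2
  obtain ⟨k, m, hm, hkm⟩ := Nat.exists_eq_two_pow_mul_odd (Nat.card_pos (α := Abelianization G)).ne'
  let f : Abelianization G →* Abelianization G := powMonoidHom m
  have hI : IsPGroup 2 f.range := by
    rintro ⟨y, x, rfl⟩
    refine ⟨k, ?_⟩
    apply Subtype.ext
    show (f x) ^ 2 ^ k = 1
    show (x ^ m) ^ 2 ^ k = 1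
    rw [← pow_mul, mul_comm, ← hkm]
    exact pow_card_eq_one'
  obtain ⟨y, hy⟩ := exists_prime_orderOf_dvd_card' (G := Abelianization G) 2 h2
  have hym : y ^ m = y := by
    obtain ⟨j, hj⟩ := hm
    have hy2 : y ^ 2 = 1 := by rw [← hy]; exact pow_orderOf_eq_one y
    rw [hj, pow_succ, pow_mul, hy2, one_pow, one_mul]
  have hy1 : y ≠ 1 := by
    rintro rfl
    rw [orderOf_one] at hy
    omega
  obtain ⟨g, rfl⟩ := QuotientGroup.mk_surjective y
  let F : G →* f.range := f.rangeRestrict.comp Abelianization.of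
  have hF : F g ≠ 1 := by
    intro h
    apply hy1
    have h3 : ((F g : f.range) : Abelianization G) = 1 := by rw [h]; rfl
    have h4 : ((F g : f.range) : Abelianization G) = (Abelianization.of g) ^ m := rfl
    rw [h4] at h3
    rw [← hym]
    exact h3
  obtain ⟨K, hK⟩ := Cfsg.Agent.Lib.Helper9.exists_index_two_of_hom_ne_one hI F g hF
  exact hG K hK

include e in
theorem perfect_of_no_index_two (hG : ∀ H : Subgroup G, H.index ≠ 2) (ht : orderOf t = 2) :
    commutator G = ⊤ := by
  have ht1 : t ≠ 1 := ne_one_of_orderOf ht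
  apply eq_top_of_le e ht1 (commutator G)
  intro x hx
  have hodd := odd_card_abelianization hG
  have h1 : orderOf (Abelianization.of x) ∣ 8 := by
    have h2 : orderOf x ∣ 8 := by
      rw [← card_centralizer_t e]
      exact Subgroup.orderOf_dvd_natCard _ hx
    exact (orderOf_map_dvd _ x).trans h2
  have h3 : orderOf (Abelianization.of x) ∣ Nat.card (Abelianization G) := orderOf_dvd_natCard _
  have hcop : Nat.Coprime 8 (Nat.card (Abelianization G)) := by
    have : Nat.Coprime 2 (Nat.card (Abelianization G)) :=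
      (Nat.Prime.coprime_iff_not_dvd Nat.prime_two).mpr hodd
    have h8 : (8 : ℕ) = 2 ^ 3 := by norm_num
    rw [h8]
    exact Nat.Coprime.pow_left 3 this
  have h4 : orderOf (Abelianization.of x) = 1 :=
    Nat.eq_one_of_dvd_coprimes hcop h1 h3
  have h5 : Abelianization.of x = 1 := orderOf_eq_one_iff.mp h4
  exact (QuotientGroup.eq_one_iff x).mp h5

include e in
theorem isSimpleGroup_of_no_index_two (hG : ∀ H : Subgroup G, H.index ≠ 2) (ht : orderOf t = 2) :
    IsSimpleGroup G := by
  have ht1 : t ≠ 1 := ne_one_of_orderOf ht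
  have htt : t * t = 1 := sq_eq_one_of_orderOf ht
  have hO := pResidual_eq_top_of_no_index_two hG
  have hconj := invol_conj_of_res e hO ht
  haveI : Nontrivial G := ⟨⟨t, 1, ht1⟩⟩
  refine ⟨fun N hN => ?_⟩
  haveI := hN
  by_cases heven : 2 ∣ Nat.card N
  · right
    apply eq_top_of_le e ht1 N
    obtain ⟨x, hx⟩ := exists_prime_orderOf_dvd_card' (G := ↥N) 2 heven
    have hx2 : orderOf (x : G) = 2 := by rw [Subgroup.orderOf_coe, hx]
    -- `t ∈ N`
    have htN : t ∈ N := by
      obtain ⟨g, hg⟩ := isConj_iff.mp (hconj _ hx2)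
      have h1 : t = g⁻¹ * (x : G) * g⁻¹⁻¹ := by rw [← hg]; group
      rw [h1]
      exact hN.conj_mem _ x.2 _
    have hinvN : ∀ y : G, orderOf y = 2 → y ∈ N := by
      intro y hy
      obtain ⟨g, hg⟩ := isConj_iff.mp (hconj _ hy)
      rw [← hg]
      exact hN.conj_mem _ htN _
    have hsr : ∀ i : ZMod 4, el e (sr i) ∈ N := fun i => hinvN _ (orderOf_el_sr e i)
    intro z hz
    obtain ⟨y, rfl⟩ := exists_el e hz
    cases y with
    | r i =>
      have : (r i : DihedralGroup 4) = sr 0 * sr i := by rw [sr_mul_sr, sub_zero]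
      rw [this, el_mul]
      exact N.mul_mem (hsr 0) (hsr i)
    | sr i => exact hsr i
  · left
    have hcopN : ∀ n ∈ N, ∀ j : ℕ, orderOf n ∣ 2 ^ j → n = 1 := by
      intro n hn j hj
      have h3 : orderOf n ∣ Nat.card N := Subgroup.orderOf_dvd_natCard _ hn
      have hcop : Nat.Coprime (2 ^ j) (Nat.card N) :=
        Nat.Coprime.pow_left j ((Nat.Prime.coprime_iff_not_dvd Nat.prime_two).mpr heven)
      exact orderOf_eq_one_iff.mp (Nat.eq_one_of_dvd_coprimes hcop hj h3)
    -- involutions have no fixed points on `N`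
    have hfix : ∀ x : G, orderOf x = 2 → ∀ n ∈ N, x * n = n * x → n = 1 := by
      intro x hx n hn hcomm
      obtain ⟨g, hg⟩ := isConj_iff.mp (hconj _ hx)
      have hm : g⁻¹ * n * g⁻¹⁻¹ ∈ N := hN.conj_mem _ hn _
      have hmt : g⁻¹ * n * g⁻¹⁻¹ ∈ Subgroup.centralizer ({t} : Set G) := by
        rw [Subgroup.mem_centralizer_singleton_iff]
        have h1 : t = g⁻¹ * x * g := by rw [← hg]; group
        rw [h1]
        calc g⁻¹ * n * g⁻¹⁻¹ * (g⁻¹ * x * g) = g⁻¹ * (n * x) * g := by group
          _ = g⁻¹ * (x * n) * g := by rw [hcomm]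
          _ = g⁻¹ * x * g * (g⁻¹ * n * g⁻¹⁻¹) := by group
      have h8 : orderOf (g⁻¹ * n * g⁻¹⁻¹) ∣ 2 ^ 3 := by
        have : Nat.card (Subgroup.centralizer ({t} : Set G)) = 2 ^ 3 := by
          rw [card_centralizer_t e]; norm_num
        rw [← this]
        exact Subgroup.orderOf_dvd_natCard _ hmt
      have h1 := hcopN _ hm 3 h8
      have : n = g * (g⁻¹ * n * g⁻¹⁻¹) * g⁻¹ := by group
      rw [this, h1]
      group
    have hbb : el e (sr 0) * el e (sr 0) = 1 := sq_eq_one_of_orderOf (orderOf_el_sr e 0)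
    have hcc : el e (sr 2) * el e (sr 2) = 1 := sq_eq_one_of_orderOf (orderOf_el_sr e 2)
    have hI1 := invol_inverts_of_fpf N t htt (hfix t ht)
    have hI2 := invol_inverts_of_fpf N (el e (sr 0)) hbb (hfix _ (orderOf_el_sr e 0))
    have hI3 := invol_inverts_of_fpf N (el e (sr 2)) hcc (hfix _ (orderOf_el_sr e 2))
    have htb : el e (sr 2) = t * el e (sr 0) := by
      have h1 : (sr 2 : DihedralGroup 4) = r 2 * sr 0 := by decide
      have h2 : el e (r 2 * sr 0) = el e (r 2) * el e (sr 0) := el_mul e _ _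
      rw [h1, h2, el_r2 e ht1]
    rw [eq_bot_iff]
    intro n hn
    rw [Subgroup.mem_bot]
    have h1 := hI3 n hn
    have h2 := hI2 n hn
    have h3 := hI1 n⁻¹ (N.inv_mem hn)
    have h4 : n⁻¹ = n := by
      rw [← h1, htb]
      calc t * el e (sr 0) * n * (t * el e (sr 0))⁻¹
          = t * (el e (sr 0) * n * (el e (sr 0))⁻¹) * t⁻¹ := by group
        _ = t * n⁻¹ * t⁻¹ := by rw [h2]
        _ = n := by rw [h3, inv_inv]
    have h5 : n ^ 2 = 1 := by
      rw [pow_two]
      nth_rewrite 1 [← h4]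
      exact inv_mul_cancel n
    exact hcopN n hn 1 (by rw [pow_one]; exact orderOf_dvd_of_pow_eq_one h5)

end main2

end Cfsg.Agent.Lib.Helper19.D8Simple
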