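import Mathlib

set_option autoImplicit false

namespace Cfsg.Agent.Lib.Helper19.Ord360A

open MulAction

section basic

variable {G : Type*} [Group G]

/-- In a simple group the action on the cosets of a proper subgroup is faithful. -/
theorem toPerm_injective [IsSimpleGroup G] (H : Subgroup G) (hH : H ≠ ⊤) :
    Function.Injective (MulAction.toPermHom G (G ⧸ H)) := by
  rw [← MonoidHom.ker_eq_bot_iff, ← Subgroup.normalCore_eq_ker]
  rcases (Subgroup.normalCore_normal H).eq_bot_or_eq_top with h | h
  · exact h
  · exfalso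
    apply hH
    rw [eq_top_iff, ← h]
    exact Subgroup.normalCore_le H

theorem card_dvd_factorial [Finite G] [IsSimpleGroup G] (H : Subgroup G) (hH : H ≠ ⊤) :
    Nat.card G ∣ (H.index).factorial := by
  classical
  let _ : Fintype (G ⧸ H) := Fintype.ofFinite _
  have hinj := toPerm_injective H hH
  have h1 : Nat.card G = Nat.card (MulAction.toPermHom G (G ⧸ H)).range :=
    Nat.card_congr (MonoidHom.ofInjective hinj).toEquiv
  have h2 : Nat.card (MulAction.toPermHom G (G ⧸ H)).range ∣ Nat.card (Equiv.Perm (G ⧸ H)) :=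
    Subgroup.card_subgroup_dvd_card _
  rw [h1]
  refine h2.trans ?_
  rw [Nat.card_eq_fintype_card, Fintype.card_perm, ← Nat.card_eq_fintype_card,
    ← Subgroup.index_eq_card]

theorem sign_trivial [Finite G] [IsSimpleGroup G] (hgt : 2 < Nat.card G)
    {α : Type*} [Fintype α] [DecidableEq α] (f : G →* Equiv.Perm α) (g : G) :
    Equiv.Perm.sign (f g) = 1 := by
  set ψ : G →* ℤˣ := Equiv.Perm.sign.comp f with hψ
  rcases (MonoidHom.normal_ker ψ).eq_bot_or_eq_top with h | h
  · exfalso
    have hinj : Function.Injective ψ := (MonoidHom.ker_eq_bot_iff ψ).mp h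
    have h1 : Nat.card G ≤ Nat.card ℤˣ := Nat.card_le_card_of_injective ψ hinj
    have h2 : Nat.card ℤˣ = 2 := by
      rw [Nat.card_eq_fintype_card]
      exact Fintype.card_units_int
    omega
  · have : g ∈ ψ.ker := by
      rw [h]
      exact Subgroup.mem_top g
    exact this

/-- `|A| |B| ≤ |A ∩ B| |C|` for subgroups `A, B` of `C` -/
theorem card_mul_le [Finite G] (A B C : Subgroup G) (hA : A ≤ C) (hB : B ≤ C) :
    Nat.card A * Nat.card B ≤ Nat.card (A ⊓ B : Subgroup G) * Nat.card C := by
  have h1 : Nat.card (A ⊓ B : Subgroup G) * B.relIndex A = Nat.card A := by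
    have := Subgroup.relIndex_mul_relIndex ⊥ (A ⊓ B) A bot_le inf_le_left
    rwa [Subgroup.relIndex_bot_left, Subgroup.relIndex_bot_left, Subgroup.inf_relIndex_left] at this
  have h0 : B.relIndex C ≠ 0 := by
    intro h
    have := Subgroup.relIndex_dvd_card B C
    rw [h, zero_dvd_iff] at this
    exact Nat.card_pos.ne' this
  have h2 : B.relIndex A ≤ B.relIndex C := Subgroup.relIndex_le_of_le_right hA h0
  have h3 : Nat.card B * B.relIndex C = Nat.card C := by
    have := Subgroup.relIndex_mul_relIndex ⊥ B C bot_le hB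
    rwa [Subgroup.relIndex_bot_left, Subgroup.relIndex_bot_left] at this
  calc Nat.card A * Nat.card B = Nat.card (A ⊓ B : Subgroup G) * (B.relIndex A * Nat.card B) := by
        rw [← h1]; ring
    _ ≤ Nat.card (A ⊓ B : Subgroup G) * (B.relIndex C * Nat.card B) := by
        exact Nat.mul_le_mul_left _ (Nat.mul_le_mul_right _ h2)
    _ = Nat.card (A ⊓ B : Subgroup G) * Nat.card C := by rw [← h3]; ring

theorem fact_eq (p a m : ℕ) (hp : p.Prime) (hm : ¬ p ∣ m) : (p ^ a * m).factorization p = a := by
  have hm0 : m ≠ 0 := by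
    rintro rfl
    exact hm (dvd_zero p)
  rw [Nat.factorization_mul (pow_ne_zero _ hp.ne_zero) hm0, Nat.factorization_pow,
    Finsupp.add_apply, Finsupp.smul_apply, Nat.Prime.factorization_self hp,
    Nat.factorization_eq_zero_of_not_dvd hm]
  simp

end basic


section main

variable {G : Type*} [Group G] [Finite G] [IsSimpleGroup G]

theorem card_sylow3 (hG : Nat.card G = 360) (P : Sylow 3 G) : Nat.card P = 9 := by
  rw [Sylow.card_eq_multiplicity, hG]
  have : (360 : ℕ).factorization 3 = 2 := fact_eq 3 2 40 Nat.prime_three (by norm_num)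
  rw [this]
  norm_num

theorem sylow3_comm (hG : Nat.card G = 360) (P : Sylow 3 G) (x y : G) (hx : x ∈ P) (hy : y ∈ P) :
    x * y = y * x := by
  have h := IsPGroup.isMulCommutative_of_card_eq_prime_sq (p := 3) (G := ↥(P : Subgroup G))
    (by rw [card_sylow3 hG P]; norm_num)
  have := h.is_comm.comm (⟨x, hx⟩ : ↥(P : Subgroup G)) ⟨y, hy⟩
  exact congrArg Subtype.val this

theorem card_normal_aux (hG : Nat.card G = 360) (N : Subgroup G) [N.Normal] :
    Nat.card N = 1 ∨ Nat.card N = 360 := by
  rcases IsSimpleGroup.eq_bot_or_eq_top_of_normal N inferInstance with h | h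
  · left
    rw [h, Subgroup.card_bot]
  · right
    rw [h, Subgroup.card_top, hG]

/-- proper subgroups have order at most 60 -/
theorem card_le_sixty (hG : Nat.card G = 360) (M : Subgroup G) (hM : M ≠ ⊤) : Nat.card M ≤ 60 := by
  have h1 := card_dvd_factorial M hM
  have h2 := Subgroup.card_mul_index M
  rw [hG] at h1 h2
  have h3 : 6 ≤ M.index := by
    by_contra hlt
    push Not at hlt
    have h4 : (M.index).factorial ∣ (5 : ℕ).factorial := Nat.factorial_dvd_factorial (by omega)
    have h5 : 360 ∣ (5 : ℕ).factorial := h1.trans h4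
    revert h5
    decide
  nlinarith

theorem card_sylow_three (hG : Nat.card G = 360) : Nat.card (Sylow 3 G) = 10 := by
  have h1 : Nat.card (Sylow 3 G) ≡ 1 [MOD 3] := card_sylow_modEq_one 3 G
  obtain ⟨P⟩ : Nonempty (Sylow 3 G) := inferInstance
  have hP9 := card_sylow3 hG P
  have h2 : Nat.card (Sylow 3 G) ∣ (P : Subgroup G).index := Sylow.card_dvd_index P
  have hidx : (P : Subgroup G).index = 40 := by
    have := Subgroup.card_mul_index (P : Subgroup G)
    rw [hP9, hG] at this
    omega
  rw [hidx] at h2
  have h3 : Nat.card (Sylow 3 G) = (Subgroup.normalizer ((P : Subgroup G) : Set G)).index :=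
    Sylow.card_eq_index_normalizer P
  have hN := Subgroup.card_mul_index (Subgroup.normalizer ((P : Subgroup G) : Set G))
  rw [← h3, hG] at hN
  set n := Nat.card (Sylow 3 G) with hn
  have hcases : n = 1 ∨ n = 4 ∨ n = 10 ∨ n = 40 := by
    have hle : n ≤ 40 := Nat.le_of_dvd (by norm_num) h2
    have hmod : n % 3 = 1 := h1
    interval_cases n <;> omega
  rcases hcases with h | h | h | h
  · -- normal Sylow subgroup
    exfalso
    rw [h] at h3
    have h4 : Subgroup.normalizer ((P : Subgroup G) : Set G) = ⊤ := Subgroup.index_eq_one.mp h3.symm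
    haveI : (P : Subgroup G).Normal := Subgroup.normalizer_eq_top_iff.mp h4
    rcases card_normal_aux hG (P : Subgroup G) with h5 | h5 <;> omega
  · exfalso
    rw [h] at h3
    have hne : Subgroup.normalizer ((P : Subgroup G) : Set G) ≠ ⊤ := by
      intro h4
      rw [h4, Subgroup.index_top] at h3
      omega
    have h5 := card_dvd_factorial _ hne
    rw [← h3, hG] at h5
    revert h5
    decide
  · exact h
  · exfalso
    rw [h] at hN
    have hN9 : Nat.card (Subgroup.normalizer ((P : Subgroup G) : Set G)) = 9 := by omega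
    have hNP : (P : Subgroup G) = Subgroup.normalizer ((P : Subgroup G) : Set G) :=
      Subgroup.eq_of_le_of_card_ge Subgroup.le_normalizer (by rw [hN9, hP9])
    have hP : Subgroup.normalizer ((P : Subgroup G) : Set G) ≤
        Subgroup.centralizer ((P : Subgroup G) : Set G) := by
      rw [← hNP]
      intro x hx
      rw [Subgroup.mem_centralizer_iff]
      intro y hy
      exact sylow3_comm hG P y x hy hx
    have hc := MonoidHom.ker_transferSylow_isComplement' P hP
    have hcard := hc.card_mul_card
    rw [hP9, hG] at hcard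
    rcases card_normal_aux hG (MonoidHom.transferSylow P hP).ker with h5 | h5 <;> omega


/-- Sylow 3-subgroups of a simple group of order 360 intersect trivially. -/
theorem sylow_TI (hG : Nat.card G = 360) (P Q : Sylow 3 G) (hPQ : P ≠ Q) :
    (P : Subgroup G) ⊓ (Q : Subgroup G) = ⊥ := by
  by_contra hD
  have hP9 := card_sylow3 hG P
  have hQ9 := card_sylow3 hG Q
  set D : Subgroup G := (P : Subgroup G) ⊓ (Q : Subgroup G) with hDdef
  have hDP : D ≤ P := inf_le_left
  have hDQ : D ≤ Q := inf_le_right
  -- |D| = 3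
  have hD3 : Nat.card D = 3 := by
    have h1 : Nat.card D ∣ 9 := by
      have := Subgroup.card_dvd_of_le hDP
      rwa [hP9] at this
    have h2 : Nat.card D ≠ 1 := fun h => hD (Subgroup.card_eq_one.mp h)
    have h3 : Nat.card D ≠ 9 := by
      intro h
      have h4 : D = P := Subgroup.eq_of_le_of_card_ge hDP (by rw [h, hP9])
      have h5 : (P : Subgroup G) ≤ Q := by rw [← h4]; exact hDQ
      have h6 : (P : Subgroup G) = Q := Subgroup.eq_of_le_of_card_ge h5 (by rw [hP9, hQ9])
      exact hPQ (Sylow.ext h6)
    have hle : Nat.card D ≤ 9 := Nat.le_of_dvd (by norm_num) h1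
    interval_cases (Nat.card D) <;> omega
  -- the normalizer of D
  set M : Subgroup G := Subgroup.normalizer (D : Set G) with hMdef
  have hPM : (P : Subgroup G) ≤ M := by
    intro x hx
    rw [hMdef, Subgroup.mem_normalizer_iff]
    intro d
    constructor
    · intro hd
      have : x * d * x⁻¹ = d := by
        rw [sylow3_comm hG P x d hx (hDP hd), mul_inv_cancel_right]
      rw [this]
      exact hd
    · intro hd
      have hd' : x * d * x⁻¹ ∈ (P : Subgroup G) := hDP hd
      have hdP : d ∈ (P : Subgroup G) := by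
        have := (P : Subgroup G).mul_mem ((P : Subgroup G).mul_mem ((P : Subgroup G).inv_mem hx) hd') hx
        have e : x⁻¹ * (x * d * x⁻¹) * x = d := by group
        rwa [e] at this
      have : x * d * x⁻¹ = d := by
        rw [sylow3_comm hG P x d hx hdP, mul_inv_cancel_right]
      rwa [this] at hd
  have hQM : (Q : Subgroup G) ≤ M := by
    intro x hx
    rw [hMdef, Subgroup.mem_normalizer_iff]
    intro d
    constructor
    · intro hd
      have : x * d * x⁻¹ = d := by
        rw [sylow3_comm hG Q x d hx (hDQ hd), mul_inv_cancel_right]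
      rw [this]
      exact hd
    · intro hd
      have hd' : x * d * x⁻¹ ∈ (Q : Subgroup G) := hDQ hd
      have hdP : d ∈ (Q : Subgroup G) := by
        have := (Q : Subgroup G).mul_mem ((Q : Subgroup G).mul_mem ((Q : Subgroup G).inv_mem hx) hd') hx
        have e : x⁻¹ * (x * d * x⁻¹) * x = d := by group
        rwa [e] at this
      have : x * d * x⁻¹ = d := by
        rw [sylow3_comm hG Q x d hx hdP, mul_inv_cancel_right]
      rwa [this] at hd
  have hMtop : M ≠ ⊤ := by
    intro h
    haveI : D.Normal := Subgroup.normalizer_eq_top_iff.mp h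
    rcases card_normal_aux hG D with h5 | h5 <;> omega
  have hM60 := card_le_sixty hG M hMtop
  have hM9 : 9 ∣ Nat.card M := by
    have := Subgroup.card_dvd_of_le hPM
    rwa [hP9] at this
  have hM360 : Nat.card M ∣ 360 := by
    have := Subgroup.card_subgroup_dvd_card M
    rwa [hG] at this
  have hM27 : 27 ≤ Nat.card M := by
    have := card_mul_le (P : Subgroup G) (Q : Subgroup G) M hPM hQM
    rw [hP9, hQ9, ← hDdef, hD3] at this
    omega
  have hM45 : Nat.card M ≤ 45 := by
    obtain ⟨k, hk⟩ := hM9
    rw [hk] at hM360 hM60 hM27 ⊢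
    have hk1 : 3 ≤ k := by omega
    have hk2 : k ≤ 6 := by omega
    interval_cases k
    · exfalso; revert hM360; decide
    · omega
    · omega
    · exfalso; revert hM360; decide
  -- T = N(P) ∩ M equals P
  set NP : Subgroup G := Subgroup.normalizer ((P : Subgroup G) : Set G) with hNPdef
  set NQ : Subgroup G := Subgroup.normalizer ((Q : Subgroup G) : Set G) with hNQdef
  set T : Subgroup G := NP ⊓ M with hTdef
  have hPT : (P : Subgroup G) ≤ T := le_inf Subgroup.le_normalizer hPM
  have hTQ : T ⊓ (Q : Subgroup G) ≤ D := by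
    intro x hx
    have hx1 : x ∈ NP := hx.1.1
    have hx2 : x ∈ (Q : Subgroup G) := hx.2
    have hx3 : x ∈ (Q : Subgroup G) ⊓ Subgroup.normalizer (P : Set G) := ⟨hx2, hx1⟩
    rw [IsPGroup.inf_normalizer_sylow Q.2 P] at hx3
    exact ⟨hx3.2, hx3.1⟩
  have hT15 : Nat.card T ≤ 15 := by
    have h1 := card_mul_le T (Q : Subgroup G) M inf_le_right hQM
    have h2 : Nat.card (T ⊓ (Q : Subgroup G) : Subgroup G) ≤ 3 :=
      le_trans (Subgroup.card_le_of_le hTQ) hD3.le
    rw [hQ9] at h1
    nlinarith
  have hT9 : Nat.card T = 9 := by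
    have h1 : 9 ∣ Nat.card T := by
      have := Subgroup.card_dvd_of_le hPT
      rwa [hP9] at this
    have h2 : 0 < Nat.card T := Nat.card_pos
    omega
  have hTP : (P : Subgroup G) = T := Subgroup.eq_of_le_of_card_ge hPT (by rw [hT9, hP9])
  -- X = N(P) ∩ N(Q) has order at least 4 and lies in D
  set X : Subgroup G := NP ⊓ NQ with hXdef
  have hNP36 : Nat.card NP = 36 := by
    have h3 : Nat.card (Sylow 3 G) = NP.index := Sylow.card_eq_index_normalizer P
    have hN := Subgroup.card_mul_index NP
    rw [← h3, card_sylow_three hG, hG] at hN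
    omega
  have hNQ36 : Nat.card NQ = 36 := by
    have h3 : Nat.card (Sylow 3 G) = NQ.index := Sylow.card_eq_index_normalizer Q
    have hN := Subgroup.card_mul_index NQ
    rw [← h3, card_sylow_three hG, hG] at hN
    omega
  have hX4 : 4 ≤ Nat.card X := by
    have h1 := card_mul_le NP NQ ⊤ le_top le_top
    rw [hNP36, hNQ36, Subgroup.card_top, hG, ← hXdef] at h1
    omega
  have hXM : X ≤ M := by
    intro x hx
    have hx1 : x ∈ NP := hx.1
    have hx2 : x ∈ NQ := hx.2
    rw [hMdef, Subgroup.mem_normalizer_iff]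
    intro d
    rw [hDdef, Subgroup.mem_inf, Subgroup.mem_inf]
    rw [hNPdef, Subgroup.mem_normalizer_iff] at hx1
    rw [hNQdef, Subgroup.mem_normalizer_iff] at hx2
    exact and_congr (hx1 d) (hx2 d)
  have hXD : X ≤ D := by
    intro x hx
    have hxT : x ∈ T := ⟨hx.1, hXM hx⟩
    rw [← hTP] at hxT
    have hx3 : x ∈ (P : Subgroup G) ⊓ Subgroup.normalizer (Q : Set G) := ⟨hxT, hx.2⟩
    rw [IsPGroup.inf_normalizer_sylow P.2 Q] at hx3
    exact hx3
  have := Subgroup.card_le_of_le hXD
  omega

end main

end Cfsg.Agent.Lib.Helper19.Ord360A
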