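import Mathlib
import Cfsg.Agent.Lib.Helper19.Ord360A
import Cfsg.Agent.Lib.helper6.ZassPSL2

set_option autoImplicit false

namespace Cfsg.Agent.Lib.Helper19.Ord360B

open MulAction Cfsg.Agent.Lib.Helper19.Ord360A

variable {G : Type*} [Group G] [Finite G] [IsSimpleGroup G]

theorem semireg (hG : Nat.card G = 360) {P Q : Sylow 3 G} (hQP : Q ≠ P)
    {x : G} (hx : x ∈ P) (hxQ : x • Q = Q) : x = 1 := by
  have h1 : x ∈ (P : Subgroup G) ⊓ Subgroup.normalizer (Q : Set G) :=
    ⟨hx, Sylow.smul_eq_iff_mem_normalizer.mp hxQ⟩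
  rw [IsPGroup.inf_normalizer_sylow P.2 Q, sylow_TI hG P Q (Ne.symm hQP), Subgroup.mem_bot] at h1
  exact h1

omit [Finite G] [IsSimpleGroup G] in
theorem smul_self {P : Sylow 3 G} {x : G} (hx : x ∈ P) : x • P = P :=
  Sylow.smul_eq_iff_mem_normalizer.mpr (Subgroup.le_normalizer hx)

theorem trans (hG : Nat.card G = 360) {P Q₁ Q₂ : Sylow 3 G} (h1 : Q₁ ≠ P) (h2 : Q₂ ≠ P) :
    ∃ x ∈ P, x • Q₁ = Q₂ := by
  classical
  have hne : ∀ x : P, (x : G) • Q₁ ≠ P := by
    intro x h
    have h3 : (x : G) • P = P := smul_self x.2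
    exact h1 (MulAction.injective (x : G) (h.trans h3.symm))
  let f : P → {Q : Sylow 3 G // Q ≠ P} := fun x => ⟨(x : G) • Q₁, hne x⟩
  have hf : Function.Injective f := by
    intro x y hxy
    have h3 : (x : G) • Q₁ = (y : G) • Q₁ := congrArg Subtype.val hxy
    have h4 : ((y : G)⁻¹ * (x : G)) • Q₁ = Q₁ := by rw [mul_smul, h3, inv_smul_smul]
    have h5 := semireg hG h1 ((P : Subgroup G).mul_mem ((P : Subgroup G).inv_mem y.2) x.2) h4
    apply Subtype.ext
    have : (x : G) = (y : G) * ((y : G)⁻¹ * (x : G)) := by group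
    rw [this, h5, mul_one]
  have hc : Nat.card {Q : Sylow 3 G // Q ≠ P} ≤ Nat.card P := by
    letI : Fintype (Sylow 3 G) := Fintype.ofFinite _
    rw [Nat.card_eq_fintype_card, Fintype.card_subtype_compl, Fintype.card_subtype_eq,
      ← Nat.card_eq_fintype_card, card_sylow_three hG, card_sylow3 hG P]
  obtain ⟨x, hx⟩ := (hf.bijective_of_nat_card_le hc).2 ⟨Q₂, h2⟩
  exact ⟨x, x.2, congrArg Subtype.val hx⟩

theorem two (hG : Nat.card G = 360) {a b c d : Sylow 3 G} (hab : a ≠ b) (hcd : c ≠ d) :
    ∃ g : G, g • a = c ∧ g • b = d := by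
  obtain ⟨g, hg⟩ := MulAction.exists_smul_eq G a c
  have h1 : g • b ≠ c := fun h => hab (MulAction.injective g (hg.trans h.symm))
  obtain ⟨x, hx, hxb⟩ := trans hG h1 (Ne.symm hcd)
  exact ⟨x * g, by rw [mul_smul, hg, smul_self hx], by rw [mul_smul, hxb]⟩

theorem exists_pair (hG : Nat.card G = 360) : ∃ a b : Sylow 3 G, a ≠ b := by
  classical
  letI : Fintype (Sylow 3 G) := Fintype.ofFinite _
  have : 1 < Fintype.card (Sylow 3 G) := by
    rw [← Nat.card_eq_fintype_card, card_sylow_three hG]
    norm_num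
  exact Fintype.exists_pair_of_one_lt_card this

theorem faithful (hG : Nat.card G = 360) : FaithfulSMul G (Sylow 3 G) := by
  obtain ⟨a, b, hab⟩ := exists_pair hG
  have hker : (MulAction.toPermHom G (Sylow 3 G)).ker = ⊥ := by
    rcases (MonoidHom.normal_ker (MulAction.toPermHom G (Sylow 3 G))).eq_bot_or_eq_top with h | h
    · exact h
    · exfalso
      obtain ⟨g, hg⟩ := MulAction.exists_smul_eq G a b
      have h1 : g ∈ (MulAction.toPermHom G (Sylow 3 G)).ker := by rw [h]; trivial
      rw [MonoidHom.mem_ker] at h1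
      have h2 : g • a = a := by
        have := congrArg (fun σ : Equiv.Perm (Sylow 3 G) => σ a) h1
        simpa using this
      exact hab (h2.symm.trans hg)
  constructor
  intro g g' h
  have h1 : g'⁻¹ * g ∈ (MulAction.toPermHom G (Sylow 3 G)).ker := by
    rw [MonoidHom.mem_ker]
    ext x
    simp [mul_smul, h x]
  rw [hker, Subgroup.mem_bot] at h1
  have : g = g' * (g'⁻¹ * g) := by group
  rw [this, h1, mul_one]

/-- order of the two-point stabiliser -/
theorem card_H (hG : Nat.card G = 360) {a b : Sylow 3 G} (hab : a ≠ b) :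
    Nat.card ↥(stabilizer G a ⊓ stabilizer G b) = 4 := by
  have h1 : Nat.card (stabilizer G a) * 10 = Nat.card G := by
    rw [Sylow.stabilizer_eq_normalizer, ← card_sylow_three hG, Sylow.card_eq_index_normalizer a]
    exact Subgroup.card_mul_index _
  let H : Subgroup G := stabilizer G a ⊓ stabilizer G b
  have hHmem : ∀ h : G, h ∈ H ↔ h • a = a ∧ h • b = b := by
    intro h
    simp only [H, Subgroup.mem_inf, MulAction.mem_stabilizer_iff]
  let A : Subgroup G := a
  let f : ↥A × ↥H → stabilizer G a := fun xh =>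
    ⟨(xh.1 : G) * (xh.2 : G), by
      rw [mem_stabilizer_iff, mul_smul, ((hHmem _).mp xh.2.2).1, smul_self xh.1.2]⟩
  have hf : Function.Bijective f := by
    constructor
    · rintro ⟨x, h⟩ ⟨x', h'⟩ hxy
      have h2 : (x : G) * (h : G) = (x' : G) * (h' : G) := congrArg Subtype.val hxy
      have h3 : ((x' : G)⁻¹ * (x : G)) = (h' : G) * (h : G)⁻¹ := by
        calc ((x' : G)⁻¹ * (x : G)) = (x' : G)⁻¹ * ((x : G) * (h : G)) * (h : G)⁻¹ := by group
          _ = (h' : G) * (h : G)⁻¹ := by rw [h2]; group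
      have h4 : ((x' : G)⁻¹ * (x : G)) • b = b := by
        rw [h3]
        exact ((hHmem _).mp (H.mul_mem h'.2 (H.inv_mem h.2))).2
      have h5 := semireg hG (Ne.symm hab)
        ((a : Subgroup G).mul_mem ((a : Subgroup G).inv_mem x'.2) x.2) h4
      have hx : x = x' := by
        apply Subtype.ext
        have : (x : G) = (x' : G) * ((x' : G)⁻¹ * (x : G)) := by group
        rw [this, h5, mul_one]
      have hh : h = h' := by
        apply Subtype.ext
        rw [h5] at h3
        have : (h : G) = ((h' : G) * (h : G)⁻¹)⁻¹ * (h' : G) := by group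
        rw [this, ← h3, inv_one, one_mul]
      rw [hx, hh]
    · rintro ⟨g, hg⟩
      rw [mem_stabilizer_iff] at hg
      have h2 : g • b ≠ a := fun h => hab (MulAction.injective g (hg.trans h.symm))
      obtain ⟨x, hx, hxb⟩ := trans hG (Ne.symm hab) h2
      refine ⟨⟨⟨x, hx⟩, ⟨x⁻¹ * g, (hHmem _).mpr ⟨?_, ?_⟩⟩⟩, ?_⟩
      · rw [mul_smul, hg, inv_smul_eq_iff, smul_self hx]
      · rw [mul_smul, inv_smul_eq_iff, hxb]
      · apply Subtype.ext
        show x * (x⁻¹ * g) = g
        group
  have h2 : Nat.card (stabilizer G a) = 9 * Nat.card H := by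
    rw [← Nat.card_eq_of_bijective f hf, Nat.card_prod, card_sylow3 hG a]
  rw [h2, hG] at h1
  have hH : Nat.card H = Nat.card ↥(stabilizer G a ⊓ stabilizer G b) := rfl
  omega


/-- an involution of a finite set with trivial sign moves a multiple of four points -/
theorem four_dvd_support {α : Type*} [Fintype α] [DecidableEq α] (σ : Equiv.Perm α)
    (h2 : σ * σ = 1) (h1 : σ ≠ 1) (hs : Equiv.Perm.sign σ = 1) : 4 ∣ σ.support.card := by
  have ho : orderOf σ = 2 := orderOf_eq_prime (by rw [pow_two]; exact h2) h1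
  obtain ⟨n, hn⟩ := Equiv.Perm.cycleType_prime_order (σ := σ) (by rw [ho]; exact Nat.prime_two)
  rw [ho] at hn
  have hsum := Equiv.Perm.sum_cycleType σ
  rw [hn, Multiset.sum_replicate, smul_eq_mul] at hsum
  have hsign := Equiv.Perm.sign_of_cycleType σ
  rw [hn, Multiset.sum_replicate, Multiset.card_replicate, smul_eq_mul, hs] at hsign
  have heven : Even (n + 1) := by
    rcases Nat.even_or_odd (n + 1) with h | h
    · exact h
    · exfalso
      have h5 : Odd ((n + 1) * 2 + (n + 1)) := by
        obtain ⟨m, hm⟩ := h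
        exact ⟨3 * m + 1, by rw [hm]; ring⟩
      rw [h5.neg_one_pow] at hsign
      revert hsign
      decide
  obtain ⟨m, hm⟩ := heven
  rw [← hsum, hm]
  exact ⟨m, by ring⟩

/-- an involution fixing two points fixes no other point -/
theorem invol_fix (hG : Nat.card G = 360) (t : G) (ht2 : t * t = 1) (ht1 : t ≠ 1)
    {a b : Sylow 3 G} (hab : a ≠ b) (ha : t • a = a) (hb : t • b = b)
    (c : Sylow 3 G) (hc : t • c = c) : c = a ∨ c = b := by
  classical
  letI : Fintype (Sylow 3 G) := Fintype.ofFinite _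
  haveI := faithful hG
  have hΩ : Fintype.card (Sylow 3 G) = 10 := by
    rw [← Nat.card_eq_fintype_card, card_sylow_three hG]
  set σ : Equiv.Perm (Sylow 3 G) := MulAction.toPermHom G (Sylow 3 G) t with hσ
  have hσx : ∀ x, σ x = t • x := fun x => rfl
  have hσ2 : σ * σ = 1 := by rw [hσ, ← map_mul, ht2, map_one]
  have hσ1 : σ ≠ 1 := by
    intro h
    apply ht1
    apply FaithfulSMul.eq_of_smul_eq_smul (α := Sylow 3 G)
    intro x
    rw [one_smul, ← hσx, h, Equiv.Perm.one_apply]
  have hsign : Equiv.Perm.sign σ = 1 :=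
    sign_trivial (by rw [hG]; norm_num) (MulAction.toPermHom G (Sylow 3 G)) t
  have h4 := four_dvd_support σ hσ2 hσ1 hsign
  -- the fixed points
  set S : Finset (Sylow 3 G) := Finset.univ.filter (fun y => t • y = y) with hS
  have hSc : S.card + σ.support.card = 10 := by
    have h5 : S = σ.supportᶜ := by
      ext y
      rw [hS, Finset.mem_filter, Finset.mem_compl, Equiv.Perm.mem_support, not_not, hσx]
      simp
    rw [h5, Finset.card_compl, hΩ]
    have := Finset.card_le_univ σ.support
    rw [hΩ] at this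
    omega
  have haS : a ∈ S := by rw [hS, Finset.mem_filter]; exact ⟨Finset.mem_univ _, ha⟩
  have hbS : b ∈ S := by rw [hS, Finset.mem_filter]; exact ⟨Finset.mem_univ _, hb⟩
  have hcS : c ∈ S := by rw [hS, Finset.mem_filter]; exact ⟨Finset.mem_univ _, hc⟩
  -- the centraliser of t in a
  set C : Subgroup G := (a : Subgroup G) ⊓ Subgroup.centralizer {t} with hC
  have htN : ∀ k ∈ (a : Subgroup G), t * k * t⁻¹ ∈ (a : Subgroup G) := by
    intro k hk
    have htn : t ∈ Subgroup.normalizer ((a : Subgroup G) : Set G) :=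
      Sylow.smul_eq_iff_mem_normalizer.mp ha
    exact (Subgroup.mem_normalizer_iff.mp htn k).mp hk
  have hfmem : ∀ k : C, (k : G) • b ∈ S.erase a := by
    intro k
    have hk1 : (k : G) ∈ (a : Subgroup G) := k.2.1
    have hk2' : (k : G) ∈ Subgroup.centralizer {t} := k.2.2
    have hk2 : t * (k : G) = (k : G) * t := (Subgroup.mem_centralizer_singleton_iff.mp hk2').symm
    rw [Finset.mem_erase, hS, Finset.mem_filter]
    refine ⟨?_, Finset.mem_univ _, ?_⟩
    · intro h
      have h3 : (k : G) • a = a := smul_self hk1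
      exact hab (MulAction.injective (k : G) (h3.trans h.symm))
    · rw [← mul_smul, hk2, mul_smul, hb]
  let f : C → {y // y ∈ S.erase a} := fun k => ⟨(k : G) • b, hfmem k⟩
  have hf : Function.Bijective f := by
    constructor
    · intro k k' hkk
      have h3 : (k : G) • b = (k' : G) • b := congrArg Subtype.val hkk
      have h4 : ((k' : G)⁻¹ * (k : G)) • b = b := by rw [mul_smul, h3, inv_smul_smul]
      have h5 := semireg hG (Ne.symm hab)
        ((a : Subgroup G).mul_mem ((a : Subgroup G).inv_mem k'.2.1) k.2.1) h4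
      apply Subtype.ext
      have : (k : G) = (k' : G) * ((k' : G)⁻¹ * (k : G)) := by group
      rw [this, h5, mul_one]
    · rintro ⟨y, hy⟩
      rw [Finset.mem_erase, hS, Finset.mem_filter] at hy
      obtain ⟨hya, -, hty⟩ := hy
      obtain ⟨k, hk, hky⟩ := trans hG (Ne.symm hab) hya
      have hcomm : t * k * t⁻¹ = k := by
        have h6 : (t * k * t⁻¹) • b = k • b := by
          rw [mul_smul, mul_smul, inv_smul_eq_iff.mpr hb.symm, hky, hty]
        have h7 : (k⁻¹ * (t * k * t⁻¹)) • b = b := by rw [mul_smul, h6, inv_smul_smul]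
        have h8 := semireg hG (Ne.symm hab)
          ((a : Subgroup G).mul_mem ((a : Subgroup G).inv_mem hk) (htN k hk)) h7
        have : t * k * t⁻¹ = k * (k⁻¹ * (t * k * t⁻¹)) := by group
        rw [this, h8, mul_one]
      have hkC : k ∈ C := by
        refine ⟨hk, ?_⟩
        show k ∈ Subgroup.centralizer {t}
        rw [Subgroup.mem_centralizer_singleton_iff]
        calc k * t = (t * k * t⁻¹) * t := by rw [hcomm]
          _ = t * k := by group
      exact ⟨⟨k, hkC⟩, Subtype.ext hky⟩
  have hcardC : Nat.card C + 1 = S.card := by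
    rw [Nat.card_eq_of_bijective f hf, Nat.card_eq_fintype_card, Fintype.card_coe,
      Finset.card_erase_of_mem haS]
    have : 0 < S.card := Finset.card_pos.mpr ⟨a, haS⟩
    omega
  have hCdvd : Nat.card C ∣ 9 := by
    have := Subgroup.card_dvd_of_le (inf_le_left : C ≤ (a : Subgroup G))
    rwa [card_sylow3 hG a] at this
  have hCle : Nat.card C ≤ 9 := Nat.le_of_dvd (by norm_num) hCdvd
  have hCpos : 0 < Nat.card C := Nat.card_pos
  have hsupp0 : σ.support.card ≠ 0 := by
    intro h
    exact hσ1 (Equiv.Perm.card_support_eq_zero.mp h)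
  -- |C| ∈ {1, 3, 9} and the congruence leave only |C| = 1
  have hC1 : Nat.card C = 1 := by
    obtain ⟨m, hm⟩ := h4
    interval_cases h : Nat.card C <;> first | rfl | omega
  have hS2 : S.card = 2 := by omega
  by_contra hcon
  push Not at hcon
  have h3 : ({a, b, c} : Finset (Sylow 3 G)) ⊆ S := by
    intro y hy
    simp only [Finset.mem_insert, Finset.mem_singleton] at hy
    rcases hy with rfl | rfl | rfl <;> assumption
  have h5 : ({a, b, c} : Finset (Sylow 3 G)).card = 3 := by
    rw [Finset.card_insert_of_notMem, Finset.card_insert_of_notMem, Finset.card_singleton]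
    · rw [Finset.mem_singleton]; exact Ne.symm hcon.2
    · simp only [Finset.mem_insert, Finset.mem_singleton, not_or]
      exact ⟨hab, Ne.symm hcon.1⟩
  have := Finset.card_le_card h3
  omega


theorem three (hG : Nat.card G = 360) (g : G) (a b c : Sylow 3 G) (hab : a ≠ b) (hbc : b ≠ c)
    (hac : a ≠ c) (ha : g • a = a) (hb : g • b = b) (hc : g • c = c) : g = 1 := by
  by_contra hg1
  have hgH : g ∈ stabilizer G a ⊓ stabilizer G b := by
    rw [Subgroup.mem_inf, mem_stabilizer_iff, mem_stabilizer_iff]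
    exact ⟨ha, hb⟩
  have hg4 : g ^ 4 = 1 := by
    have h := pow_card_eq_one' (G := ↥(stabilizer G a ⊓ stabilizer G b)) (x := ⟨g, hgH⟩)
    rw [card_H hG hab] at h
    exact congrArg Subtype.val h
  by_cases hgg : g * g = 1
  · rcases invol_fix hG g hgg hg1 hab ha hb c hc with h | h
    · exact hac h.symm
    · exact hbc h.symm
  · have h2 : (g * g) * (g * g) = 1 := by
      have e : (g * g) * (g * g) = g ^ 4 := by
        simp only [pow_succ, pow_zero, one_mul, mul_assoc]
      rw [e, hg4]
    have ha' : (g * g) • a = a := by rw [mul_smul, ha, ha]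
    have hb' : (g * g) • b = b := by rw [mul_smul, hb, hb]
    have hc' : (g * g) • c = c := by rw [mul_smul, hc, hc]
    rcases invol_fix hG (g * g) h2 hgg hab ha' hb' c hc' with h | h
    · exact hac h.symm
    · exact hbc h.symm

open Cfsg.Agent.Lib.helper6.ZassPSL1 Cfsg.Agent.Lib.helper6.ZassPSL2 in
/-- a simple group of order 360 is `PSL₂(9)` -/
theorem exists_psl9 (hG : Nat.card G = 360) :
    ∃ (F : Type) (_ : Field F) (_ : Fintype F), Fintype.card F = 9 ∧
      Nonempty (G ≃* Matrix.ProjectiveSpecialLinearGroup (Fin 2) F) := by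
  classical
  letI : Fintype (Sylow 3 G) := Fintype.ofFinite _
  haveI := faithful hG
  have hΩ : Fintype.card (Sylow 3 G) = 10 := by
    rw [← Nat.card_eq_fintype_card, card_sylow_three hG]
  obtain ⟨pinf, p0, hi0⟩ := exists_pair hG
  have hH := card_H hG hi0
  obtain ⟨j, hj⟩ := exists_prime_orderOf_dvd_card' (G := ↥(stabilizer G pinf ⊓ stabilizer G p0)) 2
    (by rw [hH]; norm_num)
  have hjmem := (Subgroup.mem_inf.mp j.2)
  have hj2 : orderOf (j : G) = 2 := by rw [Subgroup.orderOf_coe, hj]
  have hjj : (j : G) * (j : G) = 1 := by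
    rw [← pow_two, ← hj2]; exact pow_orderOf_eq_one _
  have hj1 : (j : G) ≠ 1 := by
    intro h
    rw [h, orderOf_one] at hj2
    omega
  have Z : ZP G (Sylow 3 G) pinf p0 (pinf : Subgroup G) (j : G) :=
    { two := fun hab hcd => two hG hab hcd
      three := three hG
      hi0 := hi0
      kfix := fun k hk => smul_self hk
      kfpf := fun k hk hk1 x hx h => hk1 (semireg hG hx hk h)
      ktr := fun x y hx hy => trans hG hx hy
      knorm := by
        intro g hg k hk
        have hgN : g ∈ Subgroup.normalizer (pinf : Set G) :=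
          Sylow.smul_eq_iff_mem_normalizer.mp hg
        exact (Subgroup.mem_normalizer_iff.mp hgN k).mp hk
      hj1 := hj1
      hjj := hjj
      hji := mem_stabilizer_iff.mp hjmem.1
      hj0 := mem_stabilizer_iff.mp hjmem.2 }
  have hcardH : 2 * Nat.card ↥(stabilizer G pinf ⊓ stabilizer G p0) + 2 =
      Fintype.card (Sylow 3 G) := by rw [hΩ, hH]
  obtain ⟨F, i1, i2, hF, hiso⟩ := psl_of_half Z hcardH
  exact ⟨F, i1, i2, by omega, hiso⟩

end Cfsg.Agent.Lib.Helper19.Ord360B
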