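import Mathlib

set_option autoImplicit false

namespace Cfsg.Agent.Lib.Helper19.KleinA5

/-- a normal subgroup of index prime to `p` contains every `p`-element -/
theorem mem_of_pow_pow_eq_one {K : Type*} [Group K] [Finite K] {p : ℕ} (hp : p.Prime)
    (M : Subgroup K) [M.Normal] (hM : ¬ p ∣ M.index) (y : K) (k : ℕ) (hy : y ^ (p ^ k) = 1) :
    y ∈ M := by
  rw [← QuotientGroup.eq_one_iff (N := M)]
  have h1 : orderOf (y : K ⧸ M) ∣ p ^ k := by
    apply orderOf_dvd_of_pow_eq_one
    rw [← QuotientGroup.mk_pow, hy]; rfl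
  have h2 : orderOf (y : K ⧸ M) ∣ M.index := by
    rw [Subgroup.index_eq_card]
    exact orderOf_dvd_natCard _
  have hcop : Nat.Coprime (p ^ k) M.index :=
    Nat.Coprime.pow_left k ((Nat.Prime.coprime_iff_not_dvd hp).mpr hM)
  exact orderOf_eq_one_iff.mp (Nat.eq_one_of_dvd_coprimes hcop h1 h2)

section main

variable {G : Type*} [Group G] [Finite G]

/-- `2`-elements of `C(x)` lie in the normal Sylow `2`-subgroup `S₀` -/
theorem two_elt_mem (x : G) (S₀ : Subgroup G)
    (hodd : ¬ 2 ∣ S₀.relIndex (Subgroup.centralizer ({x} : Set G)))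
    (hn : (S₀.subgroupOf (Subgroup.centralizer ({x} : Set G))).Normal)
    (y : G) (hy : y ∈ Subgroup.centralizer ({x} : Set G)) (k : ℕ) (hyk : y ^ (2 ^ k) = 1) :
    y ∈ S₀ := by
  have h1 := mem_of_pow_pow_eq_one Nat.prime_two
    (S₀.subgroupOf (Subgroup.centralizer ({x} : Set G))) hodd
    ⟨y, hy⟩ k (Subtype.ext (by simpa using hyk))
  exact Subgroup.mem_subgroupOf.mp h1

theorem card_inv_le (x : G) (S₀ : Subgroup G) (hK : IsKleinFour ↥S₀)
    (hodd : ¬ 2 ∣ S₀.relIndex (Subgroup.centralizer ({x} : Set G)))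
    (hn : (S₀.subgroupOf (Subgroup.centralizer ({x} : Set G))).Normal) :
    Nat.card {u : ↥(Subgroup.centralizer ({x} : Set G)) // orderOf u = 2} ≤ 3 := by
  have hmem : ∀ u : {u : ↥(Subgroup.centralizer ({x} : Set G)) // orderOf u = 2},
      ((u : ↥(Subgroup.centralizer ({x} : Set G))) : G) ∈ S₀ := by
    intro u
    apply two_elt_mem x S₀ hodd hn _ u.1.2 1
    have h1 := pow_orderOf_eq_one u.1
    rw [u.2] at h1
    rw [pow_one]
    have h2 := congrArg Subtype.val h1
    simpa using h2
  let f : Option {u : ↥(Subgroup.centralizer ({x} : Set G)) // orderOf u = 2} → S₀ := fun o =>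
    match o with
    | none => 1
    | some u => ⟨_, hmem u⟩
  have hone : ∀ v : {u : ↥(Subgroup.centralizer ({x} : Set G)) // orderOf u = 2},
      ((v : ↥(Subgroup.centralizer ({x} : Set G))) : G) ≠ 1 := by
    intro v h1
    have h2 : v.1 = 1 := Subtype.ext h1
    have h3 := v.2
    rw [h2, orderOf_one] at h3
    omega
  have hf : Function.Injective f := by
    intro a b hab
    cases a with
    | none =>
      cases b with
      | none => rfl
      | some v =>
        exfalso
        have h1 : (1 : G) = ((v : ↥(Subgroup.centralizer ({x} : Set G))) : G) :=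
          congrArg Subtype.val hab
        exact hone v h1.symm
    | some u =>
      cases b with
      | none =>
        exfalso
        have h1 : ((u : ↥(Subgroup.centralizer ({x} : Set G))) : G) = (1 : G) :=
          congrArg Subtype.val hab
        exact hone u h1
      | some v =>
        congr 1
        apply Subtype.ext
        apply Subtype.ext
        have h1 : ((f (some u) : S₀) : G) = ((f (some v) : S₀) : G) := congrArg Subtype.val hab
        exact h1
  have h1 := Nat.card_le_card_of_injective f hf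
  rw [Finite.card_option, hK.card_four] at h1
  omega

theorem sylow_eq (x : G) (S₀ : Subgroup G) (hK : IsKleinFour ↥S₀)
    (hodd : ¬ 2 ∣ S₀.relIndex (Subgroup.centralizer ({x} : Set G)))
    (hn : (S₀.subgroupOf (Subgroup.centralizer ({x} : Set G))).Normal) (S : Sylow 2 G)
    (hS : (S : Subgroup G) ≤ Subgroup.centralizer ({x} : Set G)) : (S : Subgroup G) = S₀ := by
  have : Fact (Nat.Prime 2) := ⟨Nat.prime_two⟩
  have h1 : (S : Subgroup G) ≤ S₀ := by
    intro s hs
    obtain ⟨k, hk⟩ := S.2 ⟨s, hs⟩
    apply two_elt_mem x S₀ hodd hn s (hS hs) k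
    have h2 := congrArg Subtype.val hk
    simpa using h2
  have hp : IsPGroup 2 S₀ := IsPGroup.of_card (n := 2) (by rw [hK.card_four]; norm_num)
  obtain ⟨Q, hQ⟩ := hp.exists_le_sylow
  have h2 : Nat.card Q = Nat.card S := by
    rw [Sylow.card_eq_multiplicity, Sylow.card_eq_multiplicity]
  have h3 : Nat.card S₀ ≤ Nat.card (S : Subgroup G) := by
    have := Subgroup.card_le_of_le hQ
    rw [h2] at this
    exact this
  exact Subgroup.eq_of_le_of_card_ge h1 h3

theorem centralizer_eq (x : G) (hx : orderOf x = 2) (S₀ : Subgroup G)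
    (hle : S₀ ≤ Subgroup.centralizer ({x} : Set G)) (hK : IsKleinFour ↥S₀)
    (hodd : ¬ 2 ∣ S₀.relIndex (Subgroup.centralizer ({x} : Set G)))
    (hn : (S₀.subgroupOf (Subgroup.centralizer ({x} : Set G))).Normal) :
    Subgroup.centralizer ({x} : Set G) = Subgroup.centralizer (S₀ : Set G) := by
  have hxC : x ∈ Subgroup.centralizer ({x} : Set G) :=
    Subgroup.mem_centralizer_singleton_iff.mpr rfl
  have hx2 : x * x = 1 := by
    rw [← pow_two, ← hx]; exact pow_orderOf_eq_one x
  have hx1 : x ≠ 1 := by
    intro h; rw [h, orderOf_one] at hx; omega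
  have hxS : x ∈ S₀ :=
    two_elt_mem x S₀ hodd hn x hxC 1 (by rw [pow_one, pow_two]; exact hx2)
  have hcomm : ∀ a ∈ S₀, ∀ b ∈ S₀, a * b = b * a := by
    intro a ha b hb
    have := mul_comm_of_exponent_two hK.exponent_two (⟨a, ha⟩ : S₀) ⟨b, hb⟩
    exact congrArg Subtype.val this
  apply le_antisymm
  · intro g hg
    rw [Subgroup.mem_centralizer_iff]
    intro s hs
    by_contra hne
    have hgx : g * x = x * g := Subgroup.mem_centralizer_singleton_iff.mp hg
    have hs'mem : g * s * g⁻¹ ∈ S₀ := by
      have := hn.conj_mem ⟨s, hle hs⟩ (Subgroup.mem_subgroupOf.mpr hs) ⟨g, hg⟩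
      exact Subgroup.mem_subgroupOf.mp this
    have h1 : g * s * g⁻¹ ≠ s := by
      intro h
      apply hne
      calc s * g = (g * s * g⁻¹) * g := by rw [h]
        _ = g * s := by group
    have hs1 : s ≠ 1 := by
      rintro rfl
      exact hne (by rw [one_mul, mul_one])
    have hsx : s ≠ x := by
      rintro rfl
      exact hne hgx.symm
    have h2 : g * s * g⁻¹ ≠ 1 := by
      intro h
      apply hs1
      have : s = g⁻¹ * (g * s * g⁻¹) * g := by group
      rw [this, h]; group
    have h3 : g * s * g⁻¹ ≠ x := by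
      intro h
      apply hsx
      have : s = g⁻¹ * (g * s * g⁻¹) * g := by group
      rw [this, h]
      calc g⁻¹ * x * g = g⁻¹ * (x * g) := by group
        _ = g⁻¹ * (g * x) := by rw [hgx]
        _ = x := by group
    have h4 : (⟨g * s * g⁻¹, hs'mem⟩ : S₀) = ⟨s, hs⟩ * ⟨x, hxS⟩ := by
      apply IsKleinFour.eq_mul_of_ne_all
      · intro h; exact hs1 (congrArg Subtype.val h)
      · intro h; exact hx1 (congrArg Subtype.val h)
      · intro h; exact hsx (congrArg Subtype.val h)
      · intro h; exact h2 (congrArg Subtype.val h)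
      · intro h; exact h1 (congrArg Subtype.val h)
      · intro h; exact h3 (congrArg Subtype.val h)
    have h5 : g * s * g⁻¹ = s * x := congrArg Subtype.val h4
    have h6 : g * s = s * x * g := by
      calc g * s = (g * s * g⁻¹) * g := by group
        _ = s * x * g := by rw [h5]
    have hsxc : s * x = x * s := hcomm s hs x hxS
    have hc2s : Commute (g ^ 2) s := by
      show g ^ 2 * s = s * g ^ 2
      calc g ^ 2 * s = g * (g * s) := by rw [pow_two, mul_assoc]
        _ = g * (s * x * g) := by rw [h6]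
        _ = (g * s) * (x * g) := by group
        _ = (s * x * g) * (x * g) := by rw [h6]
        _ = s * x * (g * x) * g := by group
        _ = s * x * (x * g) * g := by rw [hgx]
        _ = s * (x * x) * (g * g) := by group
        _ = s * g ^ 2 := by rw [hx2, mul_one, pow_two]
    have hc2x : Commute (g ^ 2) x := (show Commute g x from hgx).pow_left 2
    obtain ⟨e, j, hj, hej⟩ := Nat.exists_eq_two_pow_mul_odd (orderOf_pos g).ne'
    obtain ⟨i, hi⟩ := hj
    have hu2 : (g ^ j) ^ (2 ^ e) = 1 := by
      rw [← pow_mul, mul_comm, ← hej]; exact pow_orderOf_eq_one g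
    have huC : g ^ j ∈ Subgroup.centralizer ({x} : Set G) := Subgroup.pow_mem _ hg j
    have huS : g ^ j ∈ S₀ := two_elt_mem x S₀ hodd hn _ huC e hu2
    have hus : g ^ j * s = s * g ^ j := hcomm _ huS s hs
    have hgi : Commute ((g ^ 2) ^ i) (s * x) := (hc2s.pow_left i).mul_right (hc2x.pow_left i)
    have hu : g ^ j = (g ^ 2) ^ i * g := by rw [hi, pow_succ, pow_mul]
    have h7 : g ^ j * s = s * x * g ^ j := by
      rw [hu]
      calc (g ^ 2) ^ i * g * s = (g ^ 2) ^ i * (g * s) := by group
        _ = (g ^ 2) ^ i * (s * x * g) := by rw [h6]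
        _ = ((g ^ 2) ^ i * (s * x)) * g := by group
        _ = ((s * x) * (g ^ 2) ^ i) * g := by rw [hgi.eq]
        _ = s * x * ((g ^ 2) ^ i * g) := by group
    rw [hus] at h7
    have h8 : s * g ^ j = s * (x * g ^ j) := by rw [h7]; group
    have h9 := mul_left_cancel h8
    have h10 : x = 1 := by
      have : 1 * g ^ j = x * g ^ j := by rw [one_mul]; exact h9
      exact (mul_right_cancel this).symm
    exact hx1 h10
  · intro g hg
    rw [Subgroup.mem_centralizer_singleton_iff]
    exact (Subgroup.mem_centralizer_iff.mp hg x hxS).symm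

end main

end Cfsg.Agent.Lib.Helper19.KleinA5
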