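import Mathlib
import Cfsg.Agent.Lib.Helper24.TwoInvol2

set_option autoImplicit false

namespace Cfsg.Agent.Lib.Helper19.ThreeInv

open Cfsg.Agent.Lib.Helper24

variable {G : Type*} [Group G]

/-- the involutions commuting with `x` -/
def invs (x : G) : Set G := {u | orderOf u = 2 ∧ u * x = x * u}

theorem mem_invs {x u : G} : u ∈ invs x ↔ orderOf u = 2 ∧ u * x = x * u := Iff.rfl

theorem sq_of_order {u : G} (hu : orderOf u = 2) : u * u = 1 := by
  rw [← pow_two, ← hu]; exact pow_orderOf_eq_one u

theorem inv_of_order {u : G} (hu : orderOf u = 2) : u⁻¹ = u :=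
  inv_eq_of_mul_eq_one_left (sq_of_order hu)

theorem ne_one_of_order {u : G} (hu : orderOf u = 2) : u ≠ 1 := by
  intro h; rw [h, orderOf_one] at hu; omega

theorem order_conj {u : G} (hu : orderOf u = 2) (g : G) : orderOf (g * u * g⁻¹) = 2 := by
  rw [← hu]
  exact (SemiconjBy.orderOf_eq g (show SemiconjBy g u (g * u * g⁻¹) by
    unfold SemiconjBy; group)).symm

/-- the product of two distinct commuting involutions is an involution -/
theorem order_mul {u v : G} (hu : orderOf u = 2) (hv : orderOf v = 2) (hc : u * v = v * u)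
    (hne : u ≠ v) : orderOf (u * v) = 2 := by
  apply orderOf_eq_prime
  · rw [pow_two]
    calc u * v * (u * v) = u * (v * u) * v := by group
      _ = u * (u * v) * v := by rw [hc]
      _ = (u * u) * (v * v) := by group
      _ = 1 := by rw [sq_of_order hu, sq_of_order hv, one_mul]
  · intro h
    apply hne
    have : u = v⁻¹ := eq_inv_of_mul_eq_one_left h
    rw [this, inv_of_order hv]

/-- if there are at most three involutions commuting with `x` then they are `x`, `a`, `x * a` -/
theorem invs_eq [Finite G] {x a : G} (hx : orderOf x = 2) (hI : (invs x).ncard ≤ 3)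
    (ha : a ∈ invs x) (hax : a ≠ x) : invs x = {x, a, x * a} := by
  have hxa : x * a = a * x := ha.2.symm
  have hb : x * a ∈ invs x := by
    refine ⟨order_mul hx ha.1 hxa hax.symm, ?_⟩
    calc x * a * x = x * (a * x) := by group
      _ = x * (x * a) := by rw [hxa]
  have hbx : x * a ≠ x := by
    intro h
    exact ne_one_of_order ha.1 (by simpa using h)
  have hba : x * a ≠ a := by
    intro h
    exact ne_one_of_order hx (by simpa using h)
  have hsub : ({x, a, x * a} : Set G) ⊆ invs x := by
    intro u hu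
    rcases hu with rfl | rfl | rfl
    · exact ⟨hx, rfl⟩
    · exact ha
    · exact hb
  have hcard : ({x, a, x * a} : Set G).ncard = 3 := by
    rw [Set.ncard_insert_of_notMem, Set.ncard_pair hba.symm]
    simp only [Set.mem_insert_iff, Set.mem_singleton_iff, not_or]
    exact ⟨hax.symm, hbx.symm⟩
  exact (Set.eq_of_subset_of_ncard_le hsub (by rw [hcard]; exact hI) (Set.toFinite _)).symm


/-- the core argument: if `x` is not `2`-central then some involution commutes with all its
conjugates -/
theorem core [Finite G] {x t : G} (hx : orderOf x = 2) (hI : (invs x).ncard ≤ 3)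
    (T K : Subgroup G) (hTx : ∀ y ∈ T, y * x = x * y) (hxT : x ∈ T)
    (htK : ∀ k ∈ K, k ∈ T ∨ t⁻¹ * k ∈ T)
    (hn1 : ∀ y ∈ T, t * y * t⁻¹ ∈ T) (hn2 : ∀ y ∈ T, t⁻¹ * y * t ∈ T) (htt : t * t ∈ T)
    (hK : ∀ g : G, ¬ ∀ k ∈ K, k * (g * x * g⁻¹) = (g * x * g⁻¹) * k) :
    ∃ b : G, b ≠ 1 ∧ ∀ g : G, (g * b * g⁻¹) * b = b * (g * b * g⁻¹) := by
  -- `t` does not centralise `x`
  have htx : t * x ≠ x * t := by
    intro h
    apply hK 1
    intro k hk
    simp only [one_mul, inv_one, mul_one]
    rcases htK k hk with h1 | h1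
    · exact hTx k h1
    · have h2 := hTx _ h1
      calc k * x = t * (t⁻¹ * k * x) := by group
        _ = t * (x * (t⁻¹ * k)) := by rw [h2]
        _ = (t * x) * (t⁻¹ * k) := by group
        _ = (x * t) * (t⁻¹ * k) := by rw [h]
        _ = x * k := by group
  set a := t * x * t⁻¹ with hadef
  have haT : a ∈ T := hn1 x hxT
  have hax : a * x = x * a := hTx a haT
  have ha2 : orderOf a = 2 := order_conj hx t
  have hane : a ≠ x := by
    intro h
    apply htx
    calc t * x = (t * x * t⁻¹) * t := by group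
      _ = x * t := by rw [← hadef, h]
  have haI : a ∈ invs x := ⟨ha2, hax⟩
  have hIeq := invs_eq hx hI haI hane
  set b := x * a with hbdef
  have hbI : b ∈ invs x := by rw [hIeq]; simp
  have hb2 : orderOf b = 2 := hbI.1
  have hbx : b * x = x * b := hbI.2
  have hbne : b ≠ x := by
    intro h
    exact ne_one_of_order ha2 (by rw [hbdef] at h; simpa using h)
  -- the action of `t`
  have hta : t * a * t⁻¹ = x := by
    have h1 := hTx _ htt
    calc t * a * t⁻¹ = (t * t) * x * (t * t)⁻¹ := by rw [hadef]; group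
      _ = x * (t * t) * (t * t)⁻¹ := by rw [h1]
      _ = x := by group
  have htb : t * b * t⁻¹ = b := by
    calc t * b * t⁻¹ = (t * x * t⁻¹) * (t * a * t⁻¹) := by rw [hbdef]; group
      _ = a * x := by rw [hta]
      _ = b := by rw [hax]
  have hta' : t⁻¹ * a * t = x := by rw [hadef]; group
  -- involutions commuting with `a`
  have P1 : ∀ u : G, orderOf u = 2 → u * x = x * u → u = x ∨ u = a ∨ u = b := by
    intro u hu hux
    have : u ∈ invs x := ⟨hu, hux⟩
    rw [hIeq] at this
    simpa using this
  have P2 : ∀ u : G, orderOf u = 2 → u * a = a * u → u = x ∨ u = a ∨ u = b := by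
    intro u hu hua
    have h1 : orderOf (t⁻¹ * u * t) = 2 := by
      have := order_conj hu t⁻¹
      rwa [inv_inv] at this
    have h2 : (t⁻¹ * u * t) * x = x * (t⁻¹ * u * t) := by
      calc (t⁻¹ * u * t) * x = t⁻¹ * (u * a) * t := by rw [hadef]; group
        _ = t⁻¹ * (a * u) * t := by rw [hua]
        _ = x * (t⁻¹ * u * t) := by rw [hadef]; group
    have hu' : u = t * (t⁻¹ * u * t) * t⁻¹ := by group
    rcases P1 _ h1 h2 with h | h | h
    · right; left; rw [hu', h]
    · left; rw [hu', h, hta]
    · right; right; rw [hu', h, htb]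
  -- `x` and `b` are not conjugate
  have P3 : ∀ g : G, g * x * g⁻¹ ≠ b := by
    intro g hg
    apply hK g
    rw [hg]
    have hTa : ∀ y ∈ T, y * a = a * y := by
      intro y hy
      have h1 := hTx _ (hn2 y hy)
      calc y * a = t * ((t⁻¹ * y * t) * x) * t⁻¹ := by rw [hadef]; group
        _ = t * (x * (t⁻¹ * y * t)) * t⁻¹ := by rw [h1]
        _ = a * y := by rw [hadef]; group
    have hTb : ∀ y ∈ T, y * b = b * y := by
      intro y hy
      calc y * b = (y * x) * a := by rw [hbdef]; group
        _ = (x * y) * a := by rw [hTx y hy]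
        _ = x * (y * a) := by group
        _ = x * (a * y) := by rw [hTa y hy]
        _ = b * y := by rw [hbdef]; group
    have htb' : t * b = b * t := by
      calc t * b = (t * b * t⁻¹) * t := by group
        _ = b * t := by rw [htb]
    intro k hk
    rcases htK k hk with h1 | h1
    · exact hTb k h1
    · have h2 := hTb _ h1
      calc k * b = t * (t⁻¹ * k * b) := by group
        _ = t * (b * (t⁻¹ * k)) := by rw [h2]
        _ = (t * b) * (t⁻¹ * k) := by group
        _ = (b * t) * (t⁻¹ * k) := by rw [htb']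
        _ = b * k := by group
  have P3a : ∀ g : G, g * b * g⁻¹ ≠ x := by
    intro g hg
    apply P3 g⁻¹
    rw [← hg]; group
  have P3b : ∀ g : G, g * b * g⁻¹ ≠ a := by
    intro g hg
    apply P3a (t⁻¹ * g)
    calc t⁻¹ * g * b * (t⁻¹ * g)⁻¹ = t⁻¹ * (g * b * g⁻¹) * t := by group
      _ = x := by rw [hg, hta']
  refine ⟨b, ne_one_of_order hb2, ?_⟩
  intro g
  set b' := g * b * g⁻¹ with hb'def
  have hb'2 : orderOf b' = 2 := order_conj hb2 g
  by_cases hcomm : b' * x = x * b'
  · rcases P1 b' hb'2 hcomm with h | h | h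
    · exact absurd h (P3a g)
    · exact absurd h (P3b g)
    · rw [h]
  · have hfin : orderOf (x * b') ≠ 0 := (orderOf_pos _).ne'
    rcases Nat.even_or_odd (orderOf (x * b')) with heven | hodd
    · obtain ⟨hw2, hwx, hwb⟩ := ti_even_central hx hb'2 heven hfin
      set w := (x * b') ^ (orderOf (x * b') / 2) with hwdef
      rcases P1 w hw2 hwx.eq with h | h | h
      · exfalso
        apply hcomm
        rw [h] at hwb
        exact hwb.eq.symm
      · exfalso
        rw [h] at hwb
        rcases P2 b' hb'2 hwb.eq.symm with h' | h' | h'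
        · exact P3a g h'
        · exact P3b g h'
        · apply hcomm
          rw [h']; exact hbx
      · rw [h] at hwb
        exact hwb.eq.symm
    · exfalso
      obtain ⟨d, _, hd⟩ := ti_odd_conj hx hb'2 hodd
      apply P3 (g⁻¹ * d)
      calc g⁻¹ * d * x * (g⁻¹ * d)⁻¹ = g⁻¹ * (d * x * d⁻¹) * g := by group
        _ = b := by rw [hd, hb'def]; group


/-- in a simple group, a non-identity element commuting with all its conjugates forces the
group to be commutative -/
theorem comm_of_conj_comm [IsSimpleGroup G] {b : G} (hb : b ≠ 1)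
    (h : ∀ g : G, (g * b * g⁻¹) * b = b * (g * b * g⁻¹)) : ∀ u v : G, u * v = v * u := by
  have hN : Subgroup.normalClosure ({b} : Set G) = ⊤ := by
    rcases (Subgroup.normalClosure_normal (s := ({b} : Set G))).eq_bot_or_eq_top with h1 | h1
    · exfalso
      apply hb
      have : b ∈ Subgroup.normalClosure ({b} : Set G) :=
        Subgroup.subset_normalClosure (Set.mem_singleton b)
      rw [h1, Subgroup.mem_bot] at this
      exact this
    · exact h1
  have hle : Subgroup.normalClosure ({b} : Set G) ≤ Subgroup.centralizer ({b} : Set G) := by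
    apply (Subgroup.closure_le _).mpr
    intro y hy
    obtain ⟨c, hc, hcy⟩ := Group.mem_conjugatesOfSet_iff.mp hy
    rw [Set.mem_singleton_iff] at hc
    subst hc
    obtain ⟨g, rfl⟩ := isConj_iff.mp hcy
    rw [SetLike.mem_coe, Subgroup.mem_centralizer_singleton_iff]
    exact h g
  have hbc : b ∈ Subgroup.center G := by
    rw [Subgroup.mem_center_iff]
    intro g
    have : g ∈ Subgroup.centralizer ({b} : Set G) := hle (hN ▸ Subgroup.mem_top g)
    exact Subgroup.mem_centralizer_singleton_iff.mp this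
  have hZ : Subgroup.center G = ⊤ := by
    rcases (inferInstance : (Subgroup.center G).Normal).eq_bot_or_eq_top with h1 | h1
    · exfalso
      rw [h1, Subgroup.mem_bot] at hbc
      exact hb hbc
    · exact h1
  intro u v
  have : u ∈ Subgroup.center G := hZ ▸ Subgroup.mem_top u
  exact (Subgroup.mem_center_iff.mp this v).symm

/-- an involution of a simple group commuting with at most three involutions is `2`-central -/
theorem two_central [Finite G] [IsSimpleGroup G] {x : G} (hx : orderOf x = 2)
    (hI : (invs x).ncard ≤ 3) :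
    ∃ S : Sylow 2 G, (S : Subgroup G) ≤ Subgroup.centralizer ({x} : Set G) ∧ x ∈ S := by
  classical
  have : Fact (Nat.Prime 2) := ⟨Nat.prime_two⟩
  set C := Subgroup.centralizer ({x} : Set G) with hC
  have hxC : x ∈ C := Subgroup.mem_centralizer_singleton_iff.mpr rfl
  have hp : IsPGroup 2 (Subgroup.zpowers (⟨x, hxC⟩ : C)) := by
    apply IsPGroup.of_card (n := 1)
    rw [Nat.card_zpowers, pow_one, ← Subgroup.orderOf_coe]
    exact hx
  obtain ⟨T₀, hT₀⟩ := hp.exists_le_sylow
  set T : Subgroup G := (T₀ : Subgroup C).map C.subtype with hT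
  have hTC : T ≤ C := Subgroup.map_subtype_le _
  have hxT : x ∈ T := ⟨⟨x, hxC⟩, hT₀ (Subgroup.mem_zpowers _), rfl⟩
  set n := (Nat.card C).factorization 2 with hn
  have hT₀card : Nat.card T₀ = 2 ^ n := Sylow.card_eq_multiplicity T₀
  have hTcard : Nat.card T = 2 ^ n := by
    rw [← hT₀card]
    exact Subgroup.card_map_of_injective (Subgroup.subtype_injective C)
  have hTx : ∀ y ∈ T, y * x = x * y := fun y hy =>
    Subgroup.mem_centralizer_singleton_iff.mp (hTC hy)
  have hnC : ¬ 2 ^ (n + 1) ∣ Nat.card C := by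
    rw [Nat.Prime.pow_dvd_iff_le_factorization Nat.prime_two Nat.card_pos.ne']
    omega
  by_cases hdvd : 2 ^ (n + 1) ∣ Nat.card G
  · exfalso
    obtain ⟨K, hKcard, hTK⟩ := Sylow.exists_subgroup_card_pow_succ hdvd hTcard
    have hidx : (T.subgroupOf K).index = 2 := by
      have h1 := Subgroup.card_mul_index (T.subgroupOf K)
      rw [Nat.card_congr (Subgroup.subgroupOfEquivOfLe hTK).toEquiv, hTcard, hKcard, pow_succ] at h1
      exact Nat.eq_of_mul_eq_mul_left (by positivity) h1
    have hnormal : (T.subgroupOf K).Normal := Subgroup.normal_of_index_eq_two hidx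
    have hne : T ≠ K := by
      intro h
      rw [h, hKcard] at hTcard
      have : n + 1 = n := Nat.pow_right_injective (le_refl 2) hTcard
      omega
    obtain ⟨t, htK, htT⟩ := SetLike.exists_of_lt (lt_of_le_of_ne hTK hne)
    have hmem : ∀ (k : G) (hk : k ∈ K), (⟨k, hk⟩ : K) ∈ T.subgroupOf K ↔ k ∈ T := fun k hk =>
      Subgroup.mem_subgroupOf
    have hn1 : ∀ y ∈ T, t * y * t⁻¹ ∈ T := by
      intro y hy
      have := hnormal.conj_mem ⟨y, hTK hy⟩ ((hmem y (hTK hy)).mpr hy) ⟨t, htK⟩
      exact Subgroup.mem_subgroupOf.mp this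
    have hn2 : ∀ y ∈ T, t⁻¹ * y * t ∈ T := by
      intro y hy
      have := hnormal.conj_mem ⟨y, hTK hy⟩ ((hmem y (hTK hy)).mpr hy) ⟨t, htK⟩⁻¹
      have h2 := Subgroup.mem_subgroupOf.mp this
      simpa using h2
    have htt : t * t ∈ T := by
      have := Subgroup.sq_mem_of_index_two hidx (⟨t, htK⟩ : K)
      have h2 := Subgroup.mem_subgroupOf.mp this
      simpa [pow_two] using h2
    have htK' : ∀ k ∈ K, k ∈ T ∨ t⁻¹ * k ∈ T := by
      intro k hk
      by_cases hkT : k ∈ T
      · exact Or.inl hkT
      · right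
        have h1 := Subgroup.mul_mem_iff_of_index_two hidx (a := (⟨t, htK⟩ : K)⁻¹) (b := ⟨k, hk⟩)
        have h2 : ((⟨t, htK⟩ : K)⁻¹ ∈ T.subgroupOf K ↔ (⟨k, hk⟩ : K) ∈ T.subgroupOf K) := by
          rw [inv_mem_iff, hmem, hmem]
          exact ⟨fun h => absurd h htT, fun h => absurd h hkT⟩
        have h3 := Subgroup.mem_subgroupOf.mp (h1.mpr h2)
        simpa using h3
    have hK : ∀ g : G, ¬ ∀ k ∈ K, k * (g * x * g⁻¹) = (g * x * g⁻¹) * k := by
      intro g hg
      apply hnC
      have hle : K.map (MulAut.conj g⁻¹).toMonoidHom ≤ C := by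
        rintro y ⟨k, hk, rfl⟩
        rw [hC, Subgroup.mem_centralizer_singleton_iff]
        have h1 := hg k hk
        simp only [MulEquiv.coe_toMonoidHom, MulAut.conj_apply, inv_inv]
        calc g⁻¹ * k * g * x = g⁻¹ * (k * (g * x * g⁻¹)) * g := by group
          _ = g⁻¹ * ((g * x * g⁻¹) * k) * g := by rw [h1]
          _ = x * (g⁻¹ * k * g) := by group
      have h2 := Subgroup.card_dvd_of_le hle
      rwa [Subgroup.card_map_of_injective (MulAut.conj g⁻¹).injective, hKcard] at h2
    obtain ⟨b, hb1, hb⟩ := core hx hI T K hTx hxT htK' hn1 hn2 htt hK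
    have hcomm := comm_of_conj_comm hb1 hb
    apply hK 1
    intro k _
    exact hcomm _ _
  · have hfac : (Nat.card G).factorization 2 = n := by
      have h1 : 2 ^ n ∣ Nat.card G := by
        rw [← hTcard]; exact Subgroup.card_subgroup_dvd_card T
      rw [Nat.Prime.pow_dvd_iff_le_factorization Nat.prime_two Nat.card_pos.ne'] at h1 hdvd
      omega
    refine ⟨Sylow.ofCard T (by rw [hTcard, hfac]), ?_, ?_⟩
    · exact hTC
    · exact hxT


/-- the powers of an involution -/
theorem mem_zpowers_order2 {u v : G} (hu : orderOf u = 2) (hv : v ∈ Subgroup.zpowers u) :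
    v = 1 ∨ v = u := by
  obtain ⟨k, rfl⟩ := Subgroup.mem_zpowers_iff.mp hv
  have h2 : (u ^ (2 : ℤ)) = 1 := by
    have := sq_of_order hu
    rw [← pow_two] at this
    exact_mod_cast this
  have hk : u ^ k = u ^ (k % 2) := by
    conv_lhs => rw [← Int.mul_ediv_add_emod k 2]
    rw [zpow_add, zpow_mul, h2, one_zpow, one_mul]
  rw [hk]
  rcases Int.emod_two_eq_zero_or_one k with h | h
  · left; rw [h, zpow_zero]
  · right; rw [h, zpow_one]

/-- every involution is conjugate into a given Sylow `2`-subgroup -/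
theorem exists_conj_mem_sylow [Finite G] (S : Sylow 2 G) {u : G} (hu : orderOf u = 2) :
    ∃ g : G, g * u * g⁻¹ ∈ S := by
  have : Fact (Nat.Prime 2) := ⟨Nat.prime_two⟩
  have hp : IsPGroup 2 (Subgroup.zpowers u) := by
    apply IsPGroup.of_card (n := 1)
    rw [Nat.card_zpowers, pow_one, hu]
  obtain ⟨Q, hQ⟩ := hp.exists_le_sylow
  obtain ⟨g, hg⟩ := MulAction.exists_smul_eq G Q S
  refine ⟨g, ?_⟩
  have h1 : g * u * g⁻¹ ∈ ((g • Q : Sylow 2 G) : Subgroup G) := by
    rw [Sylow.coe_subgroup_smul]
    have := Subgroup.smul_mem_pointwise_smul u (MulAut.conj g) (Q : Subgroup G)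
      (hQ (Subgroup.mem_zpowers u))
    rwa [MulAut.smul_def, MulAut.conj_apply] at this
  rw [hg] at h1
  exact h1

/-- given the `Z*`-theorem for the Sylow `2`-subgroup `S`, all involutions are conjugate -/
theorem one_class [Finite G] [IsSimpleGroup G] {x : G} (hx : orderOf x = 2)
    (hI : (invs x).ncard ≤ 3) (S : Sylow 2 G)
    (hS : (S : Subgroup G) ≤ Subgroup.centralizer ({x} : Set G)) (hxS : x ∈ S)
    (zstar : ∀ u : G, orderOf u = 2 → u ∈ S → (∀ g : G, g * u * g⁻¹ ∈ S → g * u * g⁻¹ = u) →
      ∃ N : Subgroup G, N.Normal ∧ Odd (Nat.card N) ∧ ∀ g : G, u * g * u⁻¹ * g⁻¹ ∈ N) :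
    ∀ u v : G, orderOf u = 2 → orderOf v = 2 → IsConj u v := by
  by_cases hab : ∀ u v : G, u * v = v * u
  · -- the commutative case
    intro u v hu hv
    have hnorm : (Subgroup.zpowers u).Normal := by
      constructor
      intro n hn g
      have : g * n * g⁻¹ = n := by rw [hab g n]; group
      rw [this]; exact hn
    rcases hnorm.eq_bot_or_eq_top with h1 | h1
    · exfalso
      have : u ∈ Subgroup.zpowers u := Subgroup.mem_zpowers u
      rw [h1, Subgroup.mem_bot] at this
      exact ne_one_of_order hu this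
    · have : v ∈ Subgroup.zpowers u := h1 ▸ Subgroup.mem_top v
      rcases mem_zpowers_order2 hu this with h2 | h2
      · exact absurd h2 (ne_one_of_order hv)
      · rw [h2]
  · -- no involution of `S` is isolated
    have step1 : ∀ u : G, orderOf u = 2 → u ∈ S → ∃ g : G, g * u * g⁻¹ ∈ S ∧ g * u * g⁻¹ ≠ u := by
      intro u hu huS
      by_contra hcon
      push Not at hcon
      obtain ⟨N, hN, hodd, hcommN⟩ := zstar u hu huS hcon
      rcases hN.eq_bot_or_eq_top with h1 | h1
      · apply hab
        apply comm_of_conj_comm (ne_one_of_order hu)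
        intro g
        have h2 : u * g⁻¹ * u⁻¹ * g⁻¹⁻¹ = 1 := by
          have := hcommN g⁻¹
          rwa [h1, Subgroup.mem_bot] at this
        have h3 : g * u * g⁻¹ = u := by
          have h4 : u * g⁻¹ = g⁻¹ * u := by
            have : u * g⁻¹ * u⁻¹ * g⁻¹⁻¹ * (g⁻¹ * u) = g⁻¹ * u := by rw [h2, one_mul]
            rw [← this]; group
          calc g * u * g⁻¹ = g * (u * g⁻¹) := by group
            _ = g * (g⁻¹ * u) := by rw [h4]
            _ = u := by group
        rw [h3]
      · rw [h1, Subgroup.card_top] at hodd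
        have h2 : 2 ∣ Nat.card G := hu ▸ orderOf_dvd_natCard u
        rcases hodd with ⟨k, hk⟩
        omega
    have step3 : ∀ u : G, orderOf u = 2 → u ∈ S → u ∈ invs x := fun u hu huS =>
      ⟨hu, Subgroup.mem_centralizer_singleton_iff.mp (hS huS)⟩
    -- all involutions of `S` are conjugate to `x`
    have step4 : ∀ u : G, orderOf u = 2 → u ∈ S → IsConj x u := by
      intro u hu huS
      obtain ⟨g, hgS, hgne⟩ := step1 x hx hxS
      set a := g * x * g⁻¹ with hadef
      have ha2 : orderOf a = 2 := order_conj hx g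
      have haI : a ∈ invs x := step3 a ha2 hgS
      have hIeq := invs_eq hx hI haI hgne
      have hxa : IsConj x a := isConj_iff.mpr ⟨g, rfl⟩
      have hbI : x * a ∈ invs x := by rw [hIeq]; simp
      have hbS : x * a ∈ S := mul_mem hxS hgS
      obtain ⟨k, hkS, hkne⟩ := step1 (x * a) hbI.1 hbS
      have hkI := step3 _ (order_conj hbI.1 k) hkS
      rw [hIeq] at hkI
      have hxb : IsConj x (x * a) := by
        have hc : IsConj (x * a) (k * (x * a) * k⁻¹) := isConj_iff.mpr ⟨k, rfl⟩
        rcases hkI with h | h | h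
        · rw [h] at hc; exact hc.symm
        · rw [h] at hc; exact hxa.trans hc.symm
        · exact absurd h hkne
      have huI := step3 u hu huS
      rw [hIeq] at huI
      rcases huI with h | h | h
      · rw [h]
      · rw [h]; exact hxa
      · rw [h]; exact hxb
    intro u v hu hv
    obtain ⟨g₁, hg₁⟩ := exists_conj_mem_sylow S hu
    obtain ⟨g₂, hg₂⟩ := exists_conj_mem_sylow S hv
    have h1 := step4 _ (order_conj hu g₁) hg₁
    have h2 := step4 _ (order_conj hv g₂) hg₂
    have h3 : IsConj u (g₁ * u * g₁⁻¹) := isConj_iff.mpr ⟨g₁, rfl⟩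
    have h4 : IsConj v (g₂ * v * g₂⁻¹) := isConj_iff.mpr ⟨g₂, rfl⟩
    exact (h3.trans h1.symm).trans (h2.trans h4.symm)

end Cfsg.Agent.Lib.Helper19.ThreeInv
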