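import Mathlib
import Cfsg.Agent.Lib.Helper19.KleinA5
import Cfsg.Agent.Lib.Helper19.Ord360A
import Cfsg.Agent.Lib.helper2.PModular2
import Cfsg.Agent.S3279
import Cfsg.Agent.S0948
import Cfsg.Agent.S4479
import Cfsg.Agent.S4480

set_option autoImplicit false

namespace Cfsg.Agent.Lib.Helper19.KleinA5Main

open Cfsg.Agent.Lib.Helper19.KleinA5

variable {G : Type*} [Group G] [Finite G]

/-- a simple group containing a Klein four-group does not have order `4` -/
theorem not_card_four [IsSimpleGroup G] (S₀ : Subgroup G) (hK : IsKleinFour ↥S₀) :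
    Nat.card G ≠ 4 := by
  intro h4
  have htop : S₀ = ⊤ := by
    apply Subgroup.eq_top_of_card_eq
    rw [hK.card_four, h4]
  have hcomm : ∀ a b : G, a * b = b * a := by
    intro a b
    have ha : a ∈ S₀ := htop ▸ Subgroup.mem_top a
    have hb : b ∈ S₀ := htop ▸ Subgroup.mem_top b
    have := mul_comm_of_exponent_two hK.exponent_two (⟨a, ha⟩ : S₀) ⟨b, hb⟩
    exact congrArg Subtype.val this
  have hsq : ∀ a : G, a * a = 1 := by
    intro a
    have ha : a ∈ S₀ := htop ▸ Subgroup.mem_top a
    have := IsKleinFour.mul_self (⟨a, ha⟩ : S₀)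
    exact congrArg Subtype.val this
  have hnt : Nontrivial G := by
    rw [← Finite.one_lt_card_iff_nontrivial, h4]; norm_num
  obtain ⟨a, ha⟩ := exists_ne (1 : G)
  have hZn : (Subgroup.zpowers a).Normal := by
    constructor
    intro b hb g
    rw [hcomm g b, mul_inv_cancel_right]
    exact hb
  have hord : orderOf a = 2 := by
    apply orderOf_eq_prime
    · rw [pow_two]; exact hsq a
    · exact ha
  rcases hZn.eq_bot_or_eq_top with h | h
  · rw [Subgroup.zpowers_eq_bot] at h
    exact ha h
  · have h1 : Nat.card (Subgroup.zpowers a) = 4 := by rw [h, Subgroup.card_top, h4]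
    rw [Nat.card_zpowers, hord] at h1
    omega

theorem mq_cases (m q : ℕ) (h : m * (q + 1) = 4) :
    (m = 1 ∧ q = 3) ∨ (m = 2 ∧ q = 1) ∨ (m = 4 ∧ q = 0) := by
  have hm4 : m ∣ 4 := Dvd.intro _ h
  have hmle : m ≤ 4 := Nat.le_of_dvd (by norm_num) hm4
  interval_cases m <;> omega

theorem card_eq_sixty [IsSimpleGroup G] (x : G) (hx : orderOf x = 2)
    (S₀ : Subgroup G) (hle : S₀ ≤ Subgroup.centralizer ({x} : Set G)) (hK : IsKleinFour ↥S₀)
    (hodd : ¬ 2 ∣ S₀.relIndex (Subgroup.centralizer ({x} : Set G)))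
    (hn : (S₀.subgroupOf (Subgroup.centralizer ({x} : Set G))).Normal) : Nat.card G = 60 := by
  have : Fact (Nat.Prime 2) := ⟨Nat.prime_two⟩
  obtain ⟨⟨P, hPC⟩, hone⟩ := Cfsg.Agent.S3279.result x hx (card_inv_le x S₀ hK hodd hn)
  have hPeq : (P : Subgroup G) = S₀ := sylow_eq x S₀ hK hodd hn P hPC
  have hPK : IsKleinFour (P : Subgroup G) := by rw [hPeq]; exact hK
  have hxC : x ∈ Subgroup.centralizer ({x} : Set G) :=
    Subgroup.mem_centralizer_singleton_iff.mpr rfl
  have hx2 : x * x = 1 := by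
    rw [← pow_two, ← hx]; exact pow_orderOf_eq_one x
  have hx1 : x ≠ 1 := by
    intro h; rw [h, orderOf_one] at hx; omega
  have hxP : x ∈ (P : Subgroup G) := by
    rw [hPeq]
    exact two_elt_mem x S₀ hodd hn x hxC 1 (by rw [pow_one, pow_two]; exact hx2)
  have hCeq : Subgroup.centralizer ({x} : Set G) =
      Subgroup.centralizer ((P : Subgroup G) : Set G) := by
    rw [hPeq]; exact centralizer_eq x hx S₀ hle hK hodd hn
  obtain ⟨M, hM⟩ := Cfsg.Agent.Lib.helper2.exists_isPModular 2 Nat.prime_two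
  have hG : Nat.card G = 4 * (P : Subgroup G).index := by
    rw [← Subgroup.card_mul_index (P : Subgroup G), hPK.card_four]
  have hg₀odd : Odd (P : Subgroup G).index := by
    rw [← Nat.not_even_iff_odd, even_iff_two_dvd]
    exact P.not_dvd_index
  have hG4 : Nat.card G ≠ 4 := not_card_four S₀ hK
  have hnc : ¬ ∃ N : Subgroup G, N.Normal ∧ Nat.card N = (P : Subgroup G).index := by
    rintro ⟨N, hN, hNc⟩
    rcases hN.eq_bot_or_eq_top with h | h
    · rw [h, Subgroup.card_bot] at hNc
      apply hG4; rw [hG, ← hNc]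
    · rw [h, Subgroup.card_top, hG] at hNc
      have : 0 < (P : Subgroup G).index := hg₀odd.pos
      omega
  obtain ⟨ζ₂, ζ₃, ζ₄, ε, hε, hζ₂, hζ₃, h23, h24, h34, hB, hval, hd2, hd3, hd4, -⟩ :=
    Cfsg.Agent.S0948.result M hM P hPK hone
  obtain ⟨hv2, hv3, hv4⟩ := hval x hx
  have hζ₄ : (ζ₄ : G → ℂ) ≠ (fun _ => 1) := by
    intro h
    rw [h] at hv4
    norm_num at hv4
  set c := Nat.card (Subgroup.centralizer ((P : Subgroup G) : Set G)) with hc
  have hcpos : 0 < c := Nat.card_pos
  have hcx : Nat.card (Subgroup.centralizer ({x} : Set G)) = c := by rw [hCeq]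
  -- the centralizer contains `P`
  have hPle : (P : Subgroup G) ≤ Subgroup.centralizer ((P : Subgroup G) : Set G) := by
    intro a ha
    rw [Subgroup.mem_centralizer_iff]
    intro b hb
    have := mul_comm_of_exponent_two hPK.exponent_two (⟨b, hb⟩ : (P : Subgroup G)) ⟨a, ha⟩
    exact congrArg Subtype.val this
  have h4c : 4 ∣ c := by
    have := Subgroup.card_dvd_of_le hPle
    rwa [hPK.card_four] at this
  rcases hε with rfl | rfl
  · -- `ε = 1`
    exfalso
    obtain ⟨m, hm1, hm2⟩ := Cfsg.Agent.S4480.result M hM _ hg₀odd hG hnc P x hxP hx ζ₂ ζ₃ ζ₄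
      1 1 (-1) hB ⟨hζ₂, hζ₃, hζ₄, h23, h24, h34⟩ ⟨Or.inl rfl, Or.inl rfl, Or.inr rfl⟩
      ⟨by rw [hv2]; norm_num, by rw [hv3], by rw [hv4]; norm_num⟩ (by norm_num) rfl
    rw [hcx, ← hc] at hm1
    rw [← hc] at hm2
    set q := Cfsg.charDegree (ζ₄ : G → ℂ) with hq
    have h1 : m * (q + 1) = 4 := by
      have : c * 4 = c * (m * (q + 1)) := by rw [mul_comm c 4, hm1]; ring
      exact (Nat.eq_of_mul_eq_mul_left hcpos this).symm
    have hGpos : 0 < Nat.card G := Nat.card_pos
    have hcase := mq_cases m q h1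
    rcases hcase with ⟨rfl, h3⟩ | ⟨rfl, h3⟩ | ⟨rfl, h3⟩
    · rw [h3] at hm2
      have hG3 : Nat.card G = 3 * c := by
        norm_num at hm2
        omega
      have hidx : (Subgroup.centralizer ((P : Subgroup G) : Set G)).index = 3 := by
        have := Subgroup.card_mul_index (Subgroup.centralizer ((P : Subgroup G) : Set G))
        rw [← hc, hG3, mul_comm] at this
        exact Nat.eq_of_mul_eq_mul_right hcpos this
      have hne : Subgroup.centralizer ((P : Subgroup G) : Set G) ≠ ⊤ := by
        intro h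
        rw [h, Subgroup.index_top] at hidx
        omega
      have hdvd := Cfsg.Agent.Lib.Helper19.Ord360A.card_dvd_factorial _ hne
      rw [hidx, hG] at hdvd
      have : Nat.factorial 3 = 6 := by decide
      rw [this] at hdvd
      have h46 : 4 ∣ 6 := (Dvd.intro _ rfl).trans hdvd
      omega
    · rw [h3] at hm2
      norm_num at hm2
      omega
    · rw [h3] at hm2
      norm_num at hm2
      omega
  · -- `ε = -1`
    have hform := Cfsg.Agent.S4479.result M hM _ hg₀odd hG hnc P x hxP hx ζ₂ ζ₃ ζ₄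
      1 (-1) (-1) hB ⟨hζ₂, hζ₃, hζ₄, h23, h24, h34⟩ ⟨Or.inl rfl, Or.inr rfl, Or.inr rfl⟩
      ⟨by rw [hv2]; norm_num, by rw [hv3], by rw [hv4]; norm_num⟩
    rw [hcx, ← hc] at hform
    set x₁ := Cfsg.charDegree (ζ₂ : G → ℂ) with hx₁
    set x₂ := Cfsg.charDegree (ζ₃ : G → ℂ) with hx₂
    set x₃ := Cfsg.charDegree (ζ₄ : G → ℂ) with hx₃
    obtain ⟨A, hA⟩ : ∃ A : ℕ, x₂ = A + 1 ∧ 2 ≤ A := by
      obtain ⟨k, hk⟩ := hd3
      refine ⟨x₂ - 1, ?_, ?_⟩ <;> omega
    obtain ⟨B, hB'⟩ : ∃ B : ℕ, x₃ = B + 1 ∧ 2 ≤ B := by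
      obtain ⟨k, hk⟩ := hd4
      refine ⟨x₃ - 1, ?_, ?_⟩ <;> omega
    have hcQ : (c : ℚ) ≠ 0 := by exact_mod_cast hcpos.ne'
    have hnat : Nat.card G * ((x₁ + 1) * A * B) = 8 * (x₁ * (A + 1) * (B + 1)) * c := by
      have hAQ : (A : ℚ) ≠ 0 := by
        have : 0 < A := by omega
        exact_mod_cast this.ne'
      have hBQ : (B : ℚ) ≠ 0 := by
        have : 0 < B := by omega
        exact_mod_cast this.ne'
      have hx1Q : ((x₁ : ℚ) + 1) ≠ 0 := by positivity
      have e1 : ((x₁ : ℚ) + ((1 : ℤ) : ℚ)) = x₁ + 1 := by push_cast; ring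
      have e2 : ((x₂ : ℚ) + ((-1 : ℤ) : ℚ)) = A := by rw [hA.1]; push_cast; ring
      have e3 : ((x₃ : ℚ) + ((-1 : ℤ) : ℚ)) = B := by rw [hB'.1]; push_cast; ring
      rw [e1, e2, e3] at hform
      have e4 : (x₂ : ℚ) = A + 1 := by rw [hA.1]; push_cast; ring
      have e5 : (x₃ : ℚ) = B + 1 := by rw [hB'.1]; push_cast; ring
      rw [e4, e5] at hform
      have h1 : (Nat.card G : ℚ) * (((x₁ : ℚ) + 1) * A * B) =
          8 * ((x₁ : ℚ) * (A + 1) * (B + 1)) * c := by
        rw [hform]
        field_simp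
      exact_mod_cast h1
    have hlt : Nat.card G < 18 * c := by
      by_contra hge
      push Not at hge
      have h1 : 18 * c * ((x₁ + 1) * A * B) ≤ 8 * (x₁ * (A + 1) * (B + 1)) * c := by
        rw [← hnat]
        exact Nat.mul_le_mul_right _ hge
      have h2 : 4 * ((A + 1) * (B + 1)) ≤ 9 * (A * B) := by nlinarith [hA.2, hB'.2]
      have h3 : 18 * ((x₁ + 1) * A * B) ≤ 8 * (x₁ * (A + 1) * (B + 1)) := by
        have : c * (18 * ((x₁ + 1) * A * B)) ≤ c * (8 * (x₁ * (A + 1) * (B + 1))) := by
          calc c * (18 * ((x₁ + 1) * A * B)) = 18 * c * ((x₁ + 1) * A * B) := by ring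
            _ ≤ 8 * (x₁ * (A + 1) * (B + 1)) * c := h1
            _ = c * (8 * (x₁ * (A + 1) * (B + 1))) := by ring
        exact Nat.le_of_mul_le_mul_left this hcpos
      have h4 : 0 < (A + 1) * (B + 1) := by positivity
      nlinarith
    -- the normalizer
    set N := Subgroup.normalizer ((P : Subgroup G) : Set G) with hN
    have hCN : Subgroup.centralizer ((P : Subgroup G) : Set G) ≤ N :=
      Subgroup.centralizer_le_normalizer _
    set r := (Subgroup.centralizer ((P : Subgroup G) : Set G)).relIndex N with hr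
    set n := N.index with hnn
    have hGcrn : Nat.card G = c * (r * n) := by
      rw [hr, hnn, Subgroup.relIndex_mul_index hCN, hc, Subgroup.card_mul_index]
    -- an element of the normalizer moving `x`
    have hrne : r ≠ 1 := by
      intro h1
      rw [hr, Subgroup.relIndex_eq_one] at h1
      -- an involution `a ≠ x` of `P`
      have hex : ∃ a ∈ (P : Subgroup G), a ≠ 1 ∧ a ≠ x := by
        by_contra hcon
        push Not at hcon
        have hsub : (P : Subgroup G) ≤ Subgroup.zpowers x := by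
          intro a ha
          by_cases ha1 : a = 1
          · rw [ha1]; exact Subgroup.one_mem _
          · rw [hcon a ha ha1]; exact Subgroup.mem_zpowers x
        have := Subgroup.card_le_of_le hsub
        rw [hPK.card_four, Nat.card_zpowers, hx] at this
        omega
      obtain ⟨a, haP, ha1, hax⟩ := hex
      have ha2 : orderOf a = 2 := by
        apply orderOf_eq_prime
        · have := IsKleinFour.mul_self (⟨a, haP⟩ : (P : Subgroup G))
          rw [pow_two]
          exact congrArg Subtype.val this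
        · exact ha1
      obtain ⟨g, hg⟩ := isConj_iff.mp (hone x a hx ha2)
      have : IsMulCommutative (P : Subgroup G) :=
        ⟨⟨fun u v => mul_comm_of_exponent_two hPK.exponent_two u v⟩⟩
      obtain ⟨k, hkN, hk⟩ := Sylow.conj_eq_normalizer_conj_of_mem P x g⁻¹ hxP
        (by rw [inv_inv, hg]; exact haP)
      rw [inv_inv, hg] at hk
      have hkC := h1 hkN
      have hkx : x * k = k * x := Subgroup.mem_centralizer_iff.mp hkC x hxP
      apply hax
      rw [hk]
      calc k⁻¹ * x * k = k⁻¹ * (x * k) := by group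
        _ = k⁻¹ * (k * x) := by rw [hkx]
        _ = x := by group
    obtain ⟨c', hc'⟩ := h4c
    have hg₀ : (P : Subgroup G).index = c' * (r * n) := by
      have : 4 * (P : Subgroup G).index = 4 * (c' * (r * n)) := by
        rw [← hG, hGcrn, hc']; ring
      omega
    have hrodd : Odd r := by
      apply Odd.of_dvd_nat hg₀odd
      rw [hg₀]
      exact ⟨c' * n, by ring⟩
    have hr3 : 3 ≤ r := by
      obtain ⟨k, hk⟩ := hrodd
      omega
    have hNtop : N ≠ ⊤ := by
      intro h
      have hnorm : (P : Subgroup G).Normal := Subgroup.normalizer_eq_top_iff.mp h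
      rcases hnorm.eq_bot_or_eq_top with h' | h'
      · have := hPK.card_four
        rw [h', Subgroup.card_bot] at this
        omega
      · have := hPK.card_four
        rw [h', Subgroup.card_top] at this
        exact hG4 this
    have hn2 : 2 ≤ n := by
      have h1 : n ≠ 1 := fun h => hNtop (Subgroup.index_eq_one.mp h)
      have h0 : n ≠ 0 := Subgroup.index_ne_zero_of_finite
      omega
    have hrn : r * n < 18 := by
      have : c * (r * n) < c * 18 := by rw [← hGcrn, mul_comm c 18]; exact hlt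
      exact Nat.lt_of_mul_lt_mul_left this
    have hn5 : n ≤ 5 := by
      by_contra h
      push Not at h
      have : 3 * 6 ≤ r * n := Nat.mul_le_mul hr3 h
      omega
    have hdvd := Cfsg.Agent.Lib.Helper19.Ord360A.card_dvd_factorial N hNtop
    have h120 : Nat.card G ∣ 120 := by
      have h5 : Nat.factorial 5 = 120 := by decide
      rw [← h5]
      exact hdvd.trans (Nat.factorial_dvd_factorial hn5)
    rw [hG] at h120 ⊢
    have h30 : (P : Subgroup G).index ∣ 30 := by
      have : 4 * (P : Subgroup G).index ∣ 4 * 30 := h120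
      exact Nat.dvd_of_mul_dvd_mul_left (by norm_num) this
    have h15 : (P : Subgroup G).index ∣ 15 := by
      have hcop : Nat.Coprime (P : Subgroup G).index 2 :=
        Nat.Coprime.symm ((Nat.Prime.coprime_iff_not_dvd Nat.prime_two).mpr P.not_dvd_index)
      have : (P : Subgroup G).index ∣ 2 * 15 := h30
      exact hcop.dvd_of_dvd_mul_left this
    have hc'pos : 0 < c' := by
      rcases Nat.eq_zero_or_pos c' with h | h
      · rw [h, mul_zero] at hc'; omega
      · exact h
    have hge6 : 6 ≤ (P : Subgroup G).index := by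
      rw [hg₀]
      calc 6 = 1 * (3 * 2) := by norm_num
        _ ≤ c' * (r * n) := Nat.mul_le_mul hc'pos (Nat.mul_le_mul hr3 hn2)
    have hle15 : (P : Subgroup G).index ≤ 15 := Nat.le_of_dvd (by norm_num) h15
    have : (P : Subgroup G).index = 15 := by
      generalize (P : Subgroup G).index = t at h15 hge6 hle15
      interval_cases t <;> omega
    rw [this]

end Cfsg.Agent.Lib.Helper19.KleinA5Main
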