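import Mathlib
import Cfsg.Agent.Lib.helper17.CEM.Defs
import Cfsg.Agent.Lib.Helper24.STCI1

/-!
# Project CEM (designer helper17), rows F3 `exists_nm_ne_one`, F4 `field_two`, G1 `ab_perm_ne`, VERBATIM (helper19)
-/

set_option autoImplicit false

namespace Cfsg.Agent.Lib.helper17.CEM

open Cfsg.Agent.Lib.helper15.St2 Cfsg.Agent.Lib.helper7.Ce Cfsg.Agent.Lib.helper3.STC Cfsg.Agent.Lib.Lead.STD
  Cfsg.Agent.Lib.helper7.CEC Cfsg.Agent.Lib.helper7.CED Cfsg.Agent.Lib.helper17.STM

section F

variable {F : Type*} [Field F] [Finite F] {A B : F} [Fact (∀ r : F, r ^ 2 ≠ -B + A * r)]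

omit [Fact (∀ r : F, r ^ 2 ≠ -B + A * r)] in
/-- a finite field with at least three elements has an element different from `0` and `1` -/
theorem cemf3_exists_ne (hq : 3 ≤ Nat.card F) : ∃ s : F, s ≠ 0 ∧ s ≠ 1 := by
  classical
  by_contra hne
  push_neg at hne
  have : Nat.card F ≤ 2 := by
    haveI := Fintype.ofFinite F
    rw [Nat.card_eq_fintype_card]
    calc Fintype.card F = (Finset.univ : Finset F).card := rfl
      _ ≤ ({0, 1} : Finset F).card := Finset.card_le_card (fun t _ => by
          rcases em (t = 0) with h | h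
          · simp [h]
          · simp [hne t h])
      _ ≤ 2 := Finset.card_le_two
  omega

/-- F3 [S-M] -/
theorem exists_nm_ne_one (hq : 3 ≤ Nat.card F) : ∃ v : Kq F A B, v ≠ 0 ∧ nm v ≠ 1 := by
  by_cases h2 : (2 : F) = 0
  · obtain ⟨s, hs0, hs1⟩ := cemf3_exists_ne hq
    refine ⟨algebraMap F (Kq F A B) s, ?_, ?_⟩
    · intro e
      apply hs0
      apply kq_algebraMap_injective (A := A) (B := B)
      rw [e, map_zero]
    · rw [nm_algebraMap]
      intro e
      apply hs1
      have e2 : (s - 1) ^ 2 = 0 := by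
        have : (s - 1) ^ 2 = s ^ 2 - 2 * s + 1 := by ring
        rw [this, e, h2]
        linear_combination h2
      have := pow_eq_zero_iff (n := 2) (by norm_num) |>.1 e2
      exact sub_eq_zero.1 this
  · by_contra hne
    push_neg at hne
    have h1 := hne (⟨0, 1⟩ : Kq F A B) (by
      intro e
      have := congrArg QuadraticAlgebra.im e
      simp at this)
    have h3 := hne (⟨1, 1⟩ : Kq F A B) (by
      intro e
      have := congrArg QuadraticAlgebra.im e
      simp at this)
    have h4 := hne (⟨1, -1⟩ : Kq F A B) (by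
      intro e
      have := congrArg QuadraticAlgebra.re e
      simp at this)
    rw [nm_def] at h1 h3 h4
    simp only at h1 h3 h4
    apply h2
    linear_combination h3 + h4 - 2 * h1

omit [Fact (∀ r : F, r ^ 2 ≠ -B + A * r)] in
/-- F4 [S] -/
theorem field_two (hq : Nat.card F = 2) (t : F) : t = 0 ∨ t = 1 := by
  classical
  by_contra hne
  push_neg at hne
  haveI := Fintype.ofFinite F
  rw [Nat.card_eq_fintype_card] at hq
  have h3 : ({0, 1, t} : Finset F).card = 3 := by
    rw [Finset.card_insert_of_notMem, Finset.card_insert_of_notMem, Finset.card_singleton]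
    · simp [hne.2.symm]
    · simp [hne.1.symm]
  have := Finset.card_le_univ ({0, 1, t} : Finset F)
  omega

end F

section G

variable {ι : Type*}

/-- G1 [S] -/
theorem ab_perm_ne {π : Equiv.Perm (ι ⊕ ι)} (hπ : ∀ k, π (ng k) = ng (π k)) {a b : ι ⊕ ι} (hab : ab a ≠ ab b) : ab (π a) ≠ ab (π b) := by
  intro e
  apply hab
  rcases ab_eq_iff.1 e with e' | e'
  · rw [π.injective e']
  · rw [← hπ] at e'
    rw [π.injective e', ab_ng]

end G

end Cfsg.Agent.Lib.helper17.CEM
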