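import Mathlib
import Cfsg.Agent.Lib.helper7.CEU.Defs
import Cfsg.Agent.Lib.Helper27.STU.Defs3
import Cfsg.Agent.Lib.Helper24.STCI1
import Cfsg.Agent.Lib.helper4.CEUG2
import Cfsg.Prelude.Def_Classical
import Cfsg.Prelude.Def_KGroupFacts

/-!
# Project CEU (designer helper7), rows T1 `t1_milnor`, T2 `t3r_milnor` `t3c_milnor`, T3 `t3r_torus` `t3c_torus`, T5a `t5_milnor`, VERBATIM (helper19)

Ports of the CEC rows `helper14.CECT1`, `Helper9.CECT3`, `Helper9.CECT4`.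
-/

set_option autoImplicit false

namespace Cfsg.Agent.Lib.helper7.CEU

open Cfsg.Agent.Lib.helper15.St2 Cfsg.Agent.Lib.helper7.Ce Cfsg.Agent.Lib.helper3.STC Cfsg.Agent.Lib.Helper27.STU

open Cfsg.Agent.Lib.helper7.CEC (I2 I3 I4 U2 U3)

section T

variable {F : Type*} [Field F] [StarRing F] {od : Prop} {ι : Type*} {Γ G : Type*} [Group Γ] [Group G] {S : SysU F od ι G} {σ : Γ →* G}

/-- `ab a ≠ ab b` unpacked -/
theorem ceut1_ne {a b : ι ⊕ ι} (h : ab a ≠ ab b) : a ≠ b ∧ a ≠ ng b ∧ b ≠ a ∧ b ≠ ng a := by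
  refine ⟨?_, ?_, ?_, ?_⟩
  · rintro rfl; exact h rfl
  · intro e; exact h (ab_eq_iff.mpr (Or.inr e))
  · rintro rfl; exact h rfl
  · intro e
    apply h
    rw [e, ab_ng]

/-- `xs a b t` is a commutator through a third index -/
theorem ceut1_cm {a e b : ι ⊕ ι} (hae : ab a ≠ ab e) (heb : ab e ≠ ab b) (hab : ab a ≠ ab b) (t : F) :
    S.xs a b t = cm (S.xs a e t) (S.xs e b 1) := by
  obtain ⟨h1, h2, -, -⟩ := ceut1_ne hae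
  obtain ⟨h3, h4, -, -⟩ := ceut1_ne heb
  obtain ⟨h5, h6, -, -⟩ := ceut1_ne hab
  have := S.comm3 a e b h1 h2 h3 h4 h5 h6 t 1
  rw [mul_one] at this
  unfold cm
  exact this.symm

/-- T1 [S-M]  `e` from `h3 a b`; `xs a b t = cm (xs a e t) (xs e b 1)`; `xs a e t`, `xs e b 1` commute with `xs a b u` (`S.comm_ss`). -/
theorem t1_milnor (h : IsCE σ) (h3 : I3 ι) :
    ∀ a b : ι ⊕ ι, ab a ≠ ab b → ∀ t u : F, CL σ (S.xs a b t) (S.xs a b u) := by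
  intro a b hab t u
  obtain ⟨e, hea, heb⟩ := h3 a b
  obtain ⟨ab1, ab2, ba1, ba2⟩ := ceut1_ne hab
  obtain ⟨ea1, ea2, ae1, ae2⟩ := ceut1_ne hea
  obtain ⟨eb1, eb2, be1, be2⟩ := ceut1_ne heb
  rw [ceut1_cm (S := S) (Ne.symm hea) heb hab t]
  apply h.milnor
  · exact S.comm_ss a e a b ae1 ae2 ab1 ab2 ea1 ab1 eb2 (ne_ng a) t u
  · exact S.comm_ss e b a b eb1 eb2 ab1 ab2 ba1 eb1 (ne_ng b) ea2 1 u

/-- T2 [S-M]  Milnor with a fourth index `e` (`h4 a b d`): `xs a b t = cm (xs a e t) (xs e b 1)`, both factors commute with `xs a d u`. -/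
theorem t3r_milnor (h : IsCE σ) (h4 : I4 ι) :
    ∀ a b d : ι ⊕ ι, ab a ≠ ab b → ab a ≠ ab d → ab b ≠ ab d → ∀ t u : F, CL σ (S.xs a b t) (S.xs a d u) := by
  intro a b d hab had hbd t u
  obtain ⟨e, hea, heb, hed⟩ := h4 a b d
  obtain ⟨ab1, ab2, ba1, ba2⟩ := ceut1_ne hab
  obtain ⟨ad1, ad2, da1, da2⟩ := ceut1_ne had
  obtain ⟨bd1, bd2, db1, db2⟩ := ceut1_ne hbd
  obtain ⟨ea1, ea2, ae1, ae2⟩ := ceut1_ne hea
  obtain ⟨eb1, eb2, be1, be2⟩ := ceut1_ne heb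
  obtain ⟨ed1, ed2, de1, de2⟩ := ceut1_ne hed
  rw [ceut1_cm (S := S) (Ne.symm hea) heb hab t]
  apply h.milnor
  · exact S.comm_ss a e a d ae1 ae2 ad1 ad2 ea1 ad1 ed2 (ne_ng a) t u
  · exact S.comm_ss e b a d eb1 eb2 ad1 ad2 ba1 ed1 bd2 ea2 1 u

theorem t3c_milnor (h : IsCE σ) (h4 : I4 ι) :
    ∀ a b c : ι ⊕ ι, ab a ≠ ab b → ab c ≠ ab b → ab a ≠ ab c → ∀ t u : F, CL σ (S.xs a b t) (S.xs c b u) := by
  intro a b c hab hcb hac t u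
  obtain ⟨e, hea, heb, hec⟩ := h4 a b c
  obtain ⟨ab1, ab2, ba1, ba2⟩ := ceut1_ne hab
  obtain ⟨cb1, cb2, bc1, bc2⟩ := ceut1_ne hcb
  obtain ⟨ac1, ac2, ca1, ca2⟩ := ceut1_ne hac
  obtain ⟨ea1, ea2, ae1, ae2⟩ := ceut1_ne hea
  obtain ⟨eb1, eb2, be1, be2⟩ := ceut1_ne heb
  obtain ⟨ec1, ec2, ce1, ce2⟩ := ceut1_ne hec
  rw [ceut1_cm (S := S) (Ne.symm hea) heb hab t]
  apply h.milnor
  · exact S.comm_ss a e c b ae1 ae2 cb1 cb2 ec1 ab1 eb2 ac2 t u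
  · exact S.comm_ss e b c b eb1 eb2 cb1 cb2 bc1 eb1 (ne_ng b) ec2 1 u

theorem ceut1_dhl_self [DecidableEq ι] (d : ι ⊕ ι) (v : F) : Cfsg.Agent.Lib.Helper27.STU.dhl d v d = v := by
  unfold Cfsg.Agent.Lib.Helper27.STU.dhl
  rw [if_pos rfl]

theorem ceut1_dhl_of_ne [DecidableEq ι] {d a : ι ⊕ ι} (v : F) (h1 : a ≠ d) (h2 : a ≠ ng d) :
    Cfsg.Agent.Lib.Helper27.STU.dhl d v a = 1 := by
  unfold Cfsg.Agent.Lib.Helper27.STU.dhl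
  rw [if_neg h1, if_neg h2]

/-- T3 [S-M]  torus: `g := S.hl d ξ₁ ξ₂` fixes `xs a b` and scales `xs a d` by `r⁻¹`, `r = ξ₁.c / ξ₂.c ≠ 1` (`CL_tor_s` with `w := xs a b t`, then `CL.symm`); for the column `g := S.hl c ξ₁ ξ₂` scales `xs c b` by `r`. -/
theorem t3r_torus [DecidableEq ι] (h : IsCE σ) (hH : S.HH) {ξ₁ ξ₂ : Lam F od} (h1 : ξ₁.c ≠ 0) (h2 : ξ₂.c ≠ 0) (hr : ξ₁.c ≠ ξ₂.c) :
    ∀ a b d : ι ⊕ ι, ab a ≠ ab b → ab a ≠ ab d → ab b ≠ ab d → ∀ t u : F, CL σ (S.xs a b t) (S.xs a d u) := by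
  intro a b d hab had hbd t u
  obtain ⟨ab1, ab2, ba1, ba2⟩ := ceut1_ne hab
  obtain ⟨ad1, ad2, da1, da2⟩ := ceut1_ne had
  obtain ⟨bd1, bd2, db1, db2⟩ := ceut1_ne hbd
  have hg := hH.2 d ξ₁ ξ₂ h1 h2
  have hr1 : ξ₁.c / ξ₂.c ≠ 1 := fun e => hr ((div_eq_one_iff_eq h2).1 e)
  refine (CL_tor_s h had hg ?_ ?_ ?_ u).symm
  · rw [ceut1_dhl_of_ne _ ad1 ad2, ceut1_dhl_self, one_mul]
    intro hv
    apply hr1
    rw [← inv_inv (ξ₁.c / ξ₂.c), hv, inv_one]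
  · have := hg.2.1 a b ab1 ab2 t
    rw [ceut1_dhl_of_ne _ ad1 ad2, ceut1_dhl_of_ne _ bd1 bd2] at this
    simpa using this
  · intro u'
    exact (S.comm_ss a b a d ab1 ab2 ad1 ad2 ba1 ad1 bd2 (ne_ng a) t u').symm

theorem t3c_torus [DecidableEq ι] (h : IsCE σ) (hH : S.HH) {ξ₁ ξ₂ : Lam F od} (h1 : ξ₁.c ≠ 0) (h2 : ξ₂.c ≠ 0) (hr : ξ₁.c ≠ ξ₂.c) :
    ∀ a b c : ι ⊕ ι, ab a ≠ ab b → ab c ≠ ab b → ab a ≠ ab c → ∀ t u : F, CL σ (S.xs a b t) (S.xs c b u) := by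
  intro a b c hab hcb hac t u
  obtain ⟨ab1, ab2, ba1, ba2⟩ := ceut1_ne hab
  obtain ⟨cb1, cb2, bc1, bc2⟩ := ceut1_ne hcb
  obtain ⟨ac1, ac2, ca1, ca2⟩ := ceut1_ne hac
  have hg := hH.2 c ξ₁ ξ₂ h1 h2
  have hr1 : ξ₁.c / ξ₂.c ≠ 1 := fun e => hr ((div_eq_one_iff_eq h2).1 e)
  refine (CL_tor_s h hcb hg ?_ ?_ ?_ u).symm
  · rw [ceut1_dhl_self, ceut1_dhl_of_ne _ bc1 bc2, inv_one, mul_one]
    exact hr1
  · have := hg.2.1 a b ab1 ab2 t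
    rw [ceut1_dhl_of_ne _ ac1 ac2, ceut1_dhl_of_ne _ bc1 bc2] at this
    simpa using this
  · intro u'
    exact (S.comm_ss a b c b ab1 ab2 cb1 cb2 bc1 ab1 (ne_ng b) ac2 t u').symm

/-- T5 [S-M]  long / half `xl a ξ` and short `xs a d u`: `xs a d u = cm (xs a e u) (xs e d 1)` (`e` from `h3 a d`), both factors commute with `xl a ξ` (`S.comm_ls`); `CL.symm`. -/
theorem t5_milnor (h : IsCE σ) (h3 : I3 ι) :
    ∀ a d : ι ⊕ ι, ab a ≠ ab d → ∀ (ξ : Lam F od) (u : F), CL σ (S.xl a ξ) (S.xs a d u) := by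
  intro a d had ξ u
  obtain ⟨e, hea, hed⟩ := h3 a d
  obtain ⟨ad1, ad2, da1, da2⟩ := ceut1_ne had
  obtain ⟨ea1, ea2, ae1, ae2⟩ := ceut1_ne hea
  obtain ⟨ed1, ed2, de1, de2⟩ := ceut1_ne hed
  rw [ceut1_cm (S := S) (Ne.symm hea) hed had u]
  apply CL.symm
  apply h.milnor
  · exact (S.comm_ls a a e ae1 ae2 (ne_ng a) ea1 ξ u).symm
  · exact (S.comm_ls a e d ed1 ed2 ea2 da1 ξ 1).symm

end T

end Cfsg.Agent.Lib.helper7.CEU
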