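import Cfsg.Agent.Lib.Helper19.UTCL6core

/-!
# UT row CL3 (helper19): `cl3` (`SU(E_{ij}) ≤ M` via `Helper28.UGen.base`), verbatim vs
`Helper9/UT/Skel`
-/

set_option autoImplicit false
set_option linter.unusedVariables false
set_option linter.unusedSectionVars false

open Cfsg

namespace Cfsg.Agent.Lib.Helper9.UT

open Matrix Cfsg.Agent.Lib.Helper29.ExtrL Cfsg.Agent.Lib.Helper28.UMax

variable {n q : ℕ} {F : Type*} [Field F] [Fintype F] {σ : F ≃+* F}
  {M : Subgroup (Matrix.GeneralLinearGroup (Fin n) F)}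

theorem cl3 (S : UTS n q σ M) (hn : 3 ≤ n)
    (hall2 : ∀ (a b : Fin n) (α β : F), a ≠ b → α * σ α + β * σ β = 0 →
      α • Pi.single a (1 : F) + β • Pi.single b (1 : F) ∈ XS (Cfsg.hermForm n F q) σ M)
    {i j : Fin n} (hij : i ≠ j) (g : Matrix.GeneralLinearGroup (Fin n) F) (hg : g ∈ SUg n F q)
    (hfix : ∀ m, m ≠ i → m ≠ j →
      (g : Matrix (Fin n) (Fin n) F) *ᵥ Pi.single m (1 : F) = Pi.single m (1 : F)) : g ∈ M := by
  classical
  have hf := S.hU
  -- the coordinates other than `i`, `j`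
  obtain ⟨s, hs⟩ : ∃ s : Finset (Fin n), s = Finset.univ \ {i, j} := ⟨_, rfl⟩
  have hmem : ∀ m, m ∈ s ↔ m ≠ i ∧ m ≠ j := by
    intro m
    rw [hs]
    simp
  have hcard : s.card + 2 = n := by
    rw [hs, Finset.card_univ_sdiff, Fintype.card_fin, Finset.card_pair hij]
    omega
  obtain ⟨emb, hemb⟩ : ∃ emb : Fin s.card ↪o Fin n, emb = s.orderEmbOfFin rfl := ⟨_, rfl⟩
  have hembs : ∀ k, emb k ∈ s := fun k => by rw [hemb]; exact Finset.orderEmbOfFin_mem s rfl k
  have hsurj : ∀ m ∈ s, ∃ k, emb k = m := by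
    intro m hm
    have : m ∈ Set.range emb := by
      rw [hemb, Finset.range_orderEmbOfFin]
      exact hm
    exact this
  obtain ⟨a, ha⟩ : ∃ a : Fin s.card → (Fin n → F), a = fun k => Pi.single (emb k) (1 : F) :=
    ⟨_, rfl⟩
  have hak : ∀ k, a k = Pi.single (emb k) (1 : F) := fun k => by rw [ha]
  -- `Perp` means: supported on `{i, j}`
  have hperp : ∀ y : Fin n → F, Cfsg.Agent.Lib.Helper28.UGen.Perp (Cfsg.hermForm n F q) a y →
      ∀ m, m ≠ i → m ≠ j → y m = 0 := by
    intro y hy m hmi hmj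
    obtain ⟨k, hk⟩ := hsurj m ((hmem m).2 ⟨hmi, hmj⟩)
    have := hy k
    rw [hak, herm_single_right S.toUF, map_one, mul_one, hk] at this
    exact this
  have hnd : Cfsg.Agent.Lib.Helper28.UGen.Nd (Cfsg.hermForm n F q) a := by
    constructor
    · have h1 := (Pi.basisFun F (Fin n)).linearIndependent.comp emb emb.injective
      have h2 : (⇑(Pi.basisFun F (Fin n)) ∘ ⇑emb) = a := by
        funext k
        rw [hak, Function.comp_apply, Pi.basisFun_apply]
      rw [h2] at h1
      exact h1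
    · intro v hv hvp
      have hoff := hperp v hvp
      have hi0 : ∀ l : Fin n, l ∉ s → v l = 0 := by
        intro l hl
        have hle : Submodule.span F (Set.range a) ≤
            LinearMap.ker (LinearMap.proj l : (Fin n → F) →ₗ[F] F) := by
          rw [Submodule.span_le]
          rintro _ ⟨k, rfl⟩
          rw [SetLike.mem_coe, LinearMap.mem_ker, LinearMap.proj_apply, hak]
          apply Pi.single_eq_of_ne
          intro h
          apply hl
          rw [h]
          exact hembs k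
        have := hle hv
        rwa [LinearMap.mem_ker, LinearMap.proj_apply] at this
      funext m
      by_cases hm : m ∈ s
      · exact hoff m ((hmem m).1 hm).1 ((hmem m).1 hm).2
      · exact hi0 m hm
  have hgS := (mem_SUg_iff g).1 hg
  have hgGA : g ∈ Cfsg.Agent.Lib.Helper28.UGen.GA (Cfsg.hermForm n F q) a := by
    refine ⟨hgS.1, hg.2, fun k => ?_⟩
    rw [hak]
    exact hfix _ ((hmem _).1 (hembs k)).1 ((hmem _).1 (hembs k)).2
  have hRa := Cfsg.Agent.Lib.Helper28.UGen.base hf a hnd hcard g hgGA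
  refine (Subgroup.closure_le M).2 ?_ hRa
  rintro t ⟨y, c, hy, hc, hya, ht⟩
  have hoff := hperp y hya
  obtain ⟨h1, h2⟩ := utcl6_two S.toUF y i j hij hoff
  have hyXS : y ∈ XS (Cfsg.hermForm n F q) σ M := by
    rw [h1]
    apply hall2 i j _ _ hij
    rw [← h2, hy]
  exact hyXS.2 c hc t ht

end Cfsg.Agent.Lib.Helper9.UT
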