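import Cfsg.Agent.Lib.Helper9.UT.Defs

/-!
# UT row CL4 (helper19): `cl4`, an explicit element of `SU(E_{ij})`, verbatim vs `Helper9/UT/Skel`
-/

set_option autoImplicit false
set_option linter.unusedVariables false
set_option linter.unusedSectionVars false

open Cfsg

namespace Cfsg.Agent.Lib.Helper9.UT

open Matrix Cfsg.Agent.Lib.Helper29.ExtrL Cfsg.Agent.Lib.Helper28.UMax

variable {n q : ℕ} {F : Type*} [Field F] [Fintype F] {σ : F ≃+* F}

/-- the `n × 2` matrix with columns `e_i`, `e_j` -/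
def utcl4_U (F : Type*) [Field F] {n : ℕ} (i j : Fin n) : Matrix (Fin n) (Fin 2) F :=
  Matrix.of fun m s => (Pi.single (![i, j] s) (1 : F) : Fin n → F) m

theorem utcl4_UtU {i j : Fin n} (hij : i ≠ j) :
    (utcl4_U F i j)ᵀ * utcl4_U F i j = 1 := by
  ext r s
  rw [Matrix.mul_apply]
  simp only [Matrix.transpose_apply, utcl4_U, Matrix.of_apply]
  fin_cases r <;> fin_cases s <;> simp [Pi.single_apply, hij, Ne.symm hij]

/-- the `2 × 2` matrix `(a b; c d)` at the rows and columns `i, j`, identity elsewhere -/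
def utcl4_G (i j : Fin n) (a b c d : F) : Matrix (Fin n) (Fin n) F :=
  1 + utcl4_U F i j * ((!![a - 1, b; c, d - 1] : Matrix (Fin 2) (Fin 2) F) * (utcl4_U F i j)ᵀ)

theorem utcl4_det {i j : Fin n} (hij : i ≠ j) (a b c d : F) :
    (utcl4_G i j a b c d).det = a * d - b * c := by
  unfold utcl4_G
  rw [Matrix.det_one_add_mul_comm, Matrix.mul_assoc, utcl4_UtU hij, Matrix.mul_one,
    Matrix.det_fin_two]
  simp

theorem utcl4_mulVec (i j : Fin n) (a b c d : F) (v : Fin n → F) :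
    utcl4_G i j a b c d *ᵥ v = v + ((a - 1) * v i + b * v j) • Pi.single i (1 : F) +
      (c * v i + (d - 1) * v j) • Pi.single j (1 : F) := by
  unfold utcl4_G
  rw [Matrix.add_mulVec, Matrix.one_mulVec, ← Matrix.mulVec_mulVec, ← Matrix.mulVec_mulVec]
  have h1 : (utcl4_U F i j)ᵀ *ᵥ v = ![v i, v j] := by
    ext r
    simp only [Matrix.mulVec, dotProduct, Matrix.transpose_apply, utcl4_U, Matrix.of_apply]
    fin_cases r <;> simp [Pi.single_apply]
  rw [h1, add_assoc]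
  congr 1
  ext m
  simp [Matrix.mulVec, dotProduct, Fin.sum_univ_two, utcl4_U]
  ring

theorem cl4 (S : UF n q σ) {i j : Fin n} (hij : i ≠ j) (α β : F)
    (hαβ : α * σ α + β * σ β ≠ 0) :
    ∃ g : Matrix.GeneralLinearGroup (Fin n) F, g ∈ SUg n F q ∧
      (∀ m, m ≠ i → m ≠ j →
        (g : Matrix (Fin n) (Fin n) F) *ᵥ Pi.single m (1 : F) = Pi.single m (1 : F)) ∧
      ∀ v : Fin n → F, v i = α → v j = β → ((g : Matrix (Fin n) (Fin n) F) *ᵥ v) j = 0 ∧
        ∀ m, m ≠ i → m ≠ j → ((g : Matrix (Fin n) (Fin n) F) *ᵥ v) m = v m := by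
  have hf := S.hU
  obtain ⟨κ, hκ⟩ : ∃ κ, κ = α * σ α + β * σ β := ⟨_, rfl⟩
  rw [← hκ] at hαβ
  have hκσ : σ κ = κ := by
    rw [hκ, map_add, map_mul, map_mul, hf.involutive, hf.involutive]
    ring
  obtain ⟨b, hb⟩ := Cfsg.Agent.Lib.Helper28.UForm.norm_surj hf κ hκσ
  have hb0 : b ≠ 0 := by
    rintro rfl
    rw [zero_mul] at hb
    exact hαβ hb.symm
  have e : σ b = κ / b := by
    rw [eq_div_iff hb0]
    linear_combination hb
  -- the entries
  obtain ⟨a11, ha11⟩ : ∃ x, x = σ α * b / κ := ⟨_, rfl⟩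
  obtain ⟨a12, ha12⟩ : ∃ x, x = σ β * b / κ := ⟨_, rfl⟩
  obtain ⟨a21, ha21⟩ : ∃ x, x = -β / b := ⟨_, rfl⟩
  obtain ⟨a22, ha22⟩ : ∃ x, x = α / b := ⟨_, rfl⟩
  have hs11 : σ a11 = α * σ b / κ := by
    rw [ha11, map_div₀, map_mul, hf.involutive, hκσ]
  have hs12 : σ a12 = β * σ b / κ := by
    rw [ha12, map_div₀, map_mul, hf.involutive, hκσ]
  have hs21 : σ a21 = -σ β / σ b := by rw [ha21, map_div₀, map_neg]
  have hs22 : σ a22 = σ α / σ b := by rw [ha22, map_div₀]
  have hdet : a11 * a22 - a12 * a21 = 1 := by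
    rw [ha11, ha12, ha21, ha22]
    field_simp
    rw [hκ]
    ring
  have hN1 : a11 * σ a11 + a21 * σ a21 = 1 := by
    rw [hs11, hs21, ha11, ha21, e]
    field_simp
    rw [hκ]
    ring
  have hN2 : a12 * σ a12 + a22 * σ a22 = 1 := by
    rw [hs12, hs22, ha12, ha22, e]
    field_simp
    rw [hκ]
    ring
  have hO : a11 * σ a12 + a21 * σ a22 = 0 := by
    rw [hs12, hs22, ha11, ha21, e]
    field_simp
    ring
  have hO' : a12 * σ a11 + a22 * σ a21 = 0 := by
    rw [hs11, hs21, ha12, ha22, e]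
    field_simp
    ring
  -- the group element
  have hdetG : (utcl4_G i j a11 a12 a21 a22).det = 1 := by rw [utcl4_det hij, hdet]
  have hunit : IsUnit (utcl4_G i j a11 a12 a21 a22).det := by rw [hdetG]; exact isUnit_one
  obtain ⟨g, hgc⟩ : ∃ g : Matrix.GeneralLinearGroup (Fin n) F,
      (g : Matrix (Fin n) (Fin n) F) = utcl4_G i j a11 a12 a21 a22 :=
    ⟨Matrix.GeneralLinearGroup.mk'' (utcl4_G i j a11 a12 a21 a22) hunit, rfl⟩
  refine ⟨g, ?_, ?_, ?_⟩
  · rw [mem_SUg_iff]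
    refine ⟨fun x y => ?_, by rw [hgc, hdetG]⟩
    rw [hgc, utcl4_mulVec, utcl4_mulVec]
    simp only [hf.add_left, Cfsg.Agent.Lib.Helper28.UForm.f_add_right hf, hf.smul_left,
      Cfsg.Agent.Lib.Helper28.UForm.f_smul_right hf, herm_single_left S, herm_single_right S,
      Pi.single_eq_same, Pi.single_eq_of_ne hij, Pi.single_eq_of_ne (Ne.symm hij), map_add,
      map_mul, map_sub, map_one, map_zero]
    linear_combination (x i * σ (y i)) * hN1 + (x j * σ (y j)) * hN2 + (x i * σ (y j)) * hO +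
      (x j * σ (y i)) * hO'
  · intro m hmi hmj
    rw [hgc, utcl4_mulVec, Pi.single_eq_of_ne (Ne.symm hmi), Pi.single_eq_of_ne (Ne.symm hmj)]
    simp
  · intro v hvi hvj
    rw [hgc, utcl4_mulVec]
    constructor
    · simp only [Pi.add_apply, Pi.smul_apply, smul_eq_mul, Pi.single_eq_same,
        Pi.single_eq_of_ne (Ne.symm hij), mul_zero, add_zero, mul_one]
      rw [hvi, hvj, ha21, ha22]
      field_simp
      ring
    · intro m hmi hmj
      simp only [Pi.add_apply, Pi.smul_apply, smul_eq_mul, Pi.single_eq_of_ne hmi,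
        Pi.single_eq_of_ne hmj, mul_zero, add_zero]

end Cfsg.Agent.Lib.Helper9.UT
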