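import Cfsg.Agent.Lib.Helper9.UT.Defs

/-!
# UT row CL5 (helper19): `cl5` (`q` even: one transvection changes a coordinate norm), verbatim vs
`Helper9/UT/Skel`
-/

set_option autoImplicit false
set_option linter.unusedVariables false
set_option linter.unusedSectionVars false

open Cfsg

namespace Cfsg.Agent.Lib.Helper9.UT

open Matrix Cfsg.Agent.Lib.Helper29.ExtrL Cfsg.Agent.Lib.Helper28.UMax

variable {n q : ℕ} {F : Type*} [Field F] [Fintype F] {σ : F ≃+* F}
  {M : Subgroup (Matrix.GeneralLinearGroup (Fin n) F)}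

/-- for `q ≥ 3` there is a `σ`-fixed element different from `0` and `1` (`g ^ (q + 1)`, `g` a
generator of `Fˣ`) -/
theorem utcl5_fixed (S : UF n q σ) (hq : 3 ≤ q) : ∃ c : F, c ≠ 0 ∧ c ≠ 1 ∧ σ c = c := by
  classical
  obtain ⟨g, hg⟩ := IsCyclic.exists_generator (α := Fˣ)
  have hord : orderOf g = q ^ 2 - 1 := by
    rw [orderOf_eq_card_of_forall_mem_zpowers hg, Nat.card_eq_fintype_card, Fintype.card_units,
      S.hF]
  refine ⟨((g ^ (q + 1) : Fˣ) : F), Units.ne_zero _, ?_, ?_⟩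
  · intro h
    have h1 : g ^ (q + 1) = 1 := Units.ext (by rw [h, Units.val_one])
    have hdvd := orderOf_dvd_of_pow_eq_one h1
    rw [hord] at hdvd
    have hle := Nat.le_of_dvd (by omega) hdvd
    have hsq : q ^ 2 = q * q := by ring
    have h3q : 3 * q ≤ q * q := Nat.mul_le_mul_right q hq
    omega
  · rw [S.hσ, Units.val_pow_eq_pow_val, ← pow_mul]
    have hcard : (g : F) ^ (q ^ 2) = (g : F) := by
      rw [← S.hF]
      exact FiniteField.pow_card _
    calc (g : F) ^ ((q + 1) * q) = (g : F) ^ (q ^ 2) * (g : F) ^ q := by ring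
      _ = (g : F) * (g : F) ^ q := by rw [hcard]
      _ = (g : F) ^ (q + 1) := by ring

/-- an element of norm one avoiding one value -/
theorem utcl5_unit (S : UF n q σ) (x y : F) (hy : y ≠ 0) :
    ∃ u : F, u * σ u = 1 ∧ x ≠ σ u * y := by
  have hf := S.hU
  by_cases hxy : x = y
  · obtain ⟨a, ha⟩ := Cfsg.Agent.Lib.Helper28.UForm.exists_moved hf
    have ha0 : a ≠ 0 := by
      rintro rfl
      exact ha (map_zero σ)
    have hσa0 : σ a ≠ 0 := by rwa [Ne, EmbeddingLike.map_eq_zero_iff]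
    refine ⟨a / σ a, ?_, ?_⟩
    · rw [map_div₀, hf.involutive]
      field_simp
    · rw [map_div₀, hf.involutive, hxy]
      intro h
      apply ha
      have : σ a / a = 1 := by
        have h' : (1 : F) * y = σ a / a * y := by rw [one_mul]; exact h
        exact (mul_right_cancel₀ hy h').symm
      rw [div_eq_one_iff_eq ha0] at this
      exact this
  · exact ⟨1, by rw [map_one, mul_one], by rw [map_one, one_mul]; exact hxy⟩

theorem cl5 (S : UTS n q σ M) (hq : 4 ≤ q) (h2 : (2 : F) = 0)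
    (hall2 : ∀ (a b : Fin n) (α β : F), a ≠ b → α * σ α + β * σ β = 0 →
      α • Pi.single a (1 : F) + β • Pi.single b (1 : F) ∈ XS (Cfsg.hermForm n F q) σ M)
    (v : Fin n → F) {i j : Fin n} (hij : i ≠ j) (hvi : v i ≠ 0) (hvj : v j ≠ 0)
    (heq : v i * σ (v i) = v j * σ (v j)) :
    ∃ t ∈ M, (∀ m, m ≠ i → m ≠ j → ((t : Matrix (Fin n) (Fin n) F) *ᵥ v) m = v m) ∧
      ((t : Matrix (Fin n) (Fin n) F) *ᵥ v) i * σ (((t : Matrix (Fin n) (Fin n) F) *ᵥ v) i) ≠
        v i * σ (v i) := by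
  have hf := S.hU
  have hneg : ∀ x : F, -x = x := fun x => by linear_combination (-x) * h2
  obtain ⟨c, hc0, hc1, hcσ⟩ := utcl5_fixed S.toUF (by omega : 3 ≤ q)
  obtain ⟨u, hu, hne⟩ := utcl5_unit S.toUF (v i) (v j) hvj
  have hcσ' : σ c = -c := by rw [hneg]; exact hcσ
  -- the centre
  have hz : (1 : F) • Pi.single i (1 : F) + u • Pi.single j (1 : F) ∈
      XS (Cfsg.hermForm n F q) σ M := by
    apply hall2 i j 1 u hij
    rw [map_one, mul_one, hu]
    linear_combination h2
  obtain ⟨z, hzdef⟩ : ∃ z : Fin n → F,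
      z = (1 : F) • Pi.single i (1 : F) + u • Pi.single j (1 : F) := ⟨_, rfl⟩
  rw [← hzdef] at hz
  have hzi : z i = 1 := by
    rw [hzdef]
    simp [Pi.single_eq_of_ne hij]
  have hzm : ∀ m, m ≠ i → m ≠ j → z m = 0 := by
    intro m hmi hmj
    rw [hzdef]
    simp [Pi.single_eq_of_ne hmi, Pi.single_eq_of_ne hmj]
  have hfvz : Cfsg.hermForm n F q v z = v i + σ u * v j := by
    rw [hzdef, Cfsg.Agent.Lib.Helper28.UForm.f_add_right hf,
      Cfsg.Agent.Lib.Helper28.UForm.f_smul_right hf, Cfsg.Agent.Lib.Helper28.UForm.f_smul_right hf,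
      herm_single_right S.toUF, herm_single_right S.toUF, map_one]
    ring
  obtain ⟨t, _, ht⟩ := Cfsg.Agent.S5643.tvGL hf z (c • z) (by
    rw [Cfsg.Agent.Lib.Helper28.UForm.f_smul_right hf, hz.1, mul_zero])
  have htM : t ∈ M := hz.2 c hcσ' t ht
  have htv : ∀ m, ((t : Matrix (Fin n) (Fin n) F) *ᵥ v) m =
      v m + c * (v i + σ u * v j) * z m := by
    intro m
    rw [ht, Pi.add_apply, Pi.smul_apply, smul_eq_mul,
      Cfsg.Agent.Lib.Helper28.UForm.f_smul_right hf, hfvz, hcσ]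
  refine ⟨t, htM, ?_, ?_⟩
  · intro m hmi hmj
    rw [htv, hzm m hmi hmj, mul_zero, add_zero]
  · rw [htv, hzi, mul_one]
    -- the norm computation
    obtain ⟨A, hA⟩ : ∃ A, A = v i := ⟨_, rfl⟩
    obtain ⟨B, hB⟩ : ∃ B, B = σ u * v j := ⟨_, rfl⟩
    rw [← hA, ← hB]
    rw [← hA, ← hB] at hne
    have hσB : σ B = u * σ (v j) := by rw [hB, map_mul, hf.involutive]
    have hNB : B * σ B = A * σ A := by
      rw [hσB, hB, hA, heq]
      have : σ u * v j * (u * σ (v j)) = (u * σ u) * (v j * σ (v j)) := by ring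
      rw [this, hu, one_mul]
    have hAB : A + B ≠ 0 := by
      intro h
      apply hne
      have : A = -B := by linear_combination h
      rw [this, hneg]
    have hNAB : (A + B) * σ (A + B) ≠ 0 :=
      mul_ne_zero hAB (by rwa [Ne, EmbeddingLike.map_eq_zero_iff])
    have hcc : c + c ^ 2 ≠ 0 := by
      have : c + c ^ 2 = c * (c - 1) := by linear_combination (c) * h2
      rw [this]
      exact mul_ne_zero hc0 (sub_ne_zero.mpr hc1)
    intro hcontra
    apply mul_ne_zero hcc hNAB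
    rw [map_add, map_mul, map_add, hcσ] at hcontra
    rw [map_add]
    linear_combination hcontra + c * hNB

end Cfsg.Agent.Lib.Helper9.UT
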