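import Cfsg.Agent.Lib.Helper19.UTCL6core
import Cfsg.Agent.Lib.Helper19.UTCL3
import Cfsg.Agent.Lib.Helper19.UTCL4
import Cfsg.Agent.Lib.Helper19.UTCL5

/-!
# UT row CL6 (helper19): `cl6`, verbatim vs `Helper9/UT/Skel` (wrapper of `utcl6_core`)
-/

set_option autoImplicit false
set_option linter.unusedVariables false
set_option linter.unusedSectionVars false

open Cfsg

namespace Cfsg.Agent.Lib.Helper9.UT

open Matrix Cfsg.Agent.Lib.Helper29.ExtrL Cfsg.Agent.Lib.Helper28.UMax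

variable {n q : ℕ} {F : Type*} [Field F] [Fintype F] {σ : F ≃+* F}
  {M : Subgroup (Matrix.GeneralLinearGroup (Fin n) F)}

theorem cl6 (S : UTS n q σ M) (hq : 3 ≤ q) (hn : 3 ≤ n)
    (hall2 : ∀ (a b : Fin n) (α β : F), a ≠ b → α * σ α + β * σ β = 0 →
      α • Pi.single a (1 : F) + β • Pi.single b (1 : F) ∈ XS (Cfsg.hermForm n F q) σ M) :
    ∀ v : Fin n → F, Cfsg.hermForm n F q v v = 0 → v ∈ XS (Cfsg.hermForm n F q) σ M :=
  utcl6_core S hq hn hall2 (fun hij g hg hfix => cl3 S hn hall2 hij g hg hfix)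
    (fun hij α β h => cl4 S.toUF hij α β h)
    (fun h4 h2 v _ _ hij hvi hvj heq => cl5 S h4 h2 hall2 v hij hvi hvj heq)

end Cfsg.Agent.Lib.Helper9.UT
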