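import Cfsg.Agent.Lib.helper6.UTP.Defs

/-!
# UTP row KRON (helper19): `kron_mem`, verbatim vs `helper6/UTP/Skel`; matrix criterion for `GUm`
-/

set_option autoImplicit false
set_option linter.unusedVariables false
set_option linter.unusedSectionVars false

namespace Cfsg.Agent.Lib.helper6.UTP

open Matrix
open scoped Kronecker
open Cfsg.Agent.Lib.helper7.TP

variable {F : Type*} [Field F] {a b : ℕ}

/-- `cj (A x) = σ(A) cj x`. -/
theorem utpkron_cj_mulVec (σ : F ≃+* F) {ι : Type} [Fintype ι] (A : Matrix ι ι F) (y : ι → F) :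
    cj σ (A *ᵥ y) = (A.map σ) *ᵥ cj σ y := by
  funext i
  simp [cj, Matrix.mulVec, dotProduct, map_sum, map_mul]

/-- the form in matrix terms: `hf (A x) (A y) = x ⬝ᵥ (Aᵀ σ(A)) (cj y)`. -/
theorem utpkron_hf_mulVec (σ : F ≃+* F) {ι : Type} [Fintype ι] (A : Matrix ι ι F) (x y : ι → F) :
    hf σ (A *ᵥ x) (A *ᵥ y) = x ⬝ᵥ ((Aᵀ * A.map σ) *ᵥ cj σ y) := by
  rw [hf, utpkron_cj_mulVec, ← Matrix.mulVec_mulVec, Matrix.dotProduct_mulVec x,
    Matrix.vecMul_transpose]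

/-- matrix criterion for membership in `GUm`: `gᵀ σ(g) = 1`. -/
theorem utpkron_mem_GUm_iff (σ : F ≃+* F) {ι : Type} [Fintype ι] [DecidableEq ι]
    (g : Matrix.GeneralLinearGroup ι F) :
    g ∈ GUm σ ι ↔ (g : Matrix ι ι F)ᵀ * (g : Matrix ι ι F).map σ = 1 := by
  rw [mem_GUm]
  constructor
  · intro h
    ext k l
    have := h (Pi.single k 1) (Pi.single l 1)
    rw [utpkron_hf_mulVec] at this
    have hcj : cj σ (Pi.single l (1 : F)) = Pi.single l 1 := by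
      funext i
      by_cases hi : i = l
      · subst hi; simp [cj]
      · simp [cj, Pi.single_eq_of_ne hi]
    rw [hcj, Matrix.mulVec_single_one, single_dotProduct, one_mul] at this
    rw [Matrix.col_apply] at this
    rw [this, hf, hcj, single_dotProduct, one_mul, Matrix.one_apply, Pi.single_apply]
  · intro h x y
    rw [utpkron_hf_mulVec, h, Matrix.one_mulVec, hf]

/-- the Kronecker product of two matrices with `Aᵀ σ(A) = 1`, `Bᵀ σ(B) = 1` has the same property. -/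
theorem utpkron_unitary (σ : F ≃+* F) (A : Matrix (Fin a) (Fin a) F) (B : Matrix (Fin b) (Fin b) F)
    (hA : Aᵀ * A.map σ = 1) (hB : Bᵀ * B.map σ = 1) :
    (A ⊗ₖ B)ᵀ * (A ⊗ₖ B).map σ = 1 := by
  have h1 : (A ⊗ₖ B)ᵀ = Aᵀ ⊗ₖ Bᵀ := Matrix.kroneckerMap_transpose _ A B
  have h2 : (A ⊗ₖ B).map σ = A.map σ ⊗ₖ B.map σ := by
    ext ⟨i, j⟩ ⟨k, l⟩
    simp [Matrix.kroneckerMap_apply, Matrix.map_apply]
  rw [h1, h2, ← Matrix.mul_kronecker_mul, hA, hB, Matrix.one_kronecker_one]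

/-- a Kronecker product of isometries is an isometry. -/
theorem utpkron_mem_GUm (σ : F ≃+* F) (α : Matrix.GeneralLinearGroup (Fin a) F)
    (β : Matrix.GeneralLinearGroup (Fin b) F) (hα : α ∈ GUm σ (Fin a)) (hβ : β ∈ GUm σ (Fin b))
    (g : Matrix.GeneralLinearGroup (Fin a × Fin b) F)
    (hg : (g : Matrix (Fin a × Fin b) (Fin a × Fin b) F) =
      (α : Matrix (Fin a) (Fin a) F) ⊗ₖ (β : Matrix (Fin b) (Fin b) F)) :
    g ∈ GUm σ (Fin a × Fin b) := by
  rw [utpkron_mem_GUm_iff, hg]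
  exact utpkron_unitary σ _ _ ((utpkron_mem_GUm_iff σ α).1 hα) ((utpkron_mem_GUm_iff σ β).1 hβ)

theorem kron_mem (σ : F ≃+* F) (hσ : Inv2 σ) (α : Matrix.GeneralLinearGroup (Fin a) F)
    (β : Matrix.GeneralLinearGroup (Fin b) F) (hα : α ∈ GUm σ (Fin a)) (hβ : β ∈ GUm σ (Fin b))
    (hdet : (α : Matrix (Fin a) (Fin a) F).det ^ b * (β : Matrix (Fin b) (Fin b) F).det ^ a = 1)
    (g : Matrix.GeneralLinearGroup (Fin a × Fin b) F)
    (hg : (g : Matrix (Fin a × Fin b) (Fin a × Fin b) F) =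
      (α : Matrix (Fin a) (Fin a) F) ⊗ₖ (β : Matrix (Fin b) (Fin b) F)) : g ∈ T0u σ a b := by
  refine ⟨(mem_K0 g).2 ⟨α, β, hg⟩, utpkron_mem_GUm σ α β hα hβ g hg, ?_⟩
  change g ∈ (Matrix.GeneralLinearGroup.det :
    Matrix.GeneralLinearGroup (Fin a × Fin b) F →* Fˣ).ker
  rw [MonoidHom.mem_ker]
  apply Units.ext
  rw [Matrix.GeneralLinearGroup.val_det_apply, hg, Matrix.det_kronecker, Fintype.card_fin,
    Fintype.card_fin, hdet, Units.val_one]

end Cfsg.Agent.Lib.helper6.UTP
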