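import Mathlib

set_option autoImplicit false

/-!
# Tables for `4 × 4` matrices over the integers modulo `7`, with kernel-friendly products
-/

namespace Cfsg.Agent.Lib.Helper19.A10K

open Matrix

/-- the matrix ring -/
abbrev R7 := Matrix (Fin 4) (Fin 4) (ZMod 7)

/-- a row of four entries -/
structure Row where
  /-- first entry -/
  a : ℕ
  /-- second entry -/
  b : ℕ
  /-- third entry -/
  c : ℕ
  /-- fourth entry -/
  d : ℕ
  deriving DecidableEq

/-- a table of four rows -/
structure Mat where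
  /-- first row -/
  r0 : Row
  /-- second row -/
  r1 : Row
  /-- third row -/
  r2 : Row
  /-- fourth row -/
  r3 : Row
  deriving DecidableEq

/-- entry of a row -/
def Row.get (r : Row) (j : Fin 4) : ℕ := ![r.a, r.b, r.c, r.d] j

/-- row of a table -/
def Mat.row (A : Mat) (i : Fin 4) : Row := ![A.r0, A.r1, A.r2, A.r3] i

/-- the matrix of a table -/
def dec (A : Mat) : R7 := Matrix.of fun i j => (((A.row i).get j : ℕ) : ZMod 7)

/-- the combination of the rows of a table with coefficients from a row -/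
def comb (r : Row) (B : Mat) : Row :=
  match r, B with
  | ⟨x0, x1, x2, x3⟩, ⟨⟨a0, a1, a2, a3⟩, ⟨b0, b1, b2, b3⟩, ⟨c0, c1, c2, c3⟩, ⟨d0, d1, d2, d3⟩⟩ =>
    ⟨(x0 * a0 + x1 * b0 + x2 * c0 + x3 * d0) % 7, (x0 * a1 + x1 * b1 + x2 * c1 + x3 * d1) % 7,
      (x0 * a2 + x1 * b2 + x2 * c2 + x3 * d2) % 7, (x0 * a3 + x1 * b3 + x2 * c3 + x3 * d3) % 7⟩

/-- product of tables -/
def mul (A B : Mat) : Mat := ⟨comb A.r0 B, comb A.r1 B, comb A.r2 B, comb A.r3 B⟩

/-- the identity table -/
def one : Mat := ⟨⟨1, 0, 0, 0⟩, ⟨0, 1, 0, 0⟩, ⟨0, 0, 1, 0⟩, ⟨0, 0, 0, 1⟩⟩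

/-- the table minus the identity -/
def subOne (A : Mat) : Mat :=
  match A with
  | ⟨⟨a0, a1, a2, a3⟩, ⟨b0, b1, b2, b3⟩, ⟨c0, c1, c2, c3⟩, ⟨d0, d1, d2, d3⟩⟩ =>
    ⟨⟨(a0 + 6) % 7, a1, a2, a3⟩, ⟨b0, (b1 + 6) % 7, b2, b3⟩, ⟨c0, c1, (c2 + 6) % 7, c3⟩,
      ⟨d0, d1, d2, (d3 + 6) % 7⟩⟩

/-- powers of a table -/
def mpow (x : Mat) : ℕ → Mat
  | 0 => one
  | n + 1 => mul (mpow x n) x

theorem mul_row (A B : Mat) (i : Fin 4) : (mul A B).row i = comb (A.row i) B := by
  fin_cases i <;> rfl

theorem comb_get (r : Row) (B : Mat) (j : Fin 4) :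
    (comb r B).get j = (r.a * B.r0.get j + r.b * B.r1.get j + r.c * B.r2.get j
      + r.d * B.r3.get j) % 7 := by
  obtain ⟨x0, x1, x2, x3⟩ := r
  obtain ⟨⟨a0, a1, a2, a3⟩, ⟨b0, b1, b2, b3⟩, ⟨c0, c1, c2, c3⟩, ⟨d0, d1, d2, d3⟩⟩ := B
  fin_cases j <;> rfl

theorem dec_mul (A B : Mat) : dec (mul A B) = dec A * dec B := by
  ext i j
  simp only [dec, of_apply, mul_apply, Fin.sum_univ_four, mul_row, comb_get, ZMod.natCast_mod]
  push_cast
  rfl

theorem dec_one : dec one = 1 := by decide

theorem dec_subOne (A : Mat) : dec (subOne A) = dec A - 1 := by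
  obtain ⟨⟨a0, a1, a2, a3⟩, ⟨b0, b1, b2, b3⟩, ⟨c0, c1, c2, c3⟩, ⟨d0, d1, d2, d3⟩⟩ := A
  have h6 : (6 : ZMod 7) = -1 := by decide
  ext i j
  fin_cases i <;> fin_cases j <;>
    simp [dec, subOne, Mat.row, Row.get, ZMod.natCast_mod, h6, sub_eq_add_neg]

theorem dec_mpow (x : Mat) (n : ℕ) : dec (mpow x n) = dec x ^ n := by
  induction n with
  | zero => rw [pow_zero]; exact dec_one
  | succ n ih => rw [pow_succ, ← ih, ← dec_mul]; rfl

/-! ### forcing evaluation -/

/-- evaluate a number before passing it on -/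
def forceNat {α : Type} (x : ℕ) (k : ℕ → α) : α :=
  match x with
  | 0 => k Nat.zero
  | t + 1 => k (Nat.succ t)

theorem forceNat_eq {α : Type} (x : ℕ) (k : ℕ → α) : forceNat x k = k x := by
  cases x <;> rfl

/-- evaluate a row before passing it on -/
def forceRow {α : Type} (r : Row) (k : Row → α) : α :=
  forceNat r.a fun a => forceNat r.b fun b => forceNat r.c fun c => forceNat r.d fun d =>
    k ⟨a, b, c, d⟩

theorem forceRow_eq {α : Type} (r : Row) (k : Row → α) : forceRow r k = k r := by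
  unfold forceRow
  simp only [forceNat_eq]

/-- evaluate a table before passing it on -/
def forceMat {α : Type} (A : Mat) (k : Mat → α) : α :=
  forceRow A.r0 fun r0 => forceRow A.r1 fun r1 => forceRow A.r2 fun r2 => forceRow A.r3 fun r3 =>
    k ⟨r0, r1, r2, r3⟩

theorem forceMat_eq {α : Type} (A : Mat) (k : Mat → α) : forceMat A k = k A := by
  unfold forceMat
  simp only [forceRow_eq]

/-! ### equality tests and list utilities -/

/-- equality test for rows -/
def Row.beq (r c : Row) : Bool :=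
  Nat.beq r.a c.a && (Nat.beq r.b c.b && (Nat.beq r.c c.c && Nat.beq r.d c.d))

theorem Row.beq_iff (r c : Row) : Row.beq r c = true ↔ r = c := by
  obtain ⟨a0, a1, a2, a3⟩ := r
  obtain ⟨b0, b1, b2, b3⟩ := c
  simp [Row.beq]

/-- equality test for tables -/
def Mat.beq (A B : Mat) : Bool :=
  Row.beq A.r0 B.r0 && (Row.beq A.r1 B.r1 && (Row.beq A.r2 B.r2 && Row.beq A.r3 B.r3))

theorem Mat.beq_iff (A B : Mat) : Mat.beq A B = true ↔ A = B := by
  obtain ⟨a0, a1, a2, a3⟩ := A
  obtain ⟨b0, b1, b2, b3⟩ := B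
  simp [Mat.beq, Row.beq_iff]

/-- membership test -/
def elem (x : Mat) : List Mat → Bool
  | [] => false
  | y :: ys => Mat.beq x y || elem x ys

theorem elem_iff (x : Mat) (l : List Mat) : elem x l = true ↔ x ∈ l := by
  induction l with
  | nil => simp [elem]
  | cons y ys ih => simp [elem, ih, Mat.beq_iff]

/-- a test on corresponding entries of two lists -/
def all2 (f : Mat → Mat → Bool) : List Mat → List Mat → Bool
  | [], _ => true
  | _ :: _, [] => false
  | x :: xs, y :: ys => f x y && all2 f xs ys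

theorem all2_spec (f : Mat → Mat → Bool) (L M : List Mat) (h : all2 f L M = true) :
    ∀ x ∈ L, ∃ y, f x y = true := by
  induction L generalizing M with
  | nil => simp
  | cons x xs ih =>
    cases M with
    | nil => simp [all2] at h
    | cons y ys =>
      simp only [all2, Bool.and_eq_true] at h
      intro x' hx'
      rcases List.mem_cons.1 hx' with rfl | hx'
      · exact ⟨y, h.1⟩
      · exact ih ys h.2 x' hx'

/-- the list is closed under right multiplication by `g` -/
def closedChk (L : List Mat) (g : Mat) : Bool :=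
  L.all fun x => forceMat (mul x g) fun y => elem y L

theorem closedChk_spec (L : List Mat) (g : Mat) (h : closedChk L g = true) :
    ∀ x ∈ L, mul x g ∈ L := by
  intro x hx
  have := List.all_eq_true.mp h x hx
  rw [forceMat_eq, elem_iff] at this
  exact this

/-- the certificate of invertibility of `x - 1` -/
def fpfChk (L I : List Mat) : Bool :=
  all2 (fun x y => Mat.beq x one || Mat.beq (mul y (subOne x)) one) L I

theorem fpfChk_spec (L I : List Mat) (h : fpfChk L I = true) :
    ∀ x ∈ L, x ≠ one → ∃ y, mul y (subOne x) = one := by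
  intro x hx hne
  obtain ⟨y, hy⟩ := all2_spec _ L I h x hx
  rw [Bool.or_eq_true, Mat.beq_iff, Mat.beq_iff] at hy
  rcases hy with hy | hy
  · exact absurd hy hne
  · exact ⟨y, hy⟩

/-- the orders divide `8`, `10` or `12` -/
def ordChk (L : List Mat) : Bool :=
  L.all fun x => forceMat (mul x x) fun x2 => forceMat (mul x2 x2) fun x4 =>
    forceMat (mul x4 x4) fun x8 =>
      Mat.beq x8 one || (Mat.beq (mul x8 x2) one || Mat.beq (mul x8 x4) one)

theorem ordChk_spec (L : List Mat) (h : ordChk L = true) :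
    ∀ x ∈ L, dec x ^ 8 = 1 ∨ dec x ^ 10 = 1 ∨ dec x ^ 12 = 1 := by
  intro x hx
  have := List.all_eq_true.mp h x hx
  simp only [forceMat_eq, Bool.or_eq_true, Mat.beq_iff] at this
  have h2 : dec (mul x x) = dec x ^ 2 := by rw [dec_mul, pow_two]
  have h4 : dec (mul (mul x x) (mul x x)) = dec x ^ 4 := by rw [dec_mul, h2, ← pow_add]
  have h8 : dec (mul (mul (mul x x) (mul x x)) (mul (mul x x) (mul x x))) = dec x ^ 8 := by
    rw [dec_mul, h4, ← pow_add]
  rcases this with h' | h' | h'
  · left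
    rw [← h8, h', dec_one]
  · right; left
    have := congrArg dec h'
    rw [dec_mul, h8, h2, ← pow_add, dec_one] at this
    exact this
  · right; right
    have := congrArg dec h'
    rw [dec_mul, h8, h4, ← pow_add, dec_one] at this
    exact this

end Cfsg.Agent.Lib.Helper19.A10K
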