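import Mathlib
import Cfsg.Agent.Lib.Helper19.A10Mat

set_option autoImplicit false

/-!
# A group of order 240 of fixed-point-free matrices over the field with seven elements: data
-/

namespace Cfsg.Agent.Lib.Helper19.A10K

/-- generator of order four -/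
def Am : Mat := ⟨⟨0, 1, 4, 0⟩, ⟨6, 0, 0, 4⟩, ⟨0, 0, 0, 6⟩, ⟨0, 0, 1, 0⟩⟩

/-- generator of order six -/
def Bm : Mat := ⟨⟨0, 3, 5, 6⟩, ⟨4, 0, 1, 5⟩, ⟨6, 6, 1, 4⟩, ⟨1, 6, 3, 1⟩⟩

/-- outer generator of order four -/
def Tm : Mat := ⟨⟨1, 1, 2, 0⟩, ⟨1, 6, 0, 5⟩, ⟨2, 0, 6, 1⟩, ⟨0, 5, 1, 1⟩⟩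

/-- inverse of `Am` -/
def Ai : Mat := ⟨⟨0, 6, 3, 0⟩, ⟨1, 0, 0, 3⟩, ⟨0, 0, 0, 1⟩, ⟨0, 0, 6, 0⟩⟩

/-- inverse of `Bm` -/
def Bi : Mat := ⟨⟨1, 4, 2, 1⟩, ⟨3, 1, 6, 2⟩, ⟨1, 1, 0, 3⟩, ⟨6, 1, 4, 0⟩⟩

/-- inverse of `Tm` -/
def Ti : Mat := ⟨⟨6, 6, 5, 0⟩, ⟨6, 1, 0, 2⟩, ⟨5, 0, 1, 6⟩, ⟨0, 2, 6, 6⟩⟩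

/-- minus the identity -/
def negOne : Mat := ⟨⟨6, 0, 0, 0⟩, ⟨0, 6, 0, 0⟩, ⟨0, 0, 6, 0⟩, ⟨0, 0, 0, 6⟩⟩

/-- the list of the 240 elements -/
def Kl : List Mat := [
  ⟨⟨1, 0, 0, 0⟩, ⟨0, 1, 0, 0⟩, ⟨0, 0, 1, 0⟩, ⟨0, 0, 0, 1⟩⟩,
  ⟨⟨0, 1, 4, 0⟩, ⟨6, 0, 0, 4⟩, ⟨0, 0, 0, 6⟩, ⟨0, 0, 1, 0⟩⟩,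
  ⟨⟨0, 3, 5, 6⟩, ⟨4, 0, 1, 5⟩, ⟨6, 6, 1, 4⟩, ⟨1, 6, 3, 1⟩⟩,
  ⟨⟨1, 1, 2, 0⟩, ⟨1, 6, 0, 5⟩, ⟨2, 0, 6, 1⟩, ⟨0, 5, 1, 1⟩⟩,
  ⟨⟨6, 0, 0, 0⟩, ⟨0, 6, 0, 0⟩, ⟨0, 0, 6, 0⟩, ⟨0, 0, 0, 6⟩⟩,
  ⟨⟨0, 3, 5, 0⟩, ⟨4, 0, 0, 5⟩, ⟨6, 1, 4, 6⟩, ⟨6, 6, 1, 4⟩⟩,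
  ⟨⟨2, 6, 3, 2⟩, ⟨6, 5, 2, 4⟩, ⟨0, 2, 6, 6⟩, ⟨2, 0, 6, 1⟩⟩,
  ⟨⟨4, 0, 6, 0⟩, ⟨0, 4, 0, 6⟩, ⟨1, 6, 0, 2⟩, ⟨1, 1, 5, 0⟩⟩,
  ⟨⟨6, 3, 5, 6⟩, ⟨4, 6, 1, 5⟩, ⟨6, 6, 0, 4⟩, ⟨1, 6, 3, 0⟩⟩,
  ⟨⟨6, 6, 1, 5⟩, ⟨6, 1, 5, 6⟩, ⟨0, 6, 1, 0⟩, ⟨6, 0, 0, 6⟩⟩,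
  ⟨⟨6, 1, 4, 2⟩, ⟨1, 1, 2, 3⟩, ⟨0, 2, 2, 1⟩, ⟨2, 0, 1, 5⟩⟩,
  ⟨⟨2, 1, 1, 5⟩, ⟨1, 5, 5, 6⟩, ⟨2, 6, 5, 2⟩, ⟨6, 5, 2, 2⟩⟩,
  ⟨⟨0, 6, 3, 0⟩, ⟨1, 0, 0, 3⟩, ⟨0, 0, 0, 1⟩, ⟨0, 0, 6, 0⟩⟩,
  ⟨⟨0, 4, 2, 1⟩, ⟨3, 0, 6, 2⟩, ⟨1, 1, 6, 3⟩, ⟨6, 1, 4, 6⟩⟩,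
  ⟨⟨6, 6, 5, 0⟩, ⟨6, 1, 0, 2⟩, ⟨5, 0, 1, 6⟩, ⟨0, 2, 6, 6⟩⟩,
  ⟨⟨4, 0, 0, 0⟩, ⟨0, 4, 0, 0⟩, ⟨6, 6, 2, 0⟩, ⟨1, 6, 0, 2⟩⟩,
  ⟨⟨0, 2, 1, 0⟩, ⟨5, 0, 0, 1⟩, ⟨6, 1, 4, 0⟩, ⟨6, 6, 0, 4⟩⟩,
  ⟨⟨6, 4, 2, 6⟩, ⟨4, 1, 6, 5⟩, ⟨1, 0, 0, 1⟩, ⟨0, 6, 1, 0⟩⟩,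
  ⟨⟨1, 2, 3, 0⟩, ⟨2, 6, 0, 4⟩, ⟨5, 0, 6, 2⟩, ⟨0, 2, 2, 1⟩⟩,
  ⟨⟨2, 1, 4, 0⟩, ⟨1, 5, 0, 3⟩, ⟨1, 2, 5, 5⟩, ⟨2, 6, 5, 2⟩⟩,
  ⟨⟨1, 6, 5, 6⟩, ⟨1, 1, 1, 5⟩, ⟨5, 1, 3, 3⟩, ⟨6, 5, 4, 3⟩⟩,
  ⟨⟨2, 4, 2, 6⟩, ⟨4, 5, 6, 5⟩, ⟨0, 5, 4, 4⟩, ⟨5, 0, 4, 3⟩⟩,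
  ⟨⟨4, 6, 2, 0⟩, ⟨1, 4, 0, 2⟩, ⟨1, 6, 0, 3⟩, ⟨1, 1, 4, 0⟩⟩,
  ⟨⟨5, 5, 6, 5⟩, ⟨5, 2, 5, 1⟩, ⟨5, 6, 2, 6⟩, ⟨6, 2, 6, 5⟩⟩,
  ⟨⟨1, 6, 1, 2⟩, ⟨6, 6, 2, 6⟩, ⟨1, 0, 0, 2⟩, ⟨0, 6, 2, 0⟩⟩,
  ⟨⟨0, 5, 3, 5⟩, ⟨5, 0, 5, 4⟩, ⟨2, 6, 0, 6⟩, ⟨6, 5, 6, 0⟩⟩,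
  ⟨⟨2, 5, 6, 3⟩, ⟨5, 5, 3, 1⟩, ⟨0, 4, 0, 5⟩, ⟨4, 0, 5, 0⟩⟩,
  ⟨⟨1, 1, 3, 4⟩, ⟨6, 1, 3, 3⟩, ⟨6, 3, 6, 6⟩, ⟨4, 6, 1, 6⟩⟩,
  ⟨⟨6, 2, 6, 3⟩, ⟨2, 1, 3, 1⟩, ⟨1, 2, 3, 5⟩, ⟨2, 6, 5, 4⟩⟩,
  ⟨⟨1, 0, 6, 5⟩, ⟨0, 6, 5, 1⟩, ⟨0, 6, 6, 1⟩, ⟨6, 0, 1, 1⟩⟩,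
  ⟨⟨5, 5, 1, 4⟩, ⟨2, 5, 3, 1⟩, ⟨4, 6, 1, 2⟩, ⟨1, 4, 5, 1⟩⟩,
  ⟨⟨0, 4, 2, 0⟩, ⟨3, 0, 0, 2⟩, ⟨1, 6, 3, 1⟩, ⟨1, 1, 6, 3⟩⟩,
  ⟨⟨5, 1, 4, 5⟩, ⟨1, 2, 5, 3⟩, ⟨0, 5, 1, 1⟩, ⟨5, 0, 1, 6⟩⟩,
  ⟨⟨3, 0, 1, 0⟩, ⟨0, 3, 0, 1⟩, ⟨6, 1, 0, 5⟩, ⟨6, 6, 2, 0⟩⟩,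
  ⟨⟨1, 4, 2, 1⟩, ⟨3, 1, 6, 2⟩, ⟨1, 1, 0, 3⟩, ⟨6, 1, 4, 0⟩⟩,
  ⟨⟨1, 1, 6, 2⟩, ⟨1, 6, 2, 1⟩, ⟨0, 1, 6, 0⟩, ⟨1, 0, 0, 1⟩⟩,
  ⟨⟨1, 6, 3, 5⟩, ⟨6, 6, 5, 4⟩, ⟨0, 5, 5, 6⟩, ⟨5, 0, 6, 2⟩⟩,
  ⟨⟨5, 6, 6, 2⟩, ⟨6, 2, 2, 1⟩, ⟨5, 1, 2, 5⟩, ⟨1, 2, 5, 5⟩⟩,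
  ⟨⟨0, 5, 6, 3⟩, ⟨2, 0, 4, 6⟩, ⟨1, 2, 3, 4⟩, ⟨5, 1, 3, 3⟩⟩,
  ⟨⟨4, 4, 1, 0⟩, ⟨4, 3, 0, 6⟩, ⟨2, 0, 3, 4⟩, ⟨0, 5, 4, 4⟩⟩,
  ⟨⟨5, 0, 0, 0⟩, ⟨0, 5, 0, 0⟩, ⟨6, 6, 3, 0⟩, ⟨1, 6, 0, 3⟩⟩,
  ⟨⟨4, 5, 6, 4⟩, ⟨5, 3, 4, 1⟩, ⟨1, 5, 1, 2⟩, ⟨5, 6, 2, 6⟩⟩,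
  ⟨⟨3, 6, 2, 0⟩, ⟨6, 4, 0, 5⟩, ⟨0, 1, 5, 0⟩, ⟨1, 0, 0, 2⟩⟩,
  ⟨⟨6, 3, 5, 0⟩, ⟨3, 1, 0, 2⟩, ⟨1, 2, 1, 0⟩, ⟨2, 6, 0, 6⟩⟩,
  ⟨⟨5, 0, 3, 0⟩, ⟨0, 2, 0, 4⟩, ⟨3, 0, 2, 0⟩, ⟨0, 4, 0, 5⟩⟩,
  ⟨⟨2, 6, 6, 6⟩, ⟨1, 2, 1, 6⟩, ⟨3, 1, 6, 1⟩, ⟨6, 3, 6, 6⟩⟩,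
  ⟨⟨6, 2, 1, 0⟩, ⟨2, 1, 0, 6⟩, ⟨5, 1, 2, 3⟩, ⟨1, 2, 3, 5⟩⟩,
  ⟨⟨0, 2, 1, 5⟩, ⟨2, 0, 5, 6⟩, ⟨1, 0, 6, 6⟩, ⟨0, 6, 6, 1⟩⟩,
  ⟨⟨4, 1, 0, 2⟩, ⟨6, 4, 5, 0⟩, ⟨6, 3, 2, 6⟩, ⟨4, 6, 1, 2⟩⟩,
  ⟨⟨1, 1, 3, 5⟩, ⟨6, 1, 2, 3⟩, ⟨6, 5, 2, 1⟩, ⟨2, 6, 6, 2⟩⟩,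
  ⟨⟨4, 6, 6, 6⟩, ⟨1, 4, 1, 6⟩, ⟨4, 2, 3, 1⟩, ⟨5, 4, 6, 3⟩⟩,
  ⟨⟨3, 4, 3, 6⟩, ⟨4, 4, 6, 4⟩, ⟨5, 5, 3, 4⟩, ⟨5, 2, 4, 4⟩⟩,
  ⟨⟨3, 2, 0, 0⟩, ⟨2, 4, 0, 0⟩, ⟨2, 0, 4, 2⟩, ⟨0, 5, 2, 3⟩⟩,
  ⟨⟨6, 5, 6, 4⟩, ⟨5, 1, 4, 1⟩, ⟨6, 6, 0, 3⟩, ⟨6, 1, 3, 0⟩⟩,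
  ⟨⟨1, 3, 0, 6⟩, ⟨4, 1, 1, 0⟩, ⟨6, 0, 6, 4⟩, ⟨0, 6, 3, 6⟩⟩,
  ⟨⟨0, 5, 6, 4⟩, ⟨5, 0, 4, 1⟩, ⟨0, 3, 5, 5⟩, ⟨3, 0, 5, 2⟩⟩,
  ⟨⟨2, 5, 4, 0⟩, ⟨5, 5, 0, 3⟩, ⟨1, 5, 5, 1⟩, ⟨5, 6, 1, 2⟩⟩,
  ⟨⟨5, 4, 2, 0⟩, ⟨4, 2, 0, 5⟩, ⟨0, 0, 2, 4⟩, ⟨0, 0, 4, 5⟩⟩,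
  ⟨⟨4, 0, 4, 0⟩, ⟨0, 3, 0, 3⟩, ⟨2, 1, 4, 1⟩, ⟨1, 5, 1, 3⟩⟩,
  ⟨⟨2, 5, 3, 5⟩, ⟨2, 2, 2, 3⟩, ⟨1, 4, 4, 2⟩, ⟨3, 1, 5, 4⟩⟩,
  ⟨⟨2, 0, 5, 3⟩, ⟨0, 5, 3, 2⟩, ⟨1, 2, 0, 3⟩, ⟨2, 6, 3, 0⟩⟩,
  ⟨⟨1, 6, 2, 0⟩, ⟨6, 6, 0, 5⟩, ⟨2, 0, 6, 6⟩, ⟨0, 5, 6, 1⟩⟩,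
  ⟨⟨4, 6, 2, 5⟩, ⟨1, 4, 2, 2⟩, ⟨1, 5, 3, 1⟩, ⟨2, 1, 6, 3⟩⟩,
  ⟨⟨2, 2, 4, 0⟩, ⟨2, 5, 0, 3⟩, ⟨3, 0, 5, 2⟩, ⟨0, 4, 2, 2⟩⟩,
  ⟨⟨3, 4, 2, 1⟩, ⟨4, 4, 1, 5⟩, ⟨0, 2, 5, 4⟩, ⟨2, 0, 4, 2⟩⟩,
  ⟨⟨5, 5, 1, 6⟩, ⟨2, 5, 1, 1⟩, ⟨4, 0, 5, 4⟩, ⟨0, 4, 3, 5⟩⟩,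
  ⟨⟨6, 1, 1, 1⟩, ⟨6, 6, 6, 1⟩, ⟨4, 6, 2, 6⟩, ⟨1, 4, 1, 2⟩⟩,
  ⟨⟨5, 3, 0, 6⟩, ⟨4, 5, 1, 0⟩, ⟨5, 6, 1, 4⟩, ⟨1, 5, 3, 1⟩⟩,
  ⟨⟨5, 2, 5, 3⟩, ⟨2, 2, 3, 2⟩, ⟨3, 2, 4, 5⟩, ⟨2, 4, 5, 3⟩⟩,
  ⟨⟨6, 5, 2, 5⟩, ⟨2, 6, 2, 2⟩, ⟨2, 3, 4, 4⟩, ⟨4, 2, 3, 4⟩⟩,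
  ⟨⟨0, 1, 2, 1⟩, ⟨1, 0, 1, 5⟩, ⟨1, 0, 1, 4⟩, ⟨0, 6, 4, 6⟩⟩,
  ⟨⟨6, 5, 1, 4⟩, ⟨2, 6, 3, 1⟩, ⟨4, 6, 2, 2⟩, ⟨1, 4, 5, 2⟩⟩,
  ⟨⟨2, 3, 1, 0⟩, ⟨4, 2, 0, 1⟩, ⟨4, 2, 5, 4⟩, ⟨5, 4, 3, 5⟩⟩,
  ⟨⟨3, 0, 0, 0⟩, ⟨0, 3, 0, 0⟩, ⟨1, 1, 5, 0⟩, ⟨6, 1, 0, 5⟩⟩,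
  ⟨⟨0, 5, 6, 0⟩, ⟨2, 0, 0, 6⟩, ⟨1, 6, 3, 0⟩, ⟨1, 1, 0, 3⟩⟩,
  ⟨⟨1, 3, 5, 1⟩, ⟨3, 6, 1, 2⟩, ⟨6, 0, 0, 6⟩, ⟨0, 1, 6, 0⟩⟩,
  ⟨⟨6, 5, 4, 0⟩, ⟨5, 1, 0, 3⟩, ⟨2, 0, 1, 5⟩, ⟨0, 5, 5, 6⟩⟩,
  ⟨⟨5, 6, 3, 0⟩, ⟨6, 2, 0, 4⟩, ⟨6, 5, 2, 2⟩, ⟨5, 1, 2, 5⟩⟩,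
  ⟨⟨6, 1, 2, 1⟩, ⟨6, 6, 6, 2⟩, ⟨2, 6, 4, 4⟩, ⟨1, 2, 3, 4⟩⟩,
  ⟨⟨5, 3, 5, 1⟩, ⟨3, 2, 1, 2⟩, ⟨0, 2, 3, 3⟩, ⟨2, 0, 3, 4⟩⟩,
  ⟨⟨3, 1, 5, 0⟩, ⟨6, 3, 0, 5⟩, ⟨6, 1, 0, 4⟩, ⟨6, 6, 3, 0⟩⟩,
  ⟨⟨2, 2, 1, 2⟩, ⟨2, 5, 2, 6⟩, ⟨2, 1, 5, 1⟩, ⟨1, 5, 1, 2⟩⟩,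
  ⟨⟨6, 1, 6, 5⟩, ⟨1, 1, 5, 1⟩, ⟨6, 0, 0, 5⟩, ⟨0, 1, 5, 0⟩⟩,
  ⟨⟨0, 2, 4, 2⟩, ⟨2, 0, 2, 3⟩, ⟨5, 1, 0, 1⟩, ⟨1, 2, 1, 0⟩⟩,
  ⟨⟨5, 2, 1, 4⟩, ⟨2, 2, 4, 6⟩, ⟨0, 3, 0, 2⟩, ⟨3, 0, 2, 0⟩⟩,
  ⟨⟨6, 6, 4, 3⟩, ⟨1, 6, 4, 4⟩, ⟨1, 4, 1, 1⟩, ⟨3, 1, 6, 1⟩⟩,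
  ⟨⟨1, 5, 1, 4⟩, ⟨5, 6, 4, 6⟩, ⟨6, 5, 4, 2⟩, ⟨5, 1, 2, 3⟩⟩,
  ⟨⟨6, 0, 1, 2⟩, ⟨0, 1, 2, 6⟩, ⟨0, 1, 1, 6⟩, ⟨1, 0, 6, 6⟩⟩,
  ⟨⟨2, 2, 6, 3⟩, ⟨5, 2, 4, 6⟩, ⟨3, 1, 6, 5⟩, ⟨6, 3, 2, 6⟩⟩,
  ⟨⟨2, 0, 3, 0⟩, ⟨0, 2, 0, 3⟩, ⟨5, 1, 1, 5⟩, ⟨6, 5, 2, 1⟩⟩,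
  ⟨⟨3, 5, 6, 3⟩, ⟨2, 3, 4, 6⟩, ⟨2, 3, 1, 4⟩, ⟨4, 2, 3, 1⟩⟩,
  ⟨⟨3, 3, 4, 6⟩, ⟨3, 4, 6, 3⟩, ⟨2, 5, 3, 3⟩, ⟨5, 5, 3, 4⟩⟩,
  ⟨⟨1, 4, 4, 6⟩, ⟨4, 6, 6, 3⟩, ⟨1, 6, 4, 0⟩, ⟨6, 6, 0, 3⟩⟩,
  ⟨⟨0, 1, 4, 2⟩, ⟨6, 0, 5, 4⟩, ⟨0, 1, 4, 1⟩, ⟨6, 0, 6, 4⟩⟩,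
  ⟨⟨5, 5, 3, 0⟩, ⟨5, 2, 0, 4⟩, ⟨4, 0, 2, 5⟩, ⟨0, 3, 5, 5⟩⟩,
  ⟨⟨2, 4, 6, 0⟩, ⟨4, 5, 0, 1⟩, ⟨2, 1, 6, 5⟩, ⟨1, 5, 5, 1⟩⟩,
  ⟨⟨4, 2, 1, 0⟩, ⟨2, 3, 0, 6⟩, ⟨0, 0, 3, 2⟩, ⟨0, 0, 2, 4⟩⟩,
  ⟨⟨1, 0, 2, 0⟩, ⟨0, 6, 0, 5⟩, ⟨6, 2, 6, 4⟩, ⟨2, 1, 4, 1⟩⟩,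
  ⟨⟨6, 4, 4, 4⟩, ⟨3, 6, 3, 4⟩, ⟨4, 6, 2, 3⟩, ⟨1, 4, 4, 2⟩⟩,
  ⟨⟨4, 6, 3, 0⟩, ⟨6, 3, 0, 4⟩, ⟨5, 1, 4, 0⟩, ⟨1, 2, 0, 3⟩⟩,
  ⟨⟨0, 6, 3, 1⟩, ⟨6, 0, 1, 4⟩, ⟨0, 2, 1, 6⟩, ⟨2, 0, 6, 6⟩⟩,
  ⟨⟨4, 5, 0, 0⟩, ⟨5, 3, 0, 0⟩, ⟨5, 0, 3, 5⟩, ⟨0, 2, 5, 4⟩⟩,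
  ⟨⟨4, 5, 0, 3⟩, ⟨2, 4, 4, 0⟩, ⟨0, 3, 4, 2⟩, ⟨4, 0, 5, 4⟩⟩,
  ⟨⟨1, 2, 0, 4⟩, ⟨5, 1, 3, 0⟩, ⟨6, 3, 6, 5⟩, ⟨4, 6, 2, 6⟩⟩,
  ⟨⟨3, 1, 5, 2⟩, ⟨6, 3, 5, 5⟩, ⟨6, 2, 4, 6⟩, ⟨5, 6, 1, 4⟩⟩,
  ⟨⟨0, 3, 5, 1⟩, ⟨3, 0, 1, 2⟩, ⟨5, 3, 2, 4⟩, ⟨3, 2, 4, 5⟩⟩,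
  ⟨⟨3, 4, 4, 4⟩, ⟨3, 3, 3, 4⟩, ⟨3, 5, 4, 3⟩, ⟨2, 3, 4, 4⟩⟩,
  ⟨⟨5, 0, 5, 0⟩, ⟨0, 2, 0, 2⟩, ⟨0, 1, 3, 1⟩, ⟨1, 0, 1, 4⟩⟩,
  ⟨⟨4, 2, 4, 2⟩, ⟨5, 4, 5, 4⟩, ⟨6, 3, 2, 5⟩, ⟨4, 6, 2, 2⟩⟩,
  ⟨⟨6, 3, 6, 3⟩, ⟨4, 6, 4, 6⟩, ⟨2, 3, 4, 2⟩, ⟨4, 2, 5, 4⟩⟩,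
  ⟨⟨6, 2, 3, 0⟩, ⟨5, 6, 0, 3⟩, ⟨5, 1, 5, 0⟩, ⟨6, 5, 0, 5⟩⟩,
  ⟨⟨1, 4, 1, 4⟩, ⟨3, 1, 3, 1⟩, ⟨5, 4, 3, 5⟩, ⟨3, 5, 2, 3⟩⟩,
  ⟨⟨1, 0, 1, 0⟩, ⟨0, 6, 0, 6⟩, ⟨5, 0, 6, 0⟩, ⟨0, 2, 0, 1⟩⟩,
  ⟨⟨5, 1, 6, 3⟩, ⟨6, 5, 4, 6⟩, ⟨3, 5, 2, 6⟩, ⟨2, 3, 1, 2⟩⟩,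
  ⟨⟨2, 6, 0, 0⟩, ⟨6, 5, 0, 0⟩, ⟨1, 6, 6, 3⟩, ⟨6, 6, 3, 1⟩⟩,
  ⟨⟨4, 1, 4, 5⟩, ⟨1, 3, 5, 3⟩, ⟨6, 1, 3, 6⟩, ⟨1, 1, 6, 4⟩⟩,
  ⟨⟨4, 1, 3, 5⟩, ⟨6, 4, 2, 3⟩, ⟨0, 6, 0, 1⟩, ⟨1, 0, 6, 0⟩⟩,
  ⟨⟨4, 4, 5, 6⟩, ⟨3, 4, 1, 5⟩, ⟨5, 1, 6, 1⟩, ⟨6, 5, 6, 6⟩⟩,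
  ⟨⟨4, 0, 1, 0⟩, ⟨0, 3, 0, 6⟩, ⟨4, 5, 3, 3⟩, ⟨5, 3, 3, 4⟩⟩,
  ⟨⟨2, 0, 4, 0⟩, ⟨0, 5, 0, 3⟩, ⟨4, 0, 5, 0⟩, ⟨0, 3, 0, 2⟩⟩,
  ⟨⟨4, 4, 2, 4⟩, ⟨4, 3, 4, 5⟩, ⟨5, 4, 2, 5⟩, ⟨4, 2, 5, 5⟩⟩,
  ⟨⟨2, 2, 5, 4⟩, ⟨2, 5, 4, 2⟩, ⟨2, 4, 4, 3⟩, ⟨4, 5, 3, 3⟩⟩,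
  ⟨⟨1, 4, 0, 1⟩, ⟨3, 1, 6, 0⟩, ⟨2, 1, 5, 3⟩, ⟨6, 2, 4, 5⟩⟩,
  ⟨⟨3, 5, 6, 0⟩, ⟨5, 4, 0, 1⟩, ⟨0, 0, 4, 5⟩, ⟨0, 0, 5, 3⟩⟩,
  ⟨⟨0, 6, 3, 2⟩, ⟨6, 0, 2, 4⟩, ⟨2, 1, 0, 5⟩, ⟨1, 5, 5, 0⟩⟩,
  ⟨⟨0, 4, 2, 3⟩, ⟨4, 0, 3, 5⟩, ⟨6, 2, 2, 0⟩, ⟨2, 1, 0, 5⟩⟩,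
  ⟨⟨3, 1, 3, 5⟩, ⟨1, 4, 5, 4⟩, ⟨1, 1, 4, 6⟩, ⟨1, 6, 6, 3⟩⟩,
  ⟨⟨5, 4, 4, 4⟩, ⟨3, 5, 3, 4⟩, ⟨4, 6, 1, 3⟩, ⟨1, 4, 4, 1⟩⟩,
  ⟨⟨1, 5, 5, 5⟩, ⟨2, 1, 2, 5⟩, ⟨0, 4, 5, 2⟩, ⟨3, 0, 5, 5⟩⟩,
  ⟨⟨5, 3, 2, 1⟩, ⟨4, 5, 6, 2⟩, ⟨3, 0, 5, 6⟩, ⟨0, 3, 1, 5⟩⟩,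
  ⟨⟨1, 1, 4, 1⟩, ⟨1, 6, 1, 3⟩, ⟨0, 2, 0, 1⟩, ⟨2, 0, 1, 0⟩⟩,
  ⟨⟨4, 2, 0, 4⟩, ⟨5, 4, 3, 0⟩, ⟨0, 4, 4, 5⟩, ⟨3, 0, 2, 4⟩⟩,
  ⟨⟨4, 2, 2, 3⟩, ⟨2, 3, 3, 5⟩, ⟨4, 2, 5, 5⟩, ⟨2, 3, 5, 2⟩⟩,
  ⟨⟨3, 3, 6, 0⟩, ⟨3, 4, 0, 1⟩, ⟨5, 0, 4, 3⟩, ⟨0, 2, 3, 3⟩⟩,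
  ⟨⟨4, 4, 5, 2⟩, ⟨3, 4, 5, 5⟩, ⟨5, 4, 6, 5⟩, ⟨3, 5, 2, 6⟩⟩,
  ⟨⟨2, 5, 5, 5⟩, ⟨2, 2, 2, 5⟩, ⟨0, 4, 6, 2⟩, ⟨3, 0, 5, 6⟩⟩,
  ⟨⟨2, 3, 5, 0⟩, ⟨3, 5, 0, 2⟩, ⟨0, 0, 5, 3⟩, ⟨0, 0, 3, 2⟩⟩,
  ⟨⟨4, 5, 5, 5⟩, ⟨2, 4, 2, 5⟩, ⟨1, 5, 3, 2⟩, ⟨2, 1, 5, 3⟩⟩,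
  ⟨⟨1, 4, 2, 0⟩, ⟨4, 6, 0, 5⟩, ⟨6, 5, 6, 0⟩, ⟨5, 1, 0, 1⟩⟩,
  ⟨⟨5, 5, 2, 3⟩, ⟨5, 2, 3, 5⟩, ⟨5, 3, 3, 4⟩, ⟨3, 2, 4, 4⟩⟩,
  ⟨⟨6, 0, 6, 0⟩, ⟨0, 1, 0, 1⟩, ⟨2, 0, 1, 0⟩, ⟨0, 5, 0, 6⟩⟩,
  ⟨⟨3, 4, 1, 4⟩, ⟨3, 3, 3, 1⟩, ⟨6, 5, 0, 5⟩, ⟨2, 6, 2, 0⟩⟩,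
  ⟨⟨2, 6, 1, 4⟩, ⟨1, 2, 3, 1⟩, ⟨4, 2, 5, 1⟩, ⟨5, 4, 6, 5⟩⟩,
  ⟨⟨2, 4, 3, 4⟩, ⟨3, 2, 3, 3⟩, ⟨5, 5, 1, 5⟩, ⟨2, 5, 2, 1⟩⟩,
  ⟨⟨3, 4, 6, 0⟩, ⟨4, 4, 0, 1⟩, ⟨3, 5, 4, 0⟩, ⟨5, 4, 0, 3⟩⟩,
  ⟨⟨5, 4, 6, 1⟩, ⟨3, 5, 6, 6⟩, ⟨3, 0, 5, 5⟩, ⟨0, 3, 2, 5⟩⟩,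
  ⟨⟨2, 6, 0, 5⟩, ⟨1, 2, 2, 0⟩, ⟨1, 4, 4, 1⟩, ⟨3, 1, 6, 4⟩⟩,
  ⟨⟨4, 2, 1, 4⟩, ⟨5, 4, 3, 1⟩, ⟨5, 4, 6, 3⟩, ⟨3, 5, 4, 6⟩⟩,
  ⟨⟨0, 2, 1, 4⟩, ⟨5, 0, 3, 1⟩, ⟨6, 5, 4, 3⟩, ⟨2, 6, 4, 4⟩⟩,
  ⟨⟨2, 0, 0, 0⟩, ⟨0, 2, 0, 0⟩, ⟨1, 1, 4, 0⟩, ⟨6, 1, 0, 4⟩⟩,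
  ⟨⟨3, 2, 1, 3⟩, ⟨2, 4, 3, 6⟩, ⟨6, 2, 6, 5⟩, ⟨2, 1, 5, 1⟩⟩,
  ⟨⟨4, 1, 5, 0⟩, ⟨1, 3, 0, 2⟩, ⟨0, 6, 2, 0⟩, ⟨6, 0, 0, 5⟩⟩,
  ⟨⟨5, 1, 1, 1⟩, ⟨6, 5, 6, 1⟩, ⟨4, 6, 1, 6⟩, ⟨1, 4, 1, 1⟩⟩,
  ⟨⟨1, 5, 6, 0⟩, ⟨5, 6, 0, 1⟩, ⟨2, 6, 5, 4⟩, ⟨6, 5, 4, 2⟩⟩,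
  ⟨⟨0, 5, 6, 2⟩, ⟨5, 0, 2, 1⟩, ⟨6, 0, 1, 1⟩, ⟨0, 1, 1, 6⟩⟩,
  ⟨⟨3, 6, 0, 5⟩, ⟨1, 3, 2, 0⟩, ⟨1, 4, 5, 1⟩, ⟨3, 1, 6, 5⟩⟩,
  ⟨⟨6, 6, 4, 2⟩, ⟨1, 6, 5, 4⟩, ⟨1, 2, 5, 6⟩, ⟨5, 1, 1, 5⟩⟩,
  ⟨⟨3, 1, 1, 1⟩, ⟨6, 3, 6, 1⟩, ⟨3, 5, 4, 6⟩, ⟨2, 3, 1, 4⟩⟩,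
  ⟨⟨4, 3, 4, 1⟩, ⟨3, 3, 1, 3⟩, ⟨2, 2, 4, 3⟩, ⟨2, 5, 3, 3⟩⟩,
  ⟨⟨1, 2, 1, 3⟩, ⟨2, 6, 3, 6⟩, ⟨1, 1, 0, 4⟩, ⟨1, 6, 4, 0⟩⟩,
  ⟨⟨6, 4, 0, 1⟩, ⟨3, 6, 6, 0⟩, ⟨1, 0, 1, 3⟩, ⟨0, 1, 4, 1⟩⟩,
  ⟨⟨0, 2, 1, 3⟩, ⟨2, 0, 3, 6⟩, ⟨0, 4, 2, 2⟩, ⟨4, 0, 2, 5⟩⟩,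
  ⟨⟨5, 2, 3, 0⟩, ⟨2, 2, 0, 4⟩, ⟨6, 2, 2, 6⟩, ⟨2, 1, 6, 5⟩⟩,
  ⟨⟨3, 0, 3, 0⟩, ⟨0, 4, 0, 4⟩, ⟨5, 6, 3, 6⟩, ⟨6, 2, 6, 4⟩⟩,
  ⟨⟨5, 2, 4, 2⟩, ⟨5, 5, 5, 4⟩, ⟨6, 3, 3, 5⟩, ⟨4, 6, 2, 3⟩⟩,
  ⟨⟨5, 0, 2, 4⟩, ⟨0, 2, 4, 5⟩, ⟨6, 5, 0, 4⟩, ⟨5, 1, 4, 0⟩⟩,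
  ⟨⟨6, 1, 5, 0⟩, ⟨1, 1, 0, 2⟩, ⟨5, 0, 1, 1⟩, ⟨0, 2, 1, 6⟩⟩,
  ⟨⟨4, 3, 5, 6⟩, ⟨3, 3, 6, 2⟩, ⟨0, 5, 2, 3⟩, ⟨5, 0, 3, 5⟩⟩,
  ⟨⟨2, 2, 6, 1⟩, ⟨5, 2, 6, 6⟩, ⟨3, 0, 2, 3⟩, ⟨0, 3, 4, 2⟩⟩,
  ⟨⟨1, 6, 6, 6⟩, ⟨1, 1, 1, 6⟩, ⟨3, 1, 5, 1⟩, ⟨6, 3, 6, 5⟩⟩,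
  ⟨⟨2, 4, 0, 1⟩, ⟨3, 2, 6, 0⟩, ⟨2, 1, 6, 3⟩, ⟨6, 2, 4, 6⟩⟩,
  ⟨⟨2, 5, 2, 4⟩, ⟨5, 5, 4, 5⟩, ⟨4, 5, 3, 2⟩, ⟨5, 3, 2, 4⟩⟩,
  ⟨⟨1, 2, 5, 2⟩, ⟨5, 1, 5, 5⟩, ⟨5, 4, 3, 3⟩, ⟨3, 5, 4, 3⟩⟩,
  ⟨⟨0, 6, 5, 6⟩, ⟨6, 0, 6, 2⟩, ⟨6, 0, 6, 3⟩, ⟨0, 1, 3, 1⟩⟩,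
  ⟨⟨1, 2, 6, 3⟩, ⟨5, 1, 4, 6⟩, ⟨3, 1, 5, 5⟩, ⟨6, 3, 2, 5⟩⟩,
  ⟨⟨5, 4, 6, 0⟩, ⟨3, 5, 0, 6⟩, ⟨3, 5, 2, 3⟩, ⟨2, 3, 4, 2⟩⟩,
  ⟨⟨4, 3, 6, 3⟩, ⟨4, 4, 4, 6⟩, ⟨1, 2, 0, 2⟩, ⟨5, 1, 5, 0⟩⟩,
  ⟨⟨6, 6, 3, 6⟩, ⟨6, 1, 6, 4⟩, ⟨0, 5, 0, 6⟩, ⟨5, 0, 6, 0⟩⟩,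
  ⟨⟨4, 0, 3, 6⟩, ⟨0, 3, 6, 4⟩, ⟨6, 6, 1, 3⟩, ⟨6, 1, 3, 6⟩⟩,
  ⟨⟨6, 0, 2, 0⟩, ⟨0, 6, 0, 2⟩, ⟨6, 0, 1, 0⟩, ⟨0, 6, 0, 1⟩⟩,
  ⟨⟨2, 1, 4, 2⟩, ⟨6, 2, 5, 4⟩, ⟨1, 2, 1, 1⟩, ⟨5, 1, 6, 1⟩⟩,
  ⟨⟨3, 5, 5, 4⟩, ⟨5, 4, 4, 2⟩, ⟨3, 5, 2, 2⟩, ⟨5, 4, 2, 5⟩⟩,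
  ⟨⟨3, 0, 6, 0⟩, ⟨0, 4, 0, 1⟩, ⟨3, 2, 4, 4⟩, ⟨2, 4, 4, 3⟩⟩,
  ⟨⟨0, 1, 4, 5⟩, ⟨1, 0, 5, 3⟩, ⟨5, 6, 0, 2⟩, ⟨6, 2, 2, 0⟩⟩,
  ⟨⟨5, 1, 0, 0⟩, ⟨1, 2, 0, 0⟩, ⟨6, 1, 1, 4⟩, ⟨1, 1, 4, 6⟩⟩,
  ⟨⟨5, 1, 0, 2⟩, ⟨6, 5, 5, 0⟩, ⟨6, 3, 3, 6⟩, ⟨4, 6, 1, 3⟩⟩,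
  ⟨⟨2, 3, 1, 6⟩, ⟨4, 2, 1, 1⟩, ⟨4, 0, 2, 2⟩, ⟨0, 4, 5, 2⟩⟩,
  ⟨⟨5, 6, 5, 6⟩, ⟨1, 5, 1, 5⟩, ⟨4, 0, 5, 3⟩, ⟨0, 4, 4, 5⟩⟩,
  ⟨⟨2, 4, 5, 6⟩, ⟨3, 2, 1, 5⟩, ⟨4, 0, 2, 1⟩, ⟨0, 4, 6, 2⟩⟩,
  ⟨⟨6, 3, 0, 6⟩, ⟨4, 6, 1, 0⟩, ⟨5, 6, 2, 4⟩, ⟨1, 5, 3, 2⟩⟩,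
  ⟨⟨3, 3, 2, 5⟩, ⟨4, 3, 2, 2⟩, ⟨2, 3, 1, 2⟩, ⟨4, 2, 5, 1⟩⟩,
  ⟨⟨2, 1, 0, 2⟩, ⟨6, 2, 5, 0⟩, ⟨5, 2, 5, 6⟩, ⟨5, 5, 1, 5⟩⟩,
  ⟨⟨2, 3, 2, 1⟩, ⟨3, 5, 1, 5⟩, ⟨2, 3, 0, 4⟩, ⟨3, 5, 4, 0⟩⟩,
  ⟨⟨5, 6, 3, 5⟩, ⟨1, 5, 2, 3⟩, ⟨6, 5, 6, 6⟩, ⟨2, 6, 1, 6⟩⟩,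
  ⟨⟨0, 4, 2, 6⟩, ⟨4, 0, 6, 5⟩, ⟨2, 4, 5, 3⟩, ⟨4, 5, 3, 2⟩⟩,
  ⟨⟨0, 3, 5, 4⟩, ⟨3, 0, 4, 2⟩, ⟨1, 5, 5, 0⟩, ⟨5, 6, 0, 2⟩⟩,
  ⟨⟨0, 1, 4, 6⟩, ⟨1, 0, 6, 3⟩, ⟨0, 5, 6, 1⟩, ⟨5, 0, 1, 1⟩⟩,
  ⟨⟨1, 3, 4, 2⟩, ⟨4, 1, 5, 4⟩, ⟨5, 3, 6, 4⟩, ⟨4, 5, 3, 6⟩⟩,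
  ⟨⟨6, 4, 0, 0⟩, ⟨4, 1, 0, 0⟩, ⟨6, 6, 2, 1⟩, ⟨6, 1, 1, 5⟩⟩,
  ⟨⟨3, 2, 0, 4⟩, ⟨5, 3, 3, 0⟩, ⟨0, 4, 3, 5⟩, ⟨3, 0, 2, 3⟩⟩,
  ⟨⟨0, 4, 1, 4⟩, ⟨4, 0, 4, 6⟩, ⟨1, 6, 6, 2⟩, ⟨6, 6, 2, 1⟩⟩,
  ⟨⟨0, 6, 3, 5⟩, ⟨1, 0, 2, 3⟩, ⟨0, 6, 3, 6⟩, ⟨1, 0, 1, 3⟩⟩,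
  ⟨⟨3, 2, 5, 6⟩, ⟨5, 3, 1, 5⟩, ⟨2, 5, 4, 5⟩, ⟨2, 2, 2, 4⟩⟩,
  ⟨⟨6, 5, 0, 3⟩, ⟨2, 6, 4, 0⟩, ⟨1, 4, 1, 2⟩, ⟨3, 1, 5, 1⟩⟩,
  ⟨⟨6, 3, 3, 1⟩, ⟨3, 1, 1, 4⟩, ⟨6, 1, 3, 0⟩, ⟨1, 1, 0, 4⟩⟩,
  ⟨⟨3, 6, 1, 6⟩, ⟨1, 3, 1, 1⟩, ⟨3, 2, 4, 1⟩, ⟨5, 3, 6, 4⟩⟩,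
  ⟨⟨3, 5, 3, 5⟩, ⟨2, 3, 2, 3⟩, ⟨1, 4, 5, 2⟩, ⟨3, 1, 5, 5⟩⟩,
  ⟨⟨2, 1, 2, 1⟩, ⟨6, 2, 6, 2⟩, ⟨3, 0, 2, 4⟩, ⟨0, 3, 3, 2⟩⟩,
  ⟨⟨2, 0, 2, 0⟩, ⟨0, 5, 0, 5⟩, ⟨0, 6, 4, 6⟩, ⟨6, 0, 6, 3⟩⟩,
  ⟨⟨5, 4, 5, 6⟩, ⟨4, 2, 6, 2⟩, ⟨5, 4, 0, 3⟩, ⟨4, 2, 3, 0⟩⟩,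
  ⟨⟨3, 3, 2, 1⟩, ⟨4, 3, 6, 2⟩, ⟨2, 6, 1, 6⟩, ⟨1, 2, 1, 1⟩⟩,
  ⟨⟨3, 1, 4, 0⟩, ⟨1, 4, 0, 3⟩, ⟨2, 6, 3, 0⟩, ⟨6, 5, 0, 4⟩⟩,
  ⟨⟨6, 2, 3, 4⟩, ⟨5, 6, 3, 3⟩, ⟨5, 5, 5, 3⟩, ⟨2, 5, 4, 5⟩⟩,
  ⟨⟨5, 3, 1, 0⟩, ⟨3, 2, 0, 6⟩, ⟨5, 6, 1, 2⟩, ⟨6, 2, 2, 6⟩⟩,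
  ⟨⟨0, 3, 6, 3⟩, ⟨3, 0, 3, 1⟩, ⟨6, 1, 1, 5⟩, ⟨1, 1, 5, 6⟩⟩,
  ⟨⟨3, 3, 5, 3⟩, ⟨3, 4, 3, 2⟩, ⟨2, 3, 5, 2⟩, ⟨3, 5, 2, 2⟩⟩,
  ⟨⟨5, 6, 0, 5⟩, ⟨1, 5, 2, 0⟩, ⟨2, 5, 2, 1⟩, ⟨2, 2, 6, 2⟩⟩,
  ⟨⟨3, 5, 0, 3⟩, ⟨2, 3, 4, 0⟩, ⟨0, 3, 3, 2⟩, ⟨4, 0, 5, 3⟩⟩,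
  ⟨⟨5, 0, 4, 0⟩, ⟨0, 5, 0, 4⟩, ⟨2, 6, 6, 2⟩, ⟨1, 2, 5, 6⟩⟩,
  ⟨⟨4, 4, 3, 1⟩, ⟨4, 3, 1, 4⟩, ⟨5, 2, 4, 4⟩, ⟨2, 2, 4, 3⟩⟩,
  ⟨⟨6, 0, 5, 0⟩, ⟨0, 1, 0, 2⟩, ⟨1, 5, 1, 3⟩, ⟨5, 6, 3, 6⟩⟩,
  ⟨⟨1, 3, 3, 3⟩, ⟨4, 1, 4, 3⟩, ⟨3, 1, 5, 4⟩, ⟨6, 3, 3, 5⟩⟩,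
  ⟨⟨4, 3, 3, 3⟩, ⟨4, 4, 4, 3⟩, ⟨4, 2, 3, 4⟩, ⟨5, 4, 3, 3⟩⟩,
  ⟨⟨1, 5, 4, 0⟩, ⟨2, 1, 0, 4⟩, ⟨2, 6, 2, 0⟩, ⟨1, 2, 0, 2⟩⟩,
  ⟨⟨3, 6, 3, 2⟩, ⟨6, 4, 2, 4⟩, ⟨1, 6, 4, 1⟩, ⟨6, 6, 1, 3⟩⟩,
  ⟨⟨3, 6, 4, 2⟩, ⟨1, 3, 5, 4⟩, ⟨0, 1, 0, 6⟩, ⟨6, 0, 1, 0⟩⟩,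
  ⟨⟨4, 6, 4, 2⟩, ⟨6, 3, 2, 3⟩, ⟨6, 6, 3, 1⟩, ⟨6, 1, 1, 4⟩⟩,
  ⟨⟨2, 3, 3, 3⟩, ⟨4, 2, 4, 3⟩, ⟨3, 1, 6, 4⟩, ⟨6, 3, 3, 6⟩⟩,
  ⟨⟨6, 2, 2, 2⟩, ⟨5, 6, 5, 2⟩, ⟨0, 3, 2, 5⟩, ⟨4, 0, 2, 2⟩⟩,
  ⟨⟨5, 2, 2, 2⟩, ⟨5, 5, 5, 2⟩, ⟨0, 3, 1, 5⟩, ⟨4, 0, 2, 1⟩⟩,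
  ⟨⟨3, 2, 2, 2⟩, ⟨5, 3, 5, 2⟩, ⟨6, 2, 4, 5⟩, ⟨5, 6, 2, 4⟩⟩,
  ⟨⟨5, 3, 4, 3⟩, ⟨4, 5, 4, 4⟩, ⟨2, 2, 6, 2⟩, ⟨5, 2, 5, 6⟩⟩,
  ⟨⟨4, 3, 1, 0⟩, ⟨3, 3, 0, 6⟩, ⟨4, 2, 3, 0⟩, ⟨2, 3, 0, 4⟩⟩,
  ⟨⟨1, 3, 0, 0⟩, ⟨3, 6, 0, 0⟩, ⟨1, 1, 5, 6⟩, ⟨1, 6, 6, 2⟩⟩,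
  ⟨⟨6, 4, 3, 5⟩, ⟨3, 6, 2, 3⟩, ⟨2, 4, 1, 3⟩, ⟨3, 2, 4, 1⟩⟩,
  ⟨⟨4, 5, 2, 1⟩, ⟨2, 4, 6, 2⟩, ⟨5, 2, 3, 2⟩, ⟨5, 5, 5, 3⟩⟩,
  ⟨⟨4, 1, 6, 1⟩, ⟨6, 4, 6, 6⟩, ⟨4, 5, 3, 6⟩, ⟨2, 4, 1, 3⟩⟩,
  ⟨⟨3, 0, 4, 1⟩, ⟨0, 4, 1, 3⟩, ⟨1, 1, 6, 4⟩, ⟨1, 6, 4, 1⟩⟩,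
  ⟨⟨1, 0, 5, 0⟩, ⟨0, 1, 0, 5⟩, ⟨1, 0, 6, 0⟩, ⟨0, 1, 0, 6⟩⟩,
  ⟨⟨1, 5, 4, 3⟩, ⟨2, 1, 4, 4⟩, ⟨2, 2, 2, 4⟩, ⟨5, 2, 3, 2⟩⟩]

/-- the inverses of `x - 1` -/
def Il : List Mat := [
  ⟨⟨1, 0, 0, 0⟩, ⟨0, 1, 0, 0⟩, ⟨0, 0, 1, 0⟩, ⟨0, 0, 0, 1⟩⟩,
  ⟨⟨3, 3, 5, 0⟩, ⟨4, 3, 0, 5⟩, ⟨0, 0, 3, 4⟩, ⟨0, 0, 3, 3⟩⟩,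
  ⟨⟨0, 4, 2, 1⟩, ⟨3, 0, 6, 2⟩, ⟨1, 1, 6, 3⟩, ⟨6, 1, 4, 6⟩⟩,
  ⟨⟨6, 3, 6, 0⟩, ⟨3, 0, 0, 1⟩, ⟨6, 0, 0, 3⟩, ⟨0, 1, 3, 6⟩⟩,
  ⟨⟨3, 0, 0, 0⟩, ⟨0, 3, 0, 0⟩, ⟨0, 0, 3, 0⟩, ⟨0, 0, 0, 3⟩⟩,
  ⟨⟨3, 1, 3, 4⟩, ⟨6, 3, 3, 3⟩, ⟨0, 4, 3, 6⟩, ⟨3, 0, 1, 3⟩⟩,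
  ⟨⟨2, 3, 2, 1⟩, ⟨1, 1, 6, 0⟩, ⟨4, 6, 4, 1⟩, ⟨1, 4, 3, 5⟩⟩,
  ⟨⟨5, 1, 5, 2⟩, ⟨6, 5, 5, 5⟩, ⟨0, 3, 1, 6⟩, ⟨4, 0, 1, 1⟩⟩,
  ⟨⟨2, 6, 3, 5⟩, ⟨1, 2, 2, 3⟩, ⟨5, 5, 4, 1⟩, ⟨2, 5, 6, 4⟩⟩,
  ⟨⟨2, 1, 5, 1⟩, ⟨0, 0, 6, 0⟩, ⟨3, 1, 4, 0⟩, ⟨6, 3, 1, 6⟩⟩,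
  ⟨⟨4, 4, 5, 6⟩, ⟨6, 5, 1, 0⟩, ⟨3, 1, 2, 6⟩, ⟨6, 3, 4, 1⟩⟩,
  ⟨⟨0, 4, 2, 0⟩, ⟨0, 4, 0, 4⟩, ⟨3, 6, 6, 0⟩, ⟨1, 0, 4, 2⟩⟩,
  ⟨⟨3, 4, 2, 0⟩, ⟨3, 3, 0, 2⟩, ⟨0, 0, 3, 3⟩, ⟨0, 0, 4, 3⟩⟩,
  ⟨⟨4, 1, 4, 2⟩, ⟨6, 4, 5, 4⟩, ⟨2, 2, 2, 6⟩, ⟨5, 2, 1, 2⟩⟩,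
  ⟨⟨0, 4, 1, 0⟩, ⟨4, 6, 0, 6⟩, ⟨1, 0, 6, 4⟩, ⟨0, 6, 4, 0⟩⟩,
  ⟨⟨5, 0, 0, 0⟩, ⟨0, 5, 0, 0⟩, ⟨5, 5, 1, 0⟩, ⟨2, 5, 0, 1⟩⟩,
  ⟨⟨1, 6, 2, 5⟩, ⟨1, 1, 2, 2⟩, ⟨0, 4, 5, 1⟩, ⟨3, 0, 6, 5⟩⟩,
  ⟨⟨3, 1, 3, 5⟩, ⟨3, 1, 2, 4⟩, ⟨6, 4, 3, 3⟩, ⟨3, 3, 1, 5⟩⟩,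
  ⟨⟨6, 6, 2, 0⟩, ⟨6, 0, 0, 5⟩, ⟨1, 0, 0, 6⟩, ⟨0, 6, 6, 6⟩⟩,
  ⟨⟨0, 0, 3, 6⟩, ⟨1, 4, 1, 4⟩, ⟨0, 6, 6, 1⟩, ⟨1, 2, 0, 2⟩⟩,
  ⟨⟨4, 5, 1, 2⟩, ⟨2, 4, 5, 1⟩, ⟨5, 6, 2, 2⟩, ⟨1, 5, 5, 2⟩⟩,
  ⟨⟨0, 5, 3, 6⟩, ⟨1, 5, 1, 0⟩, ⟨1, 2, 6, 1⟩, ⟨5, 1, 5, 1⟩⟩,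
  ⟨⟨3, 6, 4, 3⟩, ⟨1, 3, 4, 4⟩, ⟨0, 3, 3, 1⟩, ⟨4, 0, 6, 3⟩⟩,
  ⟨⟨6, 3, 5, 0⟩, ⟨0, 2, 0, 3⟩, ⟨4, 1, 0, 0⟩, ⟨6, 0, 3, 4⟩⟩,
  ⟨⟨3, 1, 2, 2⟩, ⟨4, 5, 5, 6⟩, ⟨4, 3, 3, 4⟩, ⟨4, 1, 1, 1⟩⟩,
  ⟨⟨4, 1, 1, 2⟩, ⟨2, 4, 5, 0⟩, ⟨0, 1, 2, 2⟩, ⟨6, 4, 1, 2⟩⟩,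
  ⟨⟨6, 1, 2, 1⟩, ⟨0, 3, 6, 5⟩, ⟨2, 1, 0, 0⟩, ⟨6, 2, 1, 3⟩⟩,
  ⟨⟨6, 3, 2, 5⟩, ⟨4, 6, 2, 2⟩, ⟨4, 2, 0, 4⟩, ⟨5, 4, 3, 0⟩⟩,
  ⟨⟨0, 6, 2, 4⟩, ⟨1, 3, 3, 0⟩, ⟨5, 1, 6, 1⟩, ⟨6, 0, 6, 3⟩⟩,
  ⟨⟨4, 6, 2, 6⟩, ⟨0, 6, 1, 0⟩, ⟨4, 6, 2, 0⟩, ⟨1, 4, 6, 0⟩⟩,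
  ⟨⟨0, 3, 2, 1⟩, ⟨4, 0, 6, 2⟩, ⟨1, 5, 6, 4⟩, ⟨2, 1, 3, 6⟩⟩,
  ⟨⟨0, 6, 6, 5⟩, ⟨1, 0, 2, 6⟩, ⟨2, 3, 6, 1⟩, ⟨4, 2, 6, 6⟩⟩,
  ⟨⟨1, 6, 0, 1⟩, ⟨4, 2, 6, 2⟩, ⟨4, 6, 5, 4⟩, ⟨1, 4, 6, 4⟩⟩,
  ⟨⟨5, 5, 3, 6⟩, ⟨2, 5, 1, 3⟩, ⟨5, 4, 1, 2⟩, ⟨3, 5, 5, 1⟩⟩,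
  ⟨⟨6, 3, 5, 6⟩, ⟨4, 6, 1, 5⟩, ⟨6, 6, 0, 4⟩, ⟨1, 6, 3, 0⟩⟩,
  ⟨⟨0, 0, 0, 1⟩, ⟨6, 2, 6, 5⟩, ⟨3, 1, 6, 6⟩, ⟨6, 3, 0, 4⟩⟩,
  ⟨⟨5, 1, 0, 6⟩, ⟨3, 4, 1, 5⟩, ⟨3, 1, 1, 3⟩, ⟨6, 3, 1, 2⟩⟩,
  ⟨⟨4, 0, 4, 0⟩, ⟨3, 0, 0, 2⟩, ⟨0, 6, 2, 3⟩, ⟨1, 3, 0, 6⟩⟩,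
  ⟨⟨5, 0, 1, 1⟩, ⟨0, 5, 6, 1⟩, ⟨1, 0, 1, 0⟩, ⟨0, 1, 0, 1⟩⟩,
  ⟨⟨1, 5, 3, 0⟩, ⟨5, 5, 0, 4⟩, ⟨6, 0, 5, 5⟩, ⟨0, 1, 5, 1⟩⟩,
  ⟨⟨2, 0, 0, 0⟩, ⟨0, 2, 0, 0⟩, ⟨1, 1, 4, 0⟩, ⟨6, 1, 0, 4⟩⟩,
  ⟨⟨3, 1, 0, 3⟩, ⟨6, 6, 4, 5⟩, ⟨0, 6, 3, 6⟩, ⟨1, 2, 1, 0⟩⟩,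
  ⟨⟨6, 3, 4, 6⟩, ⟨5, 4, 1, 1⟩, ⟨4, 6, 0, 5⟩, ⟨1, 4, 3, 2⟩⟩,
  ⟨⟨0, 4, 2, 4⟩, ⟨0, 5, 3, 5⟩, ⟨3, 0, 6, 0⟩, ⟨0, 5, 4, 1⟩⟩,
  ⟨⟨4, 0, 2, 0⟩, ⟨0, 2, 0, 5⟩, ⟨2, 0, 2, 0⟩, ⟨0, 5, 0, 4⟩⟩,
  ⟨⟨5, 1, 1, 1⟩, ⟨6, 5, 6, 1⟩, ⟨4, 6, 1, 6⟩, ⟨1, 4, 1, 1⟩⟩,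
  ⟨⟨3, 4, 2, 3⟩, ⟨5, 0, 4, 4⟩, ⟨4, 1, 3, 5⟩, ⟨6, 0, 4, 6⟩⟩,
  ⟨⟨1, 4, 1, 5⟩, ⟨1, 3, 2, 5⟩, ⟨6, 4, 5, 1⟩, ⟨3, 3, 4, 3⟩⟩,
  ⟨⟨5, 2, 0, 4⟩, ⟨5, 5, 3, 0⟩, ⟨5, 6, 1, 5⟩, ⟨1, 5, 2, 1⟩⟩,
  ⟨⟨5, 3, 4, 4⟩, ⟨4, 5, 3, 4⟩, ⟨6, 0, 1, 4⟩, ⟨0, 6, 3, 1⟩⟩,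
  ⟨⟨1, 4, 4, 4⟩, ⟨3, 1, 3, 4⟩, ⟨5, 6, 5, 3⟩, ⟨1, 5, 4, 5⟩⟩,
  ⟨⟨3, 0, 6, 0⟩, ⟨6, 3, 0, 5⟩, ⟨2, 0, 3, 6⟩, ⟨0, 5, 0, 3⟩⟩,
  ⟨⟨5, 6, 0, 0⟩, ⟨6, 1, 0, 0⟩, ⟨6, 0, 1, 6⟩, ⟨0, 1, 6, 5⟩⟩,
  ⟨⟨6, 1, 4, 2⟩, ⟨4, 4, 5, 0⟩, ⟨2, 3, 0, 4⟩, ⟨4, 5, 1, 2⟩⟩,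
  ⟨⟨6, 2, 0, 4⟩, ⟨5, 6, 3, 0⟩, ⟨4, 0, 0, 5⟩, ⟨0, 4, 2, 0⟩⟩,
  ⟨⟨3, 0, 2, 6⟩, ⟨1, 0, 1, 5⟩, ⟨5, 6, 3, 1⟩, ⟨1, 5, 0, 6⟩⟩,
  ⟨⟨2, 1, 3, 1⟩, ⟨0, 6, 6, 4⟩, ⟨5, 1, 4, 0⟩, ⟨6, 0, 1, 0⟩⟩,
  ⟨⟨4, 5, 6, 0⟩, ⟨5, 2, 0, 1⟩, ⟨0, 0, 2, 5⟩, ⟨0, 0, 5, 4⟩⟩,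
  ⟨⟨5, 1, 1, 5⟩, ⟨5, 5, 2, 2⟩, ⟨0, 1, 1, 5⟩, ⟨6, 4, 1, 1⟩⟩,
  ⟨⟨1, 3, 6, 3⟩, ⟨4, 1, 4, 6⟩, ⟨2, 1, 5, 4⟩, ⟨6, 2, 3, 5⟩⟩,
  ⟨⟨5, 2, 3, 0⟩, ⟨2, 0, 0, 6⟩, ⟨2, 0, 1, 2⟩, ⟨0, 4, 2, 6⟩⟩,
  ⟨⟨6, 4, 6, 0⟩, ⟨4, 0, 0, 1⟩, ⟨6, 0, 0, 4⟩, ⟨0, 1, 4, 6⟩⟩,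
  ⟨⟨1, 4, 6, 1⟩, ⟨3, 1, 6, 6⟩, ⟨3, 1, 5, 3⟩, ⟨6, 3, 4, 5⟩⟩,
  ⟨⟨2, 6, 5, 0⟩, ⟨6, 4, 0, 2⟩, ⟨2, 0, 4, 6⟩, ⟨0, 5, 6, 2⟩⟩,
  ⟨⟨1, 1, 0, 1⟩, ⟨5, 6, 6, 4⟩, ⟨6, 5, 5, 5⟩, ⟨2, 6, 1, 0⟩⟩,
  ⟨⟨6, 5, 4, 5⟩, ⟨2, 6, 2, 4⟩, ⟨5, 4, 0, 2⟩, ⟨3, 5, 5, 0⟩⟩,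
  ⟨⟨1, 6, 6, 6⟩, ⟨1, 1, 1, 6⟩, ⟨3, 1, 5, 1⟩, ⟨6, 3, 6, 5⟩⟩,
  ⟨⟨0, 6, 0, 5⟩, ⟨1, 0, 2, 0⟩, ⟨3, 5, 6, 1⟩, ⟨2, 3, 6, 6⟩⟩,
  ⟨⟨2, 3, 4, 5⟩, ⟨4, 3, 2, 0⟩, ⟨1, 2, 4, 4⟩, ⟨5, 0, 3, 3⟩⟩,
  ⟨⟨2, 6, 1, 3⟩, ⟨1, 2, 4, 1⟩, ⟨3, 4, 4, 1⟩, ⟨3, 3, 6, 4⟩⟩,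
  ⟨⟨5, 3, 3, 2⟩, ⟨1, 3, 5, 4⟩, ⟨4, 3, 1, 1⟩, ⟨4, 1, 3, 3⟩⟩,
  ⟨⟨1, 2, 6, 3⟩, ⟨5, 1, 4, 6⟩, ⟨3, 1, 5, 5⟩, ⟨6, 3, 2, 5⟩⟩,
  ⟨⟨2, 2, 3, 0⟩, ⟨5, 2, 0, 3⟩, ⟨5, 6, 4, 5⟩, ⟨1, 5, 2, 4⟩⟩,
  ⟨⟨4, 0, 0, 0⟩, ⟨0, 4, 0, 0⟩, ⟨6, 6, 2, 0⟩, ⟨1, 6, 0, 2⟩⟩,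
  ⟨⟨1, 2, 4, 1⟩, ⟨5, 1, 6, 4⟩, ⟨2, 3, 5, 5⟩, ⟨4, 2, 2, 5⟩⟩,
  ⟨⟨1, 4, 4, 5⟩, ⟨6, 3, 2, 3⟩, ⟨3, 4, 5, 6⟩, ⟨3, 6, 4, 3⟩⟩,
  ⟨⟨0, 1, 5, 0⟩, ⟨1, 6, 0, 2⟩, ⟨6, 0, 6, 1⟩, ⟨0, 1, 1, 0⟩⟩,
  ⟨⟨4, 6, 4, 6⟩, ⟨0, 0, 1, 3⟩, ⟨2, 6, 2, 0⟩, ⟨1, 0, 6, 6⟩⟩,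
  ⟨⟨1, 5, 0, 1⟩, ⟨2, 1, 6, 0⟩, ⟨5, 2, 5, 2⟩, ⟨5, 5, 5, 5⟩⟩,
  ⟨⟨5, 6, 0, 6⟩, ⟨2, 0, 1, 3⟩, ⟨1, 2, 1, 2⟩, ⟨5, 1, 6, 6⟩⟩,
  ⟨⟨6, 1, 1, 2⟩, ⟨6, 6, 5, 1⟩, ⟨5, 4, 0, 6⟩, ⟨3, 5, 1, 0⟩⟩,
  ⟨⟨2, 0, 3, 0⟩, ⟨4, 6, 0, 5⟩, ⟨0, 1, 4, 4⟩, ⟨6, 4, 0, 0⟩⟩,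
  ⟨⟨5, 3, 6, 2⟩, ⟨6, 3, 5, 2⟩, ⟨1, 3, 1, 6⟩, ⟨4, 4, 3, 3⟩⟩,
  ⟨⟨4, 5, 0, 2⟩, ⟨6, 4, 5, 1⟩, ⟨4, 1, 2, 6⟩, ⟨6, 0, 5, 2⟩⟩,
  ⟨⟨3, 0, 5, 1⟩, ⟨6, 6, 6, 2⟩, ⟨2, 1, 3, 6⟩, ⟨6, 2, 0, 0⟩⟩,
  ⟨⟨0, 4, 5, 2⟩, ⟨3, 0, 5, 5⟩, ⟨3, 5, 6, 3⟩, ⟨2, 3, 4, 6⟩⟩,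
  ⟨⟨3, 6, 0, 4⟩, ⟨1, 0, 3, 2⟩, ⟨0, 1, 3, 1⟩, ⟨6, 5, 6, 6⟩⟩,
  ⟨⟨6, 0, 0, 6⟩, ⟨1, 4, 1, 2⟩, ⟨4, 6, 0, 1⟩, ⟨1, 4, 0, 2⟩⟩,
  ⟨⟨5, 5, 1, 4⟩, ⟨2, 5, 3, 1⟩, ⟨4, 6, 1, 2⟩, ⟨1, 4, 5, 1⟩⟩,
  ⟨⟨2, 6, 2, 4⟩, ⟨1, 2, 3, 2⟩, ⟨2, 5, 4, 1⟩, ⟨2, 2, 6, 4⟩⟩,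
  ⟨⟨6, 6, 4, 1⟩, ⟨1, 6, 6, 4⟩, ⟨3, 2, 0, 1⟩, ⟨5, 3, 6, 0⟩⟩,
  ⟨⟨3, 0, 1, 0⟩, ⟨1, 3, 0, 2⟩, ⟨5, 0, 3, 1⟩, ⟨0, 2, 0, 3⟩⟩,
  ⟨⟨2, 6, 4, 6⟩, ⟨0, 3, 1, 6⟩, ⟨4, 6, 4, 0⟩, ⟨1, 1, 6, 3⟩⟩,
  ⟨⟨6, 4, 5, 3⟩, ⟨3, 6, 4, 5⟩, ⟨2, 2, 0, 3⟩, ⟨5, 2, 4, 0⟩⟩,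
  ⟨⟨4, 1, 2, 0⟩, ⟨1, 2, 0, 5⟩, ⟨5, 0, 2, 1⟩, ⟨0, 2, 1, 4⟩⟩,
  ⟨⟨3, 3, 5, 4⟩, ⟨2, 6, 3, 3⟩, ⟨3, 6, 3, 2⟩, ⟨1, 0, 3, 0⟩⟩,
  ⟨⟨1, 6, 3, 0⟩, ⟨6, 5, 0, 4⟩, ⟨0, 0, 5, 6⟩, ⟨0, 0, 6, 1⟩⟩,
  ⟨⟨6, 3, 5, 3⟩, ⟨0, 1, 4, 2⟩, ⟨4, 0, 0, 0⟩, ⟨0, 2, 3, 5⟩⟩,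
  ⟨⟨1, 3, 3, 3⟩, ⟨4, 1, 4, 3⟩, ⟨3, 1, 5, 4⟩, ⟨6, 3, 3, 5⟩⟩,
  ⟨⟨1, 6, 6, 2⟩, ⟨2, 1, 5, 5⟩, ⟨0, 6, 5, 2⟩, ⟨1, 3, 6, 5⟩⟩,
  ⟨⟨2, 5, 0, 4⟩, ⟨4, 1, 3, 6⟩, ⟨2, 6, 4, 4⟩, ⟨1, 2, 5, 5⟩⟩,
  ⟨⟨1, 1, 0, 0⟩, ⟨1, 5, 0, 0⟩, ⟨1, 0, 5, 1⟩, ⟨0, 6, 1, 1⟩⟩,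
  ⟨⟨3, 2, 0, 4⟩, ⟨5, 3, 3, 0⟩, ⟨0, 4, 3, 5⟩, ⟨3, 0, 2, 3⟩⟩,
  ⟨⟨6, 6, 0, 5⟩, ⟨1, 6, 2, 0⟩, ⟨4, 2, 0, 1⟩, ⟨5, 4, 6, 0⟩⟩,
  ⟨⟨5, 3, 1, 6⟩, ⟨4, 5, 1, 1⟩, ⟨4, 6, 1, 4⟩, ⟨1, 4, 3, 1⟩⟩,
  ⟨⟨0, 4, 1, 4⟩, ⟨3, 3, 3, 0⟩, ⟨1, 6, 6, 3⟩, ⟨1, 0, 4, 3⟩⟩,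
  ⟨⟨5, 5, 5, 5⟩, ⟨2, 5, 2, 5⟩, ⟨2, 1, 1, 2⟩, ⟨6, 2, 5, 1⟩⟩,
  ⟨⟨0, 4, 3, 1⟩, ⟨2, 2, 6, 6⟩, ⟨3, 1, 6, 2⟩, ⟨6, 3, 4, 4⟩⟩,
  ⟨⟨5, 4, 1, 4⟩, ⟨3, 5, 3, 1⟩, ⟨5, 6, 1, 3⟩, ⟨1, 5, 4, 1⟩⟩,
  ⟨⟨3, 4, 0, 3⟩, ⟨3, 3, 4, 0⟩, ⟨2, 0, 3, 3⟩, ⟨0, 2, 4, 3⟩⟩,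
  ⟨⟨6, 1, 6, 1⟩, ⟨6, 6, 6, 6⟩, ⟨5, 6, 0, 6⟩, ⟨1, 5, 1, 0⟩⟩,
  ⟨⟨0, 1, 3, 6⟩, ⟨6, 0, 1, 3⟩, ⟨4, 5, 6, 6⟩, ⟨2, 4, 1, 6⟩⟩,
  ⟨⟨6, 0, 3, 0⟩, ⟨0, 0, 0, 4⟩, ⟨1, 0, 0, 0⟩, ⟨0, 6, 0, 6⟩⟩,
  ⟨⟨4, 3, 4, 2⟩, ⟨4, 4, 5, 4⟩, ⟨2, 1, 2, 4⟩, ⟨6, 2, 3, 2⟩⟩,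
  ⟨⟨6, 5, 0, 0⟩, ⟨5, 5, 0, 0⟩, ⟨6, 1, 0, 5⟩, ⟨6, 3, 5, 1⟩⟩,
  ⟨⟨2, 5, 6, 3⟩, ⟨2, 4, 4, 1⟩, ⟨2, 3, 4, 2⟩, ⟨4, 5, 5, 2⟩⟩,
  ⟨⟨0, 3, 2, 4⟩, ⟨4, 0, 3, 2⟩, ⟨5, 5, 6, 4⟩, ⟨2, 5, 3, 6⟩⟩,
  ⟨⟨5, 2, 0, 6⟩, ⟨5, 5, 1, 0⟩, ⟨2, 5, 1, 5⟩, ⟨2, 2, 2, 1⟩⟩,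
  ⟨⟨3, 3, 6, 2⟩, ⟨1, 4, 5, 1⟩, ⟨6, 5, 3, 1⟩, ⟨2, 0, 3, 2⟩⟩,
  ⟨⟨2, 0, 5, 0⟩, ⟨0, 4, 0, 2⟩, ⟨5, 0, 4, 0⟩, ⟨0, 2, 0, 2⟩⟩,
  ⟨⟨3, 3, 4, 4⟩, ⟨0, 0, 3, 5⟩, ⟨1, 6, 3, 0⟩, ⟨1, 0, 3, 6⟩⟩,
  ⟨⟨3, 4, 3, 3⟩, ⟨0, 6, 4, 2⟩, ⟨6, 1, 3, 0⟩, ⟨6, 0, 4, 0⟩⟩,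
  ⟨⟨6, 1, 0, 2⟩, ⟨6, 6, 5, 0⟩, ⟨4, 2, 0, 6⟩, ⟨5, 4, 1, 0⟩⟩,
  ⟨⟨5, 1, 4, 0⟩, ⟨1, 1, 0, 3⟩, ⟨0, 0, 1, 1⟩, ⟨0, 0, 1, 5⟩⟩,
  ⟨⟨2, 2, 0, 5⟩, ⟨1, 2, 2, 6⟩, ⟨3, 6, 4, 1⟩, ⟨1, 0, 2, 4⟩⟩,
  ⟨⟨1, 5, 4, 0⟩, ⟨5, 6, 0, 1⟩, ⟨5, 0, 5, 5⟩, ⟨0, 3, 5, 0⟩⟩,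
  ⟨⟨4, 2, 1, 4⟩, ⟨5, 2, 3, 6⟩, ⟨5, 4, 2, 5⟩, ⟨3, 2, 2, 4⟩⟩,
  ⟨⟨0, 1, 1, 1⟩, ⟨6, 0, 6, 1⟩, ⟨1, 5, 6, 6⟩, ⟨2, 1, 1, 6⟩⟩,
  ⟨⟨6, 3, 3, 3⟩, ⟨4, 6, 4, 3⟩, ⟨0, 1, 0, 4⟩, ⟨6, 0, 3, 0⟩⟩,
  ⟨⟨1, 6, 5, 5⟩, ⟨1, 1, 2, 5⟩, ⟨2, 3, 5, 1⟩, ⟨4, 2, 6, 5⟩⟩,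
  ⟨⟨4, 2, 0, 3⟩, ⟨3, 5, 4, 1⟩, ⟨5, 1, 2, 3⟩, ⟨6, 5, 2, 1⟩⟩,
  ⟨⟨3, 5, 0, 3⟩, ⟨2, 3, 4, 0⟩, ⟨0, 3, 3, 2⟩, ⟨4, 0, 5, 3⟩⟩,
  ⟨⟨4, 4, 3, 2⟩, ⟨3, 3, 5, 0⟩, ⟨6, 5, 2, 3⟩, ⟨2, 0, 4, 3⟩⟩,
  ⟨⟨5, 2, 4, 0⟩, ⟨2, 1, 0, 3⟩, ⟨1, 0, 1, 2⟩, ⟨0, 6, 2, 5⟩⟩,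
  ⟨⟨4, 1, 6, 4⟩, ⟨6, 4, 3, 6⟩, ⟨4, 3, 2, 6⟩, ⟨4, 4, 1, 2⟩⟩,
  ⟨⟨5, 2, 2, 2⟩, ⟨5, 5, 5, 2⟩, ⟨0, 3, 1, 5⟩, ⟨4, 0, 2, 1⟩⟩,
  ⟨⟨2, 2, 1, 0⟩, ⟨2, 4, 0, 6⟩, ⟨0, 0, 4, 2⟩, ⟨0, 0, 2, 2⟩⟩,
  ⟨⟨1, 1, 1, 1⟩, ⟨6, 1, 6, 1⟩, ⟨3, 1, 5, 6⟩, ⟨6, 3, 1, 5⟩⟩,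
  ⟨⟨5, 0, 5, 4⟩, ⟨3, 0, 3, 2⟩, ⟨5, 0, 1, 3⟩, ⟨0, 3, 0, 6⟩⟩,
  ⟨⟨6, 0, 2, 3⟩, ⟨3, 3, 4, 3⟩, ⟨0, 1, 0, 3⟩, ⟨6, 6, 0, 3⟩⟩,
  ⟨⟨0, 0, 4, 0⟩, ⟨0, 6, 0, 3⟩, ⟨6, 0, 6, 0⟩, ⟨0, 1, 0, 0⟩⟩,
  ⟨⟨1, 0, 6, 6⟩, ⟨0, 1, 1, 6⟩, ⟨6, 0, 5, 0⟩, ⟨0, 6, 0, 5⟩⟩,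
  ⟨⟨2, 4, 3, 5⟩, ⟨3, 2, 2, 3⟩, ⟨5, 6, 4, 3⟩, ⟨1, 5, 4, 4⟩⟩,
  ⟨⟨5, 6, 5, 1⟩, ⟨1, 5, 6, 5⟩, ⟨3, 6, 1, 1⟩, ⟨1, 3, 6, 1⟩⟩,
  ⟨⟨3, 4, 1, 5⟩, ⟨6, 2, 2, 6⟩, ⟨1, 2, 3, 6⟩, ⟨5, 0, 4, 4⟩⟩,
  ⟨⟨0, 2, 3, 2⟩, ⟨5, 0, 5, 3⟩, ⟨2, 3, 6, 5⟩, ⟨4, 2, 2, 6⟩⟩,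
  ⟨⟨1, 5, 0, 3⟩, ⟨2, 1, 4, 0⟩, ⟨2, 1, 5, 2⟩, ⟨6, 2, 5, 5⟩⟩,
  ⟨⟨3, 3, 0, 4⟩, ⟨4, 3, 3, 0⟩, ⟨5, 0, 3, 4⟩, ⟨0, 5, 3, 3⟩⟩,
  ⟨⟨0, 2, 1, 3⟩, ⟨5, 0, 4, 1⟩, ⟨2, 1, 6, 5⟩, ⟨6, 2, 2, 6⟩⟩,
  ⟨⟨1, 0, 0, 0⟩, ⟨0, 1, 0, 0⟩, ⟨2, 2, 5, 0⟩, ⟨5, 2, 0, 5⟩⟩,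
  ⟨⟨6, 1, 5, 3⟩, ⟨6, 3, 4, 0⟩, ⟨2, 6, 0, 6⟩, ⟨1, 0, 1, 3⟩⟩,
  ⟨⟨4, 2, 1, 6⟩, ⟨4, 6, 1, 4⟩, ⟨4, 6, 2, 4⟩, ⟨1, 4, 2, 0⟩⟩,
  ⟨⟨0, 2, 2, 2⟩, ⟨5, 0, 5, 2⟩, ⟨1, 5, 6, 5⟩, ⟨2, 1, 2, 6⟩⟩,
  ⟨⟨0, 2, 4, 3⟩, ⟨3, 3, 4, 2⟩, ⟨0, 1, 6, 3⟩, ⟨6, 4, 2, 3⟩⟩,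
  ⟨⟨3, 6, 5, 5⟩, ⟨3, 1, 2, 1⟩, ⟨3, 4, 3, 3⟩, ⟨3, 6, 6, 5⟩⟩,
  ⟨⟨4, 1, 0, 2⟩, ⟨6, 4, 5, 0⟩, ⟨6, 3, 2, 6⟩, ⟨4, 6, 1, 2⟩⟩,
  ⟨⟨4, 1, 4, 5⟩, ⟨6, 4, 2, 4⟩, ⟨5, 6, 2, 6⟩, ⟨1, 5, 1, 2⟩⟩,
  ⟨⟨5, 3, 3, 3⟩, ⟨4, 5, 4, 3⟩, ⟨2, 1, 1, 4⟩, ⟨6, 2, 3, 1⟩⟩,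
  ⟨⟨3, 1, 5, 0⟩, ⟨0, 3, 0, 6⟩, ⟨5, 0, 3, 0⟩, ⟨0, 2, 1, 3⟩⟩,
  ⟨⟨4, 3, 0, 2⟩, ⟨6, 6, 5, 4⟩, ⟨5, 3, 2, 6⟩, ⟨4, 2, 3, 0⟩⟩,
  ⟨⟨0, 5, 0, 3⟩, ⟨2, 0, 4, 0⟩, ⟨3, 0, 6, 2⟩, ⟨0, 3, 5, 6⟩⟩,
  ⟨⟨0, 6, 5, 6⟩, ⟨0, 3, 1, 2⟩, ⟨5, 6, 6, 0⟩, ⟨1, 5, 6, 3⟩⟩,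
  ⟨⟨6, 0, 4, 1⟩, ⟨6, 2, 6, 3⟩, ⟨0, 1, 0, 6⟩, ⟨6, 5, 0, 4⟩⟩,
  ⟨⟨5, 2, 2, 5⟩, ⟨6, 5, 2, 1⟩, ⟨4, 1, 1, 6⟩, ⟨6, 0, 2, 1⟩⟩,
  ⟨⟨2, 5, 3, 5⟩, ⟨2, 2, 2, 3⟩, ⟨1, 4, 4, 2⟩, ⟨3, 1, 5, 4⟩⟩,
  ⟨⟨0, 5, 6, 0⟩, ⟨5, 5, 0, 3⟩, ⟨4, 0, 6, 5⟩, ⟨0, 2, 5, 1⟩⟩,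
  ⟨⟨0, 3, 1, 0⟩, ⟨3, 6, 0, 6⟩, ⟨1, 0, 6, 3⟩, ⟨0, 6, 3, 0⟩⟩,
  ⟨⟨6, 2, 4, 1⟩, ⟨6, 1, 6, 0⟩, ⟨6, 5, 0, 6⟩, ⟨2, 6, 2, 5⟩⟩,
  ⟨⟨4, 6, 3, 0⟩, ⟨1, 4, 0, 3⟩, ⟨6, 6, 2, 1⟩, ⟨1, 6, 6, 2⟩⟩,
  ⟨⟨6, 5, 5, 5⟩, ⟨2, 6, 2, 5⟩, ⟨6, 2, 0, 2⟩, ⟨5, 6, 5, 0⟩⟩,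
  ⟨⟨5, 3, 0, 6⟩, ⟨4, 5, 1, 0⟩, ⟨5, 6, 1, 4⟩, ⟨1, 5, 3, 1⟩⟩,
  ⟨⟨3, 3, 0, 5⟩, ⟨4, 2, 2, 4⟩, ⟨0, 2, 3, 4⟩, ⟨5, 1, 3, 4⟩⟩,
  ⟨⟨2, 4, 6, 0⟩, ⟨3, 2, 0, 6⟩, ⟨2, 4, 4, 3⟩, ⟨3, 2, 4, 4⟩⟩,
  ⟨⟨3, 6, 4, 2⟩, ⟨4, 5, 5, 3⟩, ⟨1, 3, 3, 4⟩, ⟨4, 4, 6, 1⟩⟩,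
  ⟨⟨6, 4, 5, 6⟩, ⟨3, 6, 1, 5⟩, ⟨6, 2, 0, 3⟩, ⟨5, 6, 4, 0⟩⟩,
  ⟨⟨4, 5, 4, 0⟩, ⟨2, 4, 0, 4⟩, ⟨2, 1, 2, 2⟩, ⟨6, 2, 5, 2⟩⟩,
  ⟨⟨6, 5, 6, 4⟩, ⟨2, 6, 3, 6⟩, ⟨5, 6, 0, 2⟩, ⟨1, 5, 5, 0⟩⟩,
  ⟨⟨5, 4, 1, 3⟩, ⟨5, 4, 4, 0⟩, ⟨5, 1, 1, 5⟩, ⟨6, 5, 4, 2⟩⟩,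
  ⟨⟨4, 1, 3, 1⟩, ⟨0, 3, 6, 1⟩, ⟨3, 1, 2, 0⟩, ⟨6, 6, 1, 3⟩⟩,
  ⟨⟨0, 0, 6, 0⟩, ⟨0, 0, 0, 6⟩, ⟨4, 0, 6, 0⟩, ⟨0, 4, 0, 6⟩⟩,
  ⟨⟨1, 4, 3, 3⟩, ⟨3, 1, 4, 3⟩, ⟨1, 0, 5, 3⟩, ⟨0, 1, 4, 5⟩⟩,
  ⟨⟨3, 4, 0, 2⟩, ⟨3, 4, 5, 3⟩, ⟨0, 5, 3, 3⟩, ⟨2, 6, 4, 2⟩⟩,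
  ⟨⟨4, 6, 1, 2⟩, ⟨4, 3, 5, 6⟩, ⟨0, 5, 2, 4⟩, ⟨2, 6, 6, 3⟩⟩,
  ⟨⟨2, 6, 6, 5⟩, ⟨5, 2, 2, 0⟩, ⟨0, 6, 4, 5⟩, ⟨1, 3, 6, 4⟩⟩,
  ⟨⟨5, 2, 0, 0⟩, ⟨2, 6, 0, 0⟩, ⟨3, 1, 1, 2⟩, ⟨6, 6, 2, 0⟩⟩,
  ⟨⟨2, 6, 0, 5⟩, ⟨1, 2, 2, 0⟩, ⟨1, 4, 4, 1⟩, ⟨3, 1, 6, 4⟩⟩,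
  ⟨⟨2, 1, 4, 0⟩, ⟨6, 2, 0, 4⟩, ⟨1, 1, 4, 6⟩, ⟨6, 1, 1, 4⟩⟩,
  ⟨⟨5, 1, 2, 2⟩, ⟨6, 5, 5, 2⟩, ⟨5, 4, 1, 6⟩, ⟨3, 5, 1, 1⟩⟩,
  ⟨⟨0, 3, 5, 1⟩, ⟨4, 0, 6, 5⟩, ⟨1, 1, 6, 4⟩, ⟨6, 1, 3, 6⟩⟩,
  ⟨⟨1, 4, 0, 1⟩, ⟨3, 1, 6, 0⟩, ⟨2, 1, 5, 3⟩, ⟨6, 2, 4, 5⟩⟩,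
  ⟨⟨4, 3, 1, 0⟩, ⟨4, 4, 0, 1⟩, ⟨5, 3, 2, 4⟩, ⟨4, 5, 3, 2⟩⟩,
  ⟨⟨2, 3, 0, 6⟩, ⟨4, 2, 1, 0⟩, ⟨1, 6, 4, 4⟩, ⟨1, 1, 3, 4⟩⟩,
  ⟨⟨6, 3, 6, 3⟩, ⟨4, 3, 4, 0⟩, ⟨6, 1, 0, 4⟩, ⟨6, 0, 3, 3⟩⟩,
  ⟨⟨2, 6, 3, 2⟩, ⟨1, 2, 5, 3⟩, ⟨2, 1, 4, 1⟩, ⟨6, 2, 6, 4⟩⟩,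
  ⟨⟨3, 4, 0, 4⟩, ⟨3, 0, 3, 1⟩, ⟨0, 6, 3, 3⟩, ⟨1, 1, 4, 6⟩⟩,
  ⟨⟨6, 2, 1, 0⟩, ⟨2, 1, 0, 4⟩, ⟨3, 0, 0, 2⟩, ⟨0, 5, 2, 5⟩⟩,
  ⟨⟨1, 3, 6, 4⟩, ⟨2, 2, 3, 0⟩, ⟨2, 6, 5, 2⟩, ⟨1, 2, 3, 4⟩⟩,
  ⟨⟨6, 2, 5, 6⟩, ⟨5, 6, 1, 5⟩, ⟨1, 2, 0, 5⟩, ⟨5, 1, 2, 0⟩⟩,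
  ⟨⟨0, 2, 0, 0⟩, ⟨2, 1, 0, 0⟩, ⟨1, 6, 6, 2⟩, ⟨1, 4, 2, 5⟩⟩,
  ⟨⟨3, 4, 0, 1⟩, ⟨3, 3, 6, 0⟩, ⟨0, 1, 3, 3⟩, ⟨6, 0, 4, 3⟩⟩,
  ⟨⟨0, 6, 3, 5⟩, ⟨3, 2, 2, 0⟩, ⟨5, 4, 6, 3⟩, ⟨3, 2, 6, 4⟩⟩,
  ⟨⟨2, 5, 0, 5⟩, ⟨2, 2, 2, 0⟩, ⟨6, 4, 4, 2⟩, ⟨3, 6, 5, 4⟩⟩,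
  ⟨⟨5, 6, 1, 4⟩, ⟨1, 5, 3, 1⟩, ⟨6, 1, 1, 1⟩, ⟨6, 6, 6, 1⟩⟩,
  ⟨⟨0, 1, 0, 2⟩, ⟨6, 0, 5, 0⟩, ⟨3, 5, 6, 6⟩, ⟨2, 3, 1, 6⟩⟩,
  ⟨⟨3, 0, 6, 6⟩, ⟨1, 2, 1, 4⟩, ⟨1, 6, 3, 1⟩, ⟨1, 4, 0, 4⟩⟩,
  ⟨⟨5, 4, 3, 4⟩, ⟨3, 5, 3, 3⟩, ⟨2, 6, 1, 3⟩, ⟨1, 2, 4, 1⟩⟩,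
  ⟨⟨4, 2, 4, 2⟩, ⟨5, 4, 5, 4⟩, ⟨6, 3, 2, 5⟩, ⟨4, 6, 2, 2⟩⟩,
  ⟨⟨6, 4, 2, 6⟩, ⟨3, 6, 1, 2⟩, ⟨6, 6, 0, 3⟩, ⟨1, 6, 4, 0⟩⟩,
  ⟨⟨2, 5, 6, 1⟩, ⟨3, 0, 6, 3⟩, ⟨3, 1, 4, 3⟩, ⟨6, 3, 5, 6⟩⟩,
  ⟨⟨3, 3, 0, 3⟩, ⟨4, 6, 4, 6⟩, ⟨0, 1, 3, 4⟩, ⟨6, 6, 3, 0⟩⟩,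
  ⟨⟨2, 2, 6, 5⟩, ⟨5, 2, 2, 6⟩, ⟨2, 1, 4, 5⟩, ⟨6, 2, 2, 4⟩⟩,
  ⟨⟨1, 5, 5, 2⟩, ⟨1, 1, 5, 6⟩, ⟨3, 6, 5, 1⟩, ⟨1, 0, 5, 5⟩⟩,
  ⟨⟨5, 0, 5, 0⟩, ⟨0, 5, 0, 5⟩, ⟨0, 6, 1, 0⟩, ⟨1, 0, 0, 1⟩⟩,
  ⟨⟨6, 5, 3, 4⟩, ⟨4, 3, 3, 5⟩, ⟨0, 6, 0, 4⟩, ⟨1, 3, 5, 3⟩⟩,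
  ⟨⟨2, 4, 0, 5⟩, ⟨1, 0, 2, 3⟩, ⟨2, 4, 4, 1⟩, ⟨3, 5, 4, 6⟩⟩,
  ⟨⟨0, 0, 5, 4⟩, ⟨4, 3, 3, 4⟩, ⟨0, 6, 6, 4⟩, ⟨1, 1, 0, 3⟩⟩,
  ⟨⟨4, 4, 0, 1⟩, ⟨3, 4, 6, 0⟩, ⟨6, 1, 2, 3⟩, ⟨6, 6, 4, 2⟩⟩,
  ⟨⟨3, 3, 0, 6⟩, ⟨4, 3, 1, 0⟩, ⟨0, 6, 3, 4⟩, ⟨1, 0, 3, 3⟩⟩,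
  ⟨⟨0, 6, 1, 6⟩, ⟨1, 0, 1, 1⟩, ⟨2, 1, 6, 1⟩, ⟨6, 2, 6, 6⟩⟩,
  ⟨⟨3, 6, 2, 0⟩, ⟨0, 3, 0, 1⟩, ⟨2, 0, 3, 0⟩, ⟨0, 5, 6, 3⟩⟩,
  ⟨⟨1, 0, 2, 3⟩, ⟨4, 6, 4, 5⟩, ⟨2, 0, 5, 4⟩, ⟨0, 4, 0, 0⟩⟩,
  ⟨⟨6, 6, 6, 6⟩, ⟨1, 6, 1, 6⟩, ⟨6, 2, 0, 1⟩, ⟨5, 6, 6, 0⟩⟩,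
  ⟨⟨1, 2, 2, 2⟩, ⟨5, 1, 5, 2⟩, ⟨5, 6, 5, 5⟩, ⟨1, 5, 2, 5⟩⟩,
  ⟨⟨4, 1, 5, 3⟩, ⟨6, 4, 4, 5⟩, ⟨5, 2, 2, 6⟩, ⟨5, 5, 1, 2⟩⟩,
  ⟨⟨4, 5, 1, 3⟩, ⟨2, 2, 4, 6⟩, ⟨5, 3, 2, 2⟩, ⟨4, 2, 5, 4⟩⟩,
  ⟨⟨4, 2, 0, 2⟩, ⟨5, 4, 5, 0⟩, ⟨1, 3, 2, 5⟩, ⟨4, 1, 2, 2⟩⟩,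
  ⟨⟨2, 2, 6, 4⟩, ⟨5, 4, 3, 1⟩, ⟨2, 4, 4, 5⟩, ⟨3, 5, 2, 2⟩⟩,
  ⟨⟨5, 4, 4, 4⟩, ⟨3, 5, 3, 4⟩, ⟨4, 6, 1, 3⟩, ⟨1, 4, 4, 1⟩⟩,
  ⟨⟨1, 5, 5, 5⟩, ⟨2, 1, 2, 5⟩, ⟨0, 4, 5, 2⟩, ⟨3, 0, 5, 5⟩⟩,
  ⟨⟨0, 4, 4, 4⟩, ⟨3, 0, 3, 4⟩, ⟨0, 6, 6, 3⟩, ⟨1, 0, 4, 6⟩⟩,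
  ⟨⟨5, 6, 6, 6⟩, ⟨1, 5, 1, 6⟩, ⟨4, 6, 1, 1⟩, ⟨1, 4, 6, 1⟩⟩,
  ⟨⟨1, 0, 2, 0⟩, ⟨0, 1, 0, 2⟩, ⟨0, 1, 5, 0⟩, ⟨6, 0, 0, 5⟩⟩,
  ⟨⟨2, 1, 6, 5⟩, ⟨3, 3, 2, 1⟩, ⟨0, 2, 4, 3⟩, ⟨5, 1, 1, 3⟩⟩,
  ⟨⟨1, 5, 0, 0⟩, ⟨5, 0, 0, 0⟩, ⟨4, 6, 5, 5⟩, ⟨1, 1, 5, 6⟩⟩,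
  ⟨⟨0, 5, 2, 1⟩, ⟨2, 0, 6, 2⟩, ⟨6, 5, 6, 2⟩, ⟨2, 6, 5, 6⟩⟩,
  ⟨⟨1, 1, 6, 3⟩, ⟨6, 1, 4, 6⟩, ⟨1, 6, 5, 6⟩, ⟨1, 1, 1, 5⟩⟩,
  ⟨⟨1, 3, 4, 3⟩, ⟨4, 1, 4, 4⟩, ⟨5, 1, 5, 4⟩, ⟨6, 5, 3, 5⟩⟩,
  ⟨⟨3, 0, 1, 1⟩, ⟨6, 4, 6, 3⟩, ⟨6, 1, 3, 6⟩, ⟨6, 3, 0, 2⟩⟩,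
  ⟨⟨6, 0, 1, 0⟩, ⟨0, 6, 0, 1⟩, ⟨3, 0, 0, 0⟩, ⟨0, 3, 0, 0⟩⟩,
  ⟨⟨1, 1, 2, 6⟩, ⟨6, 1, 1, 2⟩, ⟨4, 1, 5, 6⟩, ⟨6, 4, 1, 5⟩⟩]

set_option maxRecDepth 1000000 in
theorem closed_A : closedChk Kl Am = true := by decide +kernel

set_option maxRecDepth 1000000 in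
theorem closed_B : closedChk Kl Bm = true := by decide +kernel

set_option maxRecDepth 1000000 in
theorem closed_T : closedChk Kl Tm = true := by decide +kernel

set_option maxRecDepth 1000000 in
theorem closed_Ai : closedChk Kl Ai = true := by decide +kernel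

set_option maxRecDepth 1000000 in
theorem closed_Bi : closedChk Kl Bi = true := by decide +kernel

set_option maxRecDepth 1000000 in
theorem closed_Ti : closedChk Kl Ti = true := by decide +kernel

set_option maxRecDepth 1000000 in
theorem fpf_ok : fpfChk Kl Il = true := by decide +kernel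

set_option maxRecDepth 1000000 in
theorem ord_ok : ordChk Kl = true := by decide +kernel

theorem one_mem_Kl : one ∈ Kl := by
  rw [← elem_iff]
  decide +kernel

theorem mul_Am_Ai : mul Am Ai = one := by decide +kernel
theorem mul_Ai_Am : mul Ai Am = one := by decide +kernel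
theorem mul_Bm_Bi : mul Bm Bi = one := by decide +kernel
theorem mul_Bi_Bm : mul Bi Bm = one := by decide +kernel
theorem mul_Tm_Ti : mul Tm Ti = one := by decide +kernel
theorem mul_Ti_Tm : mul Ti Tm = one := by decide +kernel
theorem mul_Am_Am : mul Am Am = negOne := by decide +kernel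
theorem mul_negOne : mul negOne negOne = one := by decide +kernel
theorem dec_negOne_ne : dec negOne ≠ 1 := by decide +kernel

/-! orders of three words -/

theorem pow_AB_10 : mpow (mul Am Bm) 10 = one := by decide +kernel
theorem pow_AB_5 : dec (mpow (mul Am Bm) 5) ≠ 1 := by decide +kernel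
theorem pow_AB_2 : dec (mpow (mul Am Bm) 2) ≠ 1 := by decide +kernel
theorem pow_AT_12 : mpow (mul Am Tm) 12 = one := by decide +kernel
theorem pow_AT_6 : dec (mpow (mul Am Tm) 6) ≠ 1 := by decide +kernel
theorem pow_AT_4 : dec (mpow (mul Am Tm) 4) ≠ 1 := by decide +kernel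
theorem pow_BT_8 : mpow (mul Bm Tm) 8 = one := by decide +kernel
theorem pow_BT_4 : dec (mpow (mul Bm Tm) 4) ≠ 1 := by decide +kernel

end Cfsg.Agent.Lib.Helper19.A10K
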