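import Mathlib

set_option autoImplicit false

namespace Cfsg.Agent.Lib.Helper19.FrobSpec

open SemidirectProduct

section general

variable {N G : Type*} [CommGroup N] [Group G] (φ : G →* MulAut N)

/-- In a "Frobenius-type" semidirect product, elements outside the kernel have the order of their
image in the complement. -/
theorem orderOf_of_fpf [Finite N] (hfpf : ∀ g : G, g ≠ 1 → ∀ n : N, φ g n = n → n = 1)
    (x : N ⋊[φ] G) (hx : x.right ≠ 1) : orderOf x = orderOf x.right := by
  set g := x.right with hg
  let ψ : N →* N :=
    { toFun := fun m => m * (φ g m)⁻¹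
      map_one' := by simp
      map_mul' := by
        intro a b
        simp only [map_mul, mul_inv_rev]
        rw [mul_comm ((φ g) b)⁻¹, mul_mul_mul_comm] }
  have hinj : Function.Injective ψ := by
    rw [injective_iff_map_eq_one]
    intro m hm
    have : φ g m = m := by
      have h1 : m * (φ g m)⁻¹ = 1 := hm
      rw [mul_inv_eq_one] at h1
      exact h1.symm
    exact hfpf g hx m this
  obtain ⟨m, hm⟩ := Finite.surjective_of_injective hinj x.left
  have hm' : m * (φ g m)⁻¹ = x.left := hm
  have hconj : (inl m : N ⋊[φ] G) * inr g = x * inl m := by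
    ext
    · simp only [mul_left, left_inl, right_inl, left_inr, map_one, mul_one]
      rw [← hm', ← hg]; simp
    · simp [hg]
  have hsc : SemiconjBy (inl m : N ⋊[φ] G) (inr g) x := hconj
  rw [← hsc.orderOf_eq, orderOf_injective (inr : G →* N ⋊[φ] G) inr_injective]

theorem spec_of_fpf [Finite N] (r : ℕ) (hr : r.Prime) (hexp : ∀ n : N, n ^ r = 1)
    (hN : ∃ n : N, n ≠ 1) (hfpf : ∀ g : G, g ≠ 1 → ∀ n : N, φ g n = n → n = 1) :
    Set.range (orderOf : N ⋊[φ] G → ℕ) = Set.range (orderOf : G → ℕ) ∪ {r} := by
  ext k
  simp only [Set.mem_range, Set.mem_union, Set.mem_singleton_iff]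
  constructor
  · rintro ⟨x, rfl⟩
    by_cases hx : x.right = 1
    · have hxl : x = inl x.left := by
        ext
        · simp
        · simp [hx]
      have h1 : orderOf x = orderOf x.left := by
        conv_lhs => rw [hxl]
        exact orderOf_injective (inl : N →* N ⋊[φ] G) inl_injective _
      have h2 : orderOf x.left ∣ r := orderOf_dvd_of_pow_eq_one (hexp _)
      rcases (Nat.dvd_prime hr).mp h2 with h | h
      · left; exact ⟨1, by rw [h1, h, orderOf_one]⟩
      · right; rw [h1, h]
    · left; exact ⟨x.right, (orderOf_of_fpf φ hfpf x hx).symm⟩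
  · rintro (⟨g, rfl⟩ | rfl)
    · exact ⟨inr g, orderOf_injective (inr : G →* N ⋊[φ] G) inr_injective _⟩
    · obtain ⟨n, hn⟩ := hN
      refine ⟨inl n, ?_⟩
      rw [orderOf_injective (inl : N →* N ⋊[φ] G) inl_injective]
      have h2 : orderOf n ∣ k := orderOf_dvd_of_pow_eq_one (hexp _)
      rcases (Nat.dvd_prime hr).mp h2 with h | h
      · exact absurd (orderOf_eq_one_iff.mp h) hn
      · exact h

end general

/-- the action homomorphism of a distributive action, on the multiplicative version -/
def actHom (G A : Type*) [Group G] [AddCommGroup A] [DistribMulAction G A] :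
    G →* MulAut (Multiplicative A) :=
  (MulAutMultiplicative A).symm.toMonoidHom.comp (DistribMulAction.toAddAut G A)

theorem actHom_apply (G A : Type*) [Group G] [AddCommGroup A] [DistribMulAction G A] (g : G)
    (a : Multiplicative A) : actHom G A g a = Multiplicative.ofAdd (g • a.toAdd) := rfl

/-- A finite group acting fixed-point-freely on a nontrivial finite abelian group of prime exponent
`r` gives finite groups of unbounded order with spectrum `ω(G) ∪ {r}`. -/
theorem frob_family (G W : Type) [Group G] [Fintype G] [AddCommGroup W] [Fintype W]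
    [DistribMulAction G W] (r : ℕ) (hr : r.Prime) (hexp : ∀ w : W, r • w = 0)
    (hW : ∃ w : W, w ≠ 0) (hfpf : ∀ g : G, g ≠ 1 → ∀ w : W, g • w = w → w = 0) (N : ℕ) :
    ∃ (H : Type) (_ : Group H) (_ : Fintype H), N < Fintype.card H ∧
      Set.range (orderOf : H → ℕ) = Set.range (orderOf : G → ℕ) ∪ {r} := by
  classical
  let A := Fin (N + 1) → W
  let H := Multiplicative A ⋊[actHom G A] G
  have hfin : Finite H := by
    have : Finite (Multiplicative A × G) := inferInstance
    exact Finite.of_equiv _ (SemidirectProduct.equivProd).symm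
  letI : Fintype H := Fintype.ofFinite H
  refine ⟨H, inferInstance, inferInstance, ?_, ?_⟩
  · have h1 : Nat.card H = Nat.card (Multiplicative A) * Nat.card G := SemidirectProduct.card
    rw [← Nat.card_eq_fintype_card, h1]
    have h2 : Nat.card (Multiplicative A) = Fintype.card W ^ (N + 1) := by
      rw [Nat.card_eq_fintype_card, Fintype.card_multiplicative, Fintype.card_fun, Fintype.card_fin]
    have h3 : 2 ≤ Fintype.card W := by
      obtain ⟨w, hw⟩ := hW
      exact Fintype.one_lt_card_iff.mpr ⟨w, 0, hw⟩
    have h4 : 0 < Nat.card G := Nat.card_pos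
    rw [h2]
    calc N < 2 ^ (N + 1) := by
          calc N < N + 1 := Nat.lt_succ_self N
            _ < 2 ^ (N + 1) := Nat.lt_two_pow_self
      _ ≤ Fintype.card W ^ (N + 1) := Nat.pow_le_pow_left h3 _
      _ ≤ Fintype.card W ^ (N + 1) * Nat.card G := Nat.le_mul_of_pos_right _ h4
  · apply spec_of_fpf (actHom G A) r hr
    · intro n
      apply Multiplicative.toAdd.injective
      rw [toAdd_pow, toAdd_one]
      funext i
      exact hexp _
    · obtain ⟨w, hw⟩ := hW
      refine ⟨Multiplicative.ofAdd (fun _ => w), ?_⟩
      intro h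
      apply hw
      have := congrFun (Multiplicative.ofAdd.injective h) 0
      exact this
    · intro g hg n hn
      rw [actHom_apply] at hn
      apply Multiplicative.toAdd.injective
      rw [toAdd_one]
      funext i
      have h1 := congrFun (Multiplicative.ofAdd.injective hn) i
      exact hfpf g hg _ h1

end Cfsg.Agent.Lib.Helper19.FrobSpec
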