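import Mathlib
import Cfsg.Agent.Lib.Helper19.FrobSpec

set_option autoImplicit false

/-!
# Element orders in a split extension of an elementary abelian 2-group
-/

namespace Cfsg.Agent.Lib.Helper19.WeilSdp

open SemidirectProduct Cfsg.Agent.Lib.Helper19.FrobSpec

section general

variable {N G : Type*} [CommGroup N] [Group G] (φ : G →* MulAut N)

theorem pow_right (x : N ⋊[φ] G) (k : ℕ) : (x ^ k).right = x.right ^ k :=
  map_pow (rightHom : N ⋊[φ] G →* G) x k

theorem pow_left (x : N ⋊[φ] G) (k : ℕ) :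
    (x ^ k).left = ∏ i ∈ Finset.range k, φ (x.right ^ i) x.left := by
  induction k with
  | zero => simp
  | succ k ih =>
    rw [pow_succ, mul_left, ih, pow_right, Finset.prod_range_succ]

theorem eq_inl_of_right_eq_one (x : N ⋊[φ] G) (h : x.right = 1) : x = inl x.left := by
  ext
  · simp
  · simp [h]

/-- if `g^k = 1` and the kernel has exponent two then `x^(2k) = 1` -/
theorem pow_two_mul_eq_one (h2 : ∀ a : N, a * a = 1) (x : N ⋊[φ] G) (k : ℕ)
    (hk : x.right ^ k = 1) : x ^ (2 * k) = 1 := by
  have h1 : x ^ k = inl (x ^ k).left := eq_inl_of_right_eq_one φ _ (by rw [pow_right, hk])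
  rw [mul_comm, pow_mul, h1, pow_two, ← map_mul, h2, map_one]

/-- if `g^k = 1` and `g` acts without fixed points then `x^k = 1` -/
theorem pow_eq_one_of_fpf (x : N ⋊[φ] G) (k : ℕ) (hk : x.right ^ k = 1)
    (hfpf : ∀ a : N, φ x.right a = a → a = 1) : x ^ k = 1 := by
  have h1 : x ^ k = inl (x ^ k).left := eq_inl_of_right_eq_one φ _ (by rw [pow_right, hk])
  have h3 : (x ^ k).left = 1 := by
    apply hfpf
    have hc : x * x ^ k = x ^ k * x := by rw [← pow_succ, ← pow_succ']
    have hl := congrArg SemidirectProduct.left hc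
    rw [mul_left, mul_left, pow_right, hk, map_one, MulAut.one_apply, mul_comm] at hl
    exact mul_right_cancel hl
  rw [h1, h3, map_one]

/-- elements of order `2k` -/
theorem orderOf_eq_two_mul (h2 : ∀ a : N, a * a = 1) (x : N ⋊[φ] G) (k : ℕ) (hk0 : 0 < k)
    (hk : orderOf x.right = k) (hne : (x ^ k).left ≠ 1) : orderOf x = 2 * k := by
  have hk1 : x.right ^ k = 1 := by rw [← hk]; exact pow_orderOf_eq_one _
  have h1 : x ^ (2 * k) = 1 := pow_two_mul_eq_one φ h2 x k hk1
  have h3 : orderOf x ∣ 2 * k := orderOf_dvd_of_pow_eq_one h1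
  have h4 : k ∣ orderOf x := by
    rw [← hk]
    exact orderOf_dvd_of_pow_eq_one (by rw [← pow_right, pow_orderOf_eq_one]; rfl)
  obtain ⟨j, hj⟩ := h4
  have hj2 : j ∣ 2 := by
    rw [hj, mul_comm] at h3
    exact Nat.dvd_of_mul_dvd_mul_right hk0 h3
  rcases (Nat.dvd_prime Nat.prime_two).mp hj2 with h | h
  · exfalso
    rw [h, mul_one] at hj
    apply hne
    rw [← hj, pow_orderOf_eq_one]; rfl
  · rw [hj, h, mul_comm]

end general

theorem exists_orderOf_of_dvd {G : Type*} [Group G] (x : G) (n d : ℕ) (hn : 0 < n)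
    (hx : orderOf x = n) (hd : d ∣ n) : ∃ y : G, orderOf y = d := by
  obtain ⟨e, rfl⟩ := hd
  have he : e ≠ 0 := by rintro rfl; simp at hn
  refine ⟨x ^ e, ?_⟩
  rw [orderOf_pow' x he, hx, Nat.gcd_eq_right (Dvd.intro_left d rfl)]
  exact Nat.mul_div_cancel _ (Nat.pos_of_ne_zero he)

/-- A group `S` acting on a finite elementary abelian 2-group `U`: the spectrum of the split extension
of `U` by the image of `S` in `Aut U`. -/
theorem spec_of_action (S U : Type) [Group S] [AddCommGroup U] [Fintype U]
    [DistribMulAction S U] (h2 : ∀ u : U, u + u = 0) (p m e : ℕ) (hp : p.Prime) (hm : 0 < m)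
    (he : 0 < e)
    (H1 : ∀ s : S, (∀ u : U, s ^ m • u = u) ∨ (∀ u : U, s ^ e • u = u) ∨
      ((∀ u : U, s ^ p • u = u) ∧ ∀ u : U, s • u = u → u = 0))
    (H2 : ∃ (s : S) (u : U), (∀ u : U, s ^ m • u = u) ∧ (∑ i ∈ Finset.range m, s ^ i • u ≠ 0) ∧
      ∀ j, (∀ u : U, s ^ j • u = u) → m ∣ j)
    (H3 : ∃ (s : S) (u : U), (∀ u : U, s ^ e • u = u) ∧ (∑ i ∈ Finset.range e, s ^ i • u ≠ 0) ∧
      ∀ j, (∀ u : U, s ^ j • u = u) → e ∣ j)
    (H4 : ∃ s : S, (∀ u : U, s ^ p • u = u) ∧ ∃ u : U, s • u ≠ u) :
    ∃ (H : Type) (_ : Group H) (_ : Fintype H), Fintype.card U ≤ Fintype.card H ∧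
      Set.range (orderOf : H → ℕ) = {k | k ∣ 2 * m ∨ k ∣ 2 * e ∨ k = p} := by
  classical
  let φ₀ : S →* MulAut (Multiplicative U) := actHom S U
  let G : Subgroup (MulAut (Multiplicative U)) := φ₀.range
  let φ : G →* MulAut (Multiplicative U) := G.subtype
  let H := Multiplicative U ⋊[φ] G
  have hfinG : Finite G := inferInstance
  have hfin : Finite H := by
    have : Finite (Multiplicative U × G) := inferInstance
    exact Finite.of_equiv _ (SemidirectProduct.equivProd).symm
  letI : Fintype H := Fintype.ofFinite H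
  -- exponent two
  have hN2 : ∀ a : Multiplicative U, a * a = 1 := by
    intro a
    apply Multiplicative.toAdd.injective
    rw [toAdd_mul, toAdd_one]
    exact h2 _
  -- the dictionary between `S` and `G`
  have hpow : ∀ (s : S) (k : ℕ) (γ : G), (γ : MulAut (Multiplicative U)) = φ₀ s →
      ((γ ^ k = 1) ↔ ∀ u : U, s ^ k • u = u) := by
    intro s k γ hγ
    rw [← Subtype.coe_inj, Subgroup.coe_pow, hγ, ← map_pow, Subgroup.coe_one]
    constructor
    · intro h u
      have h1 : φ₀ (s ^ k) (Multiplicative.ofAdd u) = Multiplicative.ofAdd u := by rw [h]; rfl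
      exact Multiplicative.ofAdd.injective h1
    · intro h
      apply MulEquiv.ext
      intro a
      show Multiplicative.ofAdd (s ^ k • Multiplicative.toAdd a) = a
      rw [h]; rfl
  have hleft : ∀ (s : S) (u : U) (γ : G), (γ : MulAut (Multiplicative U)) = φ₀ s → ∀ k : ℕ,
      ((⟨Multiplicative.ofAdd u, γ⟩ : H) ^ k).left
        = Multiplicative.ofAdd (∑ i ∈ Finset.range k, s ^ i • u) := by
    intro s u γ hγ k
    rw [pow_left, ofAdd_sum]
    refine Finset.prod_congr rfl (fun i _ => ?_)
    show ((γ ^ i : G) : MulAut (Multiplicative U)) (Multiplicative.ofAdd u) = _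
    rw [Subgroup.coe_pow, hγ, ← map_pow]
    rfl
  refine ⟨H, inferInstance, inferInstance, ?_, ?_⟩
  · have h1 : Nat.card H = Nat.card (Multiplicative U) * Nat.card G := SemidirectProduct.card
    rw [← Nat.card_eq_fintype_card (α := H), h1, Nat.card_eq_fintype_card, Fintype.card_multiplicative]
    exact Nat.le_mul_of_pos_right _ Nat.card_pos
  · ext k
    simp only [Set.mem_range, Set.mem_ofPred_eq]
    constructor
    · rintro ⟨x, rfl⟩
      obtain ⟨s, hs⟩ := x.right.2
      rcases H1 s with h | h | ⟨h, hf⟩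
      · left
        exact orderOf_dvd_of_pow_eq_one
          (pow_two_mul_eq_one φ hN2 x m ((hpow s m x.right hs.symm).mpr h))
      · right; left
        exact orderOf_dvd_of_pow_eq_one
          (pow_two_mul_eq_one φ hN2 x e ((hpow s e x.right hs.symm).mpr h))
      · have h1 : x ^ p = 1 := by
          refine pow_eq_one_of_fpf φ x p ((hpow s p x.right hs.symm).mpr h) ?_
          intro a ha
          have h3 : φ x.right a = Multiplicative.ofAdd (s • Multiplicative.toAdd a) := by
            show (x.right : MulAut (Multiplicative U)) a = _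
            rw [← hs]; rfl
          rw [h3] at ha
          have h4 := hf _ (Multiplicative.ofAdd.injective ha)
          apply Multiplicative.toAdd.injective
          rw [h4]; rfl
        rcases (Nat.dvd_prime hp).mp (orderOf_dvd_of_pow_eq_one h1) with h5 | h5
        · left; rw [h5]; exact one_dvd _
        · right; right; exact h5
    · have key : ∀ (n : ℕ), 0 < n → (∃ (s : S) (u : U), (∀ u : U, s ^ n • u = u) ∧
          (∑ i ∈ Finset.range n, s ^ i • u ≠ 0) ∧ ∀ j, (∀ u : U, s ^ j • u = u) → n ∣ j) →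
          ∃ x : H, orderOf x = 2 * n := by
        rintro n hn ⟨s, u, hs1, hs2, hs3⟩
        let γ : G := ⟨φ₀ s, s, rfl⟩
        refine ⟨⟨Multiplicative.ofAdd u, γ⟩, ?_⟩
        apply orderOf_eq_two_mul φ hN2 _ n hn
        · show orderOf γ = n
          apply Nat.dvd_antisymm
          · exact orderOf_dvd_of_pow_eq_one ((hpow s n γ rfl).mpr hs1)
          · exact hs3 _ ((hpow s _ γ rfl).mp (pow_orderOf_eq_one γ))
        · rw [hleft s u γ rfl n]
          intro h
          apply hs2
          exact Multiplicative.ofAdd.injective h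
      rintro (h | h | h)
      · obtain ⟨x, hx⟩ := key m hm H2
        exact exists_orderOf_of_dvd x _ k (by omega) hx h
      · obtain ⟨x, hx⟩ := key e he H3
        exact exists_orderOf_of_dvd x _ k (by omega) hx h
      · obtain ⟨s, hs1, u, hu⟩ := H4
        let γ : G := ⟨φ₀ s, s, rfl⟩
        refine ⟨inr γ, ?_⟩
        rw [orderOf_injective (inr : G →* H) inr_injective, h]
        haveI : Fact p.Prime := ⟨hp⟩
        apply orderOf_eq_prime
        · exact (hpow s p γ rfl).mpr hs1
        · intro h1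
          apply hu
          have := (hpow s 1 γ rfl).mp (by rw [pow_one]; exact h1) u
          rwa [pow_one] at this

end Cfsg.Agent.Lib.Helper19.WeilSdp
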