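import Mathlib
import Cfsg.Agent.Lib.Helper19.WeilSdp

set_option autoImplicit false

/-!
# Element orders in a split extension of a product of two modules
-/

namespace Cfsg.Agent.Lib.Helper19.A10Sdp

open SemidirectProduct Cfsg.Agent.Lib.Helper19.FrobSpec Cfsg.Agent.Lib.Helper19.WeilSdp

theorem dvd_prime_mul_prime {r s d : ℕ} (hr : r.Prime) (hs : s.Prime) (h : d ∣ r * s) :
    d = 1 ∨ d = r ∨ d = s ∨ d = r * s := by
  obtain ⟨d1, d2, h1, h2, rfl⟩ := (Nat.dvd_mul).mp h
  rcases (Nat.dvd_prime hr).mp h1 with rfl | rfl <;> rcases (Nat.dvd_prime hs).mp h2 with rfl | rfl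
  · left; rfl
  · right; right; left; rw [one_mul]
  · right; left; rw [mul_one]
  · right; right; right; rfl

theorem orderOf_eq_mul_of_pow {G : Type*} [Group G] (x : G) (m s : ℕ) (hm : 0 < m)
    (hdvd : m ∣ orderOf x) (hs : orderOf (x ^ m) = s) : orderOf x = s * m := by
  rw [orderOf_pow' x hm.ne', Nat.gcd_eq_right hdvd] at hs
  rw [← hs, Nat.div_mul_cancel hdvd]

section general

variable {K A B : Type} [Group K] [AddCommGroup A] [AddCommGroup B] [DistribMulAction K A]
  [DistribMulAction K B]

/-- the split extension -/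
abbrev Ext (K A B : Type) [Group K] [AddCommGroup A] [AddCommGroup B] [DistribMulAction K A]
    [DistribMulAction K B] : Type :=
  Multiplicative (A × B) ⋊[actHom K (A × B)] K

theorem pow_left_eq (x : Ext K A B) (n : ℕ) :
    (x ^ n).left = Multiplicative.ofAdd
      (∑ i ∈ Finset.range n, x.right ^ i • Multiplicative.toAdd x.left) := by
  rw [pow_left, ofAdd_sum]
  refine Finset.prod_congr rfl (fun i _ => ?_)
  rw [actHom_apply]

theorem pow_eq_inl (x : Ext K A B) (n : ℕ) (hn : x.right ^ n = 1) :
    x ^ n = inl (Multiplicative.ofAdd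
      (∑ i ∈ Finset.range n, x.right ^ i • Multiplicative.toAdd x.left)) := by
  rw [eq_inl_of_right_eq_one _ (x ^ n) (by rw [pow_right, hn]), pow_left_eq]

theorem norm_fixed {M : Type} [AddCommGroup M] [DistribMulAction K M] (k : K) (n : ℕ)
    (hn : k ^ n = 1) (a : M) :
    k • (∑ i ∈ Finset.range n, k ^ i • a) = ∑ i ∈ Finset.range n, k ^ i • a := by
  rw [Finset.smul_sum]
  have h1 : ∑ i ∈ Finset.range n, k • k ^ i • a = ∑ i ∈ Finset.range n, k ^ (i + 1) • a := by
    refine Finset.sum_congr rfl (fun i _ => ?_)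
    rw [smul_smul, ← pow_succ']
  rw [h1]
  have h2 := Finset.sum_range_succ' (fun i => k ^ i • a) n
  have h3 := Finset.sum_range_succ (fun i => k ^ i • a) n
  rw [h3] at h2
  simp only [hn, pow_zero] at h2
  exact (add_right_cancel h2).symm

theorem inl_pow_eq_one (v : A × B) (n : ℕ) (h : n • v = 0) :
    (inl (Multiplicative.ofAdd v) : Ext K A B) ^ n = 1 := by
  rw [← map_pow, ← ofAdd_nsmul, h, ofAdd_zero, map_one]

theorem inl_ne_one (v : A × B) (h : v ≠ 0) : (inl (Multiplicative.ofAdd v) : Ext K A B) ≠ 1 := by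
  intro h1
  apply h
  have h2 : (inl (Multiplicative.ofAdd v) : Ext K A B) = inl 1 := by rw [h1, map_one]
  exact Multiplicative.ofAdd.injective (inl_injective h2)

theorem inl_pow_eq_one' (a : A) (b : B) (n : ℕ) (ha : n • a = 0) (hb : n • b = 0) :
    (inl (Multiplicative.ofAdd (a, b)) : Ext K A B) ^ n = 1 := by
  apply inl_pow_eq_one
  rw [Prod.smul_mk, ha, hb]
  rfl

variable [Finite K]

theorem spec (r s : ℕ) (hr : r.Prime) (hs : s.Prime) (hrs : r ≠ s)
    (hexpA : ∀ a : A, r • a = 0) (hexpB : ∀ b : B, s • b = 0) (hA : ∃ a : A, a ≠ 0)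
    (hfpf : ∀ g : K, g ≠ 1 → ∀ a : A, g • a = a → a = 0)
    (hB1 : ∀ k : K, Even (orderOf k) → ∀ b : B, ∑ i ∈ Finset.range (orderOf k), k ^ i • b = 0)
    (hB2 : ∀ k : K, Odd (orderOf k) → ∃ b : B, ∑ i ∈ Finset.range (orderOf k), k ^ i • b ≠ 0) :
    Set.range (orderOf : Ext K A B → ℕ) = {n | n = 1 ∨ n = r ∨ n = s ∨ n = r * s ∨
      n ∈ Set.range (orderOf : K → ℕ) ∨ ∃ m ∈ Set.range (orderOf : K → ℕ), Odd m ∧ n = s * m} := by
  have : Fact r.Prime := ⟨hr⟩
  have : Fact s.Prime := ⟨hs⟩
  have hcop : Nat.Coprime r s := (Nat.coprime_primes hr hs).mpr hrs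
  -- the `A`-component of the norm vanishes
  have hnormA : ∀ k : K, k ≠ 1 → ∀ a : A, ∑ i ∈ Finset.range (orderOf k), k ^ i • a = 0 := by
    intro k hk a
    exact hfpf k hk _ (norm_fixed k _ (pow_orderOf_eq_one k) a)
  have hdvd : ∀ x : Ext K A B, orderOf x.right ∣ orderOf x := by
    intro x
    exact orderOf_dvd_of_pow_eq_one (by rw [← pow_right, pow_orderOf_eq_one]; rfl)
  have hpow : ∀ x : Ext K A B, x.right ≠ 1 → x ^ orderOf x.right = inl (Multiplicative.ofAdd
      ((0 : A), ∑ i ∈ Finset.range (orderOf x.right),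
        x.right ^ i • (Multiplicative.toAdd x.left).2)) := by
    intro x hx
    rw [pow_eq_inl x _ (pow_orderOf_eq_one _)]
    congr 2
    ext
    · rw [Prod.fst_sum]
      simp only [Prod.smul_fst]
      exact hnormA _ hx _
    · rw [Prod.snd_sum]
      simp only [Prod.smul_snd]
  ext n
  simp only [Set.mem_ofPred_eq]
  constructor
  · rintro ⟨x, rfl⟩
    by_cases hx : x.right = 1
    · have hxl : x = inl x.left := eq_inl_of_right_eq_one _ x hx
      have h1 : x ^ (r * s) = 1 := by
        rw [hxl, ← ofAdd_toAdd x.left]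
        apply inl_pow_eq_one' (K := K) (Multiplicative.toAdd x.left).1 (Multiplicative.toAdd x.left).2
        · rw [mul_comm, mul_nsmul', hexpA, smul_zero]
        · rw [mul_nsmul', hexpB, smul_zero]
      rcases dvd_prime_mul_prime hr hs (orderOf_dvd_of_pow_eq_one h1) with h | h | h | h
      · left; exact h
      · right; left; exact h
      · right; right; left; exact h
      · right; right; right; left; exact h
    · have ho : 0 < orderOf x.right := orderOf_pos _
      rcases Nat.even_or_odd (orderOf x.right) with he | hodd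
      · right; right; right; right; left
        refine ⟨x.right, ?_⟩
        apply Nat.dvd_antisymm (hdvd x)
        apply orderOf_dvd_of_pow_eq_one
        rw [hpow x hx, hB1 _ he]
        exact map_one _
      · have h1 : (x ^ orderOf x.right) ^ s = 1 := by
          rw [hpow x hx]
          exact inl_pow_eq_one' _ _ _ (smul_zero _) (hexpB _)
        rcases (Nat.dvd_prime hs).mp (orderOf_dvd_of_pow_eq_one h1) with h | h
        · right; right; right; right; left
          refine ⟨x.right, ?_⟩
          apply Nat.dvd_antisymm (hdvd x)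
          apply orderOf_dvd_of_pow_eq_one
          exact orderOf_eq_one_iff.mp h
        · right; right; right; right; right
          exact ⟨orderOf x.right, ⟨x.right, rfl⟩, hodd, orderOf_eq_mul_of_pow x _ s ho (hdvd x) h⟩
  · obtain ⟨a, ha⟩ := hA
    obtain ⟨b, hb⟩ : ∃ b : B, b ≠ 0 := by
      obtain ⟨b, hb⟩ := hB2 1 (by rw [orderOf_one]; exact odd_one)
      refine ⟨b, ?_⟩
      intro h
      apply hb
      rw [h]
      simp
    have hoa : orderOf (inl (Multiplicative.ofAdd (a, (0 : B))) : Ext K A B) = r := by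
      apply orderOf_eq_prime
      · exact inl_pow_eq_one' _ _ _ (hexpA _) (smul_zero _)
      · apply inl_ne_one
        intro h
        exact ha (congrArg Prod.fst h)
    have hob : orderOf (inl (Multiplicative.ofAdd ((0 : A), b)) : Ext K A B) = s := by
      apply orderOf_eq_prime
      · exact inl_pow_eq_one' _ _ _ (smul_zero _) (hexpB _)
      · apply inl_ne_one
        intro h
        exact hb (congrArg Prod.snd h)
    rintro (rfl | rfl | rfl | rfl | ⟨k, rfl⟩ | ⟨m, ⟨k, rfl⟩, hodd, rfl⟩)
    · exact ⟨1, orderOf_one⟩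
    · exact ⟨_, hoa⟩
    · exact ⟨_, hob⟩
    · refine ⟨inl (Multiplicative.ofAdd (a, (0 : B))) * inl (Multiplicative.ofAdd ((0 : A), b)), ?_⟩
      have hc : Commute (inl (Multiplicative.ofAdd (a, (0 : B))) : Ext K A B)
          (inl (Multiplicative.ofAdd ((0 : A), b))) := by
        show _ * _ = _ * _
        rw [← map_mul (inl : Multiplicative (A × B) →* Ext K A B),
          ← map_mul (inl : Multiplicative (A × B) →* Ext K A B), mul_comm]
      rw [hc.orderOf_mul_eq_mul_orderOf_of_coprime (by rw [hoa, hob]; exact hcop), hoa, hob]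
    · exact ⟨inr k, orderOf_injective (inr : K →* Ext K A B) inr_injective _⟩
    · obtain ⟨b', hb'⟩ := hB2 k hodd
      let x : Ext K A B := ⟨Multiplicative.ofAdd ((0 : A), b'), k⟩
      have hxr : x.right = k := rfl
      have hxl : x.left = Multiplicative.ofAdd ((0 : A), b') := rfl
      have ho : 0 < orderOf k := orderOf_pos _
      refine ⟨x, ?_⟩
      apply orderOf_eq_mul_of_pow x _ s ho
      · have := hdvd x
        rwa [hxr] at this
      · have hp : x ^ orderOf k = inl (Multiplicative.ofAdd
            ((0 : A), ∑ i ∈ Finset.range (orderOf k), k ^ i • b')) := by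
          rw [pow_eq_inl x _ (by rw [hxr]; exact pow_orderOf_eq_one _), hxr, hxl]
          congr 2
          ext
          · rw [Prod.fst_sum]
            simp
          · rw [Prod.snd_sum]
            simp
        rw [hp]
        apply orderOf_eq_prime
        · exact inl_pow_eq_one' _ _ _ (smul_zero _) (hexpB _)
        · apply inl_ne_one
          intro h
          exact hb' (congrArg Prod.snd h)

end general

end Cfsg.Agent.Lib.Helper19.A10Sdp
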