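import Mathlib
import Cfsg.Agent.Lib.Helper19.A10Sdp

set_option autoImplicit false

/-!
# The module of odd functions on a group with a central involution, and the resulting family
-/

namespace Cfsg.Agent.Lib.Helper19.A10Odd

open SemidirectProduct Cfsg.Agent.Lib.Helper19.FrobSpec

section oddfun

variable {K : Type} [Group K]

/-- functions on `K` changing sign under translation by the central element `z` -/
def OddFun (z : Subgroup.center K) (s : ℕ) : AddSubgroup (K → ZMod s) where
  carrier := {f | ∀ x, f ((z : K) * x) = - f x}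
  zero_mem' := by
    intro x
    simp
  add_mem' := by
    intro f g hf hg x
    rw [Pi.add_apply, Pi.add_apply, hf x, hg x, neg_add]
  neg_mem' := by
    intro f hf x
    rw [Pi.neg_apply, Pi.neg_apply, hf x]

variable (z : Subgroup.center K) (s : ℕ)

theorem center_comm (g : K) : g * (z : K) = (z : K) * g := Subgroup.mem_center_iff.mp z.2 g

instance instSMulOddFun : SMul K (OddFun z s) :=
  ⟨fun k f => ⟨fun x => f.1 (k⁻¹ * x), by
    intro x
    show f.1 (k⁻¹ * ((z : K) * x)) = - f.1 (k⁻¹ * x)
    rw [← mul_assoc, center_comm z, mul_assoc]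
    exact f.2 _⟩⟩

theorem smul_apply (k : K) (f : OddFun z s) (x : K) : (k • f).1 x = f.1 (k⁻¹ * x) := rfl

instance instDistribMulActionOddFun : DistribMulAction K (OddFun z s) where
  one_smul f := by
    apply Subtype.ext
    funext x
    rw [smul_apply, inv_one, one_mul]
  mul_smul a b f := by
    apply Subtype.ext
    funext x
    rw [smul_apply, smul_apply, smul_apply, _root_.mul_inv_rev, mul_assoc]
  smul_zero a := by
    apply Subtype.ext
    funext x
    rfl
  smul_add a f g := by
    apply Subtype.ext
    funext x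
    rfl

theorem nsmul_eq_zero (f : OddFun z s) : s • f = 0 := by
  apply Subtype.ext
  funext x
  rw [AddSubgroup.coe_nsmul, Pi.smul_apply, nsmul_eq_mul, ZMod.natCast_self, zero_mul]
  rfl

theorem sum_apply (t : Finset ℕ) (g : ℕ → OddFun z s) (x : K) :
    (∑ i ∈ t, g i).1 x = ∑ i ∈ t, (g i).1 x := by
  rw [AddSubgroup.val_finsetSum, Finset.sum_apply]

/-- the central involution acts as `-1` -/
theorem z_smul (hz : (z : K) ^ 2 = 1) (f : OddFun z s) : (z : K) • f = -f := by
  apply Subtype.ext
  funext x
  have hinv : ((z : K))⁻¹ = z := by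
    apply inv_eq_of_mul_eq_one_left
    rw [← pow_two, hz]
  rw [smul_apply, hinv]
  exact f.2 x

/-- the norm of an element of even order vanishes -/
theorem norm_even (hz : (z : K) ^ 2 = 1) (huniq : ∀ g : K, g ^ 2 = 1 → g = 1 ∨ g = z) (k : K)
    (he : Even (orderOf k)) (f : OddFun z s) :
    ∑ i ∈ Finset.range (orderOf k), k ^ i • f = 0 := by
  obtain ⟨m, hm⟩ := he
  by_cases hm0 : m = 0
  · rw [hm, hm0]
    simp
  have hm1 : 0 < m := Nat.pos_of_ne_zero hm0
  have hkm : k ^ m = z := by
    have h1 : (k ^ m) ^ 2 = 1 := by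
      rw [← pow_mul, mul_two, ← hm, pow_orderOf_eq_one]
    rcases huniq _ h1 with h | h
    · exfalso
      exact pow_ne_one_of_lt_orderOf hm0 (by omega) h
    · exact h
  rw [hm, Finset.sum_range_add]
  have h2 : ∀ i, k ^ (m + i) • f = - (k ^ i • f) := by
    intro i
    rw [add_comm, pow_add, mul_smul, hkm, z_smul z s hz, smul_neg]
  simp only [h2, Finset.sum_neg_distrib, add_neg_cancel]

/-- the function `δ₁ - δ_z` -/
noncomputable def delta (hz : (z : K) ^ 2 = 1) (hz1 : (z : K) ≠ 1) : OddFun z s := by
  classical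
  exact ⟨fun x => if x = 1 then 1 else if x = z then -1 else 0, by
    intro x
    have hinv : ((z : K))⁻¹ = z := by
      apply inv_eq_of_mul_eq_one_left
      rw [← pow_two, hz]
    by_cases h1 : x = 1
    · subst h1
      simp [hz1]
    · by_cases h2 : x = z
      · subst h2
        have : (z : K) * z = 1 := by rw [← pow_two, hz]
        simp [this, hz1]
      · have h3 : (z : K) * x ≠ 1 := by
          intro h
          apply h2
          rw [← hinv]
          exact eq_inv_of_mul_eq_one_right h
        have h4 : (z : K) * x ≠ z := by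
          intro h
          apply h1
          exact mul_eq_left.mp h
        simp [h1, h2, h3, h4]⟩

theorem delta_apply (hz : (z : K) ^ 2 = 1) (hz1 : (z : K) ≠ 1) (x : K) [Decidable (x = 1)]
    [Decidable (x = (z : K))] :
    (delta z s hz hz1).1 x = if x = 1 then 1 else if x = z then -1 else 0 := by
  unfold delta
  simp only
  congr

/-- the norm of an element of odd order does not vanish on `δ₁ - δ_z` -/
theorem norm_odd [Fact (1 < s)] (hz : (z : K) ^ 2 = 1) (hz1 : (z : K) ≠ 1) (k : K)
    (ho : Odd (orderOf k)) :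
    ∑ i ∈ Finset.range (orderOf k), k ^ i • delta z s hz hz1 ≠ 0 := by
  classical
  intro h
  have h1 := congrArg (fun f : OddFun z s => f.1 1) h
  simp only [sum_apply, smul_apply, mul_one] at h1
  have hpos : 0 < orderOf k := ho.pos
  have hinv : ((z : K))⁻¹ = z := by
    apply inv_eq_of_mul_eq_one_left
    rw [← pow_two, hz]
  rw [Finset.sum_eq_single_of_mem 0 (Finset.mem_range.mpr hpos)] at h1
  · rw [pow_zero, inv_one, delta_apply, if_pos rfl] at h1
    exact one_ne_zero h1
  · intro i hi hi0
    have hi' := Finset.mem_range.mp hi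
    rw [delta_apply]
    have h2 : (k ^ i)⁻¹ ≠ 1 := by
      intro h3
      exact pow_ne_one_of_lt_orderOf hi0 hi' (inv_eq_one.mp h3)
    have h3 : (k ^ i)⁻¹ ≠ z := by
      intro h4
      have h5 : k ^ i = z := by rw [← hinv, ← h4, inv_inv]
      have h6 : (z : K) ^ orderOf k = 1 := by
        rw [← h5, ← pow_mul, mul_comm, pow_mul, pow_orderOf_eq_one, one_pow]
      obtain ⟨j, hj⟩ := ho
      rw [hj, pow_succ, pow_mul, hz, one_pow, one_mul] at h6
      exact hz1 h6
    rw [if_neg h2, if_neg h3]

end oddfun

/-- A finite group with an involution acting fixed-point-freely on a nontrivial finite abelian group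
of prime exponent `r`: for a second prime `s` there are finite groups of unbounded order with
spectrum `{1, r, s, rs} ∪ ω(K) ∪ s·ω(K)_{odd}`. -/
theorem odd_family (K A : Type) [Group K] [Fintype K] [AddCommGroup A] [Fintype A]
    [DistribMulAction K A] (r s : ℕ) (hr : r.Prime) (hs : s.Prime) (hrs : r ≠ s)
    (hexp : ∀ a : A, r • a = 0) (hA : ∃ a : A, a ≠ 0)
    (hfpf : ∀ g : K, g ≠ 1 → ∀ a : A, g • a = a → a = 0) (z : K) (hz : orderOf z = 2) (N : ℕ) :
    ∃ (H : Type) (_ : Group H) (_ : Fintype H), N < Fintype.card H ∧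
      Set.range (orderOf : H → ℕ) = {n | n = 1 ∨ n = r ∨ n = s ∨ n = r * s ∨
        n ∈ Set.range (orderOf : K → ℕ) ∨
        ∃ m ∈ Set.range (orderOf : K → ℕ), Odd m ∧ n = s * m} := by
  classical
  have : Fact s.Prime := ⟨hs⟩
  have : NeZero s := ⟨hs.ne_zero⟩
  have hz2 : z ^ 2 = 1 := by rw [← hz, pow_orderOf_eq_one]
  have hz1 : z ≠ 1 := by
    intro h
    rw [h, orderOf_one] at hz
    omega
  -- involutions act as `-1`
  have hneg : ∀ g : K, g ≠ 1 → g ^ 2 = 1 → ∀ a : A, g • a = -a := by
    intro g hg hg2 a
    have h1 : g • (a + g • a) = a + g • a := by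
      rw [smul_add, smul_smul, ← pow_two, hg2, one_smul, add_comm]
    have h2 := hfpf g hg _ h1
    exact (neg_eq_of_add_eq_zero_right h2).symm
  have huniq : ∀ g : K, g ^ 2 = 1 → g = 1 ∨ g = z := by
    intro g hg2
    by_cases hg : g = 1
    · left; exact hg
    right
    by_contra hne
    have h1 : g⁻¹ * z ≠ 1 := by
      intro h
      apply hne
      have := eq_inv_of_mul_eq_one_right h
      rw [inv_inv] at this
      exact this.symm
    obtain ⟨a, ha⟩ := hA
    apply ha
    apply hfpf _ h1
    have hginv : g⁻¹ = g := by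
      apply inv_eq_of_mul_eq_one_left
      rw [← pow_two, hg2]
    rw [mul_smul, hneg z hz1 hz2, hginv, smul_neg, hneg g hg hg2, neg_neg]
  have hcent : z ∈ Subgroup.center K := by
    rw [Subgroup.mem_center_iff]
    intro x
    have h1 : (x * z * x⁻¹) ^ 2 = 1 := by
      rw [pow_two]
      have : x * z * x⁻¹ * (x * z * x⁻¹) = x * (z * z) * x⁻¹ := by group
      rw [this, ← pow_two, hz2, mul_one, mul_inv_cancel]
    rcases huniq _ h1 with h | h
    · exfalso
      apply hz1
      have h2 : x * z = x := by
        have := congrArg (· * x) h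
        simpa using this
      exact mul_eq_left.mp h2
    · have := congrArg (· * x) h
      simpa using this
  let zc : Subgroup.center K := ⟨z, hcent⟩
  let A' := Fin (N + 1) → A
  let B := OddFun zc s
  let H := A10Sdp.Ext K A' B
  have hfin : Finite H := by
    have : Finite (Multiplicative (A' × B) × K) := inferInstance
    exact Finite.of_equiv _ (SemidirectProduct.equivProd).symm
  let _ : Fintype H := Fintype.ofFinite H
  refine ⟨H, inferInstance, inferInstance, ?_, ?_⟩
  · have h1 : Nat.card H = Nat.card (Multiplicative (A' × B)) * Nat.card K :=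
      SemidirectProduct.card
    rw [← Nat.card_eq_fintype_card, h1]
    have h2 : Nat.card (Multiplicative (A' × B)) = Fintype.card A ^ (N + 1) * Nat.card B := by
      rw [show Nat.card (Multiplicative (A' × B)) = Nat.card (A' × B) from rfl, Nat.card_prod,
        Nat.card_eq_fintype_card (α := A'), Fintype.card_fun, Fintype.card_fin]
    have h3 : 2 ≤ Fintype.card A := by
      obtain ⟨w, hw⟩ := hA
      exact Fintype.one_lt_card_iff.mpr ⟨w, 0, hw⟩
    have h4 : 0 < Nat.card K := Nat.card_pos
    have h5 : 0 < Nat.card B := Nat.card_pos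
    rw [h2]
    calc N < 2 ^ (N + 1) := by
          calc N < N + 1 := Nat.lt_succ_self N
            _ < 2 ^ (N + 1) := Nat.lt_two_pow_self
      _ ≤ Fintype.card A ^ (N + 1) := Nat.pow_le_pow_left h3 _
      _ ≤ Fintype.card A ^ (N + 1) * Nat.card B := Nat.le_mul_of_pos_right _ h5
      _ ≤ Fintype.card A ^ (N + 1) * Nat.card B * Nat.card K := Nat.le_mul_of_pos_right _ h4
  · apply A10Sdp.spec (K := K) (A := A') (B := B) r s hr hs hrs
    · intro a
      funext i
      exact hexp _
    · intro b
      exact nsmul_eq_zero zc s b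
    · obtain ⟨w, hw⟩ := hA
      refine ⟨fun _ => w, ?_⟩
      intro h
      exact hw (congrFun h 0)
    · intro g hg a ha
      funext i
      exact hfpf g hg _ (congrFun ha i)
    · intro k he b
      exact norm_even zc s hz2 huniq k he b
    · intro k ho
      have : Fact (1 < s) := ⟨hs.one_lt⟩
      exact ⟨delta zc s hz2 hz1, norm_odd zc s hz2 hz1 k ho⟩

end Cfsg.Agent.Lib.Helper19.A10Odd
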