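import Mathlib

set_option autoImplicit false

/-!
# The set of element orders of the alternating group of degree ten
-/

namespace Cfsg.Agent.Lib.Helper19.A10Spec

open Equiv

/-- the element orders of `A₁₀` -/
def specList : List ℕ := [1, 2, 3, 4, 5, 6, 7, 8, 9, 10, 12, 15, 21]

/-- enumeration of all ways of adding cycles of lengths at least two and of total length at most `n`
to a permutation with order `l` and parity count `c` -/
def chk : ℕ → ℕ → ℕ → ℕ → Bool
  | 0, _, l, c => (c % 2 != 0 || decide (l ∈ specList))
  | fuel + 1, n, l, c => (c % 2 != 0 || decide (l ∈ specList)) &&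
      (List.range (n + 1)).all fun x => decide (x < 2) || chk fuel (n - x) (Nat.lcm l x) (c + x + 1)

theorem chk_base (fuel n l c : ℕ) (h : chk fuel n l c = true) (hc : c % 2 = 0) : l ∈ specList := by
  cases fuel with
  | zero =>
    simp only [chk, Bool.or_eq_true, bne_iff_ne, ne_eq, decide_eq_true_eq] at h
    rcases h with h | h
    · exact absurd hc h
    · exact h
  | succ fuel =>
    simp only [chk, Bool.and_eq_true, Bool.or_eq_true, bne_iff_ne, ne_eq, decide_eq_true_eq] at h
    rcases h.1 with h | h
    · exact absurd hc h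
    · exact h

theorem chk_spec : ∀ (fuel n l c : ℕ), chk fuel n l c = true → n ≤ fuel → ∀ m : Multiset ℕ,
    (∀ x ∈ m, 2 ≤ x) → m.sum ≤ n → (c + m.sum + Multiset.card m) % 2 = 0 →
    Nat.lcm l m.lcm ∈ specList := by
  intro fuel
  induction fuel with
  | zero =>
    intro n l c h hn m hm hsum hpar
    rcases m.empty_or_exists_mem with rfl | ⟨x, hx⟩
    · simp only [Multiset.sum_zero, Multiset.card_zero, add_zero] at hpar
      rw [Multiset.lcm_zero, Nat.lcm_one_right]
      exact chk_base _ _ _ _ h hpar
    · exfalso
      have h2 := hm x hx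
      have hle : x ≤ m.sum := Multiset.single_le_sum (fun _ _ => Nat.zero_le _) x hx
      omega
  | succ fuel ih =>
    intro n l c h hn m hm hsum hpar
    rcases m.empty_or_exists_mem with rfl | ⟨x, hx⟩
    · simp only [Multiset.sum_zero, Multiset.card_zero, add_zero] at hpar
      rw [Multiset.lcm_zero, Nat.lcm_one_right]
      exact chk_base _ _ _ _ h hpar
    · obtain ⟨m', rfl⟩ := Multiset.exists_cons_of_mem hx
      have h2 := hm x hx
      rw [Multiset.sum_cons] at hsum
      rw [Multiset.sum_cons, Multiset.card_cons] at hpar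
      simp only [chk, Bool.and_eq_true, List.all_eq_true, List.mem_range, Bool.or_eq_true,
        decide_eq_true_eq] at h
      have h3 := h.2 x (by omega)
      rcases h3 with h3 | h3
      · omega
      · have := ih (n - x) (Nat.lcm l x) (c + x + 1) h3 (by omega) m'
          (fun y hy => hm y (Multiset.mem_cons_of_mem hy)) (by omega) (by omega)
        rw [Multiset.lcm_cons, lcm_eq_nat_lcm, ← Nat.lcm_assoc]
        exact this

set_option maxRecDepth 100000 in
theorem chk_ok : chk 10 10 1 0 = true := by decide +kernel

theorem orderOf_mem (g : alternatingGroup (Fin 10)) : orderOf g ∈ specList := by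
  have hcoe : orderOf (g : Perm (Fin 10)) = orderOf g := Subgroup.orderOf_coe g
  rw [← hcoe, ← Perm.lcm_cycleType, ← Nat.lcm_one_left (Multiset.lcm _)]
  apply chk_spec 10 10 1 0 chk_ok le_rfl
  · intro x hx
    exact Perm.two_le_of_mem_cycleType hx
  · have := Perm.sum_cycleType_le (g : Perm (Fin 10))
    rwa [Fintype.card_fin] at this
  · have hs : Perm.sign (g : Perm (Fin 10)) = 1 := Perm.mem_alternatingGroup.mp g.2
    rw [Perm.sign_of_cycleType] at hs
    have hne : (-1 : ℤˣ) ≠ 1 := by decide
    have := (neg_one_pow_eq_one_iff_even hne).mp hs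
    rw [zero_add]
    exact Nat.even_iff.mp this

theorem exists_alt (m : Multiset ℕ) (h1 : m.sum ≤ 10) (h2 : ∀ a ∈ m, 2 ≤ a)
    (h3 : Even (m.sum + Multiset.card m)) :
    ∃ g : alternatingGroup (Fin 10), orderOf g = m.lcm := by
  obtain ⟨g, hg⟩ := (Perm.exists_with_cycleType_iff (Fin 10)).mpr
    ⟨by rwa [Fintype.card_fin], h2⟩
  have hmem : g ∈ alternatingGroup (Fin 10) := by
    rw [Perm.mem_alternatingGroup, Perm.sign_of_cycleType, hg]
    exact Even.neg_one_pow h3
  refine ⟨⟨g, hmem⟩, ?_⟩
  rw [Subgroup.orderOf_mk, ← Perm.lcm_cycleType, hg]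

theorem a10_spec : Set.range (orderOf : alternatingGroup (Fin 10) → ℕ) =
    {1, 2, 3, 4, 5, 6, 7, 8, 9, 10, 12, 15, 21} := by
  ext n
  constructor
  · rintro ⟨g, rfl⟩
    have := orderOf_mem g
    simpa [specList] using this
  · intro hn
    simp only [Set.mem_insert_iff, Set.mem_singleton_iff] at hn
    rcases hn with rfl | rfl | rfl | rfl | rfl | rfl | rfl | rfl | rfl | rfl | rfl | rfl | rfl
    · exact ⟨1, orderOf_one⟩
    · exact exists_alt {2, 2} (by decide) (by decide) (by decide)
    · exact exists_alt {3} (by decide) (by decide) (by decide)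
    · exact exists_alt {4, 2} (by decide) (by decide) (by decide)
    · exact exists_alt {5} (by decide) (by decide) (by decide)
    · exact exists_alt {3, 2, 2} (by decide) (by decide) (by decide)
    · exact exists_alt {7} (by decide) (by decide) (by decide)
    · exact exists_alt {8, 2} (by decide) (by decide) (by decide)
    · exact exists_alt {9} (by decide) (by decide) (by decide)
    · exact exists_alt {5, 2, 2} (by decide) (by decide) (by decide)
    · exact exists_alt {4, 3, 2} (by decide) (by decide) (by decide)
    · exact exists_alt {5, 3} (by decide) (by decide) (by decide)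
    · exact exists_alt {7, 3} (by decide) (by decide) (by decide)

end Cfsg.Agent.Lib.Helper19.A10Spec
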