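import Mathlib
import Cfsg.Agent.Lib.Helper19.A10Data
import Cfsg.Agent.Lib.Helper19.A10Odd
import Cfsg.Agent.Lib.Helper19.A10Spec

set_option autoImplicit false

/-!
# A fixed-point-free group of order 240 and the spectrum of the alternating group of degree ten
-/

namespace Cfsg.Agent.Lib.Helper19.A10K

open Matrix

/-- `Am` as a unit -/
def Au : R7ˣ :=
  ⟨dec Am, dec Ai, by rw [← dec_mul, mul_Am_Ai, dec_one], by rw [← dec_mul, mul_Ai_Am, dec_one]⟩

/-- `Bm` as a unit -/
def Bu : R7ˣ :=
  ⟨dec Bm, dec Bi, by rw [← dec_mul, mul_Bm_Bi, dec_one], by rw [← dec_mul, mul_Bi_Bm, dec_one]⟩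

/-- `Tm` as a unit -/
def Tu : R7ˣ :=
  ⟨dec Tm, dec Ti, by rw [← dec_mul, mul_Tm_Ti, dec_one], by rw [← dec_mul, mul_Ti_Tm, dec_one]⟩

/-- the group of order 240 -/
def K240 : Subgroup R7ˣ := Subgroup.closure {Au, Bu, Tu}

theorem Au_mem : Au ∈ K240 := Subgroup.subset_closure (by simp)
theorem Bu_mem : Bu ∈ K240 := Subgroup.subset_closure (by simp)
theorem Tu_mem : Tu ∈ K240 := Subgroup.subset_closure (by simp)

theorem mem_list (g : R7ˣ) (hg : g ∈ K240) : ∃ x ∈ Kl, (g : R7) = dec x := by
  induction hg using Subgroup.closure_induction_right with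
  | one => exact ⟨one, one_mem_Kl, by rw [Units.val_one, dec_one]⟩
  | mul_right x hx y hy ih =>
    obtain ⟨m, hm, hxm⟩ := ih
    simp only [Set.mem_insert_iff, Set.mem_singleton_iff] at hy
    rcases hy with rfl | rfl | rfl
    · exact ⟨mul m Am, closedChk_spec Kl Am closed_A m hm, by
        rw [Units.val_mul, hxm, dec_mul]; rfl⟩
    · exact ⟨mul m Bm, closedChk_spec Kl Bm closed_B m hm, by
        rw [Units.val_mul, hxm, dec_mul]; rfl⟩
    · exact ⟨mul m Tm, closedChk_spec Kl Tm closed_T m hm, by
        rw [Units.val_mul, hxm, dec_mul]; rfl⟩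
  | mul_inv_cancel x hx y hy ih =>
    obtain ⟨m, hm, hxm⟩ := ih
    simp only [Set.mem_insert_iff, Set.mem_singleton_iff] at hy
    rcases hy with rfl | rfl | rfl
    · exact ⟨mul m Ai, closedChk_spec Kl Ai closed_Ai m hm, by
        rw [Units.val_mul, hxm, dec_mul]; rfl⟩
    · exact ⟨mul m Bi, closedChk_spec Kl Bi closed_Bi m hm, by
        rw [Units.val_mul, hxm, dec_mul]; rfl⟩
    · exact ⟨mul m Ti, closedChk_spec Kl Ti closed_Ti m hm, by
        rw [Units.val_mul, hxm, dec_mul]; rfl⟩

/-- elements of `K240` other than `1` have no nonzero fixed vectors -/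
theorem K240_fpf (g : R7ˣ) (hg : g ∈ K240) (hg1 : g ≠ 1) (v : R7) (hv : (g : R7) * v = v) :
    v = 0 := by
  obtain ⟨x, hx, hgx⟩ := mem_list g hg
  have hne : x ≠ one := by
    rintro rfl
    apply hg1
    apply Units.ext
    rw [hgx, dec_one, Units.val_one]
  obtain ⟨y, hy⟩ := fpfChk_spec Kl Il fpf_ok x hx hne
  have h1 : dec y * (dec x - 1) = 1 := by rw [← dec_subOne, ← dec_mul, hy, dec_one]
  have h2 : (dec x - 1) * v = 0 := by rw [sub_mul, ← hgx, hv, one_mul, sub_self]
  calc v = (dec y * (dec x - 1)) * v := by rw [h1, one_mul]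
    _ = 0 := by rw [Matrix.mul_assoc, h2, Matrix.mul_zero]

theorem K240_orders (g : K240) : orderOf g ∣ 8 ∨ orderOf g ∣ 10 ∨ orderOf g ∣ 12 := by
  obtain ⟨g, hg⟩ := g
  rw [Subgroup.orderOf_mk]
  obtain ⟨x, hx, hgx⟩ := mem_list g hg
  have key : ∀ n : ℕ, dec x ^ n = 1 → orderOf g ∣ n := by
    intro n hn
    apply orderOf_dvd_of_pow_eq_one
    apply Units.ext
    rw [Units.val_pow_eq_pow_val, hgx, hn, Units.val_one]
  rcases ordChk_spec Kl ord_ok x hx with h | h | h
  · left; exact key 8 h
  · right; left; exact key 10 h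
  · right; right; exact key 12 h

theorem val_pow_mul (a b : Mat) (u v : R7ˣ) (hu : (u : R7) = dec a) (hv : (v : R7) = dec b) (n : ℕ) :
    (((u * v) ^ n : R7ˣ) : R7) = dec (mpow (mul a b) n) := by
  rw [Units.val_pow_eq_pow_val, Units.val_mul, hu, hv, dec_mpow, dec_mul]

theorem pow_mul_eq_one (a b : Mat) (u v : R7ˣ) (hu : (u : R7) = dec a) (hv : (v : R7) = dec b)
    (n : ℕ) (h : mpow (mul a b) n = one) : (u * v) ^ n = 1 := by
  apply Units.ext
  rw [val_pow_mul a b u v hu hv, h, dec_one, Units.val_one]

theorem pow_mul_ne_one (a b : Mat) (u v : R7ˣ) (hu : (u : R7) = dec a) (hv : (v : R7) = dec b)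
    (n : ℕ) (h : dec (mpow (mul a b) n) ≠ 1) : (u * v) ^ n ≠ 1 := by
  intro h1
  apply h
  rw [← val_pow_mul a b u v hu hv, h1, Units.val_one]

theorem orderOf_AB : orderOf (Au * Bu) = 10 := by
  apply orderOf_eq_of_pow_and_pow_div_prime (by norm_num)
  · exact pow_mul_eq_one Am Bm Au Bu rfl rfl 10 pow_AB_10
  · intro q hq hd
    have hle : q ≤ 10 := Nat.le_of_dvd (by norm_num) hd
    have hq2 : q = 2 ∨ q = 5 := by
      interval_cases q <;> first | (left; rfl) | (right; rfl) | (exfalso; revert hq; norm_num; done) | (exfalso; revert hd; norm_num)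
    rcases hq2 with rfl | rfl
    · exact pow_mul_ne_one Am Bm Au Bu rfl rfl 5 pow_AB_5
    · exact pow_mul_ne_one Am Bm Au Bu rfl rfl 2 pow_AB_2

theorem orderOf_AT : orderOf (Au * Tu) = 12 := by
  apply orderOf_eq_of_pow_and_pow_div_prime (by norm_num)
  · exact pow_mul_eq_one Am Tm Au Tu rfl rfl 12 pow_AT_12
  · intro q hq hd
    have hle : q ≤ 12 := Nat.le_of_dvd (by norm_num) hd
    have hq2 : q = 2 ∨ q = 3 := by
      interval_cases q <;> first | (left; rfl) | (right; rfl) | (exfalso; revert hq; norm_num; done) | (exfalso; revert hd; norm_num)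
    rcases hq2 with rfl | rfl
    · exact pow_mul_ne_one Am Tm Au Tu rfl rfl 6 pow_AT_6
    · exact pow_mul_ne_one Am Tm Au Tu rfl rfl 4 pow_AT_4

theorem orderOf_BT : orderOf (Bu * Tu) = 8 := by
  have h := orderOf_eq_prime_pow (x := Bu * Tu) (p := 2) (n := 2) ?_ ?_
  · rw [h]; norm_num
  · exact pow_mul_ne_one Bm Tm Bu Tu rfl rfl 4 pow_BT_4
  · exact pow_mul_eq_one Bm Tm Bu Tu rfl rfl 8 pow_BT_8

theorem range_orderOf_K240 :
    Set.range (orderOf : K240 → ℕ) = {n | n ∣ 8 ∨ n ∣ 10 ∨ n ∣ 12} := by
  ext n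
  simp only [Set.mem_range, Set.mem_ofPred_eq]
  constructor
  · rintro ⟨g, rfl⟩
    exact K240_orders g
  · have key : ∀ (u : R7ˣ) (hu : u ∈ K240) (N : ℕ), 0 < N → orderOf u = N → n ∣ N →
        ∃ y : K240, orderOf y = n := by
      intro u hu N hN hord hd
      exact WeilSdp.exists_orderOf_of_dvd (⟨u, hu⟩ : K240) N n hN
        (by rw [Subgroup.orderOf_mk]; exact hord) hd
    rintro (h | h | h)
    · exact key _ (mul_mem Bu_mem Tu_mem) 8 (by norm_num) orderOf_BT h
    · exact key _ (mul_mem Au_mem Bu_mem) 10 (by norm_num) orderOf_AB h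
    · exact key _ (mul_mem Au_mem Tu_mem) 12 (by norm_num) orderOf_AT h

/-- the central involution -/
def zK : K240 := ⟨Au ^ 2, pow_mem Au_mem 2⟩

theorem orderOf_zK : orderOf zK = 2 := by
  unfold zK
  rw [Subgroup.orderOf_mk]
  have hval : ((Au ^ 2 : R7ˣ) : R7) = dec negOne := by
    rw [Units.val_pow_eq_pow_val, pow_two, ← mul_Am_Am, dec_mul]
    rfl
  apply orderOf_eq_prime
  · apply Units.ext
    rw [Units.val_pow_eq_pow_val, hval, pow_two, ← dec_mul, mul_negOne, dec_one, Units.val_one]
  · intro h
    apply dec_negOne_ne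
    rw [← hval, h, Units.val_one]

theorem seven_nsmul_R7 (x : R7) : 7 • x = 0 := by
  ext i j
  rw [Matrix.smul_apply, Matrix.zero_apply]
  generalize x i j = y
  revert y
  decide

theorem one_ne_zero_R7 : (1 : R7) ≠ 0 := by decide

/-- the spectrum of `A₁₀` is realised by arbitrarily large groups -/
theorem family_ten (N : ℕ) :
    ∃ (H : Type) (_ : Group H) (_ : Fintype H), N < Fintype.card H ∧
      Set.range (orderOf : H → ℕ) = Set.range (orderOf : alternatingGroup (Fin 10) → ℕ) := by
  classical
  let _ : Fintype K240 := Fintype.ofFinite K240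
  obtain ⟨H, hG, hF, hcard, hspec⟩ := A10Odd.odd_family K240 R7 7 3 (by norm_num) (by norm_num)
    (by norm_num) seven_nsmul_R7 ⟨1, one_ne_zero_R7⟩ (by
      intro g hg v hv
      refine K240_fpf g g.2 ?_ v hv
      intro h
      apply hg
      exact Subtype.ext h) zK orderOf_zK N
  refine ⟨H, hG, hF, hcard, ?_⟩
  rw [hspec, range_orderOf_K240, A10Spec.a10_spec]
  ext n
  simp only [Set.mem_ofPred_eq, Set.mem_insert_iff, Set.mem_singleton_iff]
  constructor
  · rintro (h | h | h | h | h | ⟨m, hm, hodd, rfl⟩)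
    · omega
    · omega
    · omega
    · omega
    · rcases h with h | h | h
      · have := Nat.le_of_dvd (by norm_num) h
        interval_cases n <;> omega
      · have := Nat.le_of_dvd (by norm_num) h
        interval_cases n <;> omega
      · have := Nat.le_of_dvd (by norm_num) h
        interval_cases n <;> omega
    · rcases hm with h | h | h
      · have := Nat.le_of_dvd (by norm_num) h
        interval_cases m <;> first | omega | (exfalso; revert h; norm_num; done) | (exfalso; revert hodd; decide)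
      · have := Nat.le_of_dvd (by norm_num) h
        interval_cases m <;> first | omega | (exfalso; revert h; norm_num; done) | (exfalso; revert hodd; decide)
      · have := Nat.le_of_dvd (by norm_num) h
        interval_cases m <;> first | omega | (exfalso; revert h; norm_num; done) | (exfalso; revert hodd; decide)
  · rintro (rfl | rfl | rfl | rfl | rfl | rfl | rfl | rfl | rfl | rfl | rfl | rfl | rfl)
    · left; rfl
    · right; right; right; right; left; left; norm_num
    · right; right; left; rfl
    · right; right; right; right; left; left; norm_num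
    · right; right; right; right; left; right; left; norm_num
    · right; right; right; right; left; right; right; norm_num
    · right; left; rfl
    · right; right; right; right; left; left; norm_num
    · right; right; right; right; right; exact ⟨3, by norm_num, by decide, rfl⟩
    · right; right; right; right; left; right; left; norm_num
    · right; right; right; right; left; right; right; norm_num
    · right; right; right; right; right; exact ⟨5, by norm_num, by decide, rfl⟩
    · right; right; right; left; rfl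

end Cfsg.Agent.Lib.Helper19.A10K
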