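import Mathlib
import Cfsg.Agent.S3377

set_option autoImplicit false

namespace Cfsg.Agent.Lib.Helper19.A5Pairs

open Cfsg.Agent.S3377

/-- the presentation isomorphism `⟨x, y | x³, y⁵, (xy)²⟩ ≃* A₅` -/
noncomputable def e0 : P ≃* alternatingGroup (Fin 5) := MulEquiv.ofBijective f f_bijective

lemma e0_X : e0 X = ax := fX
lemma e0_Y : e0 Y = ay := fY

lemma X_pow : X ^ 3 = 1 := by
  rw [pow_three', relX]

lemma Y_pow : Y ^ 5 = 1 := by
  have h : Y ^ 5 = Y * Y * Y * Y * Y := by
    simp only [pow_succ, pow_zero, one_mul]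
  rw [h, relY]

lemma XY_pow : (X * Y) ^ 2 = 1 := by
  rw [pow_two, ← mul_assoc, relXY]

lemma X_ne : X ≠ 1 := by
  intro h
  have h1 : e0 X = 1 := by rw [h, map_one]
  rw [e0_X] at h1
  exact ax_ne h1

lemma range_gen {G : Type*} [Group G] (τ : P →* G) :
    τ.range = Subgroup.closure {τ X, τ Y} := by
  rw [MonoidHom.range_eq_map, ← PresentedGroup.closure_range_of, MonoidHom.map_closure]
  congr 1
  ext g
  constructor
  · rintro ⟨_, ⟨i, rfl⟩, rfl⟩
    fin_cases i
    · left; rfl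
    · right; rfl
  · rintro (rfl | rfl)
    · exact ⟨_, ⟨0, rfl⟩, rfl⟩
    · exact ⟨_, ⟨1, rfl⟩, rfl⟩

/-- a pair `(x, y)` with `x³ = y⁵ = (xy)² = 1`, `x ≠ 1` generates a copy of `A₅` -/
theorem exists_hom_of_pair {G : Type*} [Group G] (x y : G) (hx : x ^ 3 = 1) (hy : y ^ 5 = 1)
    (hxy : (x * y) ^ 2 = 1) (hx1 : x ≠ 1) :
    ∃ τ : alternatingGroup (Fin 5) →* G, Function.Injective τ ∧
      τ.range = Subgroup.closure {x, y} := by
  let g : Fin 2 → G := ![x, y]
  have hrel : ∀ r ∈ rels, FreeGroup.lift g r = 1 := by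
    intro r hr
    simp only [rels, Set.mem_insert_iff, Set.mem_singleton_iff] at hr
    rcases hr with rfl | rfl | rfl
    · rw [map_pow, FreeGroup.lift_apply_of]; exact hx
    · rw [map_pow, FreeGroup.lift_apply_of]; exact hy
    · rw [map_pow, map_mul, FreeGroup.lift_apply_of, FreeGroup.lift_apply_of]; exact hxy
  let τ0 : P →* G := PresentedGroup.toGroup hrel
  have hτ0X : τ0 X = x := PresentedGroup.toGroup.of hrel
  have hτ0Y : τ0 Y = y := PresentedGroup.toGroup.of hrel
  let τ : alternatingGroup (Fin 5) →* G := τ0.comp e0.symm.toMonoidHom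
  have hτ : ∀ a, τ a = τ0 (e0.symm a) := fun a => rfl
  have hτne : τ ax ≠ 1 := by
    rw [hτ, ← e0_X, e0.symm_apply_apply, hτ0X]
    exact hx1
  have hτinj : Function.Injective τ := by
    rw [← MonoidHom.ker_eq_bot_iff]
    have := alternatingGroup.isSimpleGroup_five
    rcases (Subgroup.Normal.eq_bot_or_eq_top (H := τ.ker) inferInstance) with h | h
    · exact h
    · exfalso
      apply hτne
      have : ax ∈ τ.ker := by
        rw [h]
        trivial
      exact this
  refine ⟨τ, hτinj, ?_⟩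
  have h1 : τ.range = τ0.range := by
    ext z
    constructor
    · rintro ⟨a, rfl⟩
      exact ⟨e0.symm a, rfl⟩
    · rintro ⟨p, rfl⟩
      exact ⟨e0 p, by rw [hτ, e0.symm_apply_apply]⟩
  rw [h1, range_gen, hτ0X, hτ0Y]

/-- a subgroup isomorphic to `A₅` is generated by a `(3, 5, 2)`-pair -/
theorem exists_pair_of_iso {G : Type*} [Group G] (L : Subgroup G)
    (e : L ≃* alternatingGroup (Fin 5)) :
    ∃ x y : G, x ^ 3 = 1 ∧ y ^ 5 = 1 ∧ (x * y) ^ 2 = 1 ∧ x ≠ 1 ∧ L = Subgroup.closure {x, y} := by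
  let τ : P →* G := L.subtype.comp (e.symm.toMonoidHom.comp e0.toMonoidHom)
  have hτ : ∀ p, τ p = ((e.symm (e0 p) : L) : G) := fun p => rfl
  have hinj : Function.Injective τ := by
    intro p q h
    rw [hτ, hτ] at h
    exact e0.injective (e.symm.injective (Subtype.ext h))
  have hrange : τ.range = L := by
    ext z
    constructor
    · rintro ⟨p, rfl⟩
      rw [hτ]
      exact (e.symm (e0 p)).2
    · intro hz
      refine ⟨e0.symm (e ⟨z, hz⟩), ?_⟩
      rw [hτ, e0.apply_symm_apply, e.symm_apply_apply]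
  refine ⟨τ X, τ Y, ?_, ?_, ?_, ?_, ?_⟩
  · rw [← map_pow, X_pow, map_one]
  · rw [← map_pow, Y_pow, map_one]
  · rw [← map_mul, ← map_pow, XY_pow, map_one]
  · intro h
    rw [← map_one τ] at h
    exact X_ne (hinj h)
  · rw [← hrange, range_gen]

end Cfsg.Agent.Lib.Helper19.A5Pairs
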