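import Mathlib

set_option autoImplicit false

namespace Cfsg.Agent.Lib.Helper19

open Equiv

set_option maxRecDepth 100000 in
theorem perm5_even_pow : ∀ g : Perm (Fin 5), Perm.sign g = 1 → g ^ 2 = 1 ∨ g ^ 3 = 1 ∨ g ^ 5 = 1 := by
  decide

theorem a5_orderOf_mem (g : alternatingGroup (Fin 5)) :
    orderOf g = 1 ∨ orderOf g = 2 ∨ orderOf g = 3 ∨ orderOf g = 5 := by
  have hs : Perm.sign (g : Perm (Fin 5)) = 1 := Perm.mem_alternatingGroup.mp g.2
  have hcoe : orderOf (g : Perm (Fin 5)) = orderOf g := Subgroup.orderOf_coe g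
  rw [← hcoe]
  rcases perm5_even_pow g.1 hs with h | h | h
  · have := orderOf_dvd_of_pow_eq_one h
    rcases (Nat.dvd_prime Nat.prime_two).mp this with h1 | h1
    · left; exact h1
    · right; left; exact h1
  · have := orderOf_dvd_of_pow_eq_one h
    rcases (Nat.dvd_prime Nat.prime_three).mp this with h1 | h1
    · left; exact h1
    · right; right; left; exact h1
  · have := orderOf_dvd_of_pow_eq_one h
    rcases (Nat.dvd_prime Nat.prime_five).mp this with h1 | h1
    · left; exact h1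
    · right; right; right; exact h1

def a5e2 : alternatingGroup (Fin 5) := ⟨swap 0 1 * swap 2 3, by
  rw [Perm.mem_alternatingGroup]; decide⟩

def a5e3 : alternatingGroup (Fin 5) := ⟨swap 0 1 * swap 1 2, by
  rw [Perm.mem_alternatingGroup]; decide⟩

def a5e5 : alternatingGroup (Fin 5) := ⟨swap 0 1 * swap 1 2 * swap 2 3 * swap 3 4, by
  rw [Perm.mem_alternatingGroup]; decide⟩

theorem a5e2_order : orderOf a5e2 = 2 := by
  rw [← Subgroup.orderOf_coe]
  have : Fact (Nat.Prime 2) := ⟨Nat.prime_two⟩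
  apply orderOf_eq_prime
  · show (swap (0 : Fin 5) 1 * swap 2 3) ^ 2 = 1
    decide
  · show (swap (0 : Fin 5) 1 * swap 2 3) ≠ 1
    decide

theorem a5e3_order : orderOf a5e3 = 3 := by
  rw [← Subgroup.orderOf_coe]
  have : Fact (Nat.Prime 3) := ⟨Nat.prime_three⟩
  apply orderOf_eq_prime
  · show (swap (0 : Fin 5) 1 * swap 1 2) ^ 3 = 1
    decide
  · show (swap (0 : Fin 5) 1 * swap 1 2) ≠ 1
    decide

theorem a5e5_order : orderOf a5e5 = 5 := by
  rw [← Subgroup.orderOf_coe]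
  have : Fact (Nat.Prime 5) := ⟨Nat.prime_five⟩
  apply orderOf_eq_prime
  · show (swap (0 : Fin 5) 1 * swap 1 2 * swap 2 3 * swap 3 4) ^ 5 = 1
    decide
  · show (swap (0 : Fin 5) 1 * swap 1 2 * swap 2 3 * swap 3 4) ≠ 1
    decide

theorem a5_exists_order (k : ℕ) (hk : k = 1 ∨ k = 2 ∨ k = 3 ∨ k = 5) :
    ∃ g : alternatingGroup (Fin 5), orderOf g = k := by
  rcases hk with rfl | rfl | rfl | rfl
  · exact ⟨1, orderOf_one⟩
  · exact ⟨a5e2, a5e2_order⟩
  · exact ⟨a5e3, a5e3_order⟩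
  · exact ⟨a5e5, a5e5_order⟩

end Cfsg.Agent.Lib.Helper19
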