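import Mathlib
import Cfsg.Agent.Lib.Helper19.A6Inv

set_option autoImplicit false

namespace Cfsg.Agent.Lib.Helper19.A6Inv2

open Equiv Equiv.Perm Cfsg.Agent.Lib.Helper19.A6Inv

theorem orderOf_conj' {G : Type*} [Group G] (g x : G) : orderOf (g * x * g⁻¹) = orderOf x :=
  (SemiconjBy.orderOf_eq g (show SemiconjBy g x (g * x * g⁻¹) by unfold SemiconjBy; group)).symm

/-- centralizers of involutions in `A_6` have order at most 8 -/
theorem card_centralizer_le (a : alternatingGroup (Fin 6)) (ha : orderOf a = 2) :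
    Nat.card (Subgroup.centralizer {a}) ≤ 8 := by
  obtain ⟨σ, hσ⟩ := conj_z0 a ha
  set F : Finset (Perm (Fin 6)) := Finset.univ.filter (fun τ : Perm (Fin 6) =>
    Equiv.Perm.sign τ = 1 ∧ τ * z0p = z0p * τ) with hF
  have hmem : ∀ τ : Subgroup.centralizer {a},
      ((σ⁻¹ * (τ : alternatingGroup (Fin 6)) * σ : alternatingGroup (Fin 6)) : Perm (Fin 6)) ∈ F := by
    intro τ
    rw [hF, Finset.mem_filter]
    refine ⟨Finset.mem_univ _, Equiv.Perm.mem_alternatingGroup.1 (σ⁻¹ * τ.1 * σ).2, ?_⟩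
    have hτ := Subgroup.mem_centralizer_singleton_iff.1 τ.2
    have h1 : (σ⁻¹ * (τ : alternatingGroup (Fin 6)) * σ) * z0 = z0 * (σ⁻¹ * τ.1 * σ) := by
      have e1 : z0 = σ⁻¹ * a * σ := by rw [← hσ]; group
      rw [e1]
      calc σ⁻¹ * (τ : alternatingGroup (Fin 6)) * σ * (σ⁻¹ * a * σ)
          = σ⁻¹ * ((τ : alternatingGroup (Fin 6)) * a) * σ := by group
        _ = σ⁻¹ * (a * (τ : alternatingGroup (Fin 6))) * σ := by rw [hτ]
        _ = σ⁻¹ * a * σ * (σ⁻¹ * (τ : alternatingGroup (Fin 6)) * σ) := by group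
    exact congrArg Subtype.val h1
  let f : Subgroup.centralizer {a} → F := fun τ => ⟨_, hmem τ⟩
  have hinj : Function.Injective f := by
    intro τ1 τ2 h
    have h' : ((f τ1 : F) : Perm (Fin 6)) = ((f τ2 : F) : Perm (Fin 6)) := by rw [h]
    have h'' : σ⁻¹ * (τ1 : alternatingGroup (Fin 6)) * σ = σ⁻¹ * (τ2 : alternatingGroup (Fin 6)) * σ :=
      Subtype.ext h'
    have : (τ1 : alternatingGroup (Fin 6)) = τ2 := by simpa using h''
    exact Subtype.ext this
  calc Nat.card (Subgroup.centralizer {a}) ≤ Nat.card F := Nat.card_le_card_of_injective f hinj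
    _ = F.card := by rw [Nat.card_eq_fintype_card, Fintype.card_coe]
    _ = 8 := cent8

/-- for an involution `a` of `A_6`, at most 16 involutions `w` have `a * w` of a given order -/
theorem card_prod_order_le (a : alternatingGroup (Fin 6)) (ha : orderOf a = 2) (m : ℕ) :
    Nat.card {w : alternatingGroup (Fin 6) // orderOf w = 2 ∧ orderOf (a * w) = m} ≤ 16 := by
  obtain ⟨σ, hσ⟩ := conj_z0 a ha
  by_cases hm : m ∈ Finset.Icc 1 6
  · set F : Finset (Perm (Fin 6)) := Finset.univ.filter (fun w : Perm (Fin 6) =>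
      Equiv.Perm.sign w = 1 ∧ w ≠ 1 ∧ w * w = 1 ∧ ordIs (z0p * w) m) with hF
    have hmem : ∀ w : {w : alternatingGroup (Fin 6) // orderOf w = 2 ∧ orderOf (a * w) = m},
        ((σ⁻¹ * (w : alternatingGroup (Fin 6)) * σ : alternatingGroup (Fin 6)) : Perm (Fin 6)) ∈ F := by
      intro w
      obtain ⟨w, hw2, hwm⟩ := w
      rw [hF, Finset.mem_filter]
      have hord : orderOf (σ⁻¹ * w * σ) = 2 := by
        have : σ⁻¹ * w * σ = σ⁻¹ * w * σ⁻¹⁻¹ := by rw [inv_inv]
        rw [this, orderOf_conj']; exact hw2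
      have hne : (σ⁻¹ * w * σ) ≠ 1 := by
        intro h; rw [h, orderOf_one] at hord; omega
      have hsq : (σ⁻¹ * w * σ) * (σ⁻¹ * w * σ) = 1 := by
        rw [← pow_two, ← hord]; exact pow_orderOf_eq_one _
      refine ⟨Finset.mem_univ _, Equiv.Perm.mem_alternatingGroup.1 (σ⁻¹ * w * σ).2, ?_, ?_, ?_⟩
      · intro h; exact hne (Subtype.ext h)
      · exact congrArg Subtype.val hsq
      · have h1 : z0 * (σ⁻¹ * w * σ) = σ⁻¹ * (a * w) * σ⁻¹⁻¹ := by
          rw [← hσ]; group
        have h2 : orderOf (z0 * (σ⁻¹ * w * σ)) = m := by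
          rw [h1, orderOf_conj']; exact hwm
        have h3 : orderOf ((z0 * (σ⁻¹ * w * σ) : alternatingGroup (Fin 6)) : Perm (Fin 6)) = m := by
          rw [Subgroup.orderOf_coe]; exact h2
        exact ordIs_of_orderOf _ h3
    let f : {w : alternatingGroup (Fin 6) // orderOf w = 2 ∧ orderOf (a * w) = m} → F :=
      fun w => ⟨_, hmem w⟩
    have hinj : Function.Injective f := by
      intro w1 w2 h
      have h' : ((f w1 : F) : Perm (Fin 6)) = ((f w2 : F) : Perm (Fin 6)) := by rw [h]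
      have h'' : σ⁻¹ * (w1 : alternatingGroup (Fin 6)) * σ = σ⁻¹ * (w2 : alternatingGroup (Fin 6)) * σ :=
        Subtype.ext h'
      have : (w1 : alternatingGroup (Fin 6)) = w2 := by simpa using h''
      exact Subtype.ext this
    calc Nat.card _ ≤ Nat.card F := Nat.card_le_card_of_injective f hinj
      _ = F.card := by rw [Nat.card_eq_fintype_card, Fintype.card_coe]
      _ ≤ 16 := cnt16 m hm
  · have hempty : IsEmpty {w : alternatingGroup (Fin 6) // orderOf w = 2 ∧ orderOf (a * w) = m} := by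
      constructor
      rintro ⟨w, _, hwm⟩
      apply hm
      have := orderOf_le6 ((a * w : alternatingGroup (Fin 6)) : Perm (Fin 6))
      rw [Subgroup.orderOf_coe, hwm] at this
      exact Finset.mem_Icc.2 this
    rw [Nat.card_of_isEmpty]
    omega

end Cfsg.Agent.Lib.Helper19.A6Inv2
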