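import Mathlib

set_option autoImplicit false

namespace Cfsg.Agent.Lib.Helper19

open Equiv

set_option maxRecDepth 1000000 in
theorem perm6_even_pow : ∀ g : Perm (Fin 6), Perm.sign g = 1 → g ^ 4 = 1 ∨ g ^ 3 = 1 ∨ g ^ 5 = 1 := by
  decide +kernel

theorem a6_orderOf_mem (g : alternatingGroup (Fin 6)) :
    orderOf g = 1 ∨ orderOf g = 2 ∨ orderOf g = 3 ∨ orderOf g = 4 ∨ orderOf g = 5 := by
  have hs : Perm.sign (g : Perm (Fin 6)) = 1 := Perm.mem_alternatingGroup.mp g.2
  have hcoe : orderOf (g : Perm (Fin 6)) = orderOf g := Subgroup.orderOf_coe g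
  rw [← hcoe]
  rcases perm6_even_pow g.1 hs with h | h | h
  · have hd := orderOf_dvd_of_pow_eq_one h
    obtain ⟨m, hm, hmeq⟩ := (Nat.dvd_prime_pow Nat.prime_two (m := 2)).mp hd
    interval_cases m
    · left; simpa using hmeq
    · right; left; simpa using hmeq
    · right; right; right; left; simpa using hmeq
  · have := orderOf_dvd_of_pow_eq_one h
    rcases (Nat.dvd_prime Nat.prime_three).mp this with h1 | h1
    · left; exact h1
    · right; right; left; exact h1
  · have := orderOf_dvd_of_pow_eq_one h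
    rcases (Nat.dvd_prime Nat.prime_five).mp this with h1 | h1
    · left; exact h1
    · right; right; right; right; exact h1

def a6e4 : alternatingGroup (Fin 6) := ⟨swap 0 1 * swap 1 2 * swap 2 3 * swap 4 5, by
  rw [Perm.mem_alternatingGroup]; decide⟩

def a6e3 : alternatingGroup (Fin 6) := ⟨swap 0 1 * swap 1 2, by
  rw [Perm.mem_alternatingGroup]; decide⟩

def a6e5 : alternatingGroup (Fin 6) := ⟨swap 0 1 * swap 1 2 * swap 2 3 * swap 3 4, by
  rw [Perm.mem_alternatingGroup]; decide⟩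

theorem a6e4_order : orderOf a6e4 = 4 := by
  rw [← Subgroup.orderOf_coe]
  have : Fact (Nat.Prime 2) := ⟨Nat.prime_two⟩
  have key := orderOf_eq_prime_pow (x := (a6e4 : Perm (Fin 6))) (p := 2) (n := 1) ?_ ?_
  · simpa using key
  · show ¬ (swap (0 : Fin 6) 1 * swap 1 2 * swap 2 3 * swap 4 5) ^ 2 ^ 1 = 1
    decide
  · show (swap (0 : Fin 6) 1 * swap 1 2 * swap 2 3 * swap 4 5) ^ 2 ^ (1 + 1) = 1
    decide

theorem a6e3_order : orderOf a6e3 = 3 := by
  rw [← Subgroup.orderOf_coe]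
  have : Fact (Nat.Prime 3) := ⟨Nat.prime_three⟩
  apply orderOf_eq_prime
  · show (swap (0 : Fin 6) 1 * swap 1 2) ^ 3 = 1
    decide
  · show (swap (0 : Fin 6) 1 * swap 1 2) ≠ 1
    decide

theorem a6e5_order : orderOf a6e5 = 5 := by
  rw [← Subgroup.orderOf_coe]
  have : Fact (Nat.Prime 5) := ⟨Nat.prime_five⟩
  apply orderOf_eq_prime
  · show (swap (0 : Fin 6) 1 * swap 1 2 * swap 2 3 * swap 3 4) ^ 5 = 1
    decide
  · show (swap (0 : Fin 6) 1 * swap 1 2 * swap 2 3 * swap 3 4) ≠ 1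
    decide

theorem a6_spec : Set.range (orderOf : alternatingGroup (Fin 6) → ℕ) = {1, 2, 3, 4, 5} := by
  ext n
  simp only [Set.mem_range, Set.mem_insert_iff, Set.mem_singleton_iff]
  constructor
  · rintro ⟨x, rfl⟩
    exact a6_orderOf_mem x
  · rintro (rfl | rfl | rfl | rfl | rfl)
    · exact ⟨1, orderOf_one⟩
    · refine ⟨a6e4 ^ 2, ?_⟩
      rw [orderOf_pow' a6e4 (by norm_num), a6e4_order]
      rfl
    · exact ⟨a6e3, a6e3_order⟩
    · exact ⟨a6e4, a6e4_order⟩
    · exact ⟨a6e5, a6e5_order⟩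

end Cfsg.Agent.Lib.Helper19
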