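import Mathlib
import Cfsg.Agent.Lib.Helper19.AMO.Defs

set_option autoImplicit false
set_option linter.unusedVariables false
set_option linter.unusedSectionVars false

namespace Cfsg.Agent.Lib.Helper19.AMO

open Matrix Cfsg.Agent.Lib.Helper16.PG Cfsg.Agent.Lib.Helper16.AP Cfsg.Agent.Lib.Helper16.PU

universe u

section
variable {n : ℕ} {F : Type u} [Field F]

/-- AMO-G3 -/
theorem sq_graph (g : GL (Fin n) F) (τ : RingAut F) :
    (Phi n F g * fieldL n τ * iota n F) ^ 2 =
      Phi n F (g * mapGL n τ (gTI n F g)) * fieldL n (τ * τ) := by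
  have hL : fieldL n (τ * τ) = fieldL n τ * fieldL n τ := (fieldLHom n F).map_mul τ τ
  rw [hL, map_mul, sq]
  calc Phi n F g * fieldL n τ * iota n F * (Phi n F g * fieldL n τ * iota n F)
      = Phi n F g * fieldL n τ * (iota n F * Phi n F g) * fieldL n τ * iota n F := by
        simp only [mul_assoc]
    _ = Phi n F g * fieldL n τ * (Phi n F (gTI n F g) * iota n F) * fieldL n τ * iota n F := by
        rw [iota_mul_Phi]
    _ = Phi n F g * (fieldL n τ * Phi n F (gTI n F g)) * (iota n F * fieldL n τ) * iota n F := by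
        simp only [mul_assoc]
    _ = Phi n F g * (Phi n F (mapGL n τ (gTI n F g)) * fieldL n τ) * (fieldL n τ * iota n F) * iota n F := by
        rw [fieldL_Phi, iota_fieldL]
    _ = Phi n F g * Phi n F (mapGL n τ (gTI n F g)) * (fieldL n τ * fieldL n τ) * (iota n F * iota n F) := by
        simp only [mul_assoc]
    _ = _ := by rw [iota_sq, mul_one]

end

end Cfsg.Agent.Lib.Helper19.AMO
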