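import Mathlib
import Cfsg.Agent.Lib.Helper19.AMO.Defs

set_option autoImplicit false
set_option linter.unusedVariables false
set_option linter.unusedSectionVars false

namespace Cfsg.Agent.Lib.Helper19.AMO

open Matrix Cfsg.Agent.Lib.Helper16.PG Cfsg.Agent.Lib.Helper16.AP Cfsg.Agent.Lib.Helper16.PU

universe u

section
variable {F : Type u} [Field F] [Fintype F]

open Polynomial in
/-- pigeonhole core of AMO-M1, at matrix level, over a subfield `F₀`. -/
theorem amoM1_core (F₀ : Subfield F) (d : ℕ) (hd : 1 ≤ d) (y : GL (Fin d) F)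
    (hlift : (y : Matrix (Fin d) (Fin d) F).charpoly ∈ Polynomial.lifts (algebraMap F₀ F)) :
    ∃ k : ℕ, 0 < k ∧ (∃ c : F₀, (y : Matrix (Fin d) (Fin d) F) ^ k =
        c • (1 : Matrix (Fin d) (Fin d) F)) ∧
      (Nat.card F₀ - 1) * k ≤ Nat.card F₀ ^ d - 1 := by
  classical
  have : Fintype F₀ := Fintype.ofFinite _
  have : Nonempty (Fin d) := ⟨⟨0, hd⟩⟩
  set M : Matrix (Fin d) (Fin d) F := (y : Matrix (Fin d) (Fin d) F) with hM
  obtain ⟨χ₀, hχmap, hχdeg, hχmonic⟩ :=
    Polynomial.lifts_and_natDegree_eq_and_monic hlift (Matrix.charpoly_monic M)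
  have hχdeg' : χ₀.natDegree = d := by
    rw [hχdeg, Matrix.charpoly_natDegree_eq_dim, Fintype.card_fin]
  have haev : Polynomial.aeval M χ₀ = 0 := by
    have h := Matrix.aeval_self_charpoly M
    rw [← hχmap, Polynomial.aeval_map_algebraMap] at h
    exact h
  -- the set of polynomial expressions
  set S : Set (Matrix (Fin d) (Fin d) F) :=
    Set.range (fun r : Polynomial.degreeLT F₀ d => Polynomial.aeval M (r : F₀[X])) with hS
  have hScard : Nat.card S ≤ Nat.card F₀ ^ d := by
    have h1 : Nat.card (Polynomial.degreeLT F₀ d) = Nat.card F₀ ^ d := by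
      rw [Nat.card_congr (Polynomial.degreeLTEquiv F₀ d).toEquiv, Nat.card_eq_fintype_card,
        Fintype.card_fun, Fintype.card_fin, Nat.card_eq_fintype_card]
    have : Finite (Polynomial.degreeLT F₀ d) := Nat.finite_of_card_ne_zero (by
      rw [h1]
      exact pow_ne_zero _ (Nat.card_pos.ne'))
    rw [← h1]
    exact Finite.card_range_le _
  have hSmem : ∀ p : F₀[X], Polynomial.aeval M p ∈ S := by
    intro p
    have hdeg : (p %ₘ χ₀).degree < (d : WithBot ℕ) := by
      have h := Polynomial.degree_modByMonic_lt p hχmonic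
      rw [Polynomial.degree_eq_natDegree hχmonic.ne_zero, hχdeg'] at h
      exact h
    refine ⟨⟨p %ₘ χ₀, Polynomial.mem_degreeLT.mpr hdeg⟩, ?_⟩
    exact Polynomial.aeval_modByMonic_eq_self_of_root haev
  have hsmulmem : ∀ (c : F₀) (i : ℕ), c • M ^ i ∈ S := by
    intro c i
    have h := hSmem (Polynomial.C c * Polynomial.X ^ i)
    rw [map_mul, Polynomial.aeval_C, map_pow, Polynomial.aeval_X, ← Algebra.smul_def] at h
    exact h
  -- inverse powers
  set Mi : Matrix (Fin d) (Fin d) F := ((y⁻¹ : GL (Fin d) F) : Matrix (Fin d) (Fin d) F) with hMi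
  have hMiM : ∀ i : ℕ, Mi ^ i * M ^ i = 1 := by
    intro i
    rw [hMi, hM, ← Units.val_pow_eq_pow_val, ← Units.val_pow_eq_pow_val, ← Units.val_mul, inv_pow,
      inv_mul_cancel, Units.val_one]
  have hone : ∀ c c' : F₀, c • (1 : Matrix (Fin d) (Fin d) F) = c' • (1 : Matrix (Fin d) (Fin d) F) →
      c = c' := by
    intro c c' h
    have h1 := congrFun (congrFun h ⟨0, hd⟩) ⟨0, hd⟩
    rw [Matrix.smul_apply, Matrix.smul_apply, Matrix.one_apply_eq, Subfield.smul_def, Subfield.smul_def,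
      smul_eq_mul, smul_eq_mul, mul_one, mul_one] at h1
    exact Subtype.ext h1
  -- the minimal exponent
  let P : ℕ → Prop := fun k => 0 < k ∧ ∃ c : F₀, M ^ k = c • (1 : Matrix (Fin d) (Fin d) F)
  have hex : ∃ k, P k := by
    refine ⟨orderOf y, orderOf_pos y, 1, ?_⟩
    rw [hM, ← Units.val_pow_eq_pow_val, pow_orderOf_eq_one, Units.val_one, one_smul]
  set k := Nat.find hex with hk
  obtain ⟨hkpos, c₀, hc₀⟩ := Nat.find_spec hex
  have hmin : ∀ m : ℕ, m < k → ¬ P m := fun m hm => Nat.find_min hex hm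
  refine ⟨k, hkpos, ⟨c₀, hc₀⟩, ?_⟩
  -- key injectivity lemma
  have key : ∀ (i t : ℕ) (c c' : F₀ˣ), i + t < k →
      (c : F₀) • M ^ i = (c' : F₀) • M ^ (i + t) → t = 0 ∧ c = c' := by
    intro i t c c' hlt h
    have h1 : (c : F₀) • (1 : Matrix (Fin d) (Fin d) F) = (c' : F₀) • M ^ t := by
      have h2 : Mi ^ i * ((c : F₀) • M ^ i) = Mi ^ i * ((c' : F₀) • M ^ (i + t)) := by rw [h]
      rw [mul_smul_comm, hMiM, pow_add, mul_smul_comm, ← mul_assoc, hMiM, one_mul] at h2
      exact h2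
    have h3 : M ^ t = ((c' : F₀)⁻¹ * (c : F₀)) • (1 : Matrix (Fin d) (Fin d) F) := by
      rw [mul_smul, h1, smul_smul, inv_mul_cancel₀ (Units.ne_zero c'), one_smul]
    have ht : t = 0 := by
      by_contra hne
      exact hmin t (by omega) ⟨Nat.pos_of_ne_zero hne, _, h3⟩
    refine ⟨ht, ?_⟩
    subst ht
    rw [pow_zero] at h1
    exact Units.ext (hone _ _ h1)
  -- the injection
  let ψ : Option (Fin k × F₀ˣ) → S := fun x =>
    match x with
    | none => ⟨0, by
        have := hsmulmem 0 0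
        rwa [zero_smul] at this⟩
    | some (i, c) => ⟨(c : F₀) • M ^ i.val, hsmulmem _ _⟩
  have hunit_ne : ∀ (c : F₀ˣ) (i : ℕ), (c : F₀) • M ^ i ≠ 0 := by
    intro c i h
    have h2 : Mi ^ i * ((c : F₀) • M ^ i) = Mi ^ i * 0 := by rw [h]
    rw [mul_smul_comm, hMiM, mul_zero] at h2
    have h3 := hone (c : F₀) 0 (by rw [h2, zero_smul])
    exact Units.ne_zero c h3
  have hψ : Function.Injective ψ := by
    intro x x' hxy
    rcases x with _ | ⟨i, c⟩ <;> rcases x' with _ | ⟨j, c'⟩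
    · rfl
    · exfalso
      have h : (0 : Matrix (Fin d) (Fin d) F) = (c' : F₀) • M ^ j.val := congrArg Subtype.val hxy
      exact hunit_ne c' j.val h.symm
    · exfalso
      have h : (c : F₀) • M ^ i.val = (0 : Matrix (Fin d) (Fin d) F) := congrArg Subtype.val hxy
      exact hunit_ne c i.val h
    · have h : (c : F₀) • M ^ i.val = (c' : F₀) • M ^ j.val := congrArg Subtype.val hxy
      rcases Nat.le_total i.val j.val with hij | hij
      · obtain ⟨t, ht⟩ := Nat.exists_eq_add_of_le hij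
        rw [ht] at h
        obtain ⟨ht0, hcc⟩ := key i.val t c c' (by rw [← ht]; exact j.2) h
        have : i = j := Fin.ext (by omega)
        rw [this, hcc]
      · obtain ⟨t, ht⟩ := Nat.exists_eq_add_of_le hij
        rw [ht] at h
        obtain ⟨ht0, hcc⟩ := key j.val t c' c (by rw [← ht]; exact i.2) h.symm
        have : i = j := Fin.ext (by omega)
        rw [this, hcc]
  have : Finite S := Set.toFinite S |>.to_subtype
  have h1 := Nat.card_le_card_of_injective ψ hψ
  have h3 : Nat.card (Option (Fin k × F₀ˣ)) = k * (Nat.card F₀ - 1) + 1 := by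
    rw [Nat.card_eq_fintype_card, Fintype.card_option, Fintype.card_prod, Fintype.card_fin,
      Fintype.card_units, Nat.card_eq_fintype_card]
  rw [h3] at h1
  have h4 := h1.trans hScard
  rw [mul_comm]
  omega

/-- AMO-M1 -/
theorem scalar_pow_bound (d : ℕ) (hd : 1 ≤ d) (σ : F ≃+* F) (y : GL (Fin d) F)
    (hy : ((y : Matrix (Fin d) (Fin d) F).charpoly).map (σ : F →+* F) =
      (y : Matrix (Fin d) (Fin d) F).charpoly) :
    ∃ k : ℕ, 0 < k ∧ (∃ c : Fˣ, y ^ k = Matrix.GeneralLinearGroup.scalar (Fin d) c) ∧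
      (qf σ - 1) * k ≤ qf σ ^ d - 1 := by
  classical
  set F₀ : Subfield F := RingHom.eqLocusField ((σ : F ≃+* F) : F →+* F) (RingHom.id F) with hF₀
  have hcard : Nat.card F₀ = qf σ := by
    unfold qf
    exact Nat.card_congr (Equiv.subtypeEquivRight (fun x => Iff.rfl))
  have hlift : (y : Matrix (Fin d) (Fin d) F).charpoly ∈ Polynomial.lifts (algebraMap F₀ F) := by
    rw [Polynomial.lifts_iff_coeff_lifts]
    intro n
    have h1 : σ ((y : Matrix (Fin d) (Fin d) F).charpoly.coeff n) =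
        (y : Matrix (Fin d) (Fin d) F).charpoly.coeff n := by
      have h2 := congrArg (fun p => Polynomial.coeff p n) hy
      simp only [Polynomial.coeff_map] at h2
      exact h2
    exact ⟨⟨_, h1⟩, rfl⟩
  obtain ⟨k, hk, ⟨c, hc⟩, hb⟩ := amoM1_core F₀ d hd y hlift
  rw [hcard] at hb
  have : Nonempty (Fin d) := ⟨⟨0, hd⟩⟩
  have hc0 : (c : F) ≠ 0 := by
    intro h0
    have hu : IsUnit ((y : Matrix (Fin d) (Fin d) F) ^ k) := ⟨y ^ k, Units.val_pow_eq_pow_val y k⟩
    rw [hc, Subfield.smul_def, h0, zero_smul] at hu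
    exact not_isUnit_zero hu
  refine ⟨k, hk, ⟨Units.mk0 (c : F) hc0, ?_⟩, hb⟩
  apply Units.ext
  rw [Units.val_pow_eq_pow_val, hc, Matrix.GeneralLinearGroup.coe_scalar]
  ext i j
  simp [Matrix.scalar_apply, Matrix.one_apply, Matrix.diagonal_apply, Subfield.smul_def]

end

end Cfsg.Agent.Lib.Helper19.AMO
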