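import Mathlib
import Cfsg.Agent.Lib.Helper19.AMO.Defs

set_option autoImplicit false
set_option linter.unusedVariables false
set_option linter.unusedSectionVars false

namespace Cfsg.Agent.Lib.Helper19.AMO

open Matrix Cfsg.Agent.Lib.Helper16.PG Cfsg.Agent.Lib.Helper16.AP Cfsg.Agent.Lib.Helper16.PU

universe u

section
variable {F : Type u} [Field F] [Fintype F]

open Polynomial in
/-- AMO-M3B -/
theorem graph_field_bound (p f0 q0 : ℕ) [Fact p.Prime] [CharP F p] (hf0 : 1 ≤ f0)
    (hq0 : q0 = p ^ f0) (d : ℕ) (A B : Matrix (Fin d) (Fin d) F) (hAB : A * B = 1)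
    (hmult : ∀ ν : AlgebraicClosure F, ν ≠ 0 →
      (A.map (algebraMap F (AlgebraicClosure F))).charpoly.rootMultiplicity (ν ^ q0)⁻¹ =
        (A.map (algebraMap F (AlgebraicClosure F))).charpoly.rootMultiplicity ν) :
    ∃ j : ℕ, 0 < j ∧ (A ^ j = 1 ∨ A ^ j = -1) ∧ (q0 - 1) * j ≤ q0 ^ (d + 1) := by
  classical
  have hpp : p.Prime := Fact.out
  set K := AlgebraicClosure F with hK
  have hcK : CharP K p := charP_of_injective_algebraMap (algebraMap F K).injective p
  set AK := A.map (algebraMap F K) with hAK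
  obtain ⟨χ, hχ⟩ : ∃ χ : K[X], χ = AK.charpoly := ⟨_, rfl⟩
  rw [← hχ] at hmult
  have hχ0 : χ ≠ 0 := by
    rw [hχ]
    exact (Matrix.charpoly_monic _).ne_zero
  have hmem : ∀ x : K, x ∈ χ.roots.toFinset ↔ 1 ≤ χ.rootMultiplicity x := by
    intro x
    rw [Multiset.mem_toFinset, mem_roots hχ0, ← rootMultiplicity_pos hχ0]
    exact Iff.rfl
  have hABK : AK * B.map (algebraMap F K) = 1 := by
    rw [hAK, ← Matrix.map_mul, hAB, Matrix.map_one _ (map_zero _) (map_one _)]
  have hdetK : AK.det ≠ 0 := by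
    intro h
    have h1 := congrArg Matrix.det hABK
    rw [Matrix.det_mul, h, zero_mul, Matrix.det_one] at h1
    exact zero_ne_one h1
  have hm0 : χ.rootMultiplicity (0 : K) = 0 := by
    apply rootMultiplicity_eq_zero
    intro h
    rw [IsRoot.def, ← coeff_zero_eq_eval_zero] at h
    have h2 := Matrix.det_eq_sign_charpoly_coeff AK
    rw [← hχ, h, mul_zero] at h2
    exact hdetK h2
  set μ' : K → ℕ := fun x => χ.rootMultiplicity x + χ.rootMultiplicity x⁻¹ with hμ'
  set R : Finset K := χ.roots.toFinset ∪ χ.roots.toFinset.image (fun x => x⁻¹) with hR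
  have hRmem : ∀ x : K, x ∈ R ↔ 1 ≤ μ' x := by
    intro x
    rw [hR, Finset.mem_union, Finset.mem_image, hmem]
    constructor
    · rintro (h | ⟨y, hy, rfl⟩)
      · show 1 ≤ χ.rootMultiplicity x + χ.rootMultiplicity x⁻¹
        omega
      · show 1 ≤ χ.rootMultiplicity y⁻¹ + χ.rootMultiplicity y⁻¹⁻¹
        rw [inv_inv]
        have := (hmem y).1 hy
        omega
    · intro h
      have h' : 1 ≤ χ.rootMultiplicity x + χ.rootMultiplicity x⁻¹ := h
      rcases Nat.lt_or_ge 0 (χ.rootMultiplicity x) with h1 | h1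
      · left; exact h1
      · right
        refine ⟨x⁻¹, (hmem _).2 (by omega), inv_inv x⟩
  have h0R : (0 : K) ∉ R := by
    rw [hRmem]
    show ¬ 1 ≤ χ.rootMultiplicity (0 : K) + χ.rootMultiplicity (0 : K)⁻¹
    rw [_root_.inv_zero, hm0]
    omega
  have hne0 : ∀ x ∈ R, x ≠ 0 := fun x hx h => h0R (h ▸ hx)
  have hμinv : ∀ x : K, μ' x⁻¹ = μ' x := by
    intro x
    show χ.rootMultiplicity x⁻¹ + χ.rootMultiplicity x⁻¹⁻¹ =
      χ.rootMultiplicity x + χ.rootMultiplicity x⁻¹
    rw [inv_inv, add_comm]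
  have hμfr : ∀ x : K, x ≠ 0 → μ' (x ^ q0) = μ' x := by
    intro x hx
    show χ.rootMultiplicity (x ^ q0) + χ.rootMultiplicity (x ^ q0)⁻¹ =
      χ.rootMultiplicity x + χ.rootMultiplicity x⁻¹
    have h1 := hmult x hx
    have h2 := hmult x⁻¹ (inv_ne_zero hx)
    rw [inv_pow, inv_inv] at h2
    rw [h1, h2, add_comm]
  have hinvR : ∀ x ∈ R, x⁻¹ ∈ R := by
    intro x hx
    rw [hRmem, hμinv]
    exact (hRmem x).1 hx
  have hsum1 : ∑ x ∈ R, χ.rootMultiplicity x = d := by
    have hsub : χ.roots.toFinset ⊆ R := Finset.subset_union_left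
    rw [← Finset.sum_subset hsub]
    · have h1 : ∑ x ∈ χ.roots.toFinset, χ.rootMultiplicity x =
          ∑ x ∈ χ.roots.toFinset, χ.roots.count x :=
        Finset.sum_congr rfl fun x _ => (count_roots χ).symm
      rw [h1, Multiset.toFinset_sum_count_eq]
      have hsplit : χ.Splits := IsAlgClosed.splits χ
      rw [splits_iff_card_roots.1 hsplit, hχ, Matrix.charpoly_natDegree_eq_dim, Fintype.card_fin]
    · intro x _ hx
      have := (hmem x).not.1 hx
      omega
  have hsum2 : ∑ x ∈ R, χ.rootMultiplicity x⁻¹ = d := by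
    rw [← hsum1]
    apply Finset.sum_nbij' (fun x => x⁻¹) (fun x => x⁻¹)
    · intro x hx; exact hinvR x hx
    · intro x hx; exact hinvR x hx
    · intro x _; exact inv_inv x
    · intro x _; exact inv_inv x
    · intro x _; rfl
  have hsum : ∑ x ∈ R, μ' x = 2 * d := by
    show ∑ x ∈ R, (χ.rootMultiplicity x + χ.rootMultiplicity x⁻¹) = 2 * d
    rw [Finset.sum_add_distrib, hsum1, hsum2]
    ring
  obtain ⟨N, a, c, hN, hc, hRN, hRa, hbound⟩ :=
    Cfsg.Agent.Lib.Helper1.MEO.core_bound (K := K) p f0 hf0 q0 hq0 d R μ'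
      (fun x hx => (hRmem x).1 hx) h0R
      (fun x hx => ⟨by rw [hRmem, hμfr x (hne0 x hx)]; exact (hRmem x).1 hx, hμfr x (hne0 x hx)⟩)
      (fun x hx => ⟨hinvR x hx, hμinv x⟩) hsum
      (fun _ _ => by
        show Even (χ.rootMultiplicity (-1 : K) + χ.rootMultiplicity (-1 : K)⁻¹)
        rw [inv_neg_one]
        exact ⟨_, rfl⟩)
  have hE := Cfsg.Agent.Lib.Helper1.MEO.pow_eq_of_roots_mult p AK N a hN c
    (fun μ hμ => hRN μ (by
      rw [hRmem]
      have : 1 ≤ χ.rootMultiplicity μ := by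
        rw [hχ]
        exact (rootMultiplicity_pos (hχ ▸ hχ0)).2 hμ
      show 1 ≤ χ.rootMultiplicity μ + χ.rootMultiplicity μ⁻¹
      omega))
    (fun μ => by
      rw [← hχ]
      by_cases hμ : μ ∈ R
      · have h1 := hRa μ hμ
        have h2 : χ.rootMultiplicity μ ≤ μ' μ := Nat.le_add_right _ _
        exact h2.trans h1
      · have h1 := (hRmem μ).not.1 hμ
        have h2 : χ.rootMultiplicity μ ≤ μ' μ := Nat.le_add_right _ _
        have : χ.rootMultiplicity μ = 0 := by omega
        rw [this]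
        exact Nat.zero_le _)
  have hinjM : Function.Injective
      (fun M : Matrix (Fin d) (Fin d) F => M.map (algebraMap F K)) :=
    Matrix.map_injective (algebraMap F K).injective
  have hpow : (A ^ (N * p ^ a)).map (algebraMap F K) = AK ^ (N * p ^ a) := by
    rw [hAK]
    exact Matrix.map_pow A (algebraMap F K) (N * p ^ a)
  refine ⟨N * p ^ a, Nat.mul_pos hN (pow_pos hpp.pos _), ?_, hbound⟩
  have hcc : c ^ (p ^ a) = 1 ∨ c ^ (p ^ a) = -1 := by
    rcases hc with rfl | ⟨rfl, -⟩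
    · left; exact one_pow _
    · exact neg_one_pow_eq_or K _
  rcases hcc with hcc | hcc
  · left
    apply hinjM
    change (A ^ (N * p ^ a)).map (algebraMap F K) = (1 : Matrix (Fin d) (Fin d) F).map (algebraMap F K)
    rw [hpow, hE, hcc, one_smul, Matrix.map_one _ (map_zero _) (map_one _)]
  · right
    apply hinjM
    change (A ^ (N * p ^ a)).map (algebraMap F K) = (-1 : Matrix (Fin d) (Fin d) F).map (algebraMap F K)
    rw [hpow, hE, hcc]
    ext i j
    simp [Matrix.one_apply, Matrix.neg_apply]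
    split_ifs <;> simp

end

end Cfsg.Agent.Lib.Helper19.AMO
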