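import Mathlib
import Cfsg.Prelude.Def_GeometricClasses
import Cfsg.Agent.Lib.Helper27.ASC.Defs
import Cfsg.Agent.Lib.Lead.ASCU.Defs
import Cfsg.Agent.Lib.Helper19.ASCUUARITHcore

/-!
# Project ASCU, piece UARITH : `uarith7`, `uarith11` (amended statements with `1 < q`)
-/

set_option autoImplicit false
set_option linter.unusedVariables false

namespace Cfsg.Agent.Lib.Lead.ASCU

open Cfsg Cfsg.Geo Cfsg.Agent.Lib.Helper27.ASC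
open scoped MatrixGroups Matrix

variable {n : ℕ} {F : Type*} [Field F] [Fintype F]

/-- UARITH7 -/
theorem uarith7 (q p e : ℕ) (hp : p.Prime) (hq : q ^ 2 = p ^ e) (hq1 : 1 < q) (h7 : 7 ≠ p) (hdvd : 7 ∣ p ^ e - 1)
    (hmin : ∀ d : ℕ, 0 < d → d < e → ¬ 7 ∣ p ^ d - 1) :
    (q = p ∧ p % 7 = 6) ∨ (q = p ^ 3 ∧ (p % 7 = 3 ∨ p % 7 = 5)) :=
  ascuuarith_7 q p e hp hq (ascuuarith_pos q p e hq hq1) h7 hdvd hmin

/-- UARITH11 -/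
theorem uarith11 (q p e : ℕ) (hp : p.Prime) (hq : q ^ 2 = p ^ e) (hq1 : 1 < q) (h11 : 11 ≠ p) (hdvd : 11 ∣ p ^ e - 1)
    (hmin : ∀ d : ℕ, 0 < d → d < e → ¬ 11 ∣ p ^ d - 1) :
    (q = p ∧ p % 11 = 10) ∨ (q = p ^ 5 ∧ (p % 11 = 2 ∨ p % 11 = 6 ∨ p % 11 = 7 ∨ p % 11 = 8)) :=
  ascuuarith_11 q p e hp hq (ascuuarith_pos q p e hq hq1) h11 hdvd hmin

end Cfsg.Agent.Lib.Lead.ASCU
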