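import Mathlib
import Cfsg.Prelude.Def_GeometricClasses
import Cfsg.Agent.Lib.Helper27.ASC.Defs
import Cfsg.Agent.Lib.Helper19.ASG.Defs

/-! Project ASG, piece AB-WED: a finite-dimensional semisimple algebra over a finite field whose centre is the ground
field is a full matrix algebra (Wedderburn–Artin + little Wedderburn). -/

set_option autoImplicit false
set_option linter.unusedVariables false
set_option linter.unusedSectionVars false

namespace Cfsg.Agent.Lib.Helper19.ASG

open Cfsg Cfsg.Geo Cfsg.Agent.Lib.Helper27.ASC
open scoped MatrixGroups Matrix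

variable {n : ℕ} {F : Type*} [Field F] [Fintype F]

/-- AB-WED -/
theorem wedderburn_central {A : Type*} [Ring A] [Algebra F A] [Module.Finite F A] [IsSemisimpleRing A] [Nontrivial A]
    (hZ : ∀ z : A, (∀ a : A, z * a = a * z) → ∃ c : F, z = algebraMap F A c) :
    ∃ k : ℕ, Nonempty (A ≃ₐ[F] Matrix (Fin k) (Fin k) F) := by
  classical
  obtain ⟨m, D, d, hDR, hAlg, hfin, hd, ⟨e⟩⟩ :=
    IsSemisimpleRing.exists_algEquiv_pi_matrix_divisionRing_finite F A
  -- central idempotents are 0 or 1
  have hidem : ∀ z : A, (∀ a : A, z * a = a * z) → z * z = z → z = 0 ∨ z = 1 := by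
    intro z hz hzz
    obtain ⟨c, rfl⟩ := hZ z hz
    rw [← map_mul] at hzz
    have hc : c * c = c := (algebraMap F A).injective hzz
    have : c * (c - 1) = 0 := by rw [mul_sub, hc, mul_one, sub_self]
    rcases mul_eq_zero.1 this with h | h
    · left; rw [h, map_zero]
    · right; rw [sub_eq_zero.1 h, map_one]
  -- the index set is a singleton
  have hone : ∀ i : Fin m, (Pi.single i 1 : Π i, Matrix (Fin (d i)) (Fin (d i)) (D i)) = 1 := by
    intro i
    set ε : Π i, Matrix (Fin (d i)) (Fin (d i)) (D i) := Pi.single i 1 with hε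
    have hcen : ∀ x : Π i, Matrix (Fin (d i)) (Fin (d i)) (D i), ε * x = x * ε := by
      intro x
      funext j
      by_cases hj : j = i
      · subst hj
        simp [hε]
      · simp [hε, Pi.single_eq_of_ne hj]
    have hεε : ε * ε = ε := by
      funext j
      by_cases hj : j = i
      · subst hj
        simp [hε]
      · simp [hε, Pi.single_eq_of_ne hj]
    have h1 : ∀ a : A, e.symm ε * a = a * e.symm ε := by
      intro a
      apply e.injective
      rw [map_mul, map_mul, e.apply_symm_apply]
      exact hcen _
    have h2 : e.symm ε * e.symm ε = e.symm ε := by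
      rw [← map_mul, hεε]
    rcases hidem _ h1 h2 with h | h
    · exfalso
      have h3 : ε = 0 := by
        have := congrArg e h
        rwa [e.apply_symm_apply, map_zero] at this
      have h4 := congrFun h3 i
      have : Nontrivial (Matrix (Fin (d i)) (Fin (d i)) (D i)) := by
        have := hd i
        have : Nonempty (Fin (d i)) := ⟨⟨0, Nat.pos_of_ne_zero (NeZero.ne (d i))⟩⟩
        infer_instance
      simp [hε] at h4
    · have := congrArg e h
      rwa [e.apply_symm_apply, map_one] at this
  have hm : 0 < m := by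
    rcases Nat.eq_zero_or_pos m with h | h
    · exfalso
      subst h
      have : (1 : A) = 0 := by
        apply e.injective
        funext i
        exact Fin.elim0 i
      exact one_ne_zero this
    · exact h
  set i0 : Fin m := ⟨0, hm⟩ with hi0
  have hsub : ∀ j : Fin m, j = i0 := by
    intro j
    by_contra hj
    have h1 := congrFun (hone i0) j
    have : Nontrivial (Matrix (Fin (d j)) (Fin (d j)) (D j)) := by
      have := hd j
      have : Nonempty (Fin (d j)) := ⟨⟨0, Nat.pos_of_ne_zero (NeZero.ne (d j))⟩⟩
      infer_instance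
    rw [Pi.single_eq_of_ne hj] at h1
    exact zero_ne_one h1
  -- projection to the factor
  let π : A →ₐ[F] Matrix (Fin (d i0)) (Fin (d i0)) (D i0) :=
    (Pi.evalAlgHom F (fun i => Matrix (Fin (d i)) (Fin (d i)) (D i)) i0).comp e.toAlgHom
  have hπinj : Function.Injective π := by
    intro a b hab
    apply e.injective
    funext j
    rw [hsub j]
    exact hab
  have hπsurj : Function.Surjective π := by
    intro x
    refine ⟨e.symm (Pi.single i0 x), ?_⟩
    show (e (e.symm (Pi.single i0 x))) i0 = x
    rw [e.apply_symm_apply, Pi.single_eq_same]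
  let e1 : A ≃ₐ[F] Matrix (Fin (d i0)) (Fin (d i0)) (D i0) := AlgEquiv.ofBijective π ⟨hπinj, hπsurj⟩
  -- `D i0` is commutative, and equal to `F`
  have : Finite (D i0) := Module.finite_of_finite F
  have hcomm : ∀ x y : D i0, x * y = y * x := by
    intro x y
    let _ := littleWedderburn (D i0)
    exact mul_comm x y
  have hd0 : 0 < d i0 := Nat.pos_of_ne_zero (NeZero.ne (d i0))
  have hsurj : Function.Surjective (algebraMap F (D i0)) := by
    intro x
    set X : Matrix (Fin (d i0)) (Fin (d i0)) (D i0) := Matrix.scalar (Fin (d i0)) x with hX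
    have hXc : ∀ Y : Matrix (Fin (d i0)) (Fin (d i0)) (D i0), X * Y = Y * X := by
      intro Y
      ext a b
      simp [hX, Matrix.scalar_apply, Matrix.diagonal_mul, Matrix.mul_diagonal, hcomm]
    have h1 : ∀ a : A, e1.symm X * a = a * e1.symm X := by
      intro a
      apply e1.injective
      rw [map_mul, map_mul, e1.apply_symm_apply]
      exact hXc _
    obtain ⟨c, hc⟩ := hZ _ h1
    refine ⟨c, ?_⟩
    have h2 := congrArg e1 hc
    rw [e1.apply_symm_apply, AlgEquiv.commutes] at h2
    have h3 := congrFun (congrFun h2 ⟨0, hd0⟩) ⟨0, hd0⟩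
    simp [hX, Matrix.algebraMap_matrix_apply] at h3
    exact h3.symm
  let e2 : F ≃ₐ[F] D i0 := AlgEquiv.ofBijective (Algebra.ofId F (D i0))
    ⟨(algebraMap F (D i0)).injective, hsurj⟩
  exact ⟨d i0, ⟨e1.trans (AlgEquiv.mapMatrix e2.symm)⟩⟩

end Cfsg.Agent.Lib.Helper19.ASG
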