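import Mathlib
import Cfsg.Prelude.Def_GeometricClasses
import Cfsg.Agent.Lib.Helper27.ASC.Defs
import Cfsg.Agent.Lib.Helper19.ASG.Defs
import Cfsg.Agent.Lib.Helper1.ASGAB
import Cfsg.Agent.Lib.Helper10.ASGCONE
import Cfsg.Agent.Lib.Helper25.ASGCFULL
import Cfsg.Agent.Lib.Helper20.ASGCDIM
import Cfsg.Agent.Lib.Helper11.ASGD2SSYMP
import Cfsg.Agent.Lib.Helper18.ASCSYMP
import Cfsg.Agent.Lib.Helper10.ASCIRRNS
import Cfsg.Agent.Lib.Helper10.ASCSUBF2
import Cfsg.Agent.Lib.Helper11.ASCRED
import Cfsg.Agent.Lib.Helper18.ASCNOSYMP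
import Cfsg.Agent.Lib.Helper25.ASCCENT
import Cfsg.Agent.Lib.Helper29.ASCQUAD
import Cfsg.Agent.Lib.Helper29.ASCUNIT
import Cfsg.Agent.Lib.helper4.ASCSUBF1
import Cfsg.Agent.Lib.helper8.ASCSUBF3

/-!
# Project ASG : assembly of S5630, with the three big blocks (`tensor_case`, `nilp_case`, `perfect_case`) as hypotheses
-/

set_option autoImplicit false
set_option linter.unusedVariables false
set_option linter.unusedSectionVars false

namespace Cfsg.Agent.Lib.Helper19.ASG

open Cfsg Cfsg.Geo Cfsg.Agent.Lib.Helper27.ASC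
open scoped MatrixGroups Matrix

variable {n : ℕ} {F : Type*} [Field F] [Fintype F]

/-- the statement of block C -/
def TensorCaseStmt (n : ℕ) (F : Type*) [Field F] [Fintype F] : Prop :=
  ∀ {H N : Subgroup (GL (Fin n) F)}, Irr H → NormalIn N H → ∀ {k : ℕ},
    (centAlg N ≃ₐ[F] Matrix (Fin k) (Fin k) F) → 1 < k → k < n → InClass H

/-- the statement of block D1 -/
def NilpCaseStmt (n : ℕ) (F : Type*) [Field F] [Fintype F] : Prop :=
  ∀ {H N : Subgroup (GL (Fin n) F)}, Irr H → AllNormalAbsIrr H → MinNonscalar N H →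
    ⁅N, N⁆ ≤ scalars (Fin n) F → InClass H

/-- the statement of block D2T -/
def PerfectCaseStmt (n : ℕ) (F : Type*) [Field F] [Fintype F] : Prop :=
  ∀ {H N : Subgroup (GL (Fin n) F)}, Irr H → AllNormalAbsIrr H → MinNonscalar N H → ⁅N, N⁆ = N →
    InClass H ∨ (IsSimpleGroup (N ⧸ (scalars (Fin n) F).subgroupOf N) ∧
      ¬ IsMulCommutative (N ⧸ (scalars (Fin n) F).subgroupOf N))

/-- blocks AB + C : a subgroup normalised by an irreducible `H` is scalar or absolutely irreducible, or `H` is in a class -/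
theorem asgmain_normal_dichotomy (hn : 3 ≤ n) (hC : TensorCaseStmt n F) {H N : Subgroup (GL (Fin n) F)}
    (hH : Irr H) (hN : NormalIn N H) : InClass H ∨ N ≤ scalars (Fin n) F ∨ AbsIrr N := by
  rcases clifford_ab (by omega) hH hN with h | ⟨k, ⟨φ⟩⟩
  · exact Or.inl h
  · obtain ⟨hk0, hkn⟩ := cent_matrix_le (by omega) φ
    rcases Nat.lt_or_ge 1 k with hk1 | hk1
    · rcases Nat.lt_or_ge k n with hlt | hge
      · exact Or.inl (hC hH hN φ hk1 hlt)
      · have hkn' : k = n := le_antisymm hkn hge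
        subst hkn'
        exact Or.inr (Or.inl (scalar_of_cent_full φ))
    · have hk : k = 1 := by omega
      subst hk
      exact Or.inr (Or.inr (absIrr_of_cent_one hH hN φ))

/-- realisable over a proper subfield => class 5 -/
theorem asgmain_inClass_of_realisable {H P : Subgroup (GL (Fin n) F)} (hP : NormalIn P H) (hA : AbsIrr P)
    (F₀ : Subfield F) (h0 : F₀ ≠ ⊤) (hR : RealisableOver F₀ (matrixSet P)) : InClass H := by
  obtain ⟨B, hB⟩ := subfield_of_realisable hP hA F₀ hR
  obtain ⟨F₁, ℓ, h01, hℓ, hc⟩ := exists_prime_index_subfield F₀ h0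
  exact inClass_of_subfield F₁ hℓ hc B (hB.trans (subfieldSubgroup_mono h01 B))

/-- the polar form of a non-degenerate quadratic form in characteristic 2 is symplectic -/
theorem asgmain_polar_symplectic (h2 : ¬ Odd (Fintype.card F)) (Q : (Fin n → F) → F)
    (hQ : IsNondegenerateQuadraticForm Q) : IsSymplecticForm (QuadraticMap.polar Q) := by
  apply ascsymp_polar_symplectic _ Q hQ
  have hev : Even (Fintype.card F) := Nat.not_odd_iff_even.mp h2
  have hch : ringChar F = 2 := FiniteField.even_card_iff_char_two.mpr (Nat.even_iff.mp hev)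
  have : CharP F 2 := hch ▸ ringChar.charP F
  exact CharTwo.two_eq_zero

/-- Aschbacher's theorem for `GL_n(F)`, `n ≥ 3`, containment form, from the three big blocks -/
theorem asg_main_core (hn : 3 ≤ n) (hC : TensorCaseStmt n F) (hD1 : NilpCaseStmt n F)
    (hD2 : PerfectCaseStmt n F) (H : Subgroup (GL (Fin n) F)) : InClass H ∨ InLinearResidualClass H := by
  classical
  by_cases hH : Irr H
  swap
  · obtain ⟨W, h0, h1, hW⟩ := red_case H hH
    exact Or.inl (inClass_of_stab W h0 h1 hW)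
  by_cases hcl : InClass H
  · exact Or.inl hcl
  have hD : AllNormalAbsIrr H := by
    intro N hN
    rcases asgmain_normal_dichotomy hn hC hH hN with h | h | h
    · exact absurd h hcl
    · exact Or.inl h
    · exact Or.inr h
  have hns : ¬ H ≤ scalars (Fin n) F := irr_not_scalar (by omega) hH
  obtain ⟨N, hN⟩ := exists_minNonscalar H hns
  have hNA : AbsIrr N := (hD N hN.1).resolve_left hN.2.1
  have hcomm : NormalIn ⁅N, N⁆ H := commutator_normalIn hN.1
  rcases hN.2.2 ⁅N, N⁆ hcomm (Subgroup.commutator_le_self N) with hab | hperf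
  · exact Or.inl (hD1 hH hD hN hab)
  rcases hD2 hH hD hN hperf with h | ⟨hsimple, hnonab⟩
  · exact Or.inl h
  -- the almost simple case
  by_cases hsub : ∃ F₀ : Subfield F, F₀ ≠ ⊤ ∧ RealisableOver F₀ (matrixSet N)
  · obtain ⟨F₀, h0, hR⟩ := hsub
    exact Or.inl (asgmain_inClass_of_realisable hN.1 hNA F₀ h0 hR)
  by_cases hsymp : ∃ f : (Fin n → F) → (Fin n → F) → F, IsSymplecticForm f ∧ FixesForm (matrixSet N) f
  · obtain ⟨f, hf, hfix⟩ := hsymp
    have he : Even n := by
      by_contra hodd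
      exact no_symplectic_odd (Nat.not_even_iff_odd.1 hodd) f hf
    have h4 : 4 ≤ n := by
      obtain ⟨m, rfl⟩ := he
      omega
    exact Or.inl (inClass_of_symp f hf he h4 (symp_of_fixes hN.1 hNA f hf hfix))
  by_cases hquad : ∃ Q : (Fin n → F) → F, IsNondegenerateQuadraticForm Q ∧ FixesQuadForm (matrixSet N) Q
  · obtain ⟨Q, hQ, hfix⟩ := hquad
    by_cases hodd : Odd (Fintype.card F)
    · exact Or.inl (inClass_of_quad Q hQ hodd hn (quad_of_fixes hN.1 hNA hodd Q hQ hfix))
    · exfalso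
      apply hsymp
      refine ⟨QuadraticMap.polar Q, asgmain_polar_symplectic hodd Q hQ, fun s hs u v => ?_⟩
      unfold QuadraticMap.polar
      rw [← Matrix.mulVec_add, hfix s hs, hfix s hs, hfix s hs]
  by_cases hunit : ∃ (σ : F ≃+* F) (f : (Fin n → F) → (Fin n → F) → F), IsUnitaryForm σ f ∧
      FixesForm (matrixSet N) f
  · obtain ⟨σ, f, hf, hfix⟩ := hunit
    exact Or.inl (inClass_of_unit σ f hf hn (unit_of_fixes hN.1 hNA σ f hf hfix))
  refine Or.inr ⟨N, ⟨hN.1.1, hN.1.2, hperf, hsimple, hnonab, centralizer_scalar_of hN.1 hperf hNA, hNA, ?_⟩,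
    hquad, hsymp, hunit⟩
  intro F₀ h0 hR
  exact hsub ⟨F₀, h0, hR⟩

end Cfsg.Agent.Lib.Helper19.ASG
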