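import Mathlib
import Cfsg.Prelude.Def_GeometricClasses
import Cfsg.Agent.Lib.Helper27.ASC.Defs
import Cfsg.Agent.Lib.Helper19.ASG.Defs
import Cfsg.Agent.Lib.Helper19.ASGMaincore
import Cfsg.Agent.Lib.Helper24.ASGCASM
import Cfsg.Agent.Lib.Helper26.ASGD1MAIN
import Cfsg.Agent.Lib.Helper9.ASGD2TASM

/-!
# Project ASG : S5630 (Aschbacher's theorem for `GL_n(F)`, `n ≥ 3`, containment form), final assembly
`asg_main_core` (blocks AB, C-ONE/FULL/DIM, D2S inline) + `tensor_case` (block C) + `nilp_case` (block D1) +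
`perfect_case` (block D2T).
-/

set_option autoImplicit false

namespace Cfsg.Agent.Lib.Helper19.ASG

open Cfsg Cfsg.Geo Cfsg.Agent.Lib.Helper27.ASC
open scoped MatrixGroups Matrix

variable {n : ℕ} {F : Type*} [Field F] [Fintype F]

/-- Aschbacher's theorem for `GL_n(F)`, `n ≥ 3`, containment form -/
theorem asg_main (hn : 3 ≤ n) (H : Subgroup (GL (Fin n) F)) : InClass H ∨ InLinearResidualClass H :=
  asg_main_core hn (fun hH hN _ φ h1 h2 => tensor_case hn hH hN φ h1 h2)
    (fun hH hD hN hab => nilp_case hn hH hD hN hab)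
    (fun hH hD hN hperf => perfect_case hn hH hD hN hperf) H

end Cfsg.Agent.Lib.Helper19.ASG
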