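import Mathlib
import Cfsg.Prelude.Def_GeometricClasses
import Cfsg.Agent.Lib.Helper27.ASC.Defs
import Cfsg.Agent.Lib.Helper19.ASG.Defs
import Cfsg.Agent.Lib.Helper19.ASU.Defs
import Cfsg.Agent.Lib.Helper1.ASGCLIF3

/-!
# Project ASU, block AB, piece AB-DEC : the Clifford decomposition for the idempotents in a product-closed, `H`-stable set
(copy of helper18's `aspgen_dec` = helper1's `asgclif_dec`, with the predicate `S` added)
-/

set_option autoImplicit false
set_option linter.unusedVariables false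
set_option linter.unusedSectionVars false
set_option linter.style.haveILetI false

namespace Cfsg.Agent.Lib.Helper19.ASU

open Cfsg Cfsg.Geo Cfsg.Agent.Lib.Helper27.ASC Cfsg.Agent.Lib.Helper19.ASG
open scoped MatrixGroups Matrix

variable {n : ℕ} {F : Type*} [Field F] [Fintype F]

/-- AB-DEC : helper1's Clifford decomposition (`asgclif_dec`, in helper18's form `aspgen_dec` for a commutative subalgebra `A`
stable under conjugation by the irreducible `H`) for the idempotents of `A` lying in a set `S` closed under products and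
under conjugation by `H` -/
theorem uab_dec (hn : 0 < n) {H : Subgroup (GL (Fin n) F)} (hH : Irr H)
    (A : Subalgebra F (Matrix (Fin n) (Fin n) F)) (hcomm : ∀ x ∈ A, ∀ y ∈ A, x * y = y * x)
    (hconj : ∀ h ∈ H, ∀ z ∈ A, (h : Matrix (Fin n) (Fin n) F) * z *
      ((h⁻¹ : GL (Fin n) F) : Matrix (Fin n) (Fin n) F) ∈ A)
    (S : Set (Matrix (Fin n) (Fin n) F)) (hSmul : ∀ x ∈ S, ∀ y ∈ S, x * y ∈ S)
    (hSconj : ∀ h ∈ H, ∀ z ∈ S, asgConj h z ∈ S)
    (e0 : Matrix (Fin n) (Fin n) F) (he0 : e0 ∈ A) (he0S : e0 ∈ S) (hid0 : e0 * e0 = e0) (h00 : e0 ≠ 0)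
    (h01 : e0 ≠ 1) :
    ∃ (t m : ℕ) (E : Fin t → Matrix (Fin n) (Fin n) F), (∀ i, E i ∈ A) ∧ (∀ i, E i ∈ S) ∧ (∀ i, E i * E i = E i) ∧
      (∀ i, E i ≠ 0) ∧ (∀ i j, i ≠ j → E i * E j = 0) ∧
      (∀ i j, ∃ h ∈ H, E j = asgConj h (E i)) ∧
      IsMDecomposition m (fun i => LinearMap.range (Matrix.toLin' (E i))) ∧
      H ≤ decompositionStabilizer (fun i => LinearMap.range (Matrix.toLin' (E i))) := by
  classical
  let P : Matrix (Fin n) (Fin n) F → Prop := fun f => (f ∈ A ∧ f ∈ S) ∧ f * f = f ∧ f ≠ 0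
  have hPconj : ∀ h ∈ H, ∀ f, P f → P (asgConj h f) := by
    rintro h hh f ⟨⟨hf1, hf1S⟩, hf2, hf3⟩
    refine ⟨⟨hconj h hh f hf1, hSconj h hh f hf1S⟩, by rw [← asgclif_conj_mmul, hf2], fun h0 => hf3 ?_⟩
    have := congrArg (asgConj h⁻¹) h0
    rwa [asgclif_conj_inv_conj, asgclif_conj_zero] at this
  obtain ⟨e, hPe, hmin⟩ := Set.exists_min_image {f | P f}
    (fun f => Module.finrank F (LinearMap.range (Matrix.toLin' f))) (Set.toFinite _) ⟨e0, ⟨he0, he0S⟩, hid0, h00⟩
  have hatom : ∀ f, P f → f * e = f → f = e := by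
    rintro f hPf hfe
    have hPf' := hPf
    obtain ⟨⟨hf1, hf1S⟩, hf2, hf3⟩ := hPf
    have hef : e * f = f := by rw [hcomm _ hPe.1.1 _ hf1, hfe]
    have hle : LinearMap.range (Matrix.toLin' f) ≤ LinearMap.range (Matrix.toLin' e) := by
      rintro _ ⟨w, rfl⟩
      refine ⟨f *ᵥ w, ?_⟩
      rw [Matrix.toLin'_apply, Matrix.toLin'_apply, Matrix.mulVec_mulVec, hef]
    have heq : LinearMap.range (Matrix.toLin' f) = LinearMap.range (Matrix.toLin' e) :=
      Submodule.eq_of_le_of_finrank_le hle (hmin f hPf')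
    rw [← hfe]
    apply Matrix.toLin'.injective
    apply LinearMap.ext
    intro v
    have hv : Matrix.toLin' e v ∈ LinearMap.range (Matrix.toLin' f) := by
      rw [heq]; exact ⟨v, rfl⟩
    obtain ⟨w, hw⟩ := hv
    rw [Matrix.toLin'_apply, Matrix.toLin'_apply] at hw
    rw [Matrix.toLin'_apply, Matrix.toLin'_apply, ← Matrix.mulVec_mulVec, ← hw, Matrix.mulVec_mulVec, hf2]
  have he1 : e ≠ 1 := by
    intro h1
    apply h01
    have := hatom e0 ⟨⟨he0, he0S⟩, hid0, h00⟩ (by rw [h1, Matrix.mul_one])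
    rw [this, h1]
  have hatomc : ∀ h ∈ H, ∀ f, P f → f * asgConj h e = f → f = asgConj h e := by
    intro h hh f hPf hfe
    have h1 := hPconj h⁻¹ (H.inv_mem hh) f hPf
    have h2 : asgConj h⁻¹ f * e = asgConj h⁻¹ f := by
      have := congrArg (asgConj h⁻¹) hfe
      rwa [asgclif_conj_mmul, asgclif_conj_inv_conj] at this
    have h3 := hatom _ h1 h2
    have := congrArg (asgConj h) h3
    rwa [asgclif_conj_conj_inv] at this
  have horth0 : ∀ a ∈ H, ∀ b ∈ H, asgConj a e ≠ asgConj b e → asgConj a e * asgConj b e = 0 := by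
    intro a ha b hb hne
    by_contra h0
    have hPa := hPconj a ha e hPe
    have hPb := hPconj b hb e hPe
    have hcomm := hcomm _ hPa.1.1 _ hPb.1.1
    have hPg : P (asgConj a e * asgConj b e) := by
      refine ⟨⟨Subalgebra.mul_mem _ hPa.1.1 hPb.1.1, hSmul _ hPa.1.2 _ hPb.1.2⟩, ?_, h0⟩
      calc asgConj a e * asgConj b e * (asgConj a e * asgConj b e)
          = asgConj a e * (asgConj b e * asgConj a e) * asgConj b e := by simp only [Matrix.mul_assoc]
        _ = asgConj a e * (asgConj a e * asgConj b e) * asgConj b e := by rw [hcomm]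
        _ = (asgConj a e * asgConj a e) * (asgConj b e * asgConj b e) := by simp only [Matrix.mul_assoc]
        _ = _ := by rw [hPa.2.1, hPb.2.1]
    have h1 : asgConj a e * asgConj b e = asgConj b e :=
      hatomc b hb _ hPg (by rw [Matrix.mul_assoc, hPb.2.1])
    have h2 : asgConj a e * asgConj b e = asgConj a e :=
      hatomc a ha _ hPg (by rw [hcomm, Matrix.mul_assoc, hPa.2.1])
    exact hne (h2.symm.trans h1)
  let O : Finset (Matrix (Fin n) (Fin n) F) := Finset.univ.filter (fun f => ∃ h ∈ H, f = asgConj h e)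
  have hOmem : ∀ f, f ∈ O ↔ ∃ h ∈ H, f = asgConj h e := by
    intro f
    simp [O]
  have hOconj : ∀ h ∈ H, ∀ f ∈ O, asgConj h f ∈ O := by
    intro h hh f hf
    obtain ⟨k, hk, rfl⟩ := (hOmem f).mp hf
    exact (hOmem _).mpr ⟨h * k, H.mul_mem hh hk, (asgclif_conj_mul h k e).symm⟩
  have heO : e ∈ O := (hOmem e).mpr ⟨1, H.one_mem, (asgclif_conj_one e).symm⟩
  have hmove : ∃ h ∈ H, asgConj h e ≠ e := by
    by_contra hcon
    push Not at hcon
    have hinv : ∀ s ∈ matrixSet H, (LinearMap.range (Matrix.toLin' e)).map (Matrix.toLin' s) ≤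
        LinearMap.range (Matrix.toLin' e) := by
      rintro _ ⟨h, hh, rfl⟩
      rw [asgclif_range_conj, hcon h hh]
    rcases hH _ hinv with hb | ht
    · apply hPe.2.2
      apply Matrix.toLin'.injective
      rw [map_zero]
      exact LinearMap.range_eq_bot.mp hb
    · exact he1 (asgclif_idem_top e hPe.2.1 ht)
  obtain ⟨h1, hh1, hne1⟩ := hmove
  have hcard : 2 ≤ O.card :=
    Finset.one_lt_card.mpr ⟨e, heO, asgConj h1 e, hOconj h1 hh1 e heO, fun h => hne1 h.symm⟩
  let t := O.card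
  let eqv : ↥O ≃ Fin t := O.equivFin
  let E : Fin t → Matrix (Fin n) (Fin n) F := fun i => ((eqv.symm i : ↥O) : Matrix (Fin n) (Fin n) F)
  have hEO : ∀ i, E i ∈ O := fun i => (eqv.symm i).2
  have hEex : ∀ i, ∃ k ∈ H, E i = asgConj k e := fun i => (hOmem _).mp (hEO i)
  have hEP : ∀ i, P (E i) := by
    intro i
    obtain ⟨k, hk, hE⟩ := hEex i
    rw [hE]
    exact hPconj k hk e hPe
  have hEinj : Function.Injective E := by
    intro i j hij
    exact eqv.symm.injective (Subtype.ext hij)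
  have horth : ∀ i j, i ≠ j → E i * E j = 0 := by
    intro i j hij
    obtain ⟨a, ha, hEa⟩ := hEex i
    obtain ⟨b, hb, hEb⟩ := hEex j
    have hne : E i ≠ E j := fun h => hij (hEinj h)
    rw [hEa, hEb] at hne ⊢
    exact horth0 a ha b hb hne
  let D : Fin t → Submodule F (Fin n → F) := fun i => LinearMap.range (Matrix.toLin' (E i))
  let c : ∀ h ∈ H, ↥O ≃ ↥O := fun h hh =>
    { toFun := fun f => ⟨asgConj h f.1, hOconj h hh f.1 f.2⟩
      invFun := fun f => ⟨asgConj h⁻¹ f.1, hOconj h⁻¹ (H.inv_mem hh) f.1 f.2⟩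
      left_inv := fun f => Subtype.ext (asgclif_conj_inv_conj h f.1)
      right_inv := fun f => Subtype.ext (asgclif_conj_conj_inv h f.1) }
  have hperm : ∀ h ∈ H, ∃ σ : Equiv.Perm (Fin t), ∀ i,
      (D i).map (Matrix.toLin' (h : Matrix (Fin n) (Fin n) F)) = D (σ i) := by
    intro h hh
    refine ⟨eqv.symm.trans ((c h hh).trans eqv), fun i => ?_⟩
    have hE' : asgConj h (E i) = E ((eqv.symm.trans ((c h hh).trans eqv)) i) := by
      change asgConj h (E i) = ((eqv.symm (eqv ((c h hh) (eqv.symm i))) : ↥O) : Matrix (Fin n) (Fin n) F)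
      rw [Equiv.symm_apply_apply]
      rfl
    change (LinearMap.range (Matrix.toLin' (E i))).map _ = LinearMap.range (Matrix.toLin' (E _))
    rw [asgclif_range_conj, hE']
  have hstab : H ≤ decompositionStabilizer D := fun h hh => hperm h hh
  have hindep : iSupIndep D := asgclif_indep E (fun i => (hEP i).2.1) horth
  have htop : iSup D = ⊤ := by
    have hinv : ∀ s ∈ matrixSet H, (iSup D).map (Matrix.toLin' s) ≤ iSup D := by
      rintro _ ⟨h, hh, rfl⟩
      obtain ⟨σ, hσ⟩ := hperm h hh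
      rw [Submodule.map_iSup]
      refine iSup_le fun i => ?_
      rw [hσ i]
      exact le_iSup D (σ i)
    rcases hH _ hinv with hb | ht
    · exfalso
      have i0 : Fin t := ⟨0, by omega⟩
      have h1 : D i0 ≤ ⊥ := hb ▸ le_iSup D i0
      have h2 : D i0 = ⊥ := le_bot_iff.mp h1
      apply (hEP i0).2.2
      apply Matrix.toLin'.injective
      rw [map_zero]
      exact LinearMap.range_eq_bot.mp h2
    · exact ht
  have hfr : ∀ i, Module.finrank F (D i) = Module.finrank F (LinearMap.range (Matrix.toLin' e)) := by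
    intro i
    obtain ⟨k, hk, hE⟩ := hEex i
    change Module.finrank F (LinearMap.range (Matrix.toLin' (E i))) = _
    rw [hE, ← asgclif_range_conj]
    have hinj : Function.Injective (Matrix.toLin' (k : Matrix (Fin n) (Fin n) F)) := by
      intro v w hvw
      have e2 : ((k⁻¹ : GL (Fin n) F) : Matrix (Fin n) (Fin n) F) * (k : Matrix (Fin n) (Fin n) F) = 1 := by
        rw [← Units.val_mul, inv_mul_cancel, Units.val_one]
      rw [Matrix.toLin'_apply, Matrix.toLin'_apply] at hvw
      have := congrArg (fun x => ((k⁻¹ : GL (Fin n) F) : Matrix (Fin n) (Fin n) F) *ᵥ x) hvw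
      simpa [Matrix.mulVec_mulVec, e2] using this
    exact (LinearEquiv.finrank_eq (Submodule.equivMapOfInjective _ hinj _)).symm
  have hmpos : 0 < Module.finrank F (LinearMap.range (Matrix.toLin' e)) := by
    rw [Nat.pos_iff_ne_zero, Ne, Submodule.finrank_eq_zero]
    intro hb
    apply hPe.2.2
    apply Matrix.toLin'.injective
    rw [map_zero]
    exact LinearMap.range_eq_bot.mp hb
  have htrans : ∀ i j, ∃ h ∈ H, E j = asgConj h (E i) := by
    intro i j
    obtain ⟨a, ha, hEa⟩ := hEex i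
    obtain ⟨b, hb, hEb⟩ := hEex j
    refine ⟨b * a⁻¹, H.mul_mem hb (H.inv_mem ha), ?_⟩
    rw [hEa, hEb, asgclif_conj_mul, asgclif_conj_inv_conj]
  exact ⟨t, Module.finrank F (LinearMap.range (Matrix.toLin' e)), E, fun i => (hEP i).1.1, fun i => (hEP i).1.2,
    fun i => (hEP i).2.1, fun i => (hEP i).2.2, horth, htrans, ⟨hcard, hmpos, hfr, hindep, htop⟩, hstab⟩

end Cfsg.Agent.Lib.Helper19.ASU
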