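import Mathlib
import Cfsg.Prelude.Def_GeometricClasses
import Cfsg.Agent.Lib.Helper27.ASC.Defs
import Cfsg.Agent.Lib.Helper19.ASG.Defs
import Cfsg.Agent.Lib.Helper19.ASU.Defs
import Cfsg.Agent.Lib.Helper19.ASUADJ
import Cfsg.Agent.Lib.Helper1.ASGCLIF5

/-!
# Project ASU, block AB, piece AB-FLD : `Z = asgZ N` a field of odd degree `b ≥ 2` gives a member of class 3
-/

set_option autoImplicit false
set_option linter.unusedVariables false
set_option linter.unusedSectionVars false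
set_option linter.style.haveILetI false

namespace Cfsg.Agent.Lib.Helper19.ASU

open Cfsg Cfsg.Geo Cfsg.Agent.Lib.Helper27.ASC Cfsg.Agent.Lib.Helper19.ASG
open scoped MatrixGroups Matrix

variable {n : ℕ} {F : Type*} [Field F] [Fintype F]

/-- the subfield of degree `d` of a `*`-stable field subalgebra normalised by `H ≤ GU`: `*`-stable and normalised by `H` -/
theorem uabfld_sub (q : ℕ) (hF : Fintype.card F = q ^ 2) {H : Subgroup (GL (Fin n) F)} {b : ℕ}
    (K : Subalgebra F (Matrix (Fin n) (Fin n) F)) (hK : IsFieldSubalgebra b K) (hb : 0 < b)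
    (hstar : ∀ x ∈ K, uadj q x ∈ K) (hnorm : H ≤ subalgebraNormalizer K) (d : ℕ) (hd : d ∣ b) :
    ∃ K' : Subalgebra F (Matrix (Fin n) (Fin n) F), IsFieldSubalgebra d K' ∧ K' ≤ K ∧
      (∀ x ∈ K', uadj q x ∈ K') ∧ H ≤ subalgebraNormalizer K' := by
  obtain ⟨K', hK', hmem⟩ := asgclif_subfield_aux K hK hb d hd
  refine ⟨K', hK', fun x hx => ((hmem x).mp hx).1, ?_, ?_⟩
  · intro x hx
    obtain ⟨hx1, hx2⟩ := (hmem x).mp hx
    refine (hmem _).mpr ⟨hstar x hx1, ?_⟩
    rw [← uadj_pow hF, hx2]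
  · have key : ∀ g ∈ subalgebraNormalizer K, ∀ k ∈ K', asgConj g k ∈ K' := by
      intro g hg k hk
      obtain ⟨hk1, hk2⟩ := (hmem k).mp hk
      refine (hmem _).mpr ⟨(hg k).mp hk1, ?_⟩
      rw [← asgclif_conj_pow, hk2]
    intro g hgH
    have hg := hnorm hgH
    intro k
    constructor
    · exact key g hg k
    · intro h
      have h2 := key g⁻¹ ((subalgebraNormalizer K).inv_mem hg) _ h
      change asgConj g⁻¹ (asgConj g k) ∈ K' at h2
      rwa [asgclif_conj_inv_conj] at h2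

/-- AB-FLD -/
theorem uab_field (q : ℕ) (hF : Fintype.card F = q ^ 2) (hn : 0 < n) {H N : Subgroup (GL (Fin n) F)}
    (hI : H ≤ GU n F q) (hN : NormalIn N H) {b : ℕ} (hZ : IsFieldSubalgebra b (asgZ N)) (hb : 2 ≤ b)
    (hodd : Odd b) : InU n q H := by
  have hNI : N ≤ GU n F q := hN.1.trans hI
  obtain ⟨r, hr, hrb⟩ := Nat.exists_prime_and_dvd (show b ≠ 1 by omega)
  have hrodd : Odd r := by
    rcases hr.eq_two_or_odd' with h2 | h2
    · exfalso
      rw [h2] at hrb
      exact (Nat.not_even_iff_odd.mpr hodd) (even_iff_two_dvd.mpr hrb)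
    · exact h2
  obtain ⟨K', hK', hle, hstar, hnorm⟩ := uabfld_sub q hF (asgZ N) hZ (by omega)
    (fun x hx => uadj_asgZ hF hNI hx) (asgclif_normalizes_Z hN) r hrb
  exact inU_of_field hI hr hrodd K' hK' (uadj_adjointClosed hF K' hstar) hnorm

end Cfsg.Agent.Lib.Helper19.ASU
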