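import Mathlib
import Cfsg.Prelude.Def_GeometricClasses
import Cfsg.Agent.Lib.Helper27.ASC.Defs
import Cfsg.Agent.Lib.Helper19.ASG.Defs
import Cfsg.Agent.Lib.Helper19.ASU.Defs
import Cfsg.Agent.Lib.Helper19.ASUADJ
import Cfsg.Agent.Lib.Helper1.ASGCLIF5

/-!
# Project ASU, block AB, piece AB-ND : self-adjoint orthogonal idempotents give a non-degenerate decomposition
-/

set_option autoImplicit false
set_option linter.unusedVariables false
set_option linter.unusedSectionVars false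

namespace Cfsg.Agent.Lib.Helper19.ASU

open Cfsg Cfsg.Geo Cfsg.Agent.Lib.Helper27.ASC Cfsg.Agent.Lib.Helper19.ASG
open scoped MatrixGroups Matrix

variable {n : ℕ} {F : Type*} [Field F] [Fintype F]

theorem uabnd_zero_right (q : ℕ) (hF : Fintype.card F = q ^ 2) (x : Fin n → F) : hermForm n F q x 0 = 0 := by
  unfold hermForm
  apply Finset.sum_eq_zero
  intro i _
  simp [(uq_pos hF).ne']

/-- AB-ND -/
theorem uab_nddec (q : ℕ) (hF : Fintype.card F = q ^ 2) {t k : ℕ}
    (E : Fin t → Matrix (Fin n) (Fin n) F) (hsa : ∀ i, uadj q (E i) = E i)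
    (hid : ∀ i, E i * E i = E i) (horth : ∀ i j, i ≠ j → E i * E j = 0)
    (hD : IsMDecomposition k (fun i => LinearMap.range (Matrix.toLin' (E i)))) :
    IsNondegenerateMDecomposition (hermForm n F q) k (fun i => LinearMap.range (Matrix.toLin' (E i))) := by
  have hsa' : ∀ i u v, hermForm n F q (E i *ᵥ u) v = hermForm n F q u (E i *ᵥ v) := by
    intro i u v
    rw [uadj_spec hF, hsa]
  have hfix : ∀ i, ∀ w ∈ LinearMap.range (Matrix.toLin' (E i)), E i *ᵥ w = w := by
    rintro i _ ⟨x, rfl⟩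
    rw [Matrix.toLin'_apply, Matrix.mulVec_mulVec, hid]
  refine ⟨hD, ?_, ?_⟩
  · intro i w hw hw0
    have hx : ∃ x, hermForm n F q x w ≠ 0 := by
      by_contra hcon
      push Not at hcon
      apply hw0
      apply uherm_ext_right hF
      intro u
      rw [hcon u, uabnd_zero_right q hF]
    have hy : ∃ y, hermForm n F q w y ≠ 0 := by
      obtain ⟨x, hx⟩ := hx
      refine ⟨x, ?_⟩
      rw [uherm_symm hF x w]
      exact pow_ne_zero _ hx
    obtain ⟨x, hx⟩ := hx
    obtain ⟨y, hy⟩ := hy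
    refine ⟨⟨E i *ᵥ x, ⟨x, by rw [Matrix.toLin'_apply]⟩, ?_⟩, ⟨E i *ᵥ y, ⟨y, by rw [Matrix.toLin'_apply]⟩, ?_⟩⟩
    · rw [hsa', hfix i w hw]; exact hx
    · rw [← hsa', hfix i w hw]; exact hy
  · rintro i j hij _ ⟨x, rfl⟩ _ ⟨y, rfl⟩
    rw [Matrix.toLin'_apply, Matrix.toLin'_apply, hsa', Matrix.mulVec_mulVec, horth i j hij, Matrix.zero_mulVec]
    exact uabnd_zero_right q hF x

end Cfsg.Agent.Lib.Helper19.ASU
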