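import Mathlib
import Cfsg.Prelude.Def_GeometricClasses
import Cfsg.Agent.Lib.Helper27.ASC.Defs
import Cfsg.Agent.Lib.Helper19.ASG.Defs
import Cfsg.Agent.Lib.Helper19.ASU.Defs
import Cfsg.Agent.Lib.Helper19.ASUADJ
import Cfsg.Agent.Lib.Helper1.ASGCLIF5
import Cfsg.Agent.Lib.Helper19.ASUABDEC
import Cfsg.Agent.Lib.Helper19.ASUABND
import Cfsg.Agent.Lib.Helper19.ASUABFLD
import Cfsg.Agent.Lib.helper23.ASUABIDEM2
import Cfsg.Agent.Lib.Helper11.ASUABTS
import Cfsg.Agent.Lib.Helper11.ASUABODD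

set_option autoImplicit false
set_option linter.unusedVariables false
set_option linter.unusedSectionVars false
set_option linter.style.haveILetI false

/-! # Project ASU, block AB : assembly of `u_clifford_ab` from the pieces of `ASU/SkelAB.lean.txt` (helper19) -/

namespace Cfsg.Agent.Lib.Helper19.ASU

open Cfsg Cfsg.Geo Cfsg.Agent.Lib.Helper27.ASC Cfsg.Agent.Lib.Helper19.ASG
open scoped MatrixGroups Matrix

variable {n : ℕ} {F : Type*} [Field F] [Fintype F]

/-- a field subalgebra of degree at most one consists of scalars (copy of helper18's `aspab_scalar_of_deg`) -/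
theorem uab_scalar_of_deg {b : ℕ} (hn : 0 < n) (K : Subalgebra F (Matrix (Fin n) (Fin n) F))
    (hK : IsFieldSubalgebra b K) (hb : ¬ 2 ≤ b) :
    ∀ z ∈ K, ∃ c : F, z = c • (1 : Matrix (Fin n) (Fin n) F) := by
  haveI : Nonempty (Fin n) := ⟨⟨0, hn⟩⟩
  have hb1 : b = 1 := by
    have h0 : b ≠ 0 := by
      intro h0
      have hfr := hK.finrank_eq
      rw [h0] at hfr
      haveI : Subsingleton K := Module.finrank_zero_iff.mp hfr
      have h01 : (0 : K) = 1 := Subsingleton.elim _ _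
      have h2 := congrArg (fun y : K => (y : Matrix (Fin n) (Fin n) F)) h01
      simp at h2
    omega
  have hbot : K = ⊥ := Subalgebra.finrank_eq_one_iff.mp (hb1 ▸ hK.finrank_eq)
  intro z hz
  rw [hbot, Algebra.mem_bot] at hz
  obtain ⟨c, rfl⟩ := hz
  exact ⟨c, Algebra.algebraMap_eq_smul_one c⟩

/-- U-AB -/
theorem u_clifford_ab (q : ℕ) (hF : Fintype.card F = q ^ 2) (hn : 3 ≤ n) {H N : Subgroup (GL (Fin n) F)}
    (hI : H ≤ GU n F q) (hH : Irr H) (hN : NormalIn N H) :
    InU n q H ∨ ∃ k : ℕ, Nonempty (centAlg N ≃ₐ[F] Matrix (Fin k) (Fin k) F) := by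
  have hn0 : 0 < n := by omega
  have hNI : N ≤ GU n F q := hN.1.trans hI
  by_cases hid0 : ∀ e ∈ asgZ N, uadj q e = e → e * e = e → e = 0 ∨ e = 1
  · by_cases hidZ : ∀ e ∈ asgZ N, e * e = e → e = 0 ∨ e = 1
    · -- `Z` is a field
      have hZf := asgclif_field hn0 hH hN hidZ
      by_cases hb : 2 ≤ Module.finrank F (asgZ N)
      · exact Or.inl (uab_field q hF hn0 hI hN hZf hb
          (uab_odd q hF hn0 _ hZf (fun x hx => uadj_asgZ hF hNI hx)))
      · exact Or.inr (asgclif_matrix hn0 hH hN (uab_scalar_of_deg hn0 _ hZf hb))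
    · -- two idempotents swapped by the adjoint
      left
      push Not at hidZ
      obtain ⟨e, he, hid, h0, h1⟩ := hidZ
      obtain ⟨hee, hsum, hall⟩ := uab_two_idem q hF hNI hid0 e he hid h0 h1
      obtain ⟨k, D, hk, hD, hts, hstab⟩ :=
        uab_tspair q hF (by omega) hI hH hN e he hid h0 h1 hee hsum hall
      exact inU_of_tspair hI D hk hD hts hstab
  · -- a non-trivial self-adjoint idempotent of `Z`: non-degenerate decomposition
    left
    push Not at hid0
    obtain ⟨e0, he0, hsa0, hid, h00, h01⟩ := hid0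
    obtain ⟨t, k, E, hEA, hES, hEid, hE0, hEorth, hEtr, hdec, hstab⟩ :=
      uab_dec hn0 hH (asgZ N) (fun x hx y hy => asgclif_Z_comm hx hy)
        (fun h hh z hz => asgclif_conj_mem hN h hh z hz)
        {x | x ∈ asgZ N ∧ uadj q x = x}
        (fun x hx y hy => ⟨(asgZ N).mul_mem hx.1 hy.1, by
          rw [uadj_mul hF, hx.2, hy.2]; exact asgclif_Z_comm hy.1 hx.1⟩)
        (fun h hh z hz => ⟨asgclif_conj_mem hN h hh z hz.1, by rw [uadj_conj hF (hI hh), hz.2]⟩)
        e0 he0 ⟨he0, hsa0⟩ hid h00 h01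
    have hnd := uab_nddec q hF E (fun i => (hES i).2) hEid hEorth hdec
    exact inU_of_nddec hI _ hnd hstab

end Cfsg.Agent.Lib.Helper19.ASU
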