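import Mathlib

/-!
# Project ASU, block C, case C-33, piece 33-GRP : the group `3^(1+4)` from its relations (abstract group theory)
-/

set_option autoImplicit false
set_option linter.unusedVariables false
set_option linter.unusedSectionVars false

namespace Cfsg.Agent.Lib.Helper19.ASU

section heis

variable {G : Type*} [Group G]

/-- powers of a central element are central -/
theorem asuc33grp_zpow_comm {z : G} (hzc : ∀ g : G, z * g = g * z) (m : ℕ) (g : G) : z ^ m * g = g * z ^ m := by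
  induction m with
  | zero => simp
  | succ m ih => rw [pow_succ, mul_assoc, hzc, ← mul_assoc, ih, mul_assoc]

/-- `y x^i = z^(2i) x^i y` -/
theorem asuc33grp_y_xpow {z x y : G} (hzc : ∀ g : G, z * g = g * z) (hz3 : z ^ 3 = 1)
    (h : x * y = z * (y * x)) (i : ℕ) : y * x ^ i = z ^ (2 * i) * (x ^ i * y) := by
  have hyx : y * x = z ^ 2 * (x * y) := by
    rw [h, ← mul_assoc, ← pow_succ, hz3, one_mul]
  induction i with
  | zero => simp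
  | succ i ih =>
    have hc := asuc33grp_zpow_comm hzc
    calc y * x ^ (i + 1) = (y * x ^ i) * x := by rw [pow_succ, mul_assoc]
      _ = z ^ (2 * i) * (x ^ i * (y * x)) := by rw [ih]; simp only [mul_assoc]
      _ = z ^ (2 * i) * (x ^ i * (z ^ 2 * (x * y))) := by rw [hyx]
      _ = z ^ (2 * i) * (z ^ 2 * (x ^ i * (x * y))) := by rw [← mul_assoc (x ^ i), ← hc 2 (x ^ i), mul_assoc]
      _ = z ^ (2 * (i + 1)) * (x ^ (i + 1) * y) := by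
        rw [← mul_assoc, ← pow_add, ← mul_assoc (x ^ i), ← pow_succ]
        congr 2

/-- `y^j x^i = z^(2ij) x^i y^j` -/
theorem asuc33grp_ypow_xpow {z x y : G} (hzc : ∀ g : G, z * g = g * z) (hz3 : z ^ 3 = 1)
    (h : x * y = z * (y * x)) (i j : ℕ) : y ^ j * x ^ i = z ^ (2 * i * j) * (x ^ i * y ^ j) := by
  have hc := asuc33grp_zpow_comm hzc
  induction j with
  | zero => simp
  | succ j ih =>
    calc y ^ (j + 1) * x ^ i = y * (y ^ j * x ^ i) := by rw [pow_succ', mul_assoc]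
      _ = y * (z ^ (2 * i * j) * (x ^ i * y ^ j)) := by rw [ih]
      _ = z ^ (2 * i * j) * ((y * x ^ i) * y ^ j) := by
        rw [← mul_assoc y, ← hc (2 * i * j) y]; simp only [mul_assoc]
      _ = z ^ (2 * i * j) * ((z ^ (2 * i) * (x ^ i * y)) * y ^ j) := by rw [asuc33grp_y_xpow hzc hz3 h]
      _ = z ^ (2 * i * (j + 1)) * (x ^ i * y ^ (j + 1)) := by
        rw [pow_succ' y j]
        have : 2 * i * (j + 1) = 2 * i * j + 2 * i := by ring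
        rw [this, pow_add]
        simp only [mul_assoc]

/-- commuting elements: powers commute -/
theorem asuc33grp_pow_comm {a b : G} (h : a * b = b * a) (i j : ℕ) : a ^ i * b ^ j = b ^ j * a ^ i :=
  ((Commute.pow_pow (show Commute a b from h) i j)).eq

/-- the product of two Heisenberg normal forms `x^i y^j` -/
theorem asuc33grp_heis_mul {z x y : G} (hzc : ∀ g : G, z * g = g * z) (hz3 : z ^ 3 = 1)
    (h : x * y = z * (y * x)) (i j i' j' : ℕ) :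
    (x ^ i * y ^ j) * (x ^ i' * y ^ j') = z ^ (2 * i' * j) * (x ^ (i + i') * y ^ (j + j')) := by
  have hc := asuc33grp_zpow_comm hzc
  calc (x ^ i * y ^ j) * (x ^ i' * y ^ j') = x ^ i * ((y ^ j * x ^ i') * y ^ j') := by simp only [mul_assoc]
    _ = x ^ i * ((z ^ (2 * i' * j) * (x ^ i' * y ^ j)) * y ^ j') := by rw [asuc33grp_ypow_xpow hzc hz3 h]
    _ = z ^ (2 * i' * j) * (x ^ i * x ^ i' * (y ^ j * y ^ j')) := by
      rw [mul_assoc (z ^ (2 * i' * j)), ← mul_assoc (x ^ i), ← hc (2 * i' * j) (x ^ i)]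
      simp only [mul_assoc]
    _ = _ := by rw [← pow_add, ← pow_add]

end heis

section main

variable {G : Type*} [Group G]

/-- the relations of `3^(1+4)` -/
structure U33Rel (z x₁ y₁ x₂ y₂ : G) : Prop where
  hzc : ∀ g : G, z * g = g * z
  hz1 : z ≠ 1
  hz3 : z ^ 3 = 1
  hx₁ : x₁ ^ 3 = 1
  hy₁ : y₁ ^ 3 = 1
  hx₂ : x₂ ^ 3 = 1
  hy₂ : y₂ ^ 3 = 1
  h₁ : x₁ * y₁ = z * (y₁ * x₁)
  h₂ : x₂ * y₂ = z * (y₂ * x₂)
  c11 : x₁ * x₂ = x₂ * x₁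
  c12 : x₁ * y₂ = y₂ * x₁
  c21 : y₁ * x₂ = x₂ * y₁
  c22 : y₁ * y₂ = y₂ * y₁

/-- the normal form `z^c (x₁^i y₁^j) (x₂^k y₂^l)` -/
def asuc33grpNf (z x₁ y₁ x₂ y₂ : G) (c i j k l : ℕ) : G :=
  z ^ c * (x₁ ^ i * y₁ ^ j) * (x₂ ^ k * y₂ ^ l)

variable {z x₁ y₁ x₂ y₂ : G}

theorem asuc33grp_nf_mul (hR : U33Rel z x₁ y₁ x₂ y₂) (c i j k l c' i' j' k' l' : ℕ) :
    asuc33grpNf z x₁ y₁ x₂ y₂ c i j k l * asuc33grpNf z x₁ y₁ x₂ y₂ c' i' j' k' l' =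
      asuc33grpNf z x₁ y₁ x₂ y₂ (c + c' + 2 * i' * j + 2 * k' * l) (i + i') (j + j') (k + k') (l + l') := by
  have hc := asuc33grp_zpow_comm hR.hzc
  have hcomm : Commute (x₂ ^ k * y₂ ^ l) (x₁ ^ i' * y₁ ^ j') := by
    apply Commute.mul_left <;> apply Commute.mul_right
    · exact (Commute.pow_pow (show Commute x₁ x₂ from hR.c11) i' k).symm
    · exact (Commute.pow_pow (show Commute y₁ x₂ from hR.c21) j' k).symm
    · exact (Commute.pow_pow (show Commute x₁ y₂ from hR.c12) i' l).symm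
    · exact (Commute.pow_pow (show Commute y₁ y₂ from hR.c22) j' l).symm
  unfold asuc33grpNf
  calc z ^ c * (x₁ ^ i * y₁ ^ j) * (x₂ ^ k * y₂ ^ l) * (z ^ c' * (x₁ ^ i' * y₁ ^ j') * (x₂ ^ k' * y₂ ^ l'))
      = z ^ c * ((x₁ ^ i * y₁ ^ j) * (x₂ ^ k * y₂ ^ l) * z ^ c') * ((x₁ ^ i' * y₁ ^ j') * (x₂ ^ k' * y₂ ^ l')) := by
        simp only [mul_assoc]
    _ = z ^ c * (z ^ c' * ((x₁ ^ i * y₁ ^ j) * (x₂ ^ k * y₂ ^ l))) * ((x₁ ^ i' * y₁ ^ j') * (x₂ ^ k' * y₂ ^ l')) := by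
        rw [hc c']
    _ = z ^ c * z ^ c' * ((x₁ ^ i * y₁ ^ j) * ((x₂ ^ k * y₂ ^ l) * (x₁ ^ i' * y₁ ^ j')) * (x₂ ^ k' * y₂ ^ l')) := by
        simp only [mul_assoc]
    _ = z ^ c * z ^ c' * (((x₁ ^ i * y₁ ^ j) * (x₁ ^ i' * y₁ ^ j')) * ((x₂ ^ k * y₂ ^ l) * (x₂ ^ k' * y₂ ^ l'))) := by
        rw [hcomm.eq]; simp only [mul_assoc]
    _ = z ^ c * z ^ c' * ((z ^ (2 * i' * j) * (x₁ ^ (i + i') * y₁ ^ (j + j'))) *
          (z ^ (2 * k' * l) * (x₂ ^ (k + k') * y₂ ^ (l + l')))) := by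
        rw [asuc33grp_heis_mul hR.hzc hR.hz3 hR.h₁, asuc33grp_heis_mul hR.hzc hR.hz3 hR.h₂]
    _ = z ^ c * z ^ c' * (z ^ (2 * i' * j) * (z ^ (2 * k' * l) * ((x₁ ^ (i + i') * y₁ ^ (j + j')) *
          (x₂ ^ (k + k') * y₂ ^ (l + l'))))) := by
        rw [mul_assoc (z ^ (2 * i' * j)), ← mul_assoc (x₁ ^ (i + i') * y₁ ^ (j + j')),
          ← hc (2 * k' * l) (x₁ ^ (i + i') * y₁ ^ (j + j'))]
        simp only [mul_assoc]
    _ = _ := by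
        have hz : z ^ (c + c' + 2 * i' * j + 2 * k' * l) =
            z ^ c * z ^ c' * z ^ (2 * i' * j) * z ^ (2 * k' * l) := by
          rw [pow_add, pow_add, pow_add]
        rw [hz]
        simp only [mul_assoc]

theorem asuc33grp_nf_add (hR : U33Rel z x₁ y₁ x₂ y₂) (c t i j k l : ℕ) :
    asuc33grpNf z x₁ y₁ x₂ y₂ (c + t) i j k l = z ^ t * asuc33grpNf z x₁ y₁ x₂ y₂ c i j k l := by
  unfold asuc33grpNf
  rw [add_comm, pow_add]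
  simp only [mul_assoc]

theorem asuc33grp_pow_three_mul {x : G} (hx : x ^ 3 = 1) (m : ℕ) : x ^ (3 * m) = 1 := by
  rw [pow_mul, hx, one_pow]

theorem asuc33grp_pow_of_dvd {x : G} (hx : x ^ 3 = 1) {m : ℕ} (hm : 3 ∣ m) : x ^ m = 1 := by
  obtain ⟨d, rfl⟩ := hm
  exact asuc33grp_pow_three_mul hx d

theorem asuc33grp_nf_cube (hR : U33Rel z x₁ y₁ x₂ y₂) (c i j k l : ℕ) :
    asuc33grpNf z x₁ y₁ x₂ y₂ c i j k l ^ 3 = 1 := by
  rw [pow_succ, pow_two, asuc33grp_nf_mul hR, asuc33grp_nf_mul hR]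
  unfold asuc33grpNf
  rw [asuc33grp_pow_of_dvd hR.hz3, asuc33grp_pow_of_dvd hR.hx₁, asuc33grp_pow_of_dvd hR.hy₁,
    asuc33grp_pow_of_dvd hR.hx₂, asuc33grp_pow_of_dvd hR.hy₂]
  · simp
  · exact ⟨l, by ring⟩
  · exact ⟨k, by ring⟩
  · exact ⟨j, by ring⟩
  · exact ⟨i, by ring⟩
  · exact ⟨c + 2 * i * j + 2 * k * l, by ring⟩

/-- the set of normal forms -/
def asuc33grpN (z x₁ y₁ x₂ y₂ : G) : Set G :=
  {g | ∃ c i j k l : ℕ, g = asuc33grpNf z x₁ y₁ x₂ y₂ c i j k l}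

theorem asuc33grp_z_mem (hR : U33Rel z x₁ y₁ x₂ y₂) : z ∈ Subgroup.closure ({x₁, y₁, x₂, y₂} : Set G) := by
  have hx : x₁ ∈ Subgroup.closure ({x₁, y₁, x₂, y₂} : Set G) := Subgroup.subset_closure (by simp)
  have hy : y₁ ∈ Subgroup.closure ({x₁, y₁, x₂, y₂} : Set G) := Subgroup.subset_closure (by simp)
  have : z = x₁ * y₁ * (y₁ * x₁)⁻¹ := by rw [hR.h₁, mul_inv_cancel_right]
  rw [this]
  exact Subgroup.mul_mem _ (Subgroup.mul_mem _ hx hy) (Subgroup.inv_mem _ (Subgroup.mul_mem _ hy hx))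

theorem asuc33grp_closure_le (hR : U33Rel z x₁ y₁ x₂ y₂) :
    ∀ g ∈ Subgroup.closure ({x₁, y₁, x₂, y₂} : Set G), g ∈ asuc33grpN z x₁ y₁ x₂ y₂ := by
  intro g hg
  induction hg using Subgroup.closure_induction with
  | mem g hg =>
    simp only [Set.mem_insert_iff, Set.mem_singleton_iff] at hg
    rcases hg with rfl | rfl | rfl | rfl
    · exact ⟨0, 1, 0, 0, 0, by simp [asuc33grpNf]⟩
    · exact ⟨0, 0, 1, 0, 0, by simp [asuc33grpNf]⟩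
    · exact ⟨0, 0, 0, 1, 0, by simp [asuc33grpNf]⟩
    · exact ⟨0, 0, 0, 0, 1, by simp [asuc33grpNf]⟩
  | one => exact ⟨0, 0, 0, 0, 0, by simp [asuc33grpNf]⟩
  | mul g h _ _ hg hh =>
    obtain ⟨c, i, j, k, l, rfl⟩ := hg
    obtain ⟨c', i', j', k', l', rfl⟩ := hh
    exact ⟨_, _, _, _, _, asuc33grp_nf_mul hR c i j k l c' i' j' k' l'⟩
  | inv g _ hg =>
    obtain ⟨c, i, j, k, l, rfl⟩ := hg
    have h3 := asuc33grp_nf_cube hR c i j k l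
    have : (asuc33grpNf z x₁ y₁ x₂ y₂ c i j k l)⁻¹ =
        asuc33grpNf z x₁ y₁ x₂ y₂ c i j k l * asuc33grpNf z x₁ y₁ x₂ y₂ c i j k l := by
      rw [inv_eq_iff_mul_eq_one, ← pow_two, ← pow_succ']
      exact h3
    rw [this]
    exact ⟨_, _, _, _, _, asuc33grp_nf_mul hR c i j k l c i j k l⟩

/-- every element of the group has order dividing 3 -/
theorem asuc33grp_cube (hR : U33Rel z x₁ y₁ x₂ y₂) :
    ∀ g ∈ Subgroup.closure ({x₁, y₁, x₂, y₂} : Set G), g ^ 3 = 1 := by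
  intro g hg
  obtain ⟨c, i, j, k, l, rfl⟩ := asuc33grp_closure_le hR g hg
  exact asuc33grp_nf_cube hR c i j k l

/-- commutators are powers of `z` -/
theorem asuc33grp_comm (hR : U33Rel z x₁ y₁ x₂ y₂) :
    ∀ g ∈ Subgroup.closure ({x₁, y₁, x₂, y₂} : Set G), ∀ h ∈ Subgroup.closure ({x₁, y₁, x₂, y₂} : Set G),
      ∃ t : ℕ, g * h * g⁻¹ * h⁻¹ = z ^ t := by
  intro g hg h hh
  obtain ⟨c, i, j, k, l, rfl⟩ := asuc33grp_closure_le hR g hg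
  obtain ⟨c', i', j', k', l', rfl⟩ := asuc33grp_closure_le hR h hh
  have e1 := asuc33grp_nf_mul hR c i j k l c' i' j' k' l'
  have e2 := asuc33grp_nf_mul hR c' i' j' k' l' c i j k l
  rw [show c + c' + 2 * i' * j + 2 * k' * l = c + c' + (2 * i' * j + 2 * k' * l) by ring,
    asuc33grp_nf_add hR] at e1
  rw [show c' + c + 2 * i * j' + 2 * k * l' = c + c' + (2 * i * j' + 2 * k * l') by ring,
    asuc33grp_nf_add hR, add_comm i' i, add_comm j' j, add_comm k' k, add_comm l' l] at e2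
  refine ⟨2 * i' * j + 2 * k' * l + 2 * (2 * i * j' + 2 * k * l'), ?_⟩
  have hinv : (z ^ (2 * i * j' + 2 * k * l'))⁻¹ = z ^ (2 * (2 * i * j' + 2 * k * l')) := by
    rw [inv_eq_iff_mul_eq_one, ← pow_add]
    exact asuc33grp_pow_of_dvd hR.hz3 ⟨2 * i * j' + 2 * k * l', by ring⟩
  calc asuc33grpNf z x₁ y₁ x₂ y₂ c i j k l * asuc33grpNf z x₁ y₁ x₂ y₂ c' i' j' k' l' *
        (asuc33grpNf z x₁ y₁ x₂ y₂ c i j k l)⁻¹ * (asuc33grpNf z x₁ y₁ x₂ y₂ c' i' j' k' l')⁻¹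
      = (asuc33grpNf z x₁ y₁ x₂ y₂ c i j k l * asuc33grpNf z x₁ y₁ x₂ y₂ c' i' j' k' l') *
        (asuc33grpNf z x₁ y₁ x₂ y₂ c' i' j' k' l' * asuc33grpNf z x₁ y₁ x₂ y₂ c i j k l)⁻¹ := by
        rw [mul_inv_rev]; simp only [mul_assoc]
    _ = z ^ (2 * i' * j + 2 * k' * l) * (z ^ (2 * i * j' + 2 * k * l'))⁻¹ := by
        rw [e1, e2, mul_inv_rev]
        simp only [mul_assoc, mul_inv_cancel_left]
    _ = _ := by rw [hinv, ← pow_add]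

/-- an element `w` acting as `x₁ ↦ y₁², y₁ ↦ x₁` and centralising `x₂, y₂` normalises the group -/
theorem asuc33grp_conj_mem (hR : U33Rel z x₁ y₁ x₂ y₂) (w : G)
    (hwx : w * x₁ = y₁ ^ 2 * w) (hwy : w * y₁ = x₁ * w) (hwx' : w * x₂ = x₂ * w) (hwy' : w * y₂ = y₂ * w) :
    ∀ g ∈ Subgroup.closure ({x₁, y₁, x₂, y₂} : Set G),
      w * g * w⁻¹ ∈ Subgroup.closure ({x₁, y₁, x₂, y₂} : Set G) ∧
      w⁻¹ * g * w ∈ Subgroup.closure ({x₁, y₁, x₂, y₂} : Set G) := by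
  have hx₁ : x₁ ∈ Subgroup.closure ({x₁, y₁, x₂, y₂} : Set G) := Subgroup.subset_closure (by simp)
  have hy₁ : y₁ ∈ Subgroup.closure ({x₁, y₁, x₂, y₂} : Set G) := Subgroup.subset_closure (by simp)
  have hx₂ : x₂ ∈ Subgroup.closure ({x₁, y₁, x₂, y₂} : Set G) := Subgroup.subset_closure (by simp)
  have hy₂ : y₂ ∈ Subgroup.closure ({x₁, y₁, x₂, y₂} : Set G) := Subgroup.subset_closure (by simp)
  have e1 : w * x₁ * w⁻¹ = y₁ ^ 2 := by rw [hwx, mul_inv_cancel_right]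
  have e2 : w * y₁ * w⁻¹ = x₁ := by rw [hwy, mul_inv_cancel_right]
  have e3 : w⁻¹ * x₁ * w = y₁ := by rw [mul_assoc, ← hwy, inv_mul_cancel_left]
  have e4 : w⁻¹ * y₁ * w = x₁ ^ 2 := by
    have hu2 : (w⁻¹ * y₁ * w) ^ 2 = x₁ := by
      have : (w⁻¹ * y₁ * w) ^ 2 = w⁻¹ * (y₁ ^ 2 * w) := by
        rw [pow_two, pow_two]; group
      rw [this, ← hwx, inv_mul_cancel_left]
    have hu3 : (w⁻¹ * y₁ * w) ^ 3 = 1 := by
      have : (w⁻¹ * y₁ * w) ^ 3 = w⁻¹ * y₁ ^ 3 * w := by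
        rw [pow_succ, pow_two, pow_succ, pow_two]; group
      rw [this, hR.hy₁, mul_one, inv_mul_cancel]
    calc w⁻¹ * y₁ * w = (w⁻¹ * y₁ * w) ^ 3 * (w⁻¹ * y₁ * w) := by rw [hu3, one_mul]
      _ = ((w⁻¹ * y₁ * w) ^ 2) ^ 2 := by rw [← pow_succ, ← pow_mul]
      _ = x₁ ^ 2 := by rw [hu2]
  have e5 : w * x₂ * w⁻¹ = x₂ := by rw [hwx', mul_inv_cancel_right]
  have e6 : w * y₂ * w⁻¹ = y₂ := by rw [hwy', mul_inv_cancel_right]
  have e7 : w⁻¹ * x₂ * w = x₂ := by rw [mul_assoc, ← hwx', inv_mul_cancel_left]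
  have e8 : w⁻¹ * y₂ * w = y₂ := by rw [mul_assoc, ← hwy', inv_mul_cancel_left]
  intro g hg
  induction hg using Subgroup.closure_induction with
  | mem g hg =>
    simp only [Set.mem_insert_iff, Set.mem_singleton_iff] at hg
    rcases hg with rfl | rfl | rfl | rfl
    · rw [e1, e3]; exact ⟨Subgroup.pow_mem _ hy₁ 2, hy₁⟩
    · rw [e2, e4]; exact ⟨hx₁, Subgroup.pow_mem _ hx₁ 2⟩
    · rw [e5, e7]; exact ⟨hx₂, hx₂⟩
    · rw [e6, e8]; exact ⟨hy₂, hy₂⟩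
  | one => simp
  | mul g h _ _ hg hh =>
    have a1 : w * (g * h) * w⁻¹ = (w * g * w⁻¹) * (w * h * w⁻¹) := by group
    have a2 : w⁻¹ * (g * h) * w = (w⁻¹ * g * w) * (w⁻¹ * h * w) := by group
    rw [a1, a2]
    exact ⟨Subgroup.mul_mem _ hg.1 hh.1, Subgroup.mul_mem _ hg.2 hh.2⟩
  | inv g _ hg =>
    have a1 : w * g⁻¹ * w⁻¹ = (w * g * w⁻¹)⁻¹ := by group
    have a2 : w⁻¹ * g⁻¹ * w = (w⁻¹ * g * w)⁻¹ := by group
    rw [a1, a2]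
    exact ⟨Subgroup.inv_mem _ hg.1, Subgroup.inv_mem _ hg.2⟩

/-- the conjugate of a normal form -/
theorem asuc33grp_conj_nf (hR : U33Rel z x₁ y₁ x₂ y₂) (w : G)
    (hwx : w * x₁ = y₁ ^ 2 * w) (hwy : w * y₁ = x₁ * w) (hwx' : w * x₂ = x₂ * w) (hwy' : w * y₂ = y₂ * w)
    (c i j k l : ℕ) :
    w * asuc33grpNf z x₁ y₁ x₂ y₂ c i j k l * w⁻¹ =
      asuc33grpNf z x₁ y₁ x₂ y₂ (c + 2 * j * (2 * i)) j (2 * i) k l := by
  have e1 : MulAut.conj w x₁ = y₁ ^ 2 := by rw [MulAut.conj_apply, hwx, mul_inv_cancel_right]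
  have e2 : MulAut.conj w y₁ = x₁ := by rw [MulAut.conj_apply, hwy, mul_inv_cancel_right]
  have e5 : MulAut.conj w x₂ = x₂ := by rw [MulAut.conj_apply, hwx', mul_inv_cancel_right]
  have e6 : MulAut.conj w y₂ = y₂ := by rw [MulAut.conj_apply, hwy', mul_inv_cancel_right]
  have e0 : MulAut.conj w z = z := by rw [MulAut.conj_apply, ← hR.hzc, mul_inv_cancel_right]
  have h1 : w * asuc33grpNf z x₁ y₁ x₂ y₂ c i j k l * w⁻¹ =
      MulAut.conj w (asuc33grpNf z x₁ y₁ x₂ y₂ c i j k l) := (MulAut.conj_apply _ _).symm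
  rw [h1]
  unfold asuc33grpNf
  rw [map_mul, map_mul, map_mul, map_mul, map_pow, map_pow, map_pow, map_pow, map_pow, e0, e1, e2, e5, e6,
    ← pow_mul, asuc33grp_ypow_xpow hR.hzc hR.hz3 hR.h₁, pow_add]
  simp only [mul_assoc]

theorem asuc33grp_zmod3 : ∀ u v t : ZMod 3, 2 * v * v + t = 2 * u * (2 * u) + t → u = 0 ∧ v = 0 := by decide

/-- the key computation: an abelian subgroup of the group, invariant under `w`, has trivial `⟨x₁, y₁⟩`-component -/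
theorem asuc33grp_trick (hR : U33Rel z x₁ y₁ x₂ y₂) (w : G)
    (hwx : w * x₁ = y₁ ^ 2 * w) (hwy : w * y₁ = x₁ * w) (hwx' : w * x₂ = x₂ * w) (hwy' : w * y₂ = y₂ * w)
    (A : Subgroup G) (hab : ∀ a ∈ A, ∀ b ∈ A, a * b = b * a) (hw : ∀ a ∈ A, w * a * w⁻¹ ∈ A)
    (c i j k l : ℕ) (ha : asuc33grpNf z x₁ y₁ x₂ y₂ c i j k l ∈ A) : 3 ∣ i ∧ 3 ∣ j := by
  have hb := hw _ ha
  rw [asuc33grp_conj_nf hR w hwx hwy hwx' hwy'] at hb
  obtain ⟨c₁, hc₁⟩ : ∃ c₁ : ℕ, c₁ = c + 2 * j * (2 * i) := ⟨_, rfl⟩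
  rw [← hc₁] at hb
  have hcomm := hab _ ha _ hb
  have e1 : asuc33grpNf z x₁ y₁ x₂ y₂ c i j k l * asuc33grpNf z x₁ y₁ x₂ y₂ c₁ j (2 * i) k l =
      z ^ (2 * j * j + 2 * k * l) * asuc33grpNf z x₁ y₁ x₂ y₂ (c + c₁) (i + j) (j + 2 * i) (k + k) (l + l) := by
    rw [asuc33grp_nf_mul hR, show c + c₁ + 2 * j * j + 2 * k * l = (c + c₁) + (2 * j * j + 2 * k * l) by ring,
      asuc33grp_nf_add hR]
  have e2 : asuc33grpNf z x₁ y₁ x₂ y₂ c₁ j (2 * i) k l * asuc33grpNf z x₁ y₁ x₂ y₂ c i j k l =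
      z ^ (2 * i * (2 * i) + 2 * k * l) * asuc33grpNf z x₁ y₁ x₂ y₂ (c + c₁) (i + j) (j + 2 * i) (k + k) (l + l) := by
    rw [asuc33grp_nf_mul hR, show c₁ + c + 2 * i * (2 * i) + 2 * k * l = (c + c₁) + (2 * i * (2 * i) + 2 * k * l) by ring,
      asuc33grp_nf_add hR, add_comm j i, add_comm (2 * i) j]
  rw [e1, e2] at hcomm
  have hz : z ^ (2 * j * j + 2 * k * l) = z ^ (2 * i * (2 * i) + 2 * k * l) := mul_right_cancel hcomm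
  have : Fact (Nat.Prime 3) := ⟨by norm_num⟩
  have hord : orderOf z = 3 := orderOf_eq_prime hR.hz3 hR.hz1
  rw [pow_eq_pow_iff_modEq, hord] at hz
  have hz' : ((2 * j * j + 2 * k * l : ℕ) : ZMod 3) = ((2 * i * (2 * i) + 2 * k * l : ℕ) : ZMod 3) :=
    (ZMod.natCast_eq_natCast_iff _ _ _).mpr hz
  push_cast at hz'
  obtain ⟨hu, hv⟩ := asuc33grp_zmod3 (i : ZMod 3) (j : ZMod 3) (2 * (k : ZMod 3) * (l : ZMod 3)) hz'
  exact ⟨(ZMod.natCast_eq_zero_iff i 3).mp hu, (ZMod.natCast_eq_zero_iff j 3).mp hv⟩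

theorem asuc33grp_rel_swap (hR : U33Rel z x₁ y₁ x₂ y₂) : U33Rel z x₂ y₂ x₁ y₁ :=
  ⟨hR.hzc, hR.hz1, hR.hz3, hR.hx₂, hR.hy₂, hR.hx₁, hR.hy₁, hR.h₂, hR.h₁, hR.c11.symm, hR.c21.symm, hR.c12.symm,
    hR.c22.symm⟩

theorem asuc33grp_closure_swap (x₁ y₁ x₂ y₂ : G) :
    Subgroup.closure ({x₂, y₂, x₁, y₁} : Set G) = Subgroup.closure ({x₁, y₁, x₂, y₂} : Set G) := by
  congr 1
  ext g
  simp only [Set.mem_insert_iff, Set.mem_singleton_iff]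
  tauto

theorem asuc33grp_nf_swap (hR : U33Rel z x₁ y₁ x₂ y₂) (c i j k l : ℕ) :
    asuc33grpNf z x₁ y₁ x₂ y₂ c i j k l = asuc33grpNf z x₂ y₂ x₁ y₁ c k l i j := by
  have hcomm : Commute (x₁ ^ i * y₁ ^ j) (x₂ ^ k * y₂ ^ l) := by
    apply Commute.mul_left <;> apply Commute.mul_right
    · exact Commute.pow_pow (show Commute x₁ x₂ from hR.c11) i k
    · exact Commute.pow_pow (show Commute x₁ y₂ from hR.c12) i l
    · exact Commute.pow_pow (show Commute y₁ x₂ from hR.c21) j k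
    · exact Commute.pow_pow (show Commute y₁ y₂ from hR.c22) j l
  unfold asuc33grpNf
  rw [mul_assoc, hcomm.eq, ← mul_assoc]

end main

/-- 33-GRP -/
theorem u33_grp {G : Type*} [Group G] (z x₁ y₁ x₂ y₂ w₁ w₂ : G)
    (hzc : ∀ g : G, z * g = g * z) (hz1 : z ≠ 1) (hz3 : z ^ 3 = 1)
    (hx₁ : x₁ ^ 3 = 1) (hy₁ : y₁ ^ 3 = 1) (hx₂ : x₂ ^ 3 = 1) (hy₂ : y₂ ^ 3 = 1)
    (h₁ : x₁ * y₁ = z * (y₁ * x₁)) (h₂ : x₂ * y₂ = z * (y₂ * x₂))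
    (c11 : x₁ * x₂ = x₂ * x₁) (c12 : x₁ * y₂ = y₂ * x₁) (c21 : y₁ * x₂ = x₂ * y₁) (c22 : y₁ * y₂ = y₂ * y₁)
    (hw₁x : w₁ * x₁ = y₁ ^ 2 * w₁) (hw₁y : w₁ * y₁ = x₁ * w₁) (hw₁x' : w₁ * x₂ = x₂ * w₁) (hw₁y' : w₁ * y₂ = y₂ * w₁)
    (hw₂x : w₂ * x₂ = y₂ ^ 2 * w₂) (hw₂y : w₂ * y₂ = x₂ * w₂) (hw₂x' : w₂ * x₁ = x₁ * w₂) (hw₂y' : w₂ * y₁ = y₁ * w₂) :
    (∀ g ∈ Subgroup.closure ({x₁, y₁, x₂, y₂} : Set G), g ^ 3 = 1) ∧
    (∀ g ∈ Subgroup.closure ({x₁, y₁, x₂, y₂} : Set G), ∀ h ∈ Subgroup.closure ({x₁, y₁, x₂, y₂} : Set G),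
      ∃ k : ℕ, g * h * g⁻¹ * h⁻¹ = z ^ k) ∧
    z ∈ Subgroup.closure ({x₁, y₁, x₂, y₂} : Set G) ∧
    (∀ g ∈ Subgroup.closure ({x₁, y₁, x₂, y₂} : Set G),
      w₁ * g * w₁⁻¹ ∈ Subgroup.closure ({x₁, y₁, x₂, y₂} : Set G) ∧
      w₁⁻¹ * g * w₁ ∈ Subgroup.closure ({x₁, y₁, x₂, y₂} : Set G) ∧
      w₂ * g * w₂⁻¹ ∈ Subgroup.closure ({x₁, y₁, x₂, y₂} : Set G) ∧
      w₂⁻¹ * g * w₂ ∈ Subgroup.closure ({x₁, y₁, x₂, y₂} : Set G)) ∧
    (∀ A : Subgroup G, A ≤ Subgroup.closure ({x₁, y₁, x₂, y₂} : Set G) → (∀ a ∈ A, ∀ b ∈ A, a * b = b * a) →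
      (∀ a ∈ A, w₁ * a * w₁⁻¹ ∈ A) → (∀ a ∈ A, w₂ * a * w₂⁻¹ ∈ A) → ∀ a ∈ A, ∃ k : ℕ, a = z ^ k) := by
  have hR : U33Rel z x₁ y₁ x₂ y₂ := ⟨hzc, hz1, hz3, hx₁, hy₁, hx₂, hy₂, h₁, h₂, c11, c12, c21, c22⟩
  have hR' := asuc33grp_rel_swap hR
  refine ⟨asuc33grp_cube hR, asuc33grp_comm hR, asuc33grp_z_mem hR, ?_, ?_⟩
  · intro g hg
    obtain ⟨a1, a2⟩ := asuc33grp_conj_mem hR w₁ hw₁x hw₁y hw₁x' hw₁y' g hg
    have hg' : g ∈ Subgroup.closure ({x₂, y₂, x₁, y₁} : Set G) := by rw [asuc33grp_closure_swap]; exact hg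
    obtain ⟨a3, a4⟩ := asuc33grp_conj_mem hR' w₂ hw₂x hw₂y hw₂x' hw₂y' g hg'
    rw [asuc33grp_closure_swap] at a3 a4
    exact ⟨a1, a2, a3, a4⟩
  · intro A hA hab hw₁ hw₂ a ha
    obtain ⟨c, i, j, k, l, rfl⟩ := asuc33grp_closure_le hR a (hA ha)
    obtain ⟨hi, hj⟩ := asuc33grp_trick hR w₁ hw₁x hw₁y hw₁x' hw₁y' A hab hw₁ c i j k l ha
    have ha' := ha
    rw [asuc33grp_nf_swap hR] at ha'
    obtain ⟨hk, hl⟩ := asuc33grp_trick hR' w₂ hw₂x hw₂y hw₂x' hw₂y' A hab hw₂ c k l i j ha'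
    refine ⟨c, ?_⟩
    unfold asuc33grpNf
    rw [asuc33grp_pow_of_dvd hx₁ hi, asuc33grp_pow_of_dvd hy₁ hj, asuc33grp_pow_of_dvd hx₂ hk,
      asuc33grp_pow_of_dvd hy₂ hl]
    simp

end Cfsg.Agent.Lib.Helper19.ASU
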