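import Mathlib
import Cfsg.Prelude.Def_GeometricClasses
import Cfsg.Agent.Lib.Helper27.ASC.Defs
import Cfsg.Agent.Lib.Helper19.ASG.Defs
import Cfsg.Agent.Lib.Helper26.ASGD1.Defs
import Cfsg.Agent.Lib.Helper19.ASU.Defs
import Cfsg.Agent.Lib.Helper19.ASUADJ
import Cfsg.Agent.Lib.Helper26.ASUC.Defs
import Cfsg.Agent.Lib.Helper19.ASU33Defs
import Cfsg.Agent.Lib.Helper19.ASUC33GRP
import Cfsg.Agent.Lib.Helper22.ASUC33TR
import Cfsg.Agent.Lib.Helper22.ASUC33IRR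
import Cfsg.Agent.Lib.Helper27.ASUC33U3
import Cfsg.Agent.Lib.Helper27.ASUC33NORMcore
import Cfsg.Agent.Lib.Helper27.ASUC33RELb
import Cfsg.Agent.Lib.Helper27.ASUC33F4b
import Cfsg.Agent.Lib.Helper29.ASUC33HEISb
import Cfsg.Agent.Lib.Helper20.ASUCHSTD
import Cfsg.Agent.Lib.Helper13.ASUCNORM
import Cfsg.Agent.Lib.Helper24.ASUCSIM
import Cfsg.Agent.Lib.helper23.ASGD1ORDER
import Cfsg.Agent.Lib.helper23.ASGD1ARITH
import Cfsg.Agent.Lib.helper23.ASGD1CENT
import Cfsg.Agent.Lib.helper23.ASGD1EXP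
import Cfsg.Agent.Lib.helper23.ASGD1NSUP
import Cfsg.Agent.Lib.Helper26.ASGD1MAIN

/-!
# Project ASU, block C, case C-33 : assembly of `uc_three_three` (helper19)
-/

set_option autoImplicit false
set_option linter.unusedVariables false
set_option linter.unusedSectionVars false
set_option linter.style.haveILetI false

namespace Cfsg.Agent.Lib.Helper19.ASU

open Cfsg Cfsg.Geo Cfsg.Agent.Lib.Helper27.ASC Cfsg.Agent.Lib.Helper19.ASG
open scoped MatrixGroups Matrix Kronecker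

variable {n : ℕ} {F : Type*} [Field F]

/-- `ucKr e P` is linear -/
theorem asuc33main_ucKr_smul {k d : ℕ} (e : Fin n ≃ Fin k × Fin d) (P : GL (Fin n) F) (c : F)
    (M : Matrix (Fin k × Fin d) (Fin k × Fin d) F) : ucKr e P (c • M) = c • ucKr e P M := by
  unfold ucKr
  rw [map_smul, Matrix.mul_smul, Matrix.smul_mul]

theorem asuc33main_ucKr_one {k d : ℕ} (e : Fin n ≃ Fin k × Fin d) (P : GL (Fin n) F) :
    ucKr e P (1 : Matrix (Fin k × Fin d) (Fin k × Fin d) F) = 1 := (u33Hom e P).map_one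

/-- the embeddings map scalars to scalars -/
theorem asuc33main_I1_scal {k d : ℕ} (e : Fin n ≃ Fin k × Fin d) (P : GL (Fin n) F) (c : Fˣ) :
    u33I1 e P (d1scal c : GL (Fin k) F) = d1scal c := by
  apply Units.ext
  rw [u33I1_coe, d1scal_coe, d1scal_coe, Matrix.smul_kronecker, Matrix.one_kronecker_one, asuc33main_ucKr_smul,
    asuc33main_ucKr_one]

theorem asuc33main_I2_scal {k d : ℕ} (e : Fin n ≃ Fin k × Fin d) (P : GL (Fin n) F) (c : Fˣ) :
    u33I2 e P (d1scal c : GL (Fin d) F) = d1scal c := by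
  apply Units.ext
  rw [u33I2_coe, d1scal_coe, d1scal_coe, Matrix.kronecker_smul, Matrix.one_kronecker_one, asuc33main_ucKr_smul,
    asuc33main_ucKr_one]

theorem asuc33main_conj_left {G : Type*} [Group G] (p q g : G) (h : q * g = g * q) :
    p * q * g * (p * q)⁻¹ = p * g * p⁻¹ := by
  rw [mul_inv_rev, mul_assoc p q g, h]
  group

theorem asuc33main_conj_right {G : Type*} [Group G] (p q g : G) (h : p * q = q * p) (h' : p * g = g * p) :
    p * q * g * (p * q)⁻¹ = q * g * q⁻¹ := by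
  rw [h, mul_inv_rev, mul_assoc q p g, h']
  group

/-- the unit with matrix `X` -/
def asuc33mainXu (ω : F) (h : u33X ω ^ 3 = 1) : GL (Fin 3) F :=
  ⟨u33X ω, u33X ω ^ 2, by rw [← pow_succ', h], by rw [← pow_succ, h]⟩

/-- the unit with matrix `Y` -/
def asuc33mainYu (h : (u33Y : Matrix (Fin 3) (Fin 3) F) ^ 3 = 1) : GL (Fin 3) F :=
  ⟨u33Y, u33Y ^ 2, by rw [← pow_succ', h], by rw [← pow_succ, h]⟩

/-- the unit with matrix `W` -/
def asuc33mainWu (ω : F) (h : uadj 2 (u33W ω) * u33W ω = 1) : GL (Fin 3) F :=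
  ⟨u33W ω, uadj 2 (u33W ω), mul_eq_one_comm.mp h, h⟩

variable [Fintype F]

/-- a similitude of the standard hermitian form over `F_4` is an isometry -/
theorem asuc33main_unitary_of_sim (hF : Fintype.card F = 2 ^ 2) (a : Matrix (Fin 3) (Fin 3) F) (μ : F) (hμ : μ ≠ 0)
    (h : aᵀ * 1 * a.map (fun x : F => x ^ 2) = μ • 1) : uadj 2 a * a = 1 := by
  rw [mul_one] at h
  -- entrywise squares
  have h1 : (aᵀ * a.map (fun x : F => x ^ 2)).map (ufrob hF) = uadj 2 a * a := by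
    rw [Matrix.map_mul, uadj_eq hF]
    congr 1
    ext i j
    simp only [Matrix.map_apply, ufrob_apply]
    exact upow_pow hF (a i j)
  have h2 : (μ • (1 : Matrix (Fin 3) (Fin 3) F)).map (ufrob hF) = (μ ^ 2) • (1 : Matrix (Fin 3) (Fin 3) F) := by
    ext i j
    by_cases hij : i = j
    · subst hij
      simp [ufrob_apply]
    · simp [hij, ufrob_apply]
  have h3 : uadj 2 a * a = (μ ^ 2) • (1 : Matrix (Fin 3) (Fin 3) F) := by rw [← h1, h, h2]
  -- hermitian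
  have h4 : uadj 2 (uadj 2 a * a) = uadj 2 a * a := by rw [uadj_mul hF, uadj_uadj hF]
  rw [h3, uadj_scalar hF] at h4
  have h5 : (μ ^ 2) ^ 2 = μ ^ 2 := by
    have := congrFun (congrFun h4 0) 0
    simpa using this
  have hμ4 : μ ^ 4 = μ := by
    have := FiniteField.pow_card μ
    rw [hF] at this
    simpa using this
  have h6 : μ = 1 := by
    have h7 : μ ^ 2 = μ := by
      rw [← pow_mul] at h5
      rw [← h5]
      exact hμ4
    have h8 : μ * (μ - 1) = 0 := by ring_nf; rw [h7]; ring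
    rcases mul_eq_zero.mp h8 with h9 | h9
    · exact absurd h9 hμ
    · exact sub_eq_zero.mp h9
  rw [h3, h6, one_pow, one_smul]

/-- the core: with the Gram matrix `1 ⊗ 1` -/
theorem asuc33main_core (hF : Fintype.card F = 2 ^ 2) {H : Subgroup (GL (Fin n) F)}
    (hI : H ≤ GU n F 2) (e : Fin n ≃ Fin 3 × Fin 3) (P : GL (Fin n) F)
    (hK : UKrGram 2 e P (1 : Matrix (Fin 3) (Fin 3) F) (1 : Matrix (Fin 3) (Fin 3) F))
    (hH : H ≤ tensorProductSubgroup 3 3 e P) : InU n 2 H := by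
  classical
  have hn9 : n = 9 := by
    have := Fintype.card_congr e
    simpa using this
  have hn0 : 0 < n := by omega
  have hn2 : 2 ≤ n := by omega
  obtain ⟨h2, ω, hω, hω1, hω3, hall⟩ := asuc33f4b_field4 hF
  obtain ⟨rX3, rY3, rXY, rTT, rTX, rTY, rWX, rWY, uX, uY, uT, uW⟩ := asuc33relb_rel h2 ω hω
  have hω0 : ω ≠ 0 := by
    rintro rfl
    simp at hω3
  -- the units
  obtain ⟨ωu, hωu⟩ : ∃ ωu : Fˣ, (ωu : F) = ω := ⟨Units.mk0 ω hω0, rfl⟩
  have hωu3 : ωu ^ 3 = 1 := Units.ext (by rw [Units.val_pow_eq_pow_val, hωu, hω3]; rfl)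
  have hωu1 : ωu ≠ 1 := by
    intro h
    apply hω1
    rw [← hωu, h]; rfl
  obtain ⟨Xu, hXu⟩ : ∃ Xu : GL (Fin 3) F, (Xu : Matrix (Fin 3) (Fin 3) F) = u33X ω := ⟨asuc33mainXu ω rX3, rfl⟩
  obtain ⟨Yu, hYu⟩ : ∃ Yu : GL (Fin 3) F, (Yu : Matrix (Fin 3) (Fin 3) F) = u33Y := ⟨asuc33mainYu rY3, rfl⟩
  obtain ⟨Wu, hWu⟩ : ∃ Wu : GL (Fin 3) F, (Wu : Matrix (Fin 3) (Fin 3) F) = u33W ω := ⟨asuc33mainWu ω uW, rfl⟩
  -- relations in `GL_3`
  have gX3 : Xu ^ 3 = 1 := Units.ext (by rw [Units.val_pow_eq_pow_val, hXu, rX3]; rfl)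
  have gY3 : Yu ^ 3 = 1 := Units.ext (by rw [Units.val_pow_eq_pow_val, hYu, rY3]; rfl)
  have gXY : Xu * Yu = d1scal ωu * (Yu * Xu) := by
    apply Units.ext
    rw [Units.val_mul, Units.val_mul, Units.val_mul, d1scal_coe, hXu, hYu, hωu, rXY, Matrix.smul_mul, Matrix.one_mul]
  have gWX : Wu * Xu = Yu ^ 2 * Wu := by
    apply Units.ext
    rw [Units.val_mul, Units.val_mul, Units.val_pow_eq_pow_val, hXu, hYu, hWu, rWX]
  have gWY : Wu * Yu = Xu * Wu := by
    apply Units.ext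
    rw [Units.val_mul, Units.val_mul, hXu, hYu, hWu, rWY]
  -- the elements of `GL_n`
  obtain ⟨z, hz⟩ : ∃ z : GL (Fin n) F, z = d1scal ωu := ⟨_, rfl⟩
  obtain ⟨x₁, hx₁⟩ : ∃ x₁ : GL (Fin n) F, x₁ = u33I1 e P Xu := ⟨_, rfl⟩
  obtain ⟨y₁, hy₁⟩ : ∃ y₁ : GL (Fin n) F, y₁ = u33I1 e P Yu := ⟨_, rfl⟩
  obtain ⟨x₂, hx₂⟩ : ∃ x₂ : GL (Fin n) F, x₂ = u33I2 e P Xu := ⟨_, rfl⟩
  obtain ⟨y₂, hy₂⟩ : ∃ y₂ : GL (Fin n) F, y₂ = u33I2 e P Yu := ⟨_, rfl⟩
  obtain ⟨w₁, hw₁⟩ : ∃ w₁ : GL (Fin n) F, w₁ = u33I1 e P Wu := ⟨_, rfl⟩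
  obtain ⟨w₂, hw₂⟩ : ∃ w₂ : GL (Fin n) F, w₂ = u33I2 e P Wu := ⟨_, rfl⟩
  have hzc : ∀ g : GL (Fin n) F, z * g = g * z := by
    intro g; rw [hz]; exact d1scal_comm ωu g
  have hz1 : z ≠ 1 := by
    rw [hz, ← d1scal_one]
    intro h
    exact hωu1 (d1scal_injective hn0 h)
  have hz3 : z ^ 3 = 1 := by rw [hz, ← d1scal_pow, hωu3, d1scal_one]
  obtain ⟨hcube, hcomm, hzR, hwconj, htrick⟩ := u33_grp z x₁ y₁ x₂ y₂ w₁ w₂ hzc hz1 hz3
    (by rw [hx₁, ← map_pow, gX3, map_one]) (by rw [hy₁, ← map_pow, gY3, map_one])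
    (by rw [hx₂, ← map_pow, gX3, map_one]) (by rw [hy₂, ← map_pow, gY3, map_one])
    (by rw [hx₁, hy₁, hz, ← map_mul, gXY, map_mul, asuc33main_I1_scal, map_mul])
    (by rw [hx₂, hy₂, hz, ← map_mul, gXY, map_mul, asuc33main_I2_scal, map_mul])
    (by rw [hx₁, hx₂]; exact u33I1_comm_I2 e P Xu Xu) (by rw [hx₁, hy₂]; exact u33I1_comm_I2 e P Xu Yu)
    (by rw [hy₁, hx₂]; exact u33I1_comm_I2 e P Yu Xu) (by rw [hy₁, hy₂]; exact u33I1_comm_I2 e P Yu Yu)
    (by rw [hw₁, hx₁, hy₁, ← map_mul, gWX, map_mul, map_pow])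
    (by rw [hw₁, hx₁, hy₁, ← map_mul, gWY, map_mul])
    (by rw [hw₁, hx₂]; exact u33I1_comm_I2 e P Wu Xu) (by rw [hw₁, hy₂]; exact u33I1_comm_I2 e P Wu Yu)
    (by rw [hw₂, hx₂, hy₂, ← map_mul, gWX, map_mul, map_pow])
    (by rw [hw₂, hx₂, hy₂, ← map_mul, gWY, map_mul])
    (by rw [hw₂, hx₁]; exact (u33I1_comm_I2 e P Xu Wu).symm) (by rw [hw₂, hy₁]; exact (u33I1_comm_I2 e P Yu Wu).symm)
  obtain ⟨R, hRdef⟩ : ∃ R : Subgroup (GL (Fin n) F), R = Subgroup.closure ({x₁, y₁, x₂, y₂} : Set (GL (Fin n) F)) :=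
    ⟨_, rfl⟩
  rw [← hRdef] at hcube hcomm hzR hwconj htrick
  have hx₁R : x₁ ∈ R := by rw [hRdef]; exact Subgroup.subset_closure (by simp)
  have hy₁R : y₁ ∈ R := by rw [hRdef]; exact Subgroup.subset_closure (by simp)
  have hx₂R : x₂ ∈ R := by rw [hRdef]; exact Subgroup.subset_closure (by simp)
  have hy₂R : y₂ ∈ R := by rw [hRdef]; exact Subgroup.subset_closure (by simp)
  have hzpow : ∀ k : ℕ, z ^ k = d1scal (ωu ^ k) := by
    intro k; rw [hz, d1scal_pow]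
  -- `D1Core`
  obtain ⟨S, hSdef⟩ : ∃ S : Set (Matrix (Fin 3 × Fin 3) (Fin 3 × Fin 3) F),
      S = {u33X ω ⊗ₖ (1 : Matrix (Fin 3) (Fin 3) F), (u33Y : Matrix (Fin 3) (Fin 3) F) ⊗ₖ (1 : Matrix (Fin 3) (Fin 3) F),
        (1 : Matrix (Fin 3) (Fin 3) F) ⊗ₖ u33X ω, (1 : Matrix (Fin 3) (Fin 3) F) ⊗ₖ (u33Y : Matrix (Fin 3) (Fin 3) F)} :=
    ⟨_, rfl⟩
  have hS : ActsAbsolutelyIrreducibly S :=
    u33_absIrr h2 ω hω S (by rw [hSdef]; simp) (by rw [hSdef]; simp) (by rw [hSdef]; simp) (by rw [hSdef]; simp)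
  have hAbs : AbsIrr R := by
    refine u33_absIrr_transport e P S hS (matrixSet R) ?_
    intro s hs
    rw [hSdef] at hs
    simp only [Set.mem_insert_iff, Set.mem_singleton_iff] at hs
    rcases hs with rfl | rfl | rfl | rfl
    · exact ⟨x₁, hx₁R, by
        show ((x₁ : GL (Fin n) F) : Matrix (Fin n) (Fin n) F) = _
        rw [hx₁, u33I1_coe, hXu]⟩
    · exact ⟨y₁, hy₁R, by
        show ((y₁ : GL (Fin n) F) : Matrix (Fin n) (Fin n) F) = _
        rw [hy₁, u33I1_coe, hYu]⟩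
    · exact ⟨x₂, hx₂R, by
        show ((x₂ : GL (Fin n) F) : Matrix (Fin n) (Fin n) F) = _
        rw [hx₂, u33I2_coe, hXu]⟩
    · exact ⟨y₂, hy₂R, by
        show ((y₂ : GL (Fin n) F) : Matrix (Fin n) (Fin n) F) = _
        rw [hy₂, u33I2_coe, hYu]⟩
  have hComm : ⁅R, R⁆ ≤ scalars (Fin n) F := by
    rw [Subgroup.commutator_le]
    intro g hg h hh
    obtain ⟨k, hk⟩ := hcomm g hg h hh
    rw [commutatorElement_def, hk, hzpow]
    exact d1scal_mem _
  have hRoots : ∀ c : Fˣ, c ^ 3 = 1 → d1scal c ∈ R := by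
    intro c _
    rcases hall (c : F) with h | h | h | h
    · exact absurd h c.ne_zero
    · have : c = 1 := Units.ext (by rw [h]; rfl)
      rw [this, d1scal_one]
      exact R.one_mem
    · have : c = ωu := Units.ext (by rw [h, hωu])
      rw [this, ← hz]
      exact hzR
    · have : c = ωu ^ 2 := Units.ext (by rw [h, Units.val_pow_eq_pow_val, hωu])
      rw [this, ← hzpow]
      exact R.pow_mem hzR 2
  have hCore : D1Core 3 3 R := ⟨Nat.prime_three, by norm_num, hAbs, hComm, hcube, hRoots⟩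
  have hord := d1_order hn0 hCore.absIrr hCore.comm
  obtain ⟨m, hm1, hnm, hcard⟩ := d1_arith hn2 hCore hord
  obtain ⟨hcent, hcentcard⟩ := d1_cent hn0 hCore
  have hexp := d1_exp hn2 hCore
  have hF3 : Fact (Nat.Prime 3) := ⟨Nat.prime_three⟩
  have hωo : orderOf ωu = 3 := orderOf_eq_prime hωu3 hωu1
  have hcr : Nat.card (Subgroup.center R) = 3 := by
    rw [hcentcard]
    exact asgd1main_card_roots 3 (by norm_num) ωu hωo
  -- characteristic abelian subgroups are cyclic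
  have hcyc : ∀ A : Subgroup R, A.Characteristic → IsMulCommutative A → IsCyclic A := by
    intro A hchar hcommA
    have hconj : ∀ w : GL (Fin n) F, (∀ g ∈ R, w * g * w⁻¹ ∈ R ∧ w⁻¹ * g * w ∈ R) →
        ∀ a : R, a ∈ A → ∃ b : R, b ∈ A ∧ (b : GL (Fin n) F) = w * a * w⁻¹ := by
      intro w hw a ha
      let φ : R ≃* R :=
        { toFun := fun y => ⟨w * y * w⁻¹, (hw y y.2).1⟩
          invFun := fun y => ⟨w⁻¹ * y * w, (hw y y.2).2⟩
          left_inv := fun y => by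
            apply Subtype.ext
            show w⁻¹ * (w * (y : GL (Fin n) F) * w⁻¹) * w = y
            group
          right_inv := fun y => by
            apply Subtype.ext
            show w * (w⁻¹ * (y : GL (Fin n) F) * w) * w⁻¹ = y
            group
          map_mul' := fun x y => by
            apply Subtype.ext
            show w * ((x : GL (Fin n) F) * (y : GL (Fin n) F)) * w⁻¹ = (w * x * w⁻¹) * (w * y * w⁻¹)
            group }
      have hle := (Subgroup.characteristic_iff_map_le.mp hchar) φ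
      exact ⟨φ a, hle ⟨a, ha, rfl⟩, rfl⟩
    obtain ⟨A', hA'⟩ : ∃ A' : Subgroup (GL (Fin n) F), A' = A.map R.subtype := ⟨_, rfl⟩
    have hA'mem : ∀ x, x ∈ A' ↔ ∃ a : R, a ∈ A ∧ (a : GL (Fin n) F) = x := by
      intro x
      rw [hA']
      constructor
      · rintro ⟨a, ha, rfl⟩
        exact ⟨a, ha, rfl⟩
      · rintro ⟨a, ha, rfl⟩
        exact ⟨a, ha, rfl⟩
    have hA'R : A' ≤ R := by
      intro x hx
      obtain ⟨a, _, rfl⟩ := (hA'mem x).mp hx
      exact a.2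
    have hA'ab : ∀ a ∈ A', ∀ b ∈ A', a * b = b * a := by
      intro a ha b hb
      obtain ⟨a0, ha0, rfl⟩ := (hA'mem a).mp ha
      obtain ⟨b0, hb0, rfl⟩ := (hA'mem b).mp hb
      have h1 := hcommA.is_comm.comm (⟨a0, ha0⟩ : A) ⟨b0, hb0⟩
      have h2 := congrArg (fun u : A => ((u : R) : GL (Fin n) F)) h1
      simpa using h2
    have hA'w₁ : ∀ a ∈ A', w₁ * a * w₁⁻¹ ∈ A' := by
      intro a ha
      obtain ⟨a0, ha0, rfl⟩ := (hA'mem a).mp ha
      obtain ⟨b, hb, hbe⟩ := hconj w₁ (fun g hg => ⟨(hwconj g hg).1, (hwconj g hg).2.1⟩) a0 ha0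
      exact (hA'mem _).mpr ⟨b, hb, hbe⟩
    have hA'w₂ : ∀ a ∈ A', w₂ * a * w₂⁻¹ ∈ A' := by
      intro a ha
      obtain ⟨a0, ha0, rfl⟩ := (hA'mem a).mp ha
      obtain ⟨b, hb, hbe⟩ := hconj w₂ (fun g hg => ⟨(hwconj g hg).2.2.1, (hwconj g hg).2.2.2⟩) a0 ha0
      exact (hA'mem _).mpr ⟨b, hb, hbe⟩
    have hAz : ∀ a ∈ A', ∃ k : ℕ, a = z ^ k := htrick A' hA'R hA'ab hA'w₁ hA'w₂
    have hle : A ≤ Subgroup.zpowers (⟨z, hzR⟩ : R) := by
      intro a ha
      obtain ⟨k, hk⟩ := hAz a ((hA'mem _).mpr ⟨a, ha, rfl⟩)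
      rw [Subgroup.mem_zpowers_iff]
      refine ⟨(k : ℤ), Subtype.ext ?_⟩
      rw [zpow_natCast, Subgroup.coe_pow]
      exact hk.symm
    exact Subgroup.isCyclic_of_le hle
  have hST : IsSymplecticTypeGroup 3 R := by
    refine ⟨Nat.prime_three, ?_, hcyc, by rw [hexp]; norm_num⟩
    intro y
    refine ⟨1, ?_⟩
    apply Subtype.ext
    rw [pow_one, Subgroup.coe_pow, Subgroup.coe_one]
    exact hcube y y.2
  -- similitudes
  have h11 : uadj 2 (1 : Matrix (Fin 3) (Fin 3) F) * 1 = 1 := by rw [uadj_one hF, mul_one]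
  have hsim : R ≤ similarityGroup (hermForm n F 2) := by
    rw [hRdef, Subgroup.closure_le]
    intro g hg
    simp only [Set.mem_insert_iff, Set.mem_singleton_iff] at hg
    rcases hg with rfl | rfl | rfl | rfl
    · refine ⟨1, fun u v => ?_⟩
      rw [Units.val_one, one_mul, hx₁, u33I1_coe, hXu]
      exact u33_unitary_transport 2 hF e P hK _ (u33_kron_unitary 2 _ _ uX h11) u v
    · refine ⟨1, fun u v => ?_⟩
      rw [Units.val_one, one_mul, hy₁, u33I1_coe, hYu]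
      exact u33_unitary_transport 2 hF e P hK _ (u33_kron_unitary 2 _ _ uY h11) u v
    · refine ⟨1, fun u v => ?_⟩
      rw [Units.val_one, one_mul, hx₂, u33I2_coe, hXu]
      exact u33_unitary_transport 2 hF e P hK _ (u33_kron_unitary 2 _ _ h11 uX) u v
    · refine ⟨1, fun u v => ?_⟩
      rw [Units.val_one, one_mul, hy₂, u33I2_coe, hYu]
      exact u33_unitary_transport 2 hF e P hK _ (u33_kron_unitary 2 _ _ h11 uY) u v
  -- the field is minimal
  have hchar : CharP F 2 := (CharP.charP_iff_prime_eq_zero Nat.prime_two).mpr (by exact_mod_cast h2)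
  have hmin : IsMinimalFieldFor (Nat.card (Subgroup.center R)) 2 2 F := by
    rw [hcr]
    refine ⟨Nat.prime_two, hchar, hF, by norm_num, ?_⟩
    intro d hd0 hd2
    have hd1 : d = 1 := by omega
    subst hd1
    norm_num
  -- elements with matrix in the Heisenberg set
  have hheis : ∀ g : GL (Fin 3) F, (g : Matrix (Fin 3) (Fin 3) F) ∈ u33Heis ω → u33I1 e P g ∈ R ∧ u33I2 e P g ∈ R := by
    intro g hg
    obtain ⟨c, i, j, hgm⟩ := hg
    have hgu : g = d1scal (ωu ^ c) * (Xu ^ i * Yu ^ j) := by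
      apply Units.ext
      rw [Units.val_mul, Units.val_mul, d1scal_coe, Units.val_pow_eq_pow_val, Units.val_pow_eq_pow_val,
        Units.val_pow_eq_pow_val, hXu, hYu, hωu, hgm, Matrix.smul_mul, Matrix.one_mul]
    constructor
    · rw [hgu, map_mul, map_mul, map_pow, map_pow, asuc33main_I1_scal, ← hzpow, ← hx₁, ← hy₁]
      exact R.mul_mem (R.pow_mem hzR c) (R.mul_mem (R.pow_mem hx₁R i) (R.pow_mem hy₁R j))
    · rw [hgu, map_mul, map_mul, map_pow, map_pow, asuc33main_I2_scal, ← hzpow, ← hx₂, ← hy₂]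
      exact R.mul_mem (R.pow_mem hzR c) (R.mul_mem (R.pow_mem hx₂R i) (R.pow_mem hy₂R j))
  have hXheis : u33X ω ∈ u33Heis ω := ⟨0, 1, 0, by simp⟩
  have hYheis : (u33Y : Matrix (Fin 3) (Fin 3) F) ∈ u33Heis ω := ⟨0, 0, 1, by simp⟩
  -- conjugation by a unitary matrix
  have hconjU : ∀ (a g : GL (Fin 3) F), uadj 2 (a : Matrix (Fin 3) (Fin 3) F) * (a : Matrix (Fin 3) (Fin 3) F) = 1 →
      (g : Matrix (Fin 3) (Fin 3) F) ∈ u33Heis ω →
      ((a * g * a⁻¹ : GL (Fin 3) F) : Matrix (Fin 3) (Fin 3) F) ∈ u33Heis ω := by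
    intro a g ha hg
    have hinv : uadj 2 (a : Matrix (Fin 3) (Fin 3) F) = ((a⁻¹ : GL (Fin 3) F) : Matrix (Fin 3) (Fin 3) F) :=
      Units.eq_inv_of_mul_eq_one_right ha
    rw [Units.val_mul, Units.val_mul, ← hinv]
    exact asuc33norm_core hF ω hω (asuc33relb_rel h2 ω hω) (asuc33heisb_heis h2 ω hω) _ ha _ hg
  -- `H` normalises `R`
  have hRH : D1NormBy R H := by
    intro h hh y hy
    obtain ⟨a, b, μ, hμ, hmat, ha, hb⟩ := uc_kron_sim 2 hF e P 1 1 one_ne_zero one_ne_zero hK h (hI hh) (hH hh)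
    have hau := asuc33main_unitary_of_sim hF _ μ hμ ha
    have hbu := asuc33main_unitary_of_sim hF _ μ⁻¹ (inv_ne_zero hμ) hb
    have hh' : h = u33I1 e P a * u33I2 e P b := Units.ext (by rw [u33I1_mul_I2]; exact hmat)
    have c1 : ∀ g : GL (Fin 3) F, h * u33I1 e P g * h⁻¹ = u33I1 e P (a * g * a⁻¹) := by
      intro g
      rw [hh', map_mul, map_mul, map_inv]
      exact asuc33main_conj_left _ _ _ (u33I1_comm_I2 e P g b).symm
    have c2 : ∀ g : GL (Fin 3) F, h * u33I2 e P g * h⁻¹ = u33I2 e P (b * g * b⁻¹) := by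
      intro g
      rw [hh', map_mul, map_mul, map_inv]
      exact asuc33main_conj_right _ _ _ (u33I1_comm_I2 e P a b) (u33I1_comm_I2 e P a g)
    rw [hRdef] at hy
    induction hy using Subgroup.closure_induction with
    | mem g hg =>
      simp only [Set.mem_insert_iff, Set.mem_singleton_iff] at hg
      rcases hg with rfl | rfl | rfl | rfl
      · rw [hx₁, c1]
        exact (hheis _ (hconjU a Xu hau (by rw [hXu]; exact hXheis))).1
      · rw [hy₁, c1]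
        exact (hheis _ (hconjU a Yu hau (by rw [hYu]; exact hYheis))).1
      · rw [hx₂, c2]
        exact (hheis _ (hconjU b Xu hbu (by rw [hXu]; exact hXheis))).2
      · rw [hy₂, c2]
        exact (hheis _ (hconjU b Yu hbu (by rw [hYu]; exact hYheis))).2
    | one => simp
    | mul g g' _ _ hg hg' =>
      have a1 : h * (g * g') * h⁻¹ = (h * g * h⁻¹) * (h * g' * h⁻¹) := by group
      rw [a1]
      exact R.mul_mem hg hg'
    | inv g _ hg =>
      have a1 : h * g⁻¹ * h⁻¹ = (h * g * h⁻¹)⁻¹ := by group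
      rw [a1]
      exact R.inv_mem hg
  have hHR : H ≤ subgroupNormalizer R := (d1_normalIn_sup hRH).2
  refine inU_of_sympl_odd hI R hST hCore.absIrr hsim (by norm_num) hmin (by decide) hcr hm1 ?_ hHR
  rw [hcard, hcr]
  ring

/-- C-33 -/
theorem uc_three_three (hF : Fintype.card F = 2 ^ 2) {H : Subgroup (GL (Fin n) F)}
    (hI : H ≤ GU n F 2) (e : Fin n ≃ Fin 3 × Fin 3) (P : GL (Fin n) F) (A B : Matrix (Fin 3) (Fin 3) F)
    (hA : A.det ≠ 0) (hB : B.det ≠ 0) (hAh : uadj 2 A = A) (hBh : uadj 2 B = B) (hK : UKrGram 2 e P A B)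
    (hH : H ≤ tensorProductSubgroup 3 3 e P) : InU n 2 H := by
  obtain ⟨S₁, hS₁⟩ := uc_herm_std 2 hF A hA hAh
  obtain ⟨S₂, hS₂⟩ := uc_herm_std 2 hF B hB hBh
  obtain ⟨P', hP', hK'⟩ := uc_change_basis 2 hF e P A B hK S₁ S₂
  rw [hS₁, hS₂] at hK'
  rw [← hP'] at hH
  exact asuc33main_core hF hI e P' hK' hH

end Cfsg.Agent.Lib.Helper19.ASU
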