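import Mathlib
import Cfsg.Prelude.Def_GeometricClasses
import Cfsg.Agent.Lib.Helper27.ASC.Defs
import Cfsg.Agent.Lib.Helper19.ASG.Defs
import Cfsg.Agent.Lib.Helper26.ASGD1.Defs
import Cfsg.Agent.Lib.Helper19.ASU.Defs
import Cfsg.Agent.Lib.Helper13.ASURED
import Cfsg.Agent.Lib.Helper19.ASUAB
import Cfsg.Agent.Lib.Helper26.ASUCMAINcore
import Cfsg.Agent.Lib.Helper26.ASUC22
import Cfsg.Agent.Lib.Helper19.ASUC33MAIN
import Cfsg.Agent.Lib.Helper10.ASUSUBF
import Cfsg.Agent.Lib.Helper27.ASUD1MAIN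
import Cfsg.Agent.Lib.Helper24.ASUD2TASM
import Cfsg.Agent.Lib.Helper10.ASUD2SASM
import Cfsg.Agent.Lib.Helper10.ASGCONE
import Cfsg.Agent.Lib.Helper25.ASGCFULL
import Cfsg.Agent.Lib.Helper20.ASGCDIM
import Cfsg.Agent.Lib.Helper10.ASCIRRNS

/-!
# Project ASU : assembly of Aschbacher's theorem for `GU_n(q)` (`asu_main`) from the landed blocks (helper19)
-/

set_option autoImplicit false
set_option linter.unusedVariables false
set_option linter.unusedSectionVars false

namespace Cfsg.Agent.Lib.Helper19.ASU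

open Cfsg Cfsg.Geo Cfsg.Agent.Lib.Helper27.ASC Cfsg.Agent.Lib.Helper19.ASG
open scoped MatrixGroups Matrix

variable {n : ℕ} {F : Type*} [Field F] [Fintype F]

/-- block C (the statement of `u_tensor_case`, from helper26's `u_tensor_case_core` with C-22 and C-33) -/
theorem asumain_tensor_case (q : ℕ) (hF : Fintype.card F = q ^ 2) (hn : 3 ≤ n) {H N : Subgroup (GL (Fin n) F)}
    (hI : H ≤ GU n F q) (hH : Irr H) (hN : NormalIn N H) {k : ℕ}
    (φ : centAlg N ≃ₐ[F] Matrix (Fin k) (Fin k) F) (hk1 : 1 < k) (hkn : k < n) : InU n q H := by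
  refine u_tensor_case_core q hF hn hI hH hN φ hk1 hkn ?_ ?_
  · intro e P A B hA hB hAh hBh hK hle
    exact uc_two_two q hF hI e P A B hA hB hAh hBh hK hle
  · intro hq e P A B hA hB hAh hBh hK hle
    subst hq
    exact uc_three_three hF hI e P A B hA hB hAh hBh hK hle

/-- blocks AB + C with the form -/
theorem u_normal_dichotomy (q : ℕ) (hF : Fintype.card F = q ^ 2) (hn : 3 ≤ n) {H N : Subgroup (GL (Fin n) F)}
    (hI : H ≤ GU n F q) (hH : Irr H) (hN : NormalIn N H) :
    InU n q H ∨ N ≤ scalars (Fin n) F ∨ AbsIrr N := by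
  rcases u_clifford_ab q hF hn hI hH hN with h | ⟨k, ⟨φ⟩⟩
  · exact Or.inl h
  · obtain ⟨hk0, hkn⟩ := cent_matrix_le (by omega) φ
    rcases Nat.lt_or_ge 1 k with hk1 | hk1
    · rcases Nat.lt_or_ge k n with hlt | hge
      · exact Or.inl (asumain_tensor_case q hF hn hI hH hN φ hk1 hlt)
      · have hkn' : k = n := le_antisymm hkn hge
        subst hkn'
        exact Or.inr (Or.inl (scalar_of_cent_full φ))
    · have hk : k = 1 := by omega
      subst hk
      exact Or.inr (Or.inr (absIrr_of_cent_one hH hN φ))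

/-- Aschbacher's theorem for `GU_n(q)`, `n ≥ 3`, containment form -/
theorem asu_main (q : ℕ) (hF : Fintype.card F = q ^ 2) (hn : 3 ≤ n) (H : Subgroup (GL (Fin n) F))
    (hI : H ≤ GU n F q) : InU n q H ∨ InUnitaryResidualClass H := by
  classical
  by_cases hH : Irr H
  swap
  · exact Or.inl (u_red_case q hF hn hI hH)
  by_cases hcl : InU n q H
  · exact Or.inl hcl
  have hD : AllNormalAbsIrr H := by
    intro N hN
    rcases u_normal_dichotomy q hF hn hI hH hN with h | h | h
    · exact absurd h hcl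
    · exact Or.inl h
    · exact Or.inr h
  have hns : ¬ H ≤ scalars (Fin n) F := irr_not_scalar (by omega) hH
  obtain ⟨N, hN⟩ := exists_minNonscalar H hns
  have hNA : AbsIrr N := (hD N hN.1).resolve_left hN.2.1
  have hcomm : NormalIn ⁅N, N⁆ H := commutator_normalIn hN.1
  rcases hN.2.2 ⁅N, N⁆ hcomm (Subgroup.commutator_le_self N) with hab | hperf
  · exact Or.inl (u_nilp_case q hF hn hI hH hD hN hab)
  rcases u_perfect_case q hF hn hI hH hD hN hperf with h | ⟨hsimple, hnonab⟩
  · exact Or.inl h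
  exact u_almost_simple q hF hn hI hN.1 hNA hperf hsimple hnonab

end Cfsg.Agent.Lib.Helper19.ASU

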