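import Mathlib

set_option autoImplicit false

namespace Cfsg.Agent.Lib.Helper19.AltSpec

/-- a prime dividing the lcm of a multiset divides one of its members -/
theorem prime_dvd_multiset_lcm {p : ℕ} (hp : p.Prime) (m : Multiset ℕ) (h : p ∣ m.lcm) :
    ∃ a ∈ m, p ∣ a := by
  induction m using Multiset.induction_on with
  | empty =>
    rw [Multiset.lcm_zero] at h
    exact absurd (Nat.dvd_one.mp h) hp.one_lt.ne'
  | cons a s ih =>
    rw [Multiset.lcm_cons] at h
    have h2 : p ∣ a * s.lcm := dvd_trans h (lcm_dvd_mul a s.lcm)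
    rcases (Nat.Prime.dvd_mul hp).mp h2 with h3 | h3
    · exact ⟨a, Multiset.mem_cons_self a s, h3⟩
    · obtain ⟨b, hb, hpb⟩ := ih h3
      exact ⟨b, Multiset.mem_cons_of_mem hb, hpb⟩

/-- no permutation of `n` points has order divisible by `p * q` when `p + q > n` and
`p * q > n` -/
theorem not_dvd_orderOf {α : Type*} [Fintype α] [DecidableEq α] {p q : ℕ} (hp : p.Prime)
    (hq : q.Prime) (hne : p ≠ q) (h1 : Fintype.card α < p + q) (h2 : Fintype.card α < p * q)
    (σ : Equiv.Perm α) : ¬ p * q ∣ orderOf σ := by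
  intro hdvd
  rw [← Equiv.Perm.lcm_cycleType] at hdvd
  obtain ⟨a, ha, hpa⟩ := prime_dvd_multiset_lcm hp _ (dvd_trans (dvd_mul_right p q) hdvd)
  obtain ⟨b, hb, hqb⟩ := prime_dvd_multiset_lcm hq _ (dvd_trans (dvd_mul_left q p) hdvd)
  have hsum := Equiv.Perm.sum_cycleType_le σ
  have ha2 := Equiv.Perm.two_le_of_mem_cycleType ha
  have hb2 := Equiv.Perm.two_le_of_mem_cycleType hb
  have hale : a ≤ σ.cycleType.sum := Multiset.single_le_sum (fun _ _ => Nat.zero_le _) a ha
  by_cases hab : a = b
  · have hco : Nat.Coprime p q := (Nat.coprime_primes hp hq).mpr hne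
    have : p * q ∣ a := hco.mul_dvd_of_dvd_of_dvd hpa (hab ▸ hqb)
    have := Nat.le_of_dvd (by omega) this
    omega
  · have hb' : b ∈ σ.cycleType.erase a := (Multiset.mem_erase_of_ne (Ne.symm hab)).mpr hb
    have hble : b ≤ (σ.cycleType.erase a).sum :=
      Multiset.single_le_sum (fun _ _ => Nat.zero_le _) b hb'
    have hs : σ.cycleType.sum = a + (σ.cycleType.erase a).sum := by
      conv_lhs => rw [← Multiset.cons_erase ha]
      rw [Multiset.sum_cons]
    have hpa' := Nat.le_of_dvd (by omega) hpa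
    have hqb' := Nat.le_of_dvd (by omega) hqb
    omega

/-- the alternating group of degree `n` has no element of order `p * q` -/
theorem alt_no_order {n p q : ℕ} (hp : p.Prime) (hq : q.Prime) (hne : p ≠ q) (h1 : n < p + q)
    (h2 : n < p * q) (σ : alternatingGroup (Fin n)) : orderOf σ ≠ p * q := by
  intro h
  rw [← Subgroup.orderOf_coe] at h
  apply not_dvd_orderOf hp hq hne (by rwa [Fintype.card_fin]) (by rwa [Fintype.card_fin])
    (σ : Equiv.Perm (Fin n))
  rw [h]

end Cfsg.Agent.Lib.Helper19.AltSpec
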