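import Mathlib

set_option autoImplicit false

namespace Cfsg.Agent.Lib.Helper19.TwoPrimes

open Nat

/-- there are at most `(s + 1) / 2` primes up to `s` -/
theorem card_primes_le (s : ℕ) (T : Finset ℕ) (hT : ∀ p ∈ T, p.Prime ∧ p ≤ s) :
    T.card ≤ (s + 1) / 2 := by
  have h : T.card ≤ (Finset.Icc 1 ((s + 1) / 2)).card := by
    apply Finset.card_le_card_of_injOn (fun p => (p + 1) / 2)
    · intro p hp
      obtain ⟨hp1, hp2⟩ := hT p hp
      rw [Finset.mem_coe, Finset.mem_Icc]
      have := hp1.two_le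
      show 1 ≤ (p + 1) / 2 ∧ (p + 1) / 2 ≤ (s + 1) / 2
      constructor <;> omega
    · intro p hp q hq h
      have hp1 := (hT p hp).1
      have hq1 := (hT q hq).1
      simp only at h
      rcases hp1.eq_two_or_odd with h2 | h2 <;> rcases hq1.eq_two_or_odd with h3 | h3
      · rw [h2, h3]
      · have := hq1.two_le; omega
      · have := hp1.two_le; omega
      · omega
  simpa using h

/-- the upper bound on the central binomial coefficient when at most one prime lies in
`(n, 2n]` -/
theorem centralBinom_le_of_at_most_one_prime (n : ℕ) (n_large : 8 ≤ n) (p₀ : ℕ)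
    (one_prime : ∀ p : ℕ, p.Prime → n < p → p ≤ 2 * n → p = p₀) :
    centralBinom n ≤ (2 * n) ^ sqrt (2 * n) * 4 ^ (2 * n / 3) := by
  have n_pos : 0 < n := by omega
  have n2_pos : 1 ≤ 2 * n := by omega
  set s := sqrt (2 * n) with hs
  have hs4 : 4 ≤ s := by
    rw [hs, Nat.le_sqrt]
    omega
  let f : ℕ → ℕ := fun x => x ^ n.centralBinom.factorization x
  let S := {p ∈ Finset.range (2 * n + 1) | Nat.Prime p}
  have h1 : ∏ x ∈ S, f x = ∏ x ∈ Finset.range (2 * n + 1), f x := by
    refine Finset.prod_filter_of_ne fun p _ h => ?_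
    contrapose h; dsimp only [f]
    rw [factorization_eq_zero_of_not_prime n.centralBinom h, _root_.pow_zero]
  rw [← n.prod_pow_factorization_centralBinom]
  change ∏ x ∈ Finset.range (2 * n + 1), f x ≤ _
  rw [← h1, ← Finset.prod_filter_mul_prod_filter_not S (· ≤ 2 * n / 3),
    ← Finset.prod_filter_mul_prod_filter_not (S.filter (· ≤ 2 * n / 3)) (· ≤ s)]
  -- the three parts
  have A : ∏ x ∈ (S.filter (· ≤ 2 * n / 3)).filter (· ≤ s), f x ≤ (2 * n) ^ ((s + 1) / 2) := by
    refine (Finset.prod_le_prod' fun p _ => (?_ : f p ≤ 2 * n)).trans ?_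
    · exact pow_factorization_choose_le (mul_pos two_pos n_pos)
    rw [Finset.prod_const]
    refine pow_right_mono₀ n2_pos (card_primes_le s _ ?_)
    intro p hp
    obtain ⟨h2, h3⟩ := Finset.mem_filter.1 hp
    exact ⟨(Finset.mem_filter.1 (Finset.mem_filter.1 h2).1).2, h3⟩
  have B : ∏ x ∈ (S.filter (· ≤ 2 * n / 3)).filter (fun x => ¬ x ≤ s), f x ≤ 4 ^ (2 * n / 3) := by
    refine le_trans ?_ (primorial_le_four_pow (2 * n / 3))
    refine (Finset.prod_le_prod' fun p hp => (?_ : f p ≤ p)).trans ?_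
    · obtain ⟨h2, h3⟩ := Finset.mem_filter.1 hp
      have hpp : p.Prime := (Finset.mem_filter.1 (Finset.mem_filter.1 h2).1).2
      refine (pow_right_mono₀ hpp.one_lt.le ?_).trans (pow_one p).le
      exact Nat.factorization_choose_le_one (sqrt_lt'.mp <| not_le.1 h3)
    unfold primorial
    refine Finset.prod_le_prod_of_subset_of_one_le' ?_ ?_
    · intro p hp
      obtain ⟨h2, _⟩ := Finset.mem_filter.1 hp
      obtain ⟨h4, h5⟩ := Finset.mem_filter.1 h2
      have hpp : p.Prime := (Finset.mem_filter.1 h4).2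
      exact Finset.mem_filter.2 ⟨Finset.mem_range.2 (by omega), hpp⟩
    · intro p hp _
      exact (Finset.mem_filter.1 hp).2.one_lt.le
  have C : ∏ x ∈ S.filter (fun x => ¬ x ≤ 2 * n / 3), f x ≤ 2 * n := by
    have hone : ∀ p ∈ S.filter (fun x => ¬ x ≤ 2 * n / 3), p ≠ p₀ → f p = 1 := by
      intro p hp hne
      obtain ⟨h2, h3⟩ := Finset.mem_filter.1 hp
      obtain ⟨h4, hpp⟩ := Finset.mem_filter.1 h2
      have hp2n : p ≤ 2 * n := by have := Finset.mem_range.1 h4; omega
      have hpn : p ≤ n := by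
        by_contra hlt
        exact hne (one_prime p hpp (by omega) hp2n)
      dsimp only [f]
      rw [factorization_centralBinom_of_two_mul_self_lt_three_mul (by omega) hpn (by omega),
        _root_.pow_zero]
    by_cases hmem : p₀ ∈ S.filter (fun x => ¬ x ≤ 2 * n / 3)
    · rw [Finset.prod_eq_single_of_mem p₀ hmem hone]
      exact pow_factorization_choose_le (mul_pos two_pos n_pos)
    · rw [Finset.prod_eq_one]
      · exact n2_pos
      · intro p hp
        exact hone p hp (fun h => hmem (h ▸ hp))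
  calc _ ≤ ((2 * n) ^ ((s + 1) / 2) * 4 ^ (2 * n / 3)) * (2 * n) :=
        Nat.mul_le_mul (Nat.mul_le_mul A B) C
    _ = (2 * n) ^ ((s + 1) / 2 + 1) * 4 ^ (2 * n / 3) := by ring
    _ ≤ (2 * n) ^ s * 4 ^ (2 * n / 3) := by
        apply Nat.mul_le_mul_right
        exact pow_right_mono₀ n2_pos (by omega)

/-- two primes in `(n, 2n]` for large `n` -/
theorem exists_two_primes_large (n : ℕ) (n_large : 512 ≤ n) :
    ∃ p q : ℕ, p.Prime ∧ q.Prime ∧ n < p ∧ p < q ∧ q ≤ 2 * n := by
  obtain ⟨p₀, hp₀, h1, h2⟩ := Nat.exists_prime_lt_and_le_two_mul n (by omega)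
  by_contra hcon
  push Not at hcon
  have one_prime : ∀ p : ℕ, p.Prime → n < p → p ≤ 2 * n → p = p₀ := by
    intro p hp h3 h4
    rcases lt_trichotomy p p₀ with h | h | h
    · exact absurd h2 (not_le.2 (hcon p p₀ hp hp₀ h3 h))
    · exact h
    · exact absurd h4 (not_le.2 (hcon p₀ p hp₀ hp h1 h))
  have no_prime : 4 ^ n < n * n.centralBinom :=
    Nat.four_pow_lt_mul_centralBinom n (le_trans (by norm_num1) n_large)
  have hle := centralBinom_le_of_at_most_one_prime n (by omega) p₀ one_prime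
  have := bertrand_main_inequality n_large
  have h3 : n * n.centralBinom ≤ n * ((2 * n) ^ sqrt (2 * n) * 4 ^ (2 * n / 3)) :=
    Nat.mul_le_mul_left n hle
  rw [← mul_assoc] at h3
  omega


theorem of_pair {k : ℕ} (p q : ℕ) (hp : p.Prime) (hq : q.Prime) (hpq : p < q) (h1 : k < p)
    (h2 : q ≤ 2 * k) : ∃ p q : ℕ, p.Prime ∧ q.Prime ∧ k < p ∧ p < q ∧ q ≤ 2 * k :=
  ⟨p, q, hp, hq, h1, hpq, h2⟩

/-- two primes in `(k, 2k]` for `k ≥ 6` -/
theorem exists_two_primes (k : ℕ) (hk : 6 ≤ k) :
    ∃ p q : ℕ, p.Prime ∧ q.Prime ∧ k < p ∧ p < q ∧ q ≤ 2 * k := by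
  by_cases h0 : 512 ≤ k
  · exact exists_two_primes_large k h0
  by_cases h1 : k < 7
  · exact of_pair 7 11 (by norm_num) (by norm_num) (by norm_num) (by omega) (by omega)
  by_cases h2 : k < 11
  · exact of_pair 11 13 (by norm_num) (by norm_num) (by norm_num) (by omega) (by omega)
  by_cases h3 : k < 17
  · exact of_pair 17 19 (by norm_num) (by norm_num) (by norm_num) (by omega) (by omega)
  by_cases h4 : k < 29
  · exact of_pair 29 31 (by norm_num) (by norm_num) (by norm_num) (by omega) (by omega)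
  by_cases h5 : k < 31
  · exact of_pair 31 37 (by norm_num) (by norm_num) (by norm_num) (by omega) (by omega)
  by_cases h6 : k < 53
  · exact of_pair 53 59 (by norm_num) (by norm_num) (by norm_num) (by omega) (by omega)
  by_cases h7 : k < 101
  · exact of_pair 101 103 (by norm_num) (by norm_num) (by norm_num) (by omega) (by omega)
  by_cases h8 : k < 107
  · exact of_pair 107 109 (by norm_num) (by norm_num) (by norm_num) (by omega) (by omega)
  by_cases h9 : k < 199
  · exact of_pair 199 211 (by norm_num) (by norm_num) (by norm_num) (by omega) (by omega)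
  by_cases h10 : k < 211
  · exact of_pair 211 223 (by norm_num) (by norm_num) (by norm_num) (by omega) (by omega)
  by_cases h11 : k < 397
  · exact of_pair 397 401 (by norm_num) (by norm_num) (by norm_num) (by omega) (by omega)
  · exact of_pair 521 523 (by norm_num) (by norm_num) (by norm_num) (by omega) (by omega)

/-- two primes in `(n/2, n]` for `n ≥ 11` -/
theorem two_primes_half (n : ℕ) (hn : 11 ≤ n) :
    ∃ p q : ℕ, p.Prime ∧ q.Prime ∧ n < 2 * p ∧ p < q ∧ q ≤ n := by
  by_cases h11 : n = 11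
  · exact ⟨7, 11, by norm_num, by norm_num, by omega, by norm_num, by omega⟩
  · obtain ⟨p, q, hp, hq, h1, h2, h3⟩ := exists_two_primes (n / 2) (by omega)
    exact ⟨p, q, hp, hq, by omega, h2, by omega⟩

end Cfsg.Agent.Lib.Helper19.TwoPrimes
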