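import Mathlib
import Cfsg.Agent.Lib.Helper1.Hall
import Cfsg.Agent.Lib.Helper19.TwoPrimes
import Cfsg.Agent.Lib.Helper19.AltSpec

set_option autoImplicit false

namespace Cfsg.Agent.Lib.Helper19.AltSolv

open Cfsg.Agent.Lib.Helper19.TwoPrimes Cfsg.Agent.Lib.Helper19.AltSpec

/-- an element of prime order `p` normalising a subgroup of prime order `q` with
`q ≢ 1 (mod p)` centralises a non-identity element of it -/
theorem exists_commuting {H : Type*} [Group H] [Finite H] {p q : ℕ} (hp : p.Prime)
    (Q : Subgroup H) [Q.Normal] (hQ : Nat.card Q = q) (x : H) (hx : orderOf x = p)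
    (hpq : ¬ q ≡ 1 [MOD p]) : ∃ y ∈ Q, y ≠ 1 ∧ x * y = y * x := by
  have : Fact p.Prime := ⟨hp⟩
  let φ : Subgroup.zpowers x →* MulAut Q :=
    (MulAut.conjNormal (H := Q)).comp (Subgroup.zpowers x).subtype
  let _ : MulAction (Subgroup.zpowers x) Q := MulAction.compHom Q φ
  have hP : IsPGroup p (Subgroup.zpowers x) :=
    IsPGroup.of_card (n := 1) (by rw [Nat.card_zpowers, hx, pow_one])
  have h1 := hP.card_modEq_card_fixedPoints Q
  rw [hQ] at h1
  by_contra hcon
  push Not at hcon
  apply hpq
  have h2 : Nat.card (MulAction.fixedPoints (Subgroup.zpowers x) Q) = 1 := by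
    rw [Nat.card_eq_one_iff_unique]
    constructor
    · constructor
      intro a b
      have key : ∀ c : MulAction.fixedPoints (Subgroup.zpowers x) Q, (c : Q) = 1 := by
        intro c
        by_contra hc
        have hc1 : ((c : Q) : H) ≠ 1 := fun h => hc (Subtype.ext h)
        apply hcon _ (c : Q).2 hc1
        have hfix := c.2 ⟨x, Subgroup.mem_zpowers x⟩
        have h3 : ((φ ⟨x, Subgroup.mem_zpowers x⟩) (c : Q) : H) = ((c : Q) : H) :=
          congrArg Subtype.val hfix
        have h4 : ((φ ⟨x, Subgroup.mem_zpowers x⟩) (c : Q) : H) = x * ((c : Q) : H) * x⁻¹ := rfl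
        rw [h4] at h3
        calc x * ((c : Q) : H) = x * ((c : Q) : H) * x⁻¹ * x := by group
          _ = ((c : Q) : H) * x := by rw [h3]
      apply Subtype.ext
      rw [key a, key b]
    · refine ⟨⟨1, ?_⟩⟩
      intro g
      show (φ g) 1 = 1
      exact map_one _
  rw [h2] at h1
  exact h1

/-- a group of order `p ^ a * q` with a normal Sylow `q`-subgroup forced by arithmetic has an
element of order `p * q` -/
theorem exists_order_mul {H : Type*} [Group H] [Finite H] {p q a : ℕ} (hp : p.Prime)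
    (hq : q.Prime) (hne : p ≠ q) (ha : 1 ≤ a) (hH : Nat.card H = p ^ a * q)
    (hnq : ∀ j, 1 ≤ j → j ≤ a → ¬ p ^ j ≡ 1 [MOD q]) (hpq : ¬ q ≡ 1 [MOD p]) :
    ∃ h : H, orderOf h = p * q := by
  have : Fact p.Prime := ⟨hp⟩
  have : Fact q.Prime := ⟨hq⟩
  obtain ⟨Q⟩ : Nonempty (Sylow q H) := inferInstance
  have hQcard : Nat.card Q = q := by
    rw [Sylow.card_eq_multiplicity, hH, Nat.factorization_mul (pow_ne_zero _ hp.ne_zero) hq.ne_zero,
      Nat.Prime.factorization_pow hp, hq.factorization]
    simp [hne]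
  have hidx : (Q : Subgroup H).index = p ^ a := by
    have h1 := Subgroup.card_mul_index (Q : Subgroup H)
    rw [hQcard, hH, mul_comm] at h1
    exact Nat.eq_of_mul_eq_mul_right hq.pos h1
  have hn1 : Nat.card (Sylow q H) = 1 := by
    have h1 : Nat.card (Sylow q H) ∣ p ^ a := hidx ▸ Sylow.card_dvd_index Q
    obtain ⟨j, hj, hj2⟩ := (Nat.dvd_prime_pow hp).mp h1
    have h2 : Nat.card (Sylow q H) ≡ 1 [MOD q] := card_sylow_modEq_one q H
    rcases Nat.eq_zero_or_pos j with h0 | h0
    · rw [hj2, h0, pow_zero]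
    · exact absurd (hj2 ▸ h2) (hnq j h0 hj)
  have : Subsingleton (Sylow q H) := (Nat.card_eq_one_iff_unique.mp hn1).1
  have hnormal : (Q : Subgroup H).Normal := Sylow.normal_of_subsingleton Q
  obtain ⟨x, hx⟩ := exists_prime_orderOf_dvd_card' (G := H) p
    (by rw [hH]; exact dvd_mul_of_dvd_left (dvd_pow_self p (by omega)) q)
  obtain ⟨y, hyQ, hy1, hxy⟩ := exists_commuting hp (Q : Subgroup H) hQcard x hx hpq
  have hy : orderOf y = q := by
    have h1 : orderOf (⟨y, hyQ⟩ : (Q : Subgroup H)) ∣ q := by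
      have := orderOf_dvd_natCard (⟨y, hyQ⟩ : (Q : Subgroup H))
      rwa [hQcard] at this
    rw [← Subgroup.orderOf_coe] at h1
    rcases (Nat.dvd_prime hq).mp h1 with h2 | h2
    · exact absurd (orderOf_eq_one_iff.mp h2) hy1
    · exact h2
  refine ⟨x * y, ?_⟩
  have hco : (orderOf x).Coprime (orderOf y) := by
    rw [hx, hy]; exact (Nat.coprime_primes hp hq).mpr hne
  rw [Commute.orderOf_mul_eq_mul_orderOf_of_coprime hxy hco, hx, hy]


/-- a solvable group of order `(p ^ a * q) * m` with coprime parts has an element of order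
`p * q`, under the arithmetic conditions -/
theorem solvable_has_order {G : Type*} [Group G] [Finite G] [Group.IsSolvable G] {p q a m : ℕ}
    (hp : p.Prime) (hq : q.Prime) (hne : p ≠ q) (ha : 1 ≤ a)
    (hG : Nat.card G = (p ^ a * q) * m) (hco : (p ^ a * q).Coprime m)
    (hnq : ∀ j, 1 ≤ j → j ≤ a → ¬ p ^ j ≡ 1 [MOD q]) (hpq : ¬ q ≡ 1 [MOD p]) :
    ∃ g : G, orderOf g = p * q := by
  obtain ⟨H, hH⟩ := Cfsg.Agent.Lib.Helper1.hall_exists (p ^ a * q) m hG hco
  obtain ⟨h, hh⟩ := exists_order_mul hp hq hne ha hH hnq hpq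
  exact ⟨(h : G), by rw [Subgroup.orderOf_coe]; exact hh⟩

/-- a prime in `(n/2, n]` divides `n!` exactly once -/
theorem padic_fact {n p : ℕ} (hp : p.Prime) (h1 : p ≤ n) (h2 : n < 2 * p) :
    padicValNat p n.factorial = 1 := by
  have : Fact p.Prime := ⟨hp⟩
  have hp2 := hp.two_le
  have hlog : Nat.log p n < 2 := by
    apply Nat.log_lt_of_lt_pow (by omega)
    nlinarith
  rw [padicValNat_factorial hlog]
  have : Finset.Ico 1 2 = {1} := by decide
  rw [this, Finset.sum_singleton, pow_one]
  exact Nat.div_eq_of_lt_le (by omega) (by omega)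

/-- the exact power of an odd prime in `(n/2, n]` dividing a group of order `n!/2` -/
theorem dvd_and_sq_not_dvd {n p g : ℕ} (hp : p.Prime) (h1 : p ≤ n) (h2 : n < 2 * p) (hp3 : 3 ≤ p)
    (hg : 2 * g = n.factorial) : p ∣ g ∧ ¬ p ^ 2 ∣ g := by
  have : Fact p.Prime := ⟨hp⟩
  have hv := padic_fact hp h1 h2
  have hne : n.factorial ≠ 0 := Nat.factorial_ne_zero n
  constructor
  · have hd : p ∣ n.factorial := (Nat.Prime.dvd_factorial hp).mpr h1
    rw [← hg] at hd
    rcases (Nat.Prime.dvd_mul hp).mp hd with h | h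
    · have := Nat.le_of_dvd (by norm_num) h
      omega
    · exact h
  · intro h
    have h3 : p ^ 2 ∣ n.factorial := hg ▸ dvd_mul_of_dvd_right h 2
    rw [padicValNat_dvd_iff_le hne, hv] at h3
    omega


/-- the order of a group with the order of `A_n` -/
theorem two_mul_card {G : Type*} [Group G] (n : ℕ) (hn : 2 ≤ n)
    (hcard : Nat.card G = Nat.card ↥(alternatingGroup (Fin n))) :
    2 * Nat.card G = n.factorial := by
  have : Nontrivial (Fin n) := Fin.nontrivial_iff_two_le.mpr hn
  rw [hcard, two_mul_nat_card_alternatingGroup, Nat.card_perm, Nat.card_eq_fintype_card,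
    Fintype.card_fin]

/-- a group with the spectrum of `A_n` has no element of order `p * q` when `p + q > n` and
`p * q > n` -/
theorem spec_no_order {G : Type*} [Group G] (n : ℕ)
    (hspec : Set.range (orderOf : G → ℕ) = Set.range (orderOf : ↥(alternatingGroup (Fin n)) → ℕ))
    {p q : ℕ} (hp : p.Prime) (hq : q.Prime) (hne : p ≠ q) (h1 : n < p + q) (h2 : n < p * q)
    (g : G) : orderOf g ≠ p * q := by
  intro hg
  have : p * q ∈ Set.range (orderOf : G → ℕ) := ⟨g, hg⟩
  rw [hspec] at this
  obtain ⟨σ, hσ⟩ := this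
  exact alt_no_order hp hq hne h1 h2 σ hσ

/-- two primes in `(n/2, n]` for `n ≥ 5`, `n ≠ 6, 10` -/
theorem two_primes_half' (n : ℕ) (hn : 5 ≤ n) (h6 : n ≠ 6) (h10 : n ≠ 10) :
    ∃ p q : ℕ, p.Prime ∧ q.Prime ∧ n < 2 * p ∧ p < q ∧ q ≤ n := by
  by_cases h11 : 11 ≤ n
  · exact two_primes_half n h11
  · have : n = 5 ∨ n = 7 ∨ n = 8 ∨ n = 9 := by omega
    rcases this with rfl | rfl | rfl | rfl
    · exact ⟨3, 5, by norm_num, by norm_num, by norm_num, by norm_num, by norm_num⟩
    · exact ⟨5, 7, by norm_num, by norm_num, by norm_num, by norm_num, by norm_num⟩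
    · exact ⟨5, 7, by norm_num, by norm_num, by norm_num, by norm_num, by norm_num⟩
    · exact ⟨5, 7, by norm_num, by norm_num, by norm_num, by norm_num, by norm_num⟩

/-- a group with the order and the spectrum of `A_n`, `n ≥ 5`, is not solvable -/
theorem not_solvable {G : Type*} [Group G] [Finite G] (n : ℕ) (hn : 5 ≤ n)
    (hcard : Nat.card G = Nat.card ↥(alternatingGroup (Fin n)))
    (hspec : Set.range (orderOf : G → ℕ) = Set.range (orderOf : ↥(alternatingGroup (Fin n)) → ℕ)) :
    ¬ Group.IsSolvable G := by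
  intro hs
  have hcard2 := two_mul_card n (by omega) hcard
  by_cases h6 : n = 6
  · subst h6
    have hG : Nat.card G = (3 ^ 2 * 5) * 8 := by
      have : Nat.factorial 6 = 720 := by decide
      omega
    obtain ⟨g, hg⟩ := solvable_has_order (p := 3) (q := 5) (a := 2) (m := 8) (by norm_num)
      (by norm_num) (by norm_num) (by norm_num) hG (by norm_num)
      (by
        intro j h1 h2
        have : j = 1 ∨ j = 2 := by omega
        rcases this with rfl | rfl <;> decide)
      (by decide)
    exact spec_no_order 6 hspec (by norm_num) (by norm_num) (by norm_num) (by norm_num)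
      (by norm_num) g hg
  by_cases h10 : n = 10
  · subst h10
    have hG : Nat.card G = (5 ^ 2 * 7) * 10368 := by
      have : Nat.factorial 10 = 3628800 := by decide
      omega
    obtain ⟨g, hg⟩ := solvable_has_order (p := 5) (q := 7) (a := 2) (m := 10368) (by norm_num)
      (by norm_num) (by norm_num) (by norm_num) hG (by norm_num)
      (by
        intro j h1 h2
        have : j = 1 ∨ j = 2 := by omega
        rcases this with rfl | rfl <;> decide)
      (by decide)
    exact spec_no_order 10 hspec (by norm_num) (by norm_num) (by norm_num) (by norm_num)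
      (by norm_num) g hg
  obtain ⟨p, q, hp, hq, h2p, hpq, hqn⟩ := two_primes_half' n hn h6 h10
  have hp3 : 3 ≤ p := by omega
  obtain ⟨hpd, hpn⟩ := dvd_and_sq_not_dvd hp (by omega) h2p hp3 hcard2
  obtain ⟨hqd, hqn2⟩ := dvd_and_sq_not_dvd hq hqn (by omega) (by omega) hcard2
  have hne : p ≠ q := by omega
  have hcop : Nat.Coprime p q := (Nat.coprime_primes hp hq).mpr hne
  obtain ⟨m, hm⟩ : p * q ∣ Nat.card G := hcop.mul_dvd_of_dvd_of_dvd hpd hqd
  have hG : Nat.card G = (p ^ 1 * q) * m := by rw [pow_one]; exact hm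
  have hco : (p ^ 1 * q).Coprime m := by
    rw [pow_one]
    apply Nat.Coprime.mul_left
    · rw [Nat.Prime.coprime_iff_not_dvd hp]
      intro h
      apply hpn
      obtain ⟨c, rfl⟩ := h
      exact ⟨q * c, by rw [hm]; ring⟩
    · rw [Nat.Prime.coprime_iff_not_dvd hq]
      intro h
      apply hqn2
      obtain ⟨c, rfl⟩ := h
      exact ⟨p * c, by rw [hm]; ring⟩
  obtain ⟨g, hg⟩ := solvable_has_order hp hq hne (le_refl 1) hG hco
    (by
      intro j h1 h2
      have : j = 1 := by omega
      subst this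
      rw [pow_one]
      intro h
      have h3 : p % q = 1 % q := h
      rw [Nat.mod_eq_of_lt hpq, Nat.mod_eq_of_lt hq.one_lt] at h3
      omega)
    (by
      intro h
      have h4 : p ∣ q - 1 := (Nat.modEq_iff_dvd' hq.one_lt.le).mp h.symm
      obtain ⟨c, hc⟩ := h4
      have : c = 1 := by
        rcases Nat.lt_or_ge c 2 with h | h
        · rcases Nat.eq_zero_or_pos c with h0 | h0
          · rw [h0, mul_zero] at hc; omega
          · omega
        · have : p * 2 ≤ p * c := Nat.mul_le_mul_left p h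
          omega
      rw [this, mul_one] at hc
      -- q = p + 1 with both odd primes
      rcases hp.eq_two_or_odd with h | h
      · omega
      · rcases hq.eq_two_or_odd with h' | h'
        · omega
        · omega)
  exact spec_no_order n hspec hp hq hne (by omega) (by nlinarith) g hg

end Cfsg.Agent.Lib.Helper19.AltSolv
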