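import Mathlib
import Cfsg.Agent.Lib.Helper19.A6Inv2
import Cfsg.Agent.Lib.Helper1.Nilp

set_option autoImplicit false

namespace Cfsg.Agent.Lib.Helper19.AutA6Syl

open scoped Pointwise
open Cfsg.Agent.Lib.Helper19.A6Inv Cfsg.Agent.Lib.Helper19.A6Inv2

theorem fact1440 : (1440 : ℕ).factorization 2 = 5 := by
  rw [Nat.factorization_def _ Nat.prime_two]
  have : (1440 : ℕ) = 2 ^ 5 * 45 := by norm_num
  rw [this, padicValNat.mul (by norm_num) (by norm_num), padicValNat.prime_pow]
  have : padicValNat 2 45 = 0 := padicValNat.eq_zero_of_not_dvd (by norm_num)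
  omega

theorem card_N {G : Type*} [Group G] (N : Subgroup G)
    (e : N ≃* alternatingGroup (Fin 6)) : Nat.card N = 360 := by
  rw [Nat.card_congr e.toEquiv, nat_card_alternatingGroup]
  simp
  rfl

/-- an involution of `N` has small centralizer in `G` -/
theorem card_centralizer_le_32 {G : Type*} [Group G] [Finite G] (N : Subgroup G) [N.Normal]
    (e : N ≃* alternatingGroup (Fin 6)) (hidx : N.index = 4) (z : G) (hzN : z ∈ N)
    (hz2 : orderOf z = 2) :
    Nat.card (Subgroup.centralizer {z}) ≤ 32 := by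
  set C : Subgroup G := Subgroup.centralizer {z} with hC
  -- relIndex
  have h1 : N.relIndex C ∣ 4 := by rw [← hidx]; exact Subgroup.relIndex_dvd_index_of_normal N C
  have h2 : Nat.card (N.subgroupOf C) ≤ 8 := by
    -- inject into centralizer of e z
    set a : alternatingGroup (Fin 6) := e ⟨z, hzN⟩ with ha
    have ha2 : orderOf a = 2 := by
      rw [ha, MulEquiv.orderOf_eq]
      rw [← hz2]
      exact (Subgroup.orderOf_mk z hzN)
    have hmem : ∀ c : N.subgroupOf C, e ⟨(c : C), Subgroup.mem_subgroupOf.1 c.2⟩ ∈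
        Subgroup.centralizer {a} := by
      intro c
      rw [Subgroup.mem_centralizer_singleton_iff, ha, ← map_mul, ← map_mul]
      congr 1
      apply Subtype.ext
      have := Subgroup.mem_centralizer_singleton_iff.1 (c : C).2
      exact this
    let f : N.subgroupOf C → Subgroup.centralizer {a} := fun c => ⟨_, hmem c⟩
    have hinj : Function.Injective f := by
      intro c1 c2 h
      have h' : e ⟨(c1 : C), Subgroup.mem_subgroupOf.1 c1.2⟩ =
          e ⟨(c2 : C), Subgroup.mem_subgroupOf.1 c2.2⟩ := congrArg Subtype.val h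
      have h'' := e.injective h'
      have h3 : ((c1 : C) : G) = ((c2 : C) : G) := Subtype.mk.inj h''
      exact Subtype.ext (Subtype.ext h3)
    exact (Nat.card_le_card_of_injective f hinj).trans (card_centralizer_le a ha2)
  have h3 := Subgroup.card_mul_index (N.subgroupOf C)
  have h4 : (N.subgroupOf C).index = N.relIndex C := rfl
  rw [h4] at h3
  have h5 : N.relIndex C ≤ 4 := Nat.le_of_dvd (by norm_num) h1
  calc Nat.card C = Nat.card (N.subgroupOf C) * N.relIndex C := h3.symm
    _ ≤ 8 * 4 := Nat.mul_le_mul h2 h5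
    _ = 32 := by norm_num

/-- for an involution `z` of `N`, few involutions `u` of `N` have `z * u` of a given order -/
theorem card_prod_order_le_16 {G : Type*} [Group G] [Finite G] (N : Subgroup G)
    (e : N ≃* alternatingGroup (Fin 6)) (z : G) (hzN : z ∈ N)
    (hz2 : orderOf z = 2) (m : ℕ) :
    Nat.card {u : G // u ∈ N ∧ orderOf u = 2 ∧ orderOf (z * u) = m} ≤ 16 := by
  set a : alternatingGroup (Fin 6) := e ⟨z, hzN⟩ with ha
  have ha2 : orderOf a = 2 := by
    rw [ha, MulEquiv.orderOf_eq, ← hz2]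
    exact (Subgroup.orderOf_mk z hzN)
  have hmem : ∀ u : {u : G // u ∈ N ∧ orderOf u = 2 ∧ orderOf (z * u) = m},
      orderOf (e ⟨u.1, u.2.1⟩) = 2 ∧ orderOf (a * e ⟨u.1, u.2.1⟩) = m := by
    rintro ⟨u, huN, hu2, hum⟩
    refine ⟨?_, ?_⟩
    · rw [MulEquiv.orderOf_eq]
      exact (Subgroup.orderOf_mk u huN).trans hu2
    · rw [ha, ← map_mul, MulEquiv.orderOf_eq]
      exact (Subgroup.orderOf_mk (z * u) (N.mul_mem hzN huN)).trans hum
  let f : {u : G // u ∈ N ∧ orderOf u = 2 ∧ orderOf (z * u) = m} →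
      {w : alternatingGroup (Fin 6) // orderOf w = 2 ∧ orderOf (a * w) = m} :=
    fun u => ⟨e ⟨u.1, u.2.1⟩, hmem u⟩
  have hinj : Function.Injective f := by
    intro u1 u2 h
    have h' : e ⟨u1.1, u1.2.1⟩ = e ⟨u2.1, u2.2.1⟩ := congrArg Subtype.val h
    have h'' := e.injective h'
    exact Subtype.ext (Subtype.mk.inj h'')
  exact (Nat.card_le_card_of_injective f hinj).trans (card_prod_order_le a ha2 m)

theorem sylow_inter_ne_bot {G : Type*} [Group G] [Finite G] (N : Subgroup G) [N.Normal]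
    (e : N ≃* alternatingGroup (Fin 6)) (hidx : N.index = 4) (H : Sylow 2 G) (x : G) :
    (H : Subgroup G) ⊓ MulAut.conj x • (H : Subgroup G) ≠ ⊥ := by
  classical
  have hNcard := card_N N e
  have hG : Nat.card G = 1440 := by
    have := N.card_mul_index
    rw [hNcard, hidx] at this
    omega
  have hHcard : Nat.card (H : Subgroup G) = 32 := by
    rw [Sylow.card_eq_multiplicity, hG, fact1440]
    norm_num
  -- H ⊓ N ≠ ⊥
  have hrel : N.relIndex (H : Subgroup G) ∣ 4 := by
    rw [← hidx]; exact Subgroup.relIndex_dvd_index_of_normal N _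
  have hsub : Nat.card (N.subgroupOf (H : Subgroup G)) * N.relIndex (H : Subgroup G) = 32 := by
    have := Subgroup.card_mul_index (N.subgroupOf (H : Subgroup G))
    rw [hHcard] at this
    exact this
  have hsubne : N.subgroupOf (H : Subgroup G) ≠ ⊥ := by
    intro h
    rw [h, Subgroup.card_bot, one_mul] at hsub
    rw [hsub] at hrel
    revert hrel
    decide
  -- H is nilpotent
  haveI : Fact (Nat.Prime 2) := ⟨Nat.prime_two⟩
  haveI hnil : Group.IsNilpotent (H : Subgroup G) := H.isPGroup'.isNilpotent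
  haveI : (N.subgroupOf (H : Subgroup G)).Normal := Subgroup.normal_subgroupOf
  have hcen := Cfsg.Agent.Lib.Helper1.normal_inf_center_ne_bot (N.subgroupOf (H : Subgroup G)) hsubne
  obtain ⟨⟨w, hw⟩, hw1⟩ := (Subgroup.ne_bot_iff_exists_ne_one).1 hcen
  have hwne : w ≠ 1 := fun h => hw1 (Subtype.ext h)
  have hwN : (w : G) ∈ N := Subgroup.mem_subgroupOf.1 (Subgroup.mem_inf.1 hw).1
  have hwcen : w ∈ Subgroup.center (H : Subgroup G) := (Subgroup.mem_inf.1 hw).2
  obtain ⟨k, hk⟩ := (IsPGroup.iff_orderOf.1 H.isPGroup') w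
  have hk0 : k ≠ 0 := by
    intro h
    rw [h, pow_zero, orderOf_eq_one_iff] at hk
    exact hwne hk
  set zH : (H : Subgroup G) := w ^ (2 ^ (k - 1)) with hzH
  have hzH2 : orderOf zH = 2 := by
    rw [hzH, orderOf_pow_of_dvd (by positivity) (by rw [hk]; exact pow_dvd_pow 2 (by omega)), hk]
    have : 2 ^ k = 2 ^ (k - 1) * 2 := by
      rw [← pow_succ]; congr 1; omega
    rw [this, Nat.mul_div_cancel_left _ (by positivity)]
  set z : G := (zH : G) with hz
  have hz2 : orderOf z = 2 := by rw [hz, Subgroup.orderOf_coe]; exact hzH2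
  have hzN : z ∈ N := by
    rw [hz, hzH, Subgroup.coe_pow]
    exact N.pow_mem hwN _
  have hzcen : ∀ h ∈ (H : Subgroup G), h * z = z * h := by
    intro h hh
    have hc : zH ∈ Subgroup.center (H : Subgroup G) := by
      rw [hzH]; exact Subgroup.pow_mem _ hwcen _
    have := Subgroup.mem_center_iff.1 hc ⟨h, hh⟩
    exact congrArg Subtype.val this
  -- H = C_G(z)
  have hHC : (H : Subgroup G) = Subgroup.centralizer {z} := by
    apply Subgroup.eq_of_le_of_card_ge
    · intro h hh
      rw [Subgroup.mem_centralizer_singleton_iff]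
      exact hzcen h hh
    · rw [hHcard]
      exact card_centralizer_le_32 N e hidx z hzN hz2
  set z' : G := x * z * x⁻¹ with hz'
  have hz'N : z' ∈ N := by
    rw [hz']; exact (inferInstance : N.Normal).conj_mem z hzN x
  have hz'2 : orderOf z' = 2 := by rw [hz', orderOf_conj']; exact hz2
  set m : ℕ := orderOf (z * z') with hm
  intro hbot
  have hmemS : ∀ h : (H : Subgroup G), ((h : G) * z' * (h : G)⁻¹) ∈ N ∧
      orderOf ((h : G) * z' * (h : G)⁻¹) = 2 ∧ orderOf (z * ((h : G) * z' * (h : G)⁻¹)) = m := by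
    intro h
    refine ⟨(inferInstance : N.Normal).conj_mem z' hz'N h, by rw [orderOf_conj']; exact hz'2, ?_⟩
    have h1 : z * ((h : G) * z' * (h : G)⁻¹) = (h : G) * (z * z') * (h : G)⁻¹ := by
      have hc := hzcen h h.2
      calc z * ((h : G) * z' * (h : G)⁻¹) = (z * (h : G)) * z' * (h : G)⁻¹ := by group
        _ = ((h : G) * z) * z' * (h : G)⁻¹ := by rw [hc]
        _ = (h : G) * (z * z') * (h : G)⁻¹ := by group
    rw [h1, orderOf_conj']
  let g : ↥(H : Subgroup G) → {u : G // u ∈ N ∧ orderOf u = 2 ∧ orderOf (z * u) = m} :=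
    fun h => ⟨_, hmemS h⟩
  have hginj : Function.Injective g := by
    intro h1 h2 h12
    have h' : (h1 : G) * z' * (h1 : G)⁻¹ = (h2 : G) * z' * (h2 : G)⁻¹ := congrArg Subtype.val h12
    set c : G := (h2 : G)⁻¹ * (h1 : G) with hc
    have hcH : c ∈ (H : Subgroup G) := Subgroup.mul_mem _ (Subgroup.inv_mem _ h2.2) h1.2
    have hcz' : c * z' = z' * c := by
      have : (h2 : G)⁻¹ * ((h1 : G) * z' * (h1 : G)⁻¹) * (h1 : G) =
          (h2 : G)⁻¹ * ((h2 : G) * z' * (h2 : G)⁻¹) * (h1 : G) := by rw [h']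
      rw [hc]
      calc (h2 : G)⁻¹ * (h1 : G) * z' = (h2 : G)⁻¹ * ((h1 : G) * z' * (h1 : G)⁻¹) * (h1 : G) := by
            group
        _ = (h2 : G)⁻¹ * ((h2 : G) * z' * (h2 : G)⁻¹) * (h1 : G) := this
        _ = z' * ((h2 : G)⁻¹ * (h1 : G)) := by group
    have hcx : x⁻¹ * c * x ∈ (H : Subgroup G) := by
      rw [hHC, Subgroup.mem_centralizer_singleton_iff]
      have e1 : z = x⁻¹ * z' * x := by rw [hz']; group
      rw [e1]
      calc x⁻¹ * c * x * (x⁻¹ * z' * x) = x⁻¹ * (c * z') * x := by group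
        _ = x⁻¹ * (z' * c) * x := by rw [hcz']
        _ = x⁻¹ * z' * x * (x⁻¹ * c * x) := by group
    have hcconj : c ∈ MulAut.conj x • (H : Subgroup G) := by
      rw [Subgroup.mem_smul_pointwise_iff_exists]
      refine ⟨x⁻¹ * c * x, hcx, ?_⟩
      rw [MulAut.smul_def, MulAut.conj_apply]
      group
    have hc1 : c ∈ (H : Subgroup G) ⊓ MulAut.conj x • (H : Subgroup G) :=
      Subgroup.mem_inf.2 ⟨hcH, hcconj⟩
    rw [hbot, Subgroup.mem_bot] at hc1
    have : (h1 : G) = h2 := by
      have := hc1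
      rw [hc] at this
      exact (inv_mul_eq_one.1 this).symm
    exact Subtype.ext this
  have hle := Nat.card_le_card_of_injective g hginj
  have hle2 := card_prod_order_le_16 N e z hzN hz2 m
  rw [hHcard] at hle
  omega


end Cfsg.Agent.Lib.Helper19.AutA6Syl
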