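import Mathlib
import Cfsg.Agent.Lib.Lead.B3P.Defs
import Cfsg.Agent.Lib.helper2.CharNat
import Cfsg.Agent.Lib.helper2.PModular2
import Cfsg.Agent.S0139

/-!
# Project B3P, piece LOC: `locRing M hM` is a local ring, units = complement of the local ideal
-/

set_option autoImplicit false
set_option linter.unusedVariables false
set_option linter.unusedSectionVars false
set_option linter.style.haveILetI false
open scoped ComplexConjugate
open Classical

namespace Cfsg.Agent.Lib.Lead.B3P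

open Cfsg.Agent.Lib.helper7 Cfsg.Agent.Lib.helper7.Br Polynomial

/-- piece LOC -/
theorem locRing_isUnit_iff (M : Ideal Cfsg.AlgInt) (hM : M.IsPrime) (x : locRing M hM) :
    IsUnit x ↔ ¬ Cfsg.MemLocalIdeal M (x : ℂ) := by
  constructor
  · rintro ⟨u, rfl⟩ h
    have h1 : Cfsg.MemLocalIdeal M (((u : locRing M hM) : ℂ) * (((u⁻¹ : (locRing M hM)ˣ) : locRing M hM) : ℂ)) :=
      h7_memLocalIdeal_mul_right hM h ((u⁻¹ : (locRing M hM)ˣ) : locRing M hM).2
    have h2 : ((u : locRing M hM) : ℂ) * (((u⁻¹ : (locRing M hM)ˣ) : locRing M hM) : ℂ) = 1 := by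
      have h3 : (u : locRing M hM) * ((u⁻¹ : (locRing M hM)ˣ) : locRing M hM) = 1 := u.mul_inv
      have h4 : (((u : locRing M hM) * ((u⁻¹ : (locRing M hM)ˣ) : locRing M hM) : locRing M hM) : ℂ)
          = ((1 : locRing M hM) : ℂ) := by rw [h3]
      rw [Subring.coe_mul, Subring.coe_one] at h4
      exact h4
    rw [h2] at h1
    exact h7_not_memLocalIdeal_one hM h1
  · intro h
    have hx0 : (x : ℂ) ≠ 0 := by
      intro h0
      apply h
      rw [h0]
      exact h7_memLocalIdeal_zero hM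
    have hinv : Cfsg.MemLocalRing M (x : ℂ)⁻¹ := h7_memLocalRing_inv hM x.2 h
    refine ⟨⟨x, ⟨(x : ℂ)⁻¹, hinv⟩, ?_, ?_⟩, rfl⟩
    · apply Subtype.ext
      show (x : ℂ) * (x : ℂ)⁻¹ = 1
      exact mul_inv_cancel₀ hx0
    · apply Subtype.ext
      show (x : ℂ)⁻¹ * (x : ℂ) = 1
      exact inv_mul_cancel₀ hx0

/-- piece LOC -/
theorem locRing_isLocalRing (M : Ideal Cfsg.AlgInt) (hM : M.IsPrime) : IsLocalRing (locRing M hM) := by
  apply IsLocalRing.of_isUnit_or_isUnit_one_sub_self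
  intro a
  by_cases ha : IsUnit a
  · exact Or.inl ha
  · right
    rw [locRing_isUnit_iff] at ha ⊢
    rw [not_not] at ha
    intro h
    have h1 : Cfsg.MemLocalIdeal M ((a : ℂ) + ((1 - a : locRing M hM) : ℂ)) :=
      h7_memLocalIdeal_add hM ha h
    have h2 : (a : ℂ) + ((1 - a : locRing M hM) : ℂ) = 1 := by
      push_cast
      ring
    rw [h2] at h1
    exact h7_not_memLocalIdeal_one hM h1

/-- piece LOC -/
theorem locRing_p_mem {p : ℕ} {M : Ideal Cfsg.AlgInt} (hMp : Cfsg.IsPModular p M) (hM : M.IsPrime)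
    [IsLocalRing (locRing M hM)] : ((p : ℕ) : locRing M hM) ∈ IsLocalRing.maximalIdeal (locRing M hM) := by
  rw [IsLocalRing.mem_maximalIdeal, mem_nonunits_iff, locRing_isUnit_iff, not_not]
  have h1 : Cfsg.MemLocalIdeal M (((p : Cfsg.AlgInt) : Cfsg.AlgInt) : ℂ) :=
    h7_memLocalIdeal_of_mem hM hMp.2.2
  have h2 : (((p : ℕ) : locRing M hM) : ℂ) = (((p : Cfsg.AlgInt) : Cfsg.AlgInt) : ℂ) := by
    push_cast
    rfl
  rw [h2]
  exact h1

end Cfsg.Agent.Lib.Lead.B3P
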