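import Mathlib
import Cfsg.Agent.Lib.Lead.B3P.Defs
import Cfsg.Agent.Lib.helper2.CharNat
import Cfsg.Agent.Lib.helper2.PModular2
import Cfsg.Agent.S0139

/-!
# Project B3P, piece SPLIT (core): monic polynomials over an integrally closed subring of `ℂ` split
-/

set_option autoImplicit false
set_option linter.unusedVariables false
set_option linter.unusedSectionVars false
set_option linter.style.haveILetI false
open scoped ComplexConjugate
open Classical

namespace Cfsg.Agent.Lib.Lead.B3P

open Cfsg.Agent.Lib.helper7 Cfsg.Agent.Lib.helper7.Br Polynomial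

/-- generic: a monic polynomial over a subring of `ℂ` that is integrally closed in `ℂ` splits -/
theorem b3psplit_gen (O : Subring ℂ) (hint : ∀ z : ℂ, IsIntegral O z → z ∈ O)
    (P : Polynomial O) (hP : P.Monic) :
    ∃ s : Multiset O, P = (s.map (fun a => X - C a)).prod := by
  set P' : ℂ[X] := P.map (algebraMap O ℂ) with hP'
  have hsplit : P'.Splits := IsAlgClosed.splits P'
  have hmon : P'.Monic := hP.map _
  have h1 := hsplit.eq_prod_roots_of_monic hmon
  have hroot : ∀ z ∈ P'.roots, z ∈ O := by
    intro z hz
    apply hint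
    refine ⟨P, hP, ?_⟩
    have h2 := (mem_roots hmon.ne_zero).mp hz
    rwa [IsRoot.def, hP', eval_map] at h2
  refine ⟨P'.roots.pmap (fun z hz => (⟨z, hz⟩ : O)) hroot, ?_⟩
  apply Polynomial.map_injective (algebraMap O ℂ) Subtype.val_injective
  rw [← hP', Polynomial.map_multiset_prod, Multiset.map_map, Multiset.map_pmap]
  conv_lhs => rw [h1]
  congr 1
  rw [Multiset.pmap_eq_map_attach]
  conv_lhs => rw [← Multiset.attach_map_val (P'.roots), Multiset.map_map]
  apply Multiset.map_congr rfl
  intro x hx
  simp only [Function.comp_apply, Polynomial.map_sub, Polynomial.map_X, Polynomial.map_C]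
  rfl

/-- piece SPLIT, core: from the statement of INTCL -/
theorem b3psplit_core (M : Ideal Cfsg.AlgInt) (hM : M.IsPrime)
    (hint : ∀ z : ℂ, IsIntegral (locRing M hM) z → z ∈ locRing M hM)
    (P : Polynomial (locRing M hM)) (hP : P.Monic) :
    ∃ s : Multiset (locRing M hM), P = (s.map (fun a => X - C a)).prod :=
  b3psplit_gen (locRing M hM) hint P hP

end Cfsg.Agent.Lib.Lead.B3P
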