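import Mathlib
import Cfsg.Agent.Lib.Lead.B3P.Defs
import Cfsg.Agent.Lib.helper2.CharNat
import Cfsg.Agent.Lib.helper2.PModular2
import Cfsg.Agent.S0139
import Cfsg.Agent.Lib.Helper19.B3PLOC
import Cfsg.Agent.Lib.Helper19.B3PSPLITcore

/-!
# Project B3P, piece SPLIT: monic polynomials over `locRing M hM` split over it.

Self-contained: `b3psplit_intcl` is an own proof of the statement of INTCL
(via `IsLocalization` and `IsIntegral.exists_multiple_integral_of_isLocalization`).
-/

set_option autoImplicit false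
set_option linter.unusedVariables false
set_option linter.unusedSectionVars false
set_option linter.style.haveILetI false
open scoped ComplexConjugate
open Classical

namespace Cfsg.Agent.Lib.Lead.B3P

open Cfsg.Agent.Lib.helper7 Cfsg.Agent.Lib.helper7.Br Polynomial

/-- the inclusion of the algebraic integers in the local ring -/
noncomputable def b3psplit_incl (M : Ideal Cfsg.AlgInt) (hM : M.IsPrime) :
    Cfsg.AlgInt →+* locRing M hM :=
  (algebraMap Cfsg.AlgInt ℂ).codRestrict (locRing M hM) (fun a => h7_memLocalRing_of_algInt hM a)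

theorem b3psplit_incl_coe (M : Ideal Cfsg.AlgInt) (hM : M.IsPrime) (a : Cfsg.AlgInt) :
    ((b3psplit_incl M hM a : locRing M hM) : ℂ) = (a : ℂ) := rfl

/-- own proof of the statement of piece INTCL (so that SPLIT does not have to wait) -/
theorem b3psplit_intcl (M : Ideal Cfsg.AlgInt) (hM : M.IsPrime) (z : ℂ)
    (hz : IsIntegral (locRing M hM) z) : z ∈ locRing M hM := by
  letI alg : Algebra Cfsg.AlgInt (locRing M hM) := (b3psplit_incl M hM).toAlgebra
  haveI tower : IsScalarTower Cfsg.AlgInt (locRing M hM) ℂ :=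
    IsScalarTower.of_algebraMap_eq (fun x => rfl)
  haveI loc : IsLocalization M.primeCompl (locRing M hM) := by
    rw [isLocalization_iff]
    refine ⟨?_, ?_, ?_⟩
    · rintro ⟨b, hb⟩
      rw [locRing_isUnit_iff]
      show ¬ Cfsg.MemLocalIdeal M ((b : Cfsg.AlgInt) : ℂ)
      rw [h7_memLocalIdeal_algInt_iff hM]
      exact hb
    · intro w
      obtain ⟨a, b, hb, h⟩ := w.2
      refine ⟨(a, ⟨b, hb⟩), ?_⟩
      apply Subtype.ext
      show (w : ℂ) * (b : ℂ) = (a : ℂ)
      have hb0 : (b : ℂ) ≠ 0 := h7_coe_ne_zero_of_not_mem hb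
      rw [← h]
      field_simp
    · intro x y hxy
      refine ⟨1, ?_⟩
      have h1 : ((algebraMap Cfsg.AlgInt (locRing M hM) x : locRing M hM) : ℂ) =
          ((algebraMap Cfsg.AlgInt (locRing M hM) y : locRing M hM) : ℂ) := by rw [hxy]
      have h2 : (x : ℂ) = (y : ℂ) := h1
      have h3 : x = y := Subtype.ext h2
      rw [h3]
  obtain ⟨⟨m, hm⟩, hmz⟩ :=
    IsIntegral.exists_multiple_integral_of_isLocalization (R := Cfsg.AlgInt) M.primeCompl
      (Rₘ := locRing M hM) z hz
  -- `m • z` is integral over the algebraic integers, hence an algebraic integer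
  have h4 : IsIntegral ℤ ((m : ℂ) * z) := by
    have h5 : IsIntegral Cfsg.AlgInt ((m : ℂ) * z) := by
      have : ((⟨m, hm⟩ : M.primeCompl) • z : ℂ) = (m : ℂ) * z := rfl
      rw [← this]
      exact hmz
    haveI : Algebra.IsIntegral ℤ Cfsg.AlgInt := by
      refine ⟨fun x => ?_⟩
      have hx : IsIntegral ℤ (x : ℂ) := x.2
      exact (isIntegral_algHom_iff (Cfsg.AlgInt.val) Subtype.val_injective).mp hx
    exact isIntegral_trans (R := ℤ) (A := Cfsg.AlgInt) _ h5
  have hm0 : (m : ℂ) ≠ 0 := h7_coe_ne_zero_of_not_mem hm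
  refine ⟨⟨(m : ℂ) * z, h4⟩, m, hm, ?_⟩
  show (m : ℂ) * z / (m : ℂ) = z
  field_simp

/-- piece SPLIT : monic polynomials over the local ring split into linear factors over it -/
theorem locRing_split (M : Ideal Cfsg.AlgInt) (hM : M.IsPrime) (P : Polynomial (locRing M hM))
    (hP : P.Monic) :
    ∃ s : Multiset (locRing M hM), P = (s.map (fun a => X - C a)).prod :=
  b3psplit_core M hM (b3psplit_intcl M hM) P hP

end Cfsg.Agent.Lib.Lead.B3P
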