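import Mathlib

set_option autoImplicit false

/-! The Heisenberg group `H3` of order 27 (exponent 3) in Baer coordinates, the natural action of
`SL₂(3)` on it, and the model group `H3 ⋊ SL₂(3)` of order 648. -/

namespace Cfsg.Agent.Lib.Helper19.C3P

abbrev Z3 := ZMod 3
abbrev SL23 := Matrix.SpecialLinearGroup (Fin 2) (ZMod 3)

@[ext] structure H3 where
  u : Z3
  v : Z3
  a : Z3
deriving DecidableEq, Fintype

namespace H3

instance : Mul H3 := ⟨fun p q => ⟨p.u + q.u, p.v + q.v, p.a + q.a - (p.u * q.v - p.v * q.u)⟩⟩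
instance : One H3 := ⟨⟨0, 0, 0⟩⟩
instance : Inv H3 := ⟨fun p => ⟨-p.u, -p.v, -p.a⟩⟩

@[simp] theorem mul_u (p q : H3) : (p * q).u = p.u + q.u := rfl
@[simp] theorem mul_v (p q : H3) : (p * q).v = p.v + q.v := rfl
@[simp] theorem mul_a (p q : H3) : (p * q).a = p.a + q.a - (p.u * q.v - p.v * q.u) := rfl
@[simp] theorem one_u : (1 : H3).u = 0 := rfl
@[simp] theorem one_v : (1 : H3).v = 0 := rfl
@[simp] theorem one_a : (1 : H3).a = 0 := rfl
@[simp] theorem inv_u (p : H3) : (p⁻¹).u = -p.u := rfl
@[simp] theorem inv_v (p : H3) : (p⁻¹).v = -p.v := rfl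
@[simp] theorem inv_a (p : H3) : (p⁻¹).a = -p.a := rfl

instance : Group H3 where
  mul_assoc p q r := by ext <;> simp <;> ring
  one_mul p := by ext <;> simp
  mul_one p := by ext <;> simp
  inv_mul_cancel p := by ext <;> simp <;> ring

theorem card_eq : Nat.card H3 = 27 := by
  rw [Nat.card_eq_fintype_card]; rfl

def X : H3 := ⟨1, 0, 0⟩
def Y : H3 := ⟨0, 1, 0⟩
def Zc : H3 := ⟨0, 0, 1⟩

theorem three_eq_zero : (3 : Z3) = 0 := by decide

/-! ### The universal property -/

section lift
variable {G : Type*} [Group G]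

/-- Power with an exponent in `ZMod 3`. -/
def zp (y : G) (k : Z3) : G := y ^ k.val

theorem zp_zero (y : G) : zp y 0 = 1 := by simp [zp]

theorem zp_one (y : G) : zp y 1 = y := by
  unfold zp
  have : (1 : Z3).val = 1 := by decide
  rw [this, pow_one]

theorem zp_add (y : G) (hy : y ^ 3 = 1) (k l : Z3) : zp y (k + l) = zp y k * zp y l := by
  unfold zp
  rw [← pow_add, ZMod.val_add, ← pow_eq_pow_mod _ hy]

theorem zp_neg (y : G) (hy : y ^ 3 = 1) (k : Z3) : zp y (-k) = (zp y k)⁻¹ := by
  rw [eq_inv_iff_mul_eq_one, ← zp_add y hy, neg_add_cancel, zp_zero]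

theorem zp_mul_val (y : G) (hy : y ^ 3 = 1) (k l : Z3) : zp y (k * l) = y ^ (k.val * l.val) := by
  unfold zp
  rw [ZMod.val_mul, ← pow_eq_pow_mod _ hy]

theorem zp_comm {y z : G} (h : y * z = z * y) (k l : Z3) : zp y k * zp z l = zp z l * zp y k := by
  unfold zp
  exact ((Commute.pow_pow (show Commute y z from h) k.val l.val)).eq

theorem x_mul_y_pow {x y z : G} (hxz : x * z = z * x) (hyz : y * z = z * y) (hxy : x * y = y * x * z)
    (n : ℕ) : x * y ^ n = y ^ n * x * z ^ n := by
  induction n with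
  | zero => simp
  | succ n ih =>
    have hzy : Commute z y := (show Commute y z from hyz).symm
    calc x * y ^ (n + 1) = (x * y ^ n) * y := by rw [pow_succ, mul_assoc]
      _ = y ^ n * x * z ^ n * y := by rw [ih]
      _ = y ^ n * x * (y * z ^ n) := by rw [mul_assoc _ (z ^ n) y, (hzy.pow_left n).eq]
      _ = y ^ n * (x * y) * z ^ n := by simp only [mul_assoc]
      _ = y ^ n * (y * x * z) * z ^ n := by rw [hxy]
      _ = y ^ (n + 1) * x * z ^ (n + 1) := by
        rw [pow_succ, pow_succ']; simp only [mul_assoc]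

theorem x_pow_mul_y_pow {x y z : G} (hxz : x * z = z * x) (hyz : y * z = z * y)
    (hxy : x * y = y * x * z) (m n : ℕ) : x ^ m * y ^ n = y ^ n * x ^ m * z ^ (m * n) := by
  induction m with
  | zero => simp
  | succ m ih =>
    have hzx : Commute z x := (show Commute x z from hxz).symm
    calc x ^ (m + 1) * y ^ n = x * (x ^ m * y ^ n) := by rw [pow_succ', mul_assoc]
      _ = x * (y ^ n * x ^ m * z ^ (m * n)) := by rw [ih]
      _ = (x * y ^ n) * x ^ m * z ^ (m * n) := by simp only [mul_assoc]
      _ = y ^ n * x * z ^ n * x ^ m * z ^ (m * n) := by rw [x_mul_y_pow hxz hyz hxy]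
      _ = y ^ n * x * (x ^ m * z ^ n) * z ^ (m * n) := by
        rw [mul_assoc (y ^ n * x) (z ^ n) (x ^ m), ((hzx.pow_left n).pow_right m).eq]
      _ = y ^ n * x ^ (m + 1) * z ^ ((m + 1) * n) := by
        rw [show (m + 1) * n = n + m * n by ring, pow_add z, pow_succ' x m]; simp only [mul_assoc]

/-- The map `H3 → G` attached to elements `x, y, z` of `G`. -/
def liftFun (x y z : G) (p : H3) : G := zp x p.u * zp y p.v * zp z (p.a + p.u * p.v)

theorem liftFun_mul {x y z : G} (hx : x ^ 3 = 1) (hy : y ^ 3 = 1) (hz : z ^ 3 = 1)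
    (hxz : x * z = z * x) (hyz : y * z = z * y) (hxy : x * y = y * x * z) (p q : H3) :
    liftFun x y z (p * q) = liftFun x y z p * liftFun x y z q := by
  unfold liftFun
  have hswap : zp y p.v * zp x q.u = zp x q.u * zp y p.v * zp z (-(q.u * p.v)) := by
    have h1 := x_pow_mul_y_pow hxz hyz hxy q.u.val p.v.val
    rw [zp_neg z hz, zp_mul_val z hz]
    unfold zp
    rw [h1, mul_inv_cancel_right]
  have hzx := fun k l => zp_comm (show z * x = x * z from hxz.symm) k l
  have hzy := fun k l => zp_comm (show z * y = y * z from hyz.symm) k l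
  calc zp x (p * q).u * zp y (p * q).v * zp z ((p * q).a + (p * q).u * (p * q).v)
      = zp x p.u * zp x q.u * (zp y p.v * zp y q.v) *
          zp z (p.a + p.u * p.v + (q.a + q.u * q.v) + -(q.u * p.v)) := by
        rw [mul_u, mul_v, mul_a, zp_add x hx, zp_add y hy]
        congr 2
        linear_combination (q.u * p.v) * three_eq_zero
    _ = zp x p.u * zp y p.v * zp z (p.a + p.u * p.v) * (zp x q.u * zp y q.v * zp z (q.a + q.u * q.v)) := by
        rw [zp_add z hz, zp_add z hz]
        have e1 : zp x p.u * zp x q.u * (zp y p.v * zp y q.v) *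
            (zp z (p.a + p.u * p.v) * zp z (q.a + q.u * q.v) * zp z (-(q.u * p.v))) =
            zp x p.u * (zp x q.u * zp y p.v * zp z (-(q.u * p.v))) * zp y q.v *
            (zp z (p.a + p.u * p.v) * zp z (q.a + q.u * q.v)) := by
          have c1 := hzy (-(q.u * p.v)) q.v
          have c2 : zp z (p.a + p.u * p.v) * zp z (q.a + q.u * q.v) * zp z (-(q.u * p.v)) =
              zp z (-(q.u * p.v)) * (zp z (p.a + p.u * p.v) * zp z (q.a + q.u * q.v)) := by
            simp only [← zp_add z hz]
            congr 1; ring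
          rw [c2]
          simp only [mul_assoc]
          congr 2
          rw [← mul_assoc (zp y q.v), ← c1]
          simp only [mul_assoc]
        rw [e1, ← hswap]
        have c3 := hzx (p.a + p.u * p.v) q.u
        have c4 := hzy (p.a + p.u * p.v) q.v
        simp only [mul_assoc]
        congr 2
        rw [← mul_assoc (zp z (p.a + p.u * p.v)) (zp x q.u), c3]
        simp only [mul_assoc]
        congr 1
        rw [← mul_assoc (zp z (p.a + p.u * p.v)) (zp y q.v), c4]
        simp only [mul_assoc]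

/-- The homomorphism `H3 → G` attached to elements satisfying the Heisenberg relations. -/
def lift (x y z : G) (hx : x ^ 3 = 1) (hy : y ^ 3 = 1) (hz : z ^ 3 = 1)
    (hxz : x * z = z * x) (hyz : y * z = z * y) (hxy : x * y = y * x * z) : H3 →* G :=
  MonoidHom.mk' (liftFun x y z) (liftFun_mul hx hy hz hxz hyz hxy)

theorem lift_X (x y z : G) (hx : x ^ 3 = 1) (hy : y ^ 3 = 1) (hz : z ^ 3 = 1)
    (hxz : x * z = z * x) (hyz : y * z = z * y) (hxy : x * y = y * x * z) :
    lift x y z hx hy hz hxz hyz hxy X = x := by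
  show liftFun x y z X = x
  simp [liftFun, X, zp_one, zp_zero]

theorem lift_Y (x y z : G) (hx : x ^ 3 = 1) (hy : y ^ 3 = 1) (hz : z ^ 3 = 1)
    (hxz : x * z = z * x) (hyz : y * z = z * y) (hxy : x * y = y * x * z) :
    lift x y z hx hy hz hxz hyz hxy Y = y := by
  show liftFun x y z Y = y
  simp [liftFun, Y, zp_one, zp_zero]

theorem lift_Zc (x y z : G) (hx : x ^ 3 = 1) (hy : y ^ 3 = 1) (hz : z ^ 3 = 1)
    (hxz : x * z = z * x) (hyz : y * z = z * y) (hxy : x * y = y * x * z) :
    lift x y z hx hy hz hxz hyz hxy Zc = z := by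
  show liftFun x y z Zc = z
  simp [liftFun, Zc, zp_one, zp_zero]

end lift

end H3

/-! ### The natural action of `SL₂(3)` -/

def natFun (A : SL23) (p : H3) : H3 :=
  ⟨A.1 0 0 * p.u + A.1 0 1 * p.v, A.1 1 0 * p.u + A.1 1 1 * p.v, p.a⟩

theorem det_eq (A : SL23) : A.1 0 0 * A.1 1 1 - A.1 0 1 * A.1 1 0 = 1 := by
  rw [← Matrix.det_fin_two]; exact A.2

theorem natFun_mul (A : SL23) (p q : H3) : natFun A (p * q) = natFun A p * natFun A q := by
  have hd := det_eq A
  ext
  · simp [natFun]; ring
  · simp [natFun]; ring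
  · simp only [natFun, H3.mul_a, H3.mul_u, H3.mul_v]
    linear_combination (p.u * q.v - p.v * q.u) * hd

theorem natFun_one (p : H3) : natFun 1 p = p := by
  ext <;> simp [natFun]

theorem natFun_comp (A B : SL23) (p : H3) : natFun (A * B) p = natFun A (natFun B p) := by
  ext
  · simp [natFun, Matrix.mul_apply, Fin.sum_univ_two]; ring
  · simp [natFun, Matrix.mul_apply, Fin.sum_univ_two]; ring
  · simp [natFun]

def natAut (A : SL23) : MulAut H3 where
  toFun := natFun A
  invFun := natFun A⁻¹
  left_inv p := by rw [← natFun_comp, inv_mul_cancel, natFun_one]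
  right_inv p := by rw [← natFun_comp, mul_inv_cancel, natFun_one]
  map_mul' := natFun_mul A

def natHom : SL23 →* MulAut H3 where
  toFun := natAut
  map_one' := by ext p : 1; exact natFun_one p
  map_mul' A B := by ext p : 1; exact natFun_comp A B p

theorem natHom_apply (A : SL23) (p : H3) : natHom A p = natFun A p := rfl

/-- The model group `3^{1+2} : SL₂(3)`. -/
abbrev Model := H3 ⋊[natHom] SL23

theorem card_SL23 : Nat.card SL23 = 24 := by
  rw [Nat.card_eq_fintype_card]; decide

theorem card_Model : Nat.card Model = 648 := by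
  rw [Nat.card_congr SemidirectProduct.equivProd, Nat.card_prod, H3.card_eq, card_SL23]

end Cfsg.Agent.Lib.Helper19.C3P
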