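import Mathlib
import Cfsg.Agent.Lib.Helper19.C3PA

set_option autoImplicit false

/-! Decidable facts on `H3` and `SL₂(3)` used for the recognition of `3^{1+2} : SL₂(3)`. -/

namespace Cfsg.Agent.Lib.Helper19.C3P


set_option maxRecDepth 1000000 in
set_option synthInstance.maxSize 2000 in
set_option synthInstance.maxHeartbeats 400000 in
set_option maxHeartbeats 4000000 in
theorem sl23_invol : ∀ A : SL23, A * A = 1 → A = 1 ∨ A = -1 := by decide

set_option maxRecDepth 1000000 in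
set_option synthInstance.maxSize 2000 in
set_option synthInstance.maxHeartbeats 400000 in
set_option maxHeartbeats 4000000 in
theorem sl23_sq : ∀ A : SL23, ∃ B C : SL23, A = B * B * (C * C) := by decide

theorem h3_gen : ∀ p : H3, p = H3.X ^ p.u.val * H3.Y ^ p.v.val *
    (H3.X * H3.Y * H3.X⁻¹ * H3.Y⁻¹) ^ (p.a + p.u * p.v).val := by decide

theorem h3_nc : ∀ p : H3, p ≠ 1 → ∃ g : H3, g * p * g⁻¹ * p⁻¹ = H3.Zc ∨ g * p * g⁻¹ * p⁻¹ = H3.Zc⁻¹ ∨
    p = H3.Zc ∨ p = H3.Zc⁻¹ := by decide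

theorem h3_inv_iff : ∀ p : H3, natFun (-1) p = p⁻¹ ↔ p.a = 0 := by decide

theorem h3_delta : ∀ p : H3, p.a = 0 → ∃ k : H3, natFun (-1) k * k⁻¹ = p := by decide

theorem h3_comm : ∀ p q : H3, p * q * p⁻¹ * q⁻¹ = ⟨0, 0, p.u * q.v - p.v * q.u⟩ := by decide

theorem h3_center : ∀ p : H3, (∀ q : H3, p * q = q * p) → p.u = 0 ∧ p.v = 0 := by decide

set_option maxRecDepth 1000000 in
set_option synthInstance.maxSize 2000 in
set_option synthInstance.maxHeartbeats 400000 in
set_option maxHeartbeats 40000000 in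
theorem h3_E : ∀ (B : SL23) (ρ α : H3), (α.u ≠ 0 ∨ α.v ≠ 0) → ρ * natFun B α * ρ⁻¹ = α →
    ρ * natFun B ρ * natFun (B * B) ρ = 1 := by decide

set_option maxRecDepth 1000000 in
set_option synthInstance.maxSize 2000 in
set_option synthInstance.maxHeartbeats 400000 in
set_option maxHeartbeats 4000000 in
theorem sl23_q8_mul : ∀ A B : SL23, A ^ 4 = 1 → B ^ 4 = 1 → (A * B) ^ 4 = 1 := by decide

set_option maxRecDepth 1000000 in
set_option synthInstance.maxSize 2000 in
set_option synthInstance.maxHeartbeats 400000 in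
set_option maxHeartbeats 4000000 in
theorem sl23_pow8 : ∀ A : SL23, A ^ 8 = 1 → A ^ 4 = 1 := by decide

set_option maxRecDepth 1000000 in
set_option synthInstance.maxSize 2000 in
set_option synthInstance.maxHeartbeats 400000 in
set_option maxHeartbeats 4000000 in
theorem sl23_34 : ∀ A : SL23, A ^ 3 = 1 → A ^ 4 = 1 → A = 1 := by decide

theorem natFun_inj (A A' : SL23) (hX : natFun A H3.X = natFun A' H3.X)
    (hY : natFun A H3.Y = natFun A' H3.Y) : A = A' := by
  apply Subtype.ext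
  have h1 := congrArg H3.u hX
  have h2 := congrArg H3.v hX
  have h3 := congrArg H3.u hY
  have h4 := congrArg H3.v hY
  simp [natFun, H3.X, H3.Y] at h1 h2 h3 h4
  ext i j
  fin_cases i <;> fin_cases j <;> simp [h1, h2, h3, h4]

theorem neg_one_mul_self : (-1 : SL23) * (-1) = 1 := by decide
theorem neg_one_ne : (-1 : SL23) ≠ 1 := by decide
theorem neg_one_pow3 : (-1 : SL23) ^ 3 = -1 := by decide

set_option maxRecDepth 1000000 in
set_option synthInstance.maxSize 2000 in
set_option synthInstance.maxHeartbeats 400000 in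
set_option maxHeartbeats 4000000 in
theorem neg_one_central : ∀ A : SL23, A * (-1) = (-1) * A := by decide

set_option maxRecDepth 1000000 in
set_option synthInstance.maxSize 2000 in
set_option synthInstance.maxHeartbeats 400000 in
set_option maxHeartbeats 4000000 in
theorem sl23_cover' : ∀ a : SL23, a ≠ 1 → a ^ 3 = 1 → ∀ y : SL23,
    ∃ c : SL23, c ^ 4 = 1 ∧ (y = c ∨ y = c * a ∨ y = c * (a * a)) := by decide

set_option maxRecDepth 100000 in
theorem sl23_card4' : (Finset.univ.filter (fun x : SL23 => x ^ 4 = 1)).card = 8 := by decide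

theorem natFun_neg_one_X : natFun (-1) H3.X = H3.X⁻¹ := by decide
theorem natFun_neg_one_Y : natFun (-1) H3.Y = H3.Y⁻¹ := by decide
theorem comm_XY : H3.X * H3.Y * H3.X⁻¹ * H3.Y⁻¹ = H3.Zc := by decide

theorem closure_XY : Subgroup.closure ({H3.X, H3.Y} : Set H3) = ⊤ := by
  rw [eq_top_iff]
  intro p _
  rw [h3_gen p]
  have hX : H3.X ∈ Subgroup.closure ({H3.X, H3.Y} : Set H3) := Subgroup.subset_closure (by simp)
  have hY : H3.Y ∈ Subgroup.closure ({H3.X, H3.Y} : Set H3) := Subgroup.subset_closure (by simp)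
  exact mul_mem (mul_mem (pow_mem hX _) (pow_mem hY _))
    (pow_mem (mul_mem (mul_mem (mul_mem hX hY) (inv_mem hX)) (inv_mem hY)) _)

theorem hom_ext_XY {G : Type*} [Group G] (f g : H3 →* G) (hX : f H3.X = g H3.X)
    (hY : f H3.Y = g H3.Y) : f = g := by
  apply MonoidHom.eq_of_eqOn_dense closure_XY
  intro p hp
  rcases hp with rfl | rfl
  · exact hX
  · exact hY

set_option maxRecDepth 1000000 in
set_option maxHeartbeats 4000000 in
theorem h3_tau : ∀ p q : H3, p * q = q * p * H3.Zc → H3.liftFun p q H3.Zc p = H3.X →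
    H3.liftFun p q H3.Zc q = H3.Y → (p = H3.X ∧ q = H3.Y) ∨
    ∃ k : H3, H3.liftFun p q H3.Zc (k * H3.X * k⁻¹) = k * H3.X⁻¹ * k⁻¹ ∧
      H3.liftFun p q H3.Zc (k * H3.Y * k⁻¹) = k * H3.Y⁻¹ * k⁻¹ := by decide

theorem h3_pow3 : ∀ p : H3, p ^ 3 = 1 := by decide
theorem h3_zc_comm : ∀ p : H3, p * H3.Zc = H3.Zc * p := by decide
theorem h3_liftFun_id : ∀ p : H3, H3.liftFun H3.X H3.Y H3.Zc p = p := by decide
theorem h3_delta' : ∀ p : H3, p.a = 0 → ∃ k : H3, k * natFun (-1) k⁻¹ = p := by decide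
theorem h3_fix : ∀ p : H3, natFun (-1) p = p → p.u = 0 ∧ p.v = 0 := by decide
theorem h3_central : ∀ p : H3, p.u = 0 → p.v = 0 → ∀ q : H3, q * p = p * q := by decide
theorem h3_XY : H3.X * H3.Y = H3.Y * H3.X * H3.Zc := by decide

end Cfsg.Agent.Lib.Helper19.C3P
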