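import Mathlib
import Cfsg.Agent.Lib.Helper19.C3PB

set_option autoImplicit false
set_option linter.unusedSectionVars false
set_option linter.unusedVariables false

/-! Abstract recognition of `3^{1+2} : SL₂(3)`: part 1 (the involution and Baer coordinates). -/

namespace Cfsg.Agent.Lib.Helper19.C3P

/-- The hypotheses: `R` is a normal extraspecial subgroup of order 27 and exponent 3, the kernel of a
surjection onto `SL₂(3)`; `O₂(X) = 1`, `O₃(X) = R`, and there is an elementary abelian subgroup of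
order 27. -/
structure Hyp (X : Type*) [Group X] (R : Subgroup X) (φ : X →* SL23) : Prop where
  ker : φ.ker = R
  surj : Function.Surjective φ
  card : Nat.card R = 27
  exp : ∀ r ∈ R, r ^ 3 = 1
  comm : ∀ r₁ ∈ R, ∀ r₂ ∈ R, ∀ r₃ ∈ R,
    (r₁ * r₂ * r₁⁻¹ * r₂⁻¹) * r₃ = r₃ * (r₁ * r₂ * r₁⁻¹ * r₂⁻¹)
  zcard : Nat.card ↥(R ⊓ Subgroup.centralizer (R : Set X)) = 3
  o2 : ∀ N : Subgroup X, N.Normal → IsPGroup 2 N → N = ⊥
  o3 : ∀ N : Subgroup X, N.Normal → IsPGroup 3 N → N ≤ R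
  hE : ∃ E : Subgroup X, (∀ a ∈ E, ∀ b ∈ E, a * b = b * a) ∧ (∀ a ∈ E, a ^ 3 = 1) ∧
    Nat.card E = 27

namespace Hyp

variable {X : Type*} [Group X] [Finite X] {R : Subgroup X} {φ : X →* SL23}

theorem mem_R_iff (h : Hyp X R φ) (x : X) : x ∈ R ↔ φ x = 1 := by
  rw [← h.ker, MonoidHom.mem_ker]

theorem normal (h : Hyp X R φ) : R.Normal := h.ker ▸ MonoidHom.normal_ker φ

/-- The centre of `R`, as a subgroup of `X`. -/
def Z (R : Subgroup X) : Subgroup X := R ⊓ Subgroup.centralizer (R : Set X)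

theorem mem_Z {ζ : X} : ζ ∈ Z R ↔ ζ ∈ R ∧ ∀ r ∈ R, r * ζ = ζ * r := by
  unfold Z
  rw [Subgroup.mem_inf, Subgroup.mem_centralizer_iff]
  rfl

theorem Z_le : Z R ≤ R := inf_le_left

theorem Z_normal (h : Hyp X R φ) : (Z R).Normal := by
  have := h.normal
  unfold Z
  infer_instance

theorem comm_mem_Z (h : Hyp X R φ) {r₁ r₂ : X} (h₁ : r₁ ∈ R) (h₂ : r₂ ∈ R) :
    r₁ * r₂ * r₁⁻¹ * r₂⁻¹ ∈ Z R := by
  rw [mem_Z]
  refine ⟨mul_mem (mul_mem (mul_mem h₁ h₂) (inv_mem h₁)) (inv_mem h₂), ?_⟩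
  intro r hr
  exact (h.comm r₁ h₁ r₂ h₂ r hr).symm

theorem eq_one_of_sq (h : Hyp X R φ) {x : X} (hx : x ∈ R) (h2 : x * x = 1) : x = 1 := by
  have h3 := h.exp x hx
  rw [pow_succ, pow_two, h2, one_mul] at h3
  exact h3

theorem card_X (h : Hyp X R φ) : Nat.card X = 648 := by
  have e := QuotientGroup.quotientKerEquivOfSurjective φ h.surj
  have h1 : Nat.card (X ⧸ φ.ker) = 24 := by rw [Nat.card_congr e.toEquiv, card_SL23]
  have h2 := Subgroup.card_eq_card_quotient_mul_card_subgroup φ.ker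
  rw [h1, h.ker, h.card] at h2
  rw [h2]

theorem not_mem_R_of_invol (h : Hyp X R φ) {s : X} (hs : s * s = 1) (hs1 : s ≠ 1) : φ s = -1 := by
  have h1 : φ s * φ s = 1 := by rw [← map_mul, hs, map_one]
  rcases sl23_invol _ h1 with h2 | h2
  · exact absurd (h.eq_one_of_sq ((h.mem_R_iff s).mpr h2) hs) hs1
  · exact h2

theorem centralizer_le (h : Hyp X R φ) : Subgroup.centralizer (R : Set X) ≤ R := by
  haveI := h.normal
  have hCn : (Subgroup.centralizer (R : Set X)).Normal := inferInstance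
  by_cases hev : 2 ∣ Nat.card ↥(Subgroup.centralizer (R : Set X))
  · exfalso
    haveI : Fact (Nat.Prime 2) := ⟨Nat.prime_two⟩
    obtain ⟨s', hs'⟩ := exists_prime_orderOf_dvd_card' 2 hev
    have hsC : (s' : X) ∈ Subgroup.centralizer (R : Set X) := s'.2
    have hs2 : orderOf (s' : X) = 2 := by rw [Subgroup.orderOf_coe]; exact hs'
    generalize (s' : X) = s at hsC hs2
    have hss : s * s = 1 := by rw [← pow_two, ← hs2]; exact pow_orderOf_eq_one s
    have hs1 : s ≠ 1 := by intro h1; rw [h1, orderOf_one] at hs2; norm_num at hs2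
    have hφs := h.not_mem_R_of_invol hss hs1
    have hconj : ∀ g : X, g * s * g⁻¹ = s := by
      intro g
      have h1 : g * s * g⁻¹ ∈ Subgroup.centralizer (R : Set X) := hCn.conj_mem s hsC g
      have h2 : g * s * g⁻¹ * (g * s * g⁻¹) = 1 := by rw [conj_mul, hss, mul_one, mul_inv_cancel]
      have h3 : φ (g * s * g⁻¹) = -1 := by
        rw [map_mul, map_mul, map_inv, hφs, neg_one_central, mul_inv_cancel_right]
      have h4 : s⁻¹ * (g * s * g⁻¹) ∈ R := by
        rw [h.mem_R_iff, map_mul, map_inv, h3, hφs, inv_mul_cancel]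
      have h5 : s * (s⁻¹ * (g * s * g⁻¹)) = (s⁻¹ * (g * s * g⁻¹)) * s :=
        ((Subgroup.mem_centralizer_iff.mp hsC) _ h4).symm
      generalize hζ : s⁻¹ * (g * s * g⁻¹) = ζ at h4 h5
      have h6 : g * s * g⁻¹ = s * ζ := by rw [← hζ, mul_inv_cancel_left]
      rw [h6] at h2 ⊢
      have h7 : ζ * ζ = 1 := by
        have : s * ζ * (s * ζ) = s * s * (ζ * ζ) := by
          rw [mul_assoc s ζ, ← mul_assoc ζ s, ← h5]; simp only [mul_assoc]
        rw [this, hss, one_mul] at h2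
        exact h2
      rw [h.eq_one_of_sq h4 h7, mul_one]
    have hN : (Subgroup.zpowers s).Normal := by
      refine ⟨fun x hx g => ?_⟩
      rw [Subgroup.mem_zpowers_iff] at hx ⊢
      obtain ⟨k, rfl⟩ := hx
      exact ⟨k, by rw [← conj_zpow, hconj g]⟩
    have hp : IsPGroup 2 ↥(Subgroup.zpowers s) := by
      apply IsPGroup.of_card (n := 1)
      rw [Nat.card_zpowers, hs2, pow_one]
    have := h.o2 _ hN hp
    rw [Subgroup.zpowers_eq_bot] at this
    exact hs1 this
  · apply h.o3 _ hCn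
    have hd : Nat.card ↥(Subgroup.centralizer (R : Set X)) ∣ 648 :=
      h.card_X ▸ Subgroup.card_subgroup_dvd_card _
    have hcop : Nat.Coprime (Nat.card ↥(Subgroup.centralizer (R : Set X))) 8 := by
      have h2 : Nat.Coprime (Nat.card ↥(Subgroup.centralizer (R : Set X))) 2 :=
        (Nat.Prime.coprime_iff_not_dvd Nat.prime_two).mpr hev |>.symm
      exact Nat.Coprime.pow_right 3 h2
    have h81 : Nat.card ↥(Subgroup.centralizer (R : Set X)) ∣ 3 ^ 4 :=
      Nat.Coprime.dvd_of_dvd_mul_right hcop (by norm_num; exact hd)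
    obtain ⟨k, _, hk⟩ := (Nat.dvd_prime_pow Nat.prime_three).mp h81
    exact IsPGroup.of_card hk

end Hyp

end Cfsg.Agent.Lib.Helper19.C3P
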