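import Mathlib
import Cfsg.Agent.Lib.Helper19.C3PC

set_option autoImplicit false
set_option linter.unusedSectionVars false
set_option linter.unusedVariables false

/-! Abstract recognition of `3^{1+2} : SL₂(3)`: part 2 (the centre is central in `X`, coordinates). -/

namespace Cfsg.Agent.Lib.Helper19.C3P

namespace Hyp

variable {X : Type*} [Group X] [Finite X] {R : Subgroup X} {φ : X →* SL23}

theorem Z_pow3 (h : Hyp X R φ) {ζ : X} (hζ : ζ ∈ Z R) : ζ ^ 3 = 1 := h.exp ζ (Z_le hζ)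

/-- Squares act trivially on the centre of `R`. -/
theorem sq_conj_Z (h : Hyp X R φ) (g : X) {ζ : X} (hζ : ζ ∈ Z R) :
    (g * g) * ζ * (g * g)⁻¹ = ζ := by
  haveI := h.Z_normal
  haveI : Fact (Nat.Prime 3) := ⟨Nat.prime_three⟩
  haveI : IsCyclic ↥(Z R) := isCyclic_of_prime_card (p := 3) h.zcard
  have hc : Nat.card (MulAut ↥(Z R)) = 2 := by
    rw [IsCyclic.card_mulAut, show Nat.card ↥(Z R) = 3 from h.zcard]
    rfl
  have h1 : (MulAut.conjNormal g : MulAut ↥(Z R)) ^ 2 = 1 := by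
    rw [← hc]; exact pow_card_eq_one'
  have h2 : (MulAut.conjNormal (g * g) : MulAut ↥(Z R)) = 1 := by
    rw [map_mul, ← pow_two]; exact h1
  have h3 := congrArg (fun σ : MulAut ↥(Z R) => ((σ ⟨ζ, hζ⟩ : ↥(Z R)) : X)) h2
  simp only [MulAut.conjNormal_apply, MulAut.one_apply] at h3
  exact h3

/-- The whole of `X` centralizes the centre of `R`. -/
theorem conj_Z (h : Hyp X R φ) (g : X) {ζ : X} (hζ : ζ ∈ Z R) : g * ζ * g⁻¹ = ζ := by
  obtain ⟨B, C, hBC⟩ := sl23_sq (φ g)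
  obtain ⟨b, rfl⟩ := h.surj B
  obtain ⟨c, rfl⟩ := h.surj C
  have hr : (b * b * (c * c))⁻¹ * g ∈ R := by
    rw [h.mem_R_iff, map_mul, map_inv, hBC]
    simp only [map_mul]
    exact inv_mul_cancel _
  generalize hr' : (b * b * (c * c))⁻¹ * g = r at hr
  have hg : g = b * b * (c * c) * r := by rw [← hr', mul_inv_cancel_left]
  have h1 : r * ζ * r⁻¹ = ζ := by
    rw [((mem_Z.mp hζ).2 r hr), mul_inv_cancel_right]
  rw [hg]
  calc b * b * (c * c) * r * ζ * (b * b * (c * c) * r)⁻¹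
      = (b * b) * ((c * c) * (r * ζ * r⁻¹) * (c * c)⁻¹) * (b * b)⁻¹ := by group
    _ = ζ := by rw [h1, h.sq_conj_Z c hζ, h.sq_conj_Z b hζ]

theorem Z_comm (h : Hyp X R φ) (g : X) {ζ : X} (hζ : ζ ∈ Z R) : g * ζ = ζ * g := by
  have := h.conj_Z g hζ
  rw [← this, inv_mul_cancel_right, this]

/-- There is an involution, and it maps to `-1`. -/
theorem exists_invol (h : Hyp X R φ) : ∃ t : X, t * t = 1 ∧ φ t = -1 := by
  haveI : Fact (Nat.Prime 2) := ⟨Nat.prime_two⟩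
  have hev : 2 ∣ Nat.card X := by rw [h.card_X]; norm_num
  obtain ⟨t, ht⟩ := exists_prime_orderOf_dvd_card' 2 hev
  have htt : t * t = 1 := by rw [← pow_two, ← ht]; exact pow_orderOf_eq_one t
  have ht1 : t ≠ 1 := by intro h1; rw [h1, orderOf_one] at ht; norm_num at ht
  exact ⟨t, htt, h.not_mem_R_of_invol htt ht1⟩

/-- `R` is not abelian. -/
theorem exists_nc (h : Hyp X R φ) : ∃ r₁ ∈ R, ∃ r₂ ∈ R, r₁ * r₂ ≠ r₂ * r₁ := by
  by_contra hcon
  push Not at hcon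
  have : Z R = R := by
    apply le_antisymm Z_le
    intro r hr
    rw [mem_Z]
    exact ⟨hr, fun r' hr' => hcon r' hr' r hr⟩
  have h1 := h.zcard
  change Nat.card ↥(Z R) = 3 at h1
  rw [this, h.card] at h1
  norm_num at h1

/-- Preliminary coordinates on `R`. -/
theorem exists_coords0 (h : Hyp X R φ) : ∃ κ : H3 →* X, Function.Injective κ ∧
    (∀ x : X, x ∈ R ↔ ∃ w, κ w = x) := by
  obtain ⟨r₁, h₁, r₂, h₂, hnc⟩ := h.exists_nc
  set z := r₁⁻¹ * r₂⁻¹ * r₁ * r₂ with hz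
  have hzZ : z ∈ Z R := by
    have := h.comm_mem_Z (inv_mem h₁) (inv_mem h₂)
    rw [inv_inv, inv_inv] at this
    exact this
  have hz1 : z ≠ 1 := by
    intro h1
    apply hnc
    have : r₁ * r₂ = r₂ * r₁ * z := by rw [hz]; group
    rw [this, h1, mul_one]
  have hxy : r₁ * r₂ = r₂ * r₁ * z := by rw [hz]; group
  have hxz : r₁ * z = z * r₁ := (mem_Z.mp hzZ).2 r₁ h₁
  have hyz : r₂ * z = z * r₂ := (mem_Z.mp hzZ).2 r₂ h₂
  let κ := H3.lift r₁ r₂ z (h.exp _ h₁) (h.exp _ h₂) (h.Z_pow3 hzZ) hxz hyz hxy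
  have hκZ : κ H3.Zc = z := H3.lift_Zc _ _ _ _ _ _ _ _ _
  have hmem : ∀ w, κ w ∈ R := by
    intro w
    show H3.liftFun r₁ r₂ z w ∈ R
    unfold H3.liftFun H3.zp
    exact mul_mem (mul_mem (pow_mem h₁ _) (pow_mem h₂ _)) (pow_mem (Z_le hzZ) _)
  have hinj : Function.Injective κ := by
    rw [injective_iff_map_eq_one]
    intro p hp
    by_contra hp1
    obtain ⟨g, hg⟩ := h3_nc p hp1
    have hc : κ (g * p * g⁻¹ * p⁻¹) = 1 := by
      simp only [map_mul, map_inv, hp, mul_one, inv_one, mul_inv_cancel]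
    rcases hg with hg | hg | hg | hg
    · rw [hg, hκZ] at hc; exact hz1 hc
    · rw [hg, map_inv, hκZ, inv_eq_one] at hc; exact hz1 hc
    · rw [hg, hκZ] at hp; exact hz1 hp
    · rw [hg, map_inv, hκZ, inv_eq_one] at hp; exact hz1 hp
  refine ⟨κ, hinj, ?_⟩
  haveI : Finite ↥R := inferInstance
  let f : H3 → ↥R := fun w => ⟨κ w, hmem w⟩
  have hf : Function.Injective f := fun a b hab => hinj (congrArg Subtype.val hab)
  have hb : Function.Bijective f := hf.bijective_of_nat_card_le (by rw [h.card, H3.card_eq])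
  intro x
  constructor
  · intro hx
    obtain ⟨w, hw⟩ := hb.2 ⟨x, hx⟩
    exact ⟨w, congrArg Subtype.val hw⟩
  · rintro ⟨w, rfl⟩
    exact hmem w

/-- Coordinates on `R` adapted to the involution `t`. -/
theorem exists_coords (h : Hyp X R φ) {t : X} (htt : t * t = 1) (ht : φ t = -1) :
    ∃ κ : H3 →* X, Function.Injective κ ∧ (∀ x : X, x ∈ R ↔ ∃ w, κ w = x) ∧
      ∀ w, t * κ w * t⁻¹ = κ (natFun (-1) w) := by
  have hn := h.normal
  obtain ⟨κ₀, hinj, hR⟩ := h.exists_coords0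
  have hmem : ∀ w, κ₀ w ∈ R := fun w => (hR _).mpr ⟨w, rfl⟩
  obtain ⟨p, hp⟩ := (hR _).mp (hn.conj_mem _ (hmem H3.X) t)
  obtain ⟨q, hq⟩ := (hR _).mp (hn.conj_mem _ (hmem H3.Y) t)
  have hZc : κ₀ H3.Zc ∈ Z R := by
    rw [mem_Z]
    refine ⟨hmem _, ?_⟩
    intro r hr
    obtain ⟨w, rfl⟩ := (hR r).mp hr
    rw [← map_mul, ← map_mul, h3_zc_comm]
  have hpq : p * q = q * p * H3.Zc := by
    apply hinj
    rw [map_mul, map_mul, map_mul, hp, hq, ← h.conj_Z t hZc]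
    rw [conj_mul, conj_mul, conj_mul, ← map_mul, ← map_mul, ← map_mul, h3_XY]
  let L : H3 →* H3 := H3.lift p q H3.Zc (h3_pow3 p) (h3_pow3 q) (h3_pow3 _) (h3_zc_comm p)
    (h3_zc_comm q) hpq
  have hL : ∀ w, L w = H3.liftFun p q H3.Zc w := fun w => rfl
  have hLX : L H3.X = p := H3.lift_X _ _ _ _ _ _ _ _ _
  have hLY : L H3.Y = q := H3.lift_Y _ _ _ _ _ _ _ _ _
  have hconj : ∀ w, t * κ₀ w * t⁻¹ = κ₀ (L w) := by
    have : (MulAut.conj t).toMonoidHom.comp κ₀ = κ₀.comp L := by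
      apply hom_ext_XY
      · show t * κ₀ H3.X * t⁻¹ = κ₀ (L H3.X)
        rw [hLX, hp]
      · show t * κ₀ H3.Y * t⁻¹ = κ₀ (L H3.Y)
        rw [hLY, hq]
    intro w
    exact DFunLike.congr_fun this w
  have ht' : t⁻¹ = t := inv_eq_of_mul_eq_one_left htt
  have hLL : ∀ w, L (L w) = w := by
    intro w
    apply hinj
    rw [← hconj, ← hconj, ht']
    calc t * (t * κ₀ w * t) * t = (t * t) * κ₀ w * (t * t) := by group
      _ = κ₀ w := by rw [htt, one_mul, mul_one]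
  have e1 : H3.liftFun p q H3.Zc p = H3.X := by rw [← hL, ← hLX, hLL]
  have e2 : H3.liftFun p q H3.Zc q = H3.Y := by rw [← hL, ← hLY, hLL]
  rcases h3_tau p q hpq e1 e2 with ⟨hpX, hqY⟩ | ⟨k, hk1, hk2⟩
  · exfalso
    have hc : t ∈ Subgroup.centralizer (R : Set X) := by
      rw [Subgroup.mem_centralizer_iff]
      intro r hr
      obtain ⟨w, rfl⟩ := (hR r).mp hr
      have h1 := hconj w
      rw [hL, hpX, hqY, h3_liftFun_id] at h1
      rw [← h1, inv_mul_cancel_right, h1]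
    have h2 := (h.mem_R_iff t).mp (h.centralizer_le hc)
    rw [ht] at h2
    exact neg_one_ne h2
  · refine ⟨κ₀.comp (MulAut.conj k).toMonoidHom, ?_, ?_, ?_⟩
    · exact hinj.comp (MulAut.conj k).injective
    · intro x
      constructor
      · intro hx
        obtain ⟨w, rfl⟩ := (hR x).mp hx
        refine ⟨k⁻¹ * w * k, ?_⟩
        show κ₀ (k * (k⁻¹ * w * k) * k⁻¹) = κ₀ w
        congr 1
        group
      · rintro ⟨w, rfl⟩
        exact hmem _
    · have : (MulAut.conj t).toMonoidHom.comp (κ₀.comp (MulAut.conj k).toMonoidHom) =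
          (κ₀.comp (MulAut.conj k).toMonoidHom).comp (natAut (-1)).toMonoidHom := by
        apply hom_ext_XY
        · show t * κ₀ (k * H3.X * k⁻¹) * t⁻¹ = κ₀ (k * natFun (-1) H3.X * k⁻¹)
          rw [hconj, hL, hk1, natFun_neg_one_X]
        · show t * κ₀ (k * H3.Y * k⁻¹) * t⁻¹ = κ₀ (k * natFun (-1) H3.Y * k⁻¹)
          rw [hconj, hL, hk2, natFun_neg_one_Y]
      intro w
      exact DFunLike.congr_fun this w

end Hyp

end Cfsg.Agent.Lib.Helper19.C3P
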