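import Mathlib
import Cfsg.Agent.Lib.Helper19.C3PD

set_option autoImplicit false
set_option linter.unusedSectionVars false
set_option linter.unusedVariables false
set_option linter.style.haveILetI false

/-! Abstract recognition of `3^{1+2} : SL₂(3)`: part 3 (the centralizer of the involution acts through
`SL₂(3)` in the adapted coordinates; Frattini; an element of order 3 outside `R`). -/

namespace Cfsg.Agent.Lib.Helper19.C3P

theorem conj_conj_comm {G : Type*} [Group G] {g t : G} (h : g * t = t * g) (a : G) :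
    t * (g * a * g⁻¹) * t⁻¹ = g * (t * a * t⁻¹) * g⁻¹ := by
  have h1 : t * (g * a * g⁻¹) * t⁻¹ = (t * g) * a * (t * g)⁻¹ := by group
  rw [h1, ← h]
  group

theorem h3_det : ∀ p q : H3, p * q = q * p * H3.Zc → p.u * q.v - p.v * q.u = 1 := by decide

/-- Adapted coordinates. -/
structure Coords (X : Type*) [Group X] (R : Subgroup X) (φ : X →* SL23) (t : X) (κ : H3 →* X) :
    Prop where
  hyp : Hyp X R φ
  tt : t * t = 1
  phit : φ t = -1
  inj : Function.Injective κ
  range : ∀ x : X, x ∈ R ↔ ∃ w, κ w = x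
  conj : ∀ w, t * κ w * t⁻¹ = κ (natFun (-1) w)

/-- `g` acts on `R` as the matrix `A` in the coordinates `κ`. -/
def Rel {X : Type*} [Group X] (κ : H3 →* X) (g : X) (A : SL23) : Prop :=
  ∀ w, g * κ w * g⁻¹ = κ (natFun A w)

namespace Coords

variable {X : Type*} [Group X] [Finite X] {R : Subgroup X} {φ : X →* SL23} {t : X} {κ : H3 →* X}

theorem mem (c : Coords X R φ t κ) (w : H3) : κ w ∈ R := (c.range _).mpr ⟨w, rfl⟩

theorem mem_Z_of (c : Coords X R φ t κ) {w : H3} (hu : w.u = 0) (hv : w.v = 0) : κ w ∈ Hyp.Z R := by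
  rw [Hyp.mem_Z]
  refine ⟨c.mem w, ?_⟩
  intro r hr
  obtain ⟨q, rfl⟩ := (c.range r).mp hr
  rw [← map_mul, ← map_mul, h3_central w hu hv]

theorem Zc_mem (c : Coords X R φ t κ) : κ H3.Zc ∈ Hyp.Z R := c.mem_Z_of rfl rfl

theorem of_mem_Z (c : Coords X R φ t κ) {w : H3} (h : κ w ∈ Hyp.Z R) : w.u = 0 ∧ w.v = 0 := by
  apply h3_center
  intro q
  apply c.inj
  rw [map_mul, map_mul]
  exact ((Hyp.mem_Z.mp h).2 _ (c.mem q)).symm

theorem comm_t (c : Coords X R φ t κ) {w : H3} (h : κ w * t = t * κ w) : w.u = 0 ∧ w.v = 0 := by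
  apply h3_fix
  apply c.inj
  rw [← c.conj, ← h, mul_inv_cancel_right]

theorem rel_unique (c : Coords X R φ t κ) {g : X} {A A' : SL23} (h : Rel κ g A) (h' : Rel κ g A') :
    A = A' :=
  natFun_inj A A' (c.inj ((h _).symm.trans (h' _))) (c.inj ((h _).symm.trans (h' _)))

theorem rel_one (κ : H3 →* X) : Rel κ 1 1 := by
  intro w
  rw [natFun_one, one_mul, inv_one, mul_one]

theorem rel_mul {g g' : X} {A A' : SL23} (h : Rel κ g A) (h' : Rel κ g' A') :
    Rel κ (g * g') (A * A') := by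
  intro w
  rw [natFun_comp, ← h, ← h']
  group

theorem rel_inv {g : X} {A : SL23} (h : Rel κ g A) : Rel κ g⁻¹ A⁻¹ := by
  intro w
  have := h (natFun A⁻¹ w)
  rw [← natFun_comp, mul_inv_cancel, natFun_one] at this
  rw [← this]
  group

theorem rel_pow {g : X} {A : SL23} (h : Rel κ g A) (n : ℕ) : Rel κ (g ^ n) (A ^ n) := by
  induction n with
  | zero => rw [pow_zero, pow_zero]; exact rel_one κ
  | succ n ih => rw [pow_succ, pow_succ]; exact rel_mul ih h

theorem rel_one_mem_Z (c : Coords X R φ t κ) {g : X} (h : Rel κ g 1) : g ∈ Hyp.Z R := by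
  have hc : g ∈ Subgroup.centralizer (R : Set X) := by
    rw [Subgroup.mem_centralizer_iff]
    intro r hr
    obtain ⟨w, rfl⟩ := (c.range r).mp hr
    have h1 := h w
    rw [natFun_one] at h1
    rw [← h1, inv_mul_cancel_right, h1]
  exact Subgroup.mem_inf.mpr ⟨c.hyp.centralizer_le hc, hc⟩

theorem rel_of_mem_Z (c : Coords X R φ t κ) {g : X} (h : g ∈ Hyp.Z R) : Rel κ g 1 := by
  intro w
  rw [natFun_one, ← (Hyp.mem_Z.mp h).2 _ (c.mem w), mul_inv_cancel_right]

/-- Elements commuting with `t` act through `SL₂(3)`. -/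
theorem exists_rel (c : Coords X R φ t κ) {g : X} (hg : g * t = t * g) : ∃ A : SL23, Rel κ g A := by
  have hn := c.hyp.normal
  obtain ⟨p, hp⟩ := (c.range _).mp (hn.conj_mem _ (c.mem H3.X) g)
  obtain ⟨q, hq⟩ := (c.range _).mp (hn.conj_mem _ (c.mem H3.Y) g)
  have hpa : p.a = 0 := by
    rw [← h3_inv_iff]
    apply c.inj
    rw [← c.conj, hp, conj_conj_comm hg, c.conj, natFun_neg_one_X, map_inv, map_inv, hp, conj_inv]
  have hqa : q.a = 0 := by
    rw [← h3_inv_iff]
    apply c.inj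
    rw [← c.conj, hq, conj_conj_comm hg, c.conj, natFun_neg_one_Y, map_inv, map_inv, hq, conj_inv]
  have hpq : p * q = q * p * H3.Zc := by
    apply c.inj
    rw [map_mul, map_mul, map_mul, hp, hq, ← c.hyp.conj_Z g c.Zc_mem]
    rw [conj_mul, conj_mul, conj_mul, ← map_mul, ← map_mul, ← map_mul, h3_XY]
  have hdet := h3_det p q hpq
  let A : SL23 := ⟨!![p.u, q.u; p.v, q.v], by rw [Matrix.det_fin_two_of]; linear_combination hdet⟩
  have hAX : natFun A H3.X = p := by
    ext
    · simp [natFun, A, H3.X]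
    · simp [natFun, A, H3.X]
    · simp [natFun, H3.X, hpa]
  have hAY : natFun A H3.Y = q := by
    ext
    · simp [natFun, A, H3.Y]
    · simp [natFun, A, H3.Y]
    · simp [natFun, H3.Y, hqa]
  refine ⟨A, ?_⟩
  have : (MulAut.conj g).toMonoidHom.comp κ = κ.comp (natAut A).toMonoidHom := by
    apply hom_ext_XY
    · show g * κ H3.X * g⁻¹ = κ (natFun A H3.X)
      rw [hAX, hp]
    · show g * κ H3.Y * g⁻¹ = κ (natFun A H3.Y)
      rw [hAY, hq]
  intro w
  exact DFunLike.congr_fun this w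

/-- Frattini: every element is an element of `R` times an element commuting with `t`. -/
theorem frattini (c : Coords X R φ t κ) (g : X) : ∃ k : H3, ((κ k)⁻¹ * g) * t = t * ((κ k)⁻¹ * g) := by
  have ht' : t⁻¹ = t := inv_eq_of_mul_eq_one_left c.tt
  have hd : g * t * g⁻¹ * t⁻¹ ∈ R := by
    rw [c.hyp.mem_R_iff, map_mul, map_mul, map_mul, map_inv, map_inv, c.phit, neg_one_central,
      mul_inv_cancel_right, mul_inv_cancel]
  obtain ⟨δ, hδ⟩ := (c.range _).mp hd
  have hδa : δ.a = 0 := by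
    rw [← h3_inv_iff]
    apply c.inj
    rw [← c.conj, map_inv, hδ, ht']
    have huu : g * t * g⁻¹ * (g * t * g⁻¹) = 1 := by rw [conj_mul, c.tt, mul_one, mul_inv_cancel]
    generalize g * t * g⁻¹ = u at huu
    have h2 : t * (u * t) * t * (u * t) = 1 := by
      have : t * (u * t) * t * (u * t) = t * (u * (t * t) * u) * t := by group
      rw [this, c.tt, mul_one, huu, mul_one, c.tt]
    exact eq_inv_of_mul_eq_one_left h2
  obtain ⟨k, hk⟩ := h3_delta' δ hδa
  refine ⟨k, ?_⟩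
  have h1 : κ k * t * (κ k)⁻¹ = g * t * g⁻¹ := by
    have : κ k * t * (κ k)⁻¹ = κ k * (t * κ k⁻¹ * t⁻¹) * t := by rw [map_inv]; group
    rw [this, c.conj, ← map_mul, hk, hδ]
    group
  have h2 : g * t = κ k * t * (κ k)⁻¹ * g := by rw [h1]; group
  calc (κ k)⁻¹ * g * t = (κ k)⁻¹ * (g * t) := by group
    _ = (κ k)⁻¹ * (κ k * t * (κ k)⁻¹ * g) := by rw [h2]
    _ = t * ((κ k)⁻¹ * g) := by group

end Coords

end Cfsg.Agent.Lib.Helper19.C3P
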