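import Mathlib
import Cfsg.Agent.Lib.Helper19.C3PE

set_option autoImplicit false
set_option linter.unusedSectionVars false
set_option linter.unusedVariables false
set_option linter.style.haveILetI false

/-! Abstract recognition of `3^{1+2} : SL₂(3)`: part 4 (an element of order 3 outside `R` commuting
with the involution, from the elementary abelian subgroup of order 27). -/

namespace Cfsg.Agent.Lib.Helper19.C3P

namespace Coords

variable {X : Type*} [Group X] [Finite X] {R : Subgroup X} {φ : X →* SL23} {t : X} {κ : H3 →* X}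

theorem exists_s (c : Coords X R φ t κ) : ∃ s : X, s * t = t * s ∧ s ^ 3 = 1 ∧ s ∉ R := by
  obtain ⟨E, hEc, hEe, hEcard⟩ := c.hyp.hE
  have hy : ∃ y ∈ E, y ∉ R := by
    by_contra hcon
    push Not at hcon
    have hle : E ≤ R := hcon
    have hER : E = R := Subgroup.eq_of_le_of_card_ge hle (by rw [hEcard, c.hyp.card])
    obtain ⟨r₁, h₁, r₂, h₂, hnc⟩ := c.hyp.exists_nc
    exact hnc (hEc r₁ (hER ▸ h₁) r₂ (hER ▸ h₂))
  have ha : ∃ a ∈ E, a ∈ R ∧ a ∉ Hyp.Z R := by
    by_contra hcon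
    push Not at hcon
    let ψ : ↥E →* SL23 := φ.comp E.subtype
    have h1 := Subgroup.card_eq_card_quotient_mul_card_subgroup ψ.ker
    have h2 : Nat.card (↥E ⧸ ψ.ker) = Nat.card ψ.range :=
      Nat.card_congr (QuotientGroup.quotientKerEquivRange ψ).toEquiv
    have h3 : Nat.card ψ.range ∣ 24 := card_SL23 ▸ Subgroup.card_subgroup_dvd_card _
    have h4 : Nat.card ψ.ker ≤ 3 := by
      let f : ψ.ker → ↥(Hyp.Z R) := fun x =>
        ⟨x.1.1, hcon x.1.1 x.1.2 ((c.hyp.mem_R_iff _).mpr x.2)⟩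
      have hf : Function.Injective f := by
        intro a b hab
        have : (a.1.1 : X) = b.1.1 := congrArg (fun z : ↥(Hyp.Z R) => (z : X)) hab
        exact Subtype.ext (Subtype.ext this)
      have := Nat.card_le_card_of_injective f hf
      rw [show Nat.card ↥(Hyp.Z R) = 3 from c.hyp.zcard] at this
      exact this
    rw [hEcard, h2] at h1
    have h27 : Nat.card ψ.range ∣ 27 := Dvd.intro _ h1.symm
    have h5 : Nat.card ψ.range ∣ 3 := by
      have := Nat.dvd_gcd h27 h3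
      simpa using this
    have h6 : Nat.card ψ.range ≤ 3 := Nat.le_of_dvd (by norm_num) h5
    nlinarith
  obtain ⟨y, hyE, hyR⟩ := hy
  obtain ⟨a, haE, haR, haZ⟩ := ha
  obtain ⟨α, rfl⟩ := (c.range a).mp haR
  have hα : α.u ≠ 0 ∨ α.v ≠ 0 := by
    by_contra hcon
    push Not at hcon
    exact haZ (c.mem_Z_of hcon.1 hcon.2)
  obtain ⟨ρ, hρ⟩ := c.frattini y
  obtain ⟨B, hB⟩ := c.exists_rel hρ
  generalize hs : (κ ρ)⁻¹ * y = s at hρ hB
  have hys : y = κ ρ * s := by rw [← hs, mul_inv_cancel_left]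
  have hya : y * κ α * y⁻¹ = κ α := by
    rw [hEc y hyE _ haE, mul_inv_cancel_right]
  have h1 : ρ * natFun B α * ρ⁻¹ = α := by
    apply c.inj
    rw [map_mul, map_mul, map_inv, ← hB]
    have h0 : κ ρ * (s * κ α * s⁻¹) * (κ ρ)⁻¹ = (κ ρ * s) * κ α * (κ ρ * s)⁻¹ := by group
    rw [h0, ← hys, hya]
  have h2 := h3_E B ρ α hα h1
  have h3 : y ^ 3 = κ ρ * (s * κ ρ * s⁻¹) * ((s * s) * κ ρ * (s * s)⁻¹) * s ^ 3 := by
    rw [hys]; simp only [pow_succ, pow_zero, one_mul]; group
  rw [hEe y hyE, hB, rel_mul hB hB, ← map_mul, ← map_mul, h2, map_one, one_mul] at h3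
  refine ⟨s, hρ, h3.symm, ?_⟩
  intro hsR
  exact hyR (hys ▸ mul_mem (c.mem ρ) hsR)

end Coords

end Cfsg.Agent.Lib.Helper19.C3P
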