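import Mathlib
import Cfsg.Agent.Lib.Helper19.C3PF

set_option autoImplicit false
set_option linter.unusedSectionVars false
set_option linter.unusedVariables false
set_option linter.style.haveILetI false

/-! Abstract recognition of `3^{1+2} : SL₂(3)`: part 5 (the complement and the isomorphism with the model). -/

namespace Cfsg.Agent.Lib.Helper19.C3P

theorem exists_mul_subgroup {G : Type*} [Group G] (Q S : Subgroup G)
    (hn : ∀ y ∈ S, ∀ q ∈ Q, y * q * y⁻¹ ∈ Q) :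
    ∃ L : Subgroup G, ∀ x, x ∈ L ↔ ∃ q ∈ Q, ∃ y ∈ S, x = q * y := by
  refine ⟨{ carrier := {x | ∃ q ∈ Q, ∃ y ∈ S, x = q * y}
            mul_mem' := ?_
            one_mem' := ⟨1, one_mem _, 1, one_mem _, (mul_one 1).symm⟩
            inv_mem' := ?_ }, fun x => Iff.rfl⟩
  · rintro _ _ ⟨q, hq, y, hy, rfl⟩ ⟨q', hq', y', hy', rfl⟩
    refine ⟨q * (y * q' * y⁻¹), mul_mem hq (hn y hy q' hq'), y * y', mul_mem hy hy', ?_⟩
    group
  · rintro _ ⟨q, hq, y, hy, rfl⟩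
    refine ⟨y⁻¹ * q⁻¹ * (y⁻¹)⁻¹, hn _ (inv_mem hy) _ (inv_mem hq), y⁻¹, inv_mem hy, ?_⟩
    group

theorem card_pow4 : Nat.card {A : SL23 // A ^ 4 = 1} = 8 := by
  rw [Nat.card_eq_fintype_card, Fintype.card_subtype]
  exact sl23_card4'

theorem mem_zpowers_of_pow3 {G : Type*} [Group G] {s y : G} (hs : s ^ 3 = 1)
    (hy : y ∈ Subgroup.zpowers s) : y = 1 ∨ y = s ∨ y = s * s := by
  obtain ⟨k, rfl⟩ := Subgroup.mem_zpowers_iff.mp hy
  have h3 : s ^ (3 : ℤ) = 1 := by exact_mod_cast hs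
  rw [zpow_eq_zpow_emod k h3]
  have : k % 3 = 0 ∨ k % 3 = 1 ∨ k % 3 = 2 := by omega
  rcases this with h | h | h
  · left; rw [h, zpow_zero]
  · right; left; rw [h, zpow_one]
  · right; right; rw [h]; exact zpow_two s

theorem eq_one_of_pow8_pow3 {G : Type*} [Group G] {x : G} (h8 : x ^ 8 = 1) (h3 : x ^ 3 = 1) : x = 1 := by
  have h9 : x ^ 9 = 1 := by rw [show 9 = 3 * 3 from rfl, pow_mul, h3, one_pow]
  rw [show 9 = 8 + 1 from rfl, pow_succ, h8, one_mul] at h9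
  exact h9

namespace Coords

variable {X : Type*} [Group X] [Finite X] {R : Subgroup X} {φ : X →* SL23} {t : X} {κ : H3 →* X}

theorem t_ne_one (c : Coords X R φ t κ) : t ≠ 1 := by
  intro h
  have := c.phit
  rw [h, map_one] at this
  exact neg_one_ne this.symm

theorem exists_Q (c : Coords X R φ t κ) : ∃ Q : Subgroup X, Nat.card Q = 8 ∧ t ∈ Q := by
  haveI : Fact (Nat.Prime 2) := ⟨Nat.prime_two⟩
  have ho : orderOf t = 2 := orderOf_eq_prime (by rw [pow_two]; exact c.tt) c.t_ne_one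
  have hp : IsPGroup 2 ↥(Subgroup.zpowers t) :=
    IsPGroup.of_card (n := 1) (by rw [Nat.card_zpowers, ho, pow_one])
  obtain ⟨Q, hQ⟩ := hp.exists_le_sylow
  refine ⟨Q, ?_, hQ (Subgroup.mem_zpowers t)⟩
  have hfac : (648 : ℕ).factorization 2 = 3 := by
    have : (648 : ℕ) = 2 ^ 3 * 81 := by norm_num
    rw [this, Nat.factorization_mul (by norm_num) (by norm_num),
      Nat.Prime.factorization_pow Nat.prime_two]
    simp
    rw [Nat.factorization_eq_zero_of_not_dvd (by norm_num)]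
  rw [Sylow.card_eq_multiplicity, c.hyp.card_X, hfac]
  norm_num

section withQ

variable {Q : Subgroup X}

theorem Q_pow8 (hQ8 : Nat.card Q = 8) {q : X} (hq : q ∈ Q) : q ^ 8 = 1 := by
  have := pow_card_eq_one' (G := ↥Q) (x := ⟨q, hq⟩)
  rw [hQ8] at this
  exact congrArg Subtype.val this

theorem Q_inter_R (c : Coords X R φ t κ) (hQ8 : Nat.card Q = 8) {q : X} (hq : q ∈ Q) (hqR : q ∈ R) :
    q = 1 :=
  eq_one_of_pow8_pow3 (Q_pow8 hQ8 hq) (c.hyp.exp q hqR)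

theorem Q_comm_t (c : Coords X R φ t κ) (hQ8 : Nat.card Q = 8) (htQ : t ∈ Q) {q : X} (hq : q ∈ Q) :
    q * t = t * q := by
  have h1 : q * t * q⁻¹ * t⁻¹ ∈ Q := mul_mem (mul_mem (mul_mem hq htQ) (inv_mem hq)) (inv_mem htQ)
  have h2 : q * t * q⁻¹ * t⁻¹ ∈ R := by
    rw [c.hyp.mem_R_iff, map_mul, map_mul, map_mul, map_inv, map_inv, c.phit, neg_one_central,
      mul_inv_cancel_right, mul_inv_cancel]
  have h3 := c.Q_inter_R hQ8 h1 h2
  calc q * t = (q * t * q⁻¹ * t⁻¹) * (t * q) := by group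
    _ = t * q := by rw [h3, one_mul]

theorem Q_rel (c : Coords X R φ t κ) (hQ8 : Nat.card Q = 8) (htQ : t ∈ Q) {q : X} (hq : q ∈ Q) :
    ∃ A : SL23, Rel κ q A ∧ A ^ 4 = 1 := by
  obtain ⟨A, hA⟩ := c.exists_rel (c.Q_comm_t hQ8 htQ hq)
  refine ⟨A, hA, sl23_pow8 A ?_⟩
  have h1 := rel_pow hA 8
  rw [Q_pow8 hQ8 hq] at h1
  exact c.rel_unique h1 (rel_one κ)

theorem Q_surj (c : Coords X R φ t κ) (hQ8 : Nat.card Q = 8) (htQ : t ∈ Q) (A : SL23) (hA : A ^ 4 = 1) :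
    ∃ q ∈ Q, Rel κ q A := by
  choose f hf using fun q : ↥Q => c.Q_rel hQ8 htQ q.2
  let F : ↥Q → {A : SL23 // A ^ 4 = 1} := fun q => ⟨f q, (hf q).2⟩
  have hinj : Function.Injective F := by
    intro q q' h
    have h1 : f q = f q' := congrArg Subtype.val h
    have h2 : Rel κ ((q : X)⁻¹ * q') 1 := by
      have := rel_mul (rel_inv (hf q).1) (hf q').1
      rw [h1, inv_mul_cancel] at this
      exact this
    have h3 := c.Q_inter_R hQ8 (mul_mem (inv_mem q.2) q'.2) (Hyp.Z_le (c.rel_one_mem_Z h2))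
    exact Subtype.ext (inv_mul_eq_one.mp h3)
  have hb : Function.Bijective F := hinj.bijective_of_nat_card_le (by rw [card_pow4, hQ8])
  obtain ⟨q, hq⟩ := hb.2 ⟨A, hA⟩
  refine ⟨q, q.2, ?_⟩
  have : f q = A := congrArg Subtype.val hq
  rw [← this]
  exact (hf q).1

theorem Q_normal (c : Coords X R φ t κ) (hQ8 : Nat.card Q = 8) (htQ : t ∈ Q) {g : X}
    (hg : g * t = t * g) {q : X} (hq : q ∈ Q) : g * q * g⁻¹ ∈ Q := by
  obtain ⟨B, hB⟩ := c.exists_rel hg
  obtain ⟨A, hA, hA4⟩ := c.Q_rel hQ8 htQ hq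
  have h1 : Rel κ (g * q * g⁻¹) (B * A * B⁻¹) := rel_mul (rel_mul hB hA) (rel_inv hB)
  have h4 : (B * A * B⁻¹) ^ 4 = 1 := by rw [conj_pow, hA4, mul_one, mul_inv_cancel]
  obtain ⟨q', hq', hr'⟩ := c.Q_surj hQ8 htQ _ h4
  have h2 : Rel κ (q'⁻¹ * (g * q * g⁻¹)) 1 := by
    have := rel_mul (rel_inv hr') h1
    rw [inv_mul_cancel] at this
    exact this
  have hζ := c.rel_one_mem_Z h2
  generalize hζ' : q'⁻¹ * (g * q * g⁻¹) = ζ at hζ
  have h3 : g * q * g⁻¹ = q' * ζ := by rw [← hζ', mul_inv_cancel_left]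
  have h5 : (g * q * g⁻¹) ^ 8 = 1 := by rw [conj_pow, Q_pow8 hQ8 hq, mul_one, mul_inv_cancel]
  have hcomm : Commute q' ζ := c.hyp.Z_comm q' hζ
  rw [h3, hcomm.mul_pow, Q_pow8 hQ8 hq', one_mul] at h5
  have h6 := eq_one_of_pow8_pow3 h5 (c.hyp.Z_pow3 hζ)
  rw [h3, h6, mul_one]
  exact hq'

end withQ

/-- The main theorem of the abstract part. -/
theorem nonempty_iso (c : Coords X R φ t κ) : Nonempty (X ≃* Model) := by
  obtain ⟨Q, hQ8, htQ⟩ := c.exists_Q
  obtain ⟨s, hst, hs3, hsR⟩ := c.exists_s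
  obtain ⟨a, ha⟩ := c.exists_rel hst
  have ha3 : a ^ 3 = 1 := by
    have := rel_pow ha 3
    rw [hs3] at this
    exact c.rel_unique this (rel_one κ)
  have ha1 : a ≠ 1 := by
    intro h1
    rw [h1] at ha
    exact hsR (Hyp.Z_le (c.rel_one_mem_Z ha))
  have hScomm : ∀ y ∈ Subgroup.zpowers s, y * t = t * y := by
    intro y hy
    rcases mem_zpowers_of_pow3 hs3 hy with rfl | rfl | rfl
    · rw [one_mul, mul_one]
    · exact hst
    · rw [mul_assoc, hst, ← mul_assoc, hst, mul_assoc]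
  obtain ⟨L, hL⟩ := exists_mul_subgroup Q (Subgroup.zpowers s)
    (fun y hy q hq => c.Q_normal hQ8 htQ (hScomm y hy) hq)
  have hLt : ∀ x ∈ L, x * t = t * x := by
    intro x hx
    obtain ⟨q, hq, y, hy, rfl⟩ := (hL x).mp hx
    rw [mul_assoc, hScomm y hy, ← mul_assoc, c.Q_comm_t hQ8 htQ hq, mul_assoc]
  have hLZ : ∀ x ∈ L, Rel κ x 1 → x = 1 := by
    intro x hx hx1
    obtain ⟨q, hq, y, hy, rfl⟩ := (hL x).mp hx
    obtain ⟨A, hA, hA4⟩ := c.Q_rel hQ8 htQ hq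
    have key : ∀ b : SL23, b ^ 3 = 1 → Rel κ y b → b = 1 ∧ A = 1 := by
      intro b hb3 hyb
      have h1 : A * b = 1 := c.rel_unique (rel_mul hA hyb) hx1
      have h2 : b = A⁻¹ := eq_inv_of_mul_eq_one_right h1
      have h3 : b ^ 4 = 1 := by rw [h2, inv_pow, hA4, inv_one]
      have h4 := sl23_34 b hb3 h3
      rw [h4, mul_one] at h1
      exact ⟨h4, h1⟩
    have hq1 : A = 1 → q = 1 := by
      intro hA1
      rw [hA1] at hA
      exact c.Q_inter_R hQ8 hq (Hyp.Z_le (c.rel_one_mem_Z hA))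
    rcases mem_zpowers_of_pow3 hs3 hy with rfl | rfl | rfl
    · have := key 1 (one_pow 3) (rel_one κ)
      rw [hq1 this.2, mul_one]
    · exact absurd (key a ha3 ha).1 ha1
    · have h1 : (a * a) ^ 3 = 1 := by rw [← pow_two, ← pow_mul, pow_mul', ha3, one_pow]
      have h2 := (key (a * a) h1 (rel_mul ha ha)).1
      exfalso
      apply ha1
      have : a ^ 3 = a * a * a := by rw [pow_succ, pow_two]
      rw [this, h2, one_mul] at ha3
      exact ha3
  have hex : ∀ B : SL23, ∃ x, x ∈ L ∧ Rel κ x B := by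
    intro B
    obtain ⟨c', hc4, hB⟩ := sl23_cover' a ha1 ha3 B
    obtain ⟨q, hq, hqc⟩ := c.Q_surj hQ8 htQ c' hc4
    rcases hB with rfl | rfl | rfl
    · exact ⟨q, (hL q).mpr ⟨q, hq, 1, one_mem _, (mul_one q).symm⟩, hqc⟩
    · exact ⟨q * s, (hL _).mpr ⟨q, hq, s, Subgroup.mem_zpowers s, rfl⟩, rel_mul hqc ha⟩
    · exact ⟨q * (s * s), (hL _).mpr ⟨q, hq, s * s, mul_mem (Subgroup.mem_zpowers s)
        (Subgroup.mem_zpowers s), rfl⟩, rel_mul hqc (rel_mul ha ha)⟩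
  have huniq : ∀ (B : SL23) (x x' : X), x ∈ L → x' ∈ L → Rel κ x B → Rel κ x' B → x = x' := by
    intro B x x' hx hx' hr hr'
    have h1 : Rel κ (x⁻¹ * x') 1 := by
      have := rel_mul (rel_inv hr) hr'
      rw [inv_mul_cancel] at this
      exact this
    exact inv_mul_eq_one.mp (hLZ _ (mul_mem (inv_mem hx) hx') h1)
  choose f₂ hf₂ using hex
  let F₂ : SL23 →* X := MonoidHom.mk' f₂ (fun B B' =>
    huniq (B * B') _ _ (hf₂ _).1 (mul_mem (hf₂ B).1 (hf₂ B').1) (hf₂ _).2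
      (rel_mul (hf₂ B).2 (hf₂ B').2))
  have hcompat : ∀ B : SL23, κ.comp (MulEquiv.toMonoidHom (natHom B)) =
      (MulEquiv.toMonoidHom (MulAut.conj (F₂ B))).comp κ := by
    intro B
    ext w
    exact ((hf₂ B).2 w).symm
  let Φ : Model →* X := SemidirectProduct.lift κ F₂ hcompat
  have hΦ : ∀ m : Model, Φ m = κ m.left * f₂ m.right := by
    intro m
    conv_lhs => rw [← SemidirectProduct.inl_left_mul_inr_right m]
    rw [map_mul, SemidirectProduct.lift_inl, SemidirectProduct.lift_inr]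
    rfl
  have hinj : Function.Injective Φ := by
    rw [injective_iff_map_eq_one]
    intro m hm
    rw [hΦ] at hm
    have h1 : f₂ m.right = κ m.left⁻¹ := by
      rw [map_inv]; exact eq_inv_of_mul_eq_one_right hm
    have h2 : κ m.left⁻¹ * t = t * κ m.left⁻¹ := by rw [← h1]; exact hLt _ (hf₂ _).1
    have h3 := c.comm_t h2
    have h4 : Rel κ (f₂ m.right) 1 := by rw [h1]; exact c.rel_of_mem_Z (c.mem_Z_of h3.1 h3.2)
    have h5 : f₂ m.right = 1 := hLZ _ (hf₂ _).1 h4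
    have h6 : m.right = 1 := c.rel_unique (hf₂ _).2 h4
    rw [h5, mul_one] at hm
    have h7 : m.left = 1 := c.inj (hm.trans (map_one κ).symm)
    exact SemidirectProduct.ext h7 h6
  have hbij : Function.Bijective Φ :=
    hinj.bijective_of_nat_card_le (by rw [c.hyp.card_X, card_Model])
  exact ⟨(MulEquiv.ofBijective Φ hbij).symm⟩

end Coords

/-- The abstract recognition theorem. -/
theorem Hyp.nonempty_iso {X : Type*} [Group X] [Finite X] {R : Subgroup X} {φ : X →* SL23}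
    (h : Hyp X R φ) : Nonempty (X ≃* Model) := by
  obtain ⟨t, htt, ht⟩ := h.exists_invol
  obtain ⟨κ, hinj, hR, hconj⟩ := h.exists_coords htt ht
  exact Coords.nonempty_iso ⟨h, htt, ht, hinj, hR, hconj⟩

end Cfsg.Agent.Lib.Helper19.C3P
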