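import Mathlib
import Cfsg.Prelude.Def_Solvable
import Cfsg.Prelude.Def_CaseTheorems
import Cfsg.Prelude.Def_Transfer
import Cfsg.Agent.Lib.Helper19.C3PG

set_option autoImplicit false
set_option linter.unusedSectionVars false
set_option linter.unusedVariables false
set_option linter.style.haveILetI false

/-! The hypotheses of the statement give the abstract hypotheses `Hyp`. -/

namespace Cfsg.Agent.Lib.Helper19.C3P

open scoped commutatorElement

theorem hyp_of {X : Type*} [Group X] [Finite X]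
    (hR : Cfsg.IsExtraspecial 3 (Cfsg.pCore 3 X)) (hRcard : Nat.card (Cfsg.pCore 3 X) = 27)
    (hRexp : ∀ r ∈ Cfsg.pCore 3 X, r ^ 3 = 1)
    (e : X ⧸ Cfsg.pCore 3 X ≃* Matrix.SpecialLinearGroup (Fin 2) (ZMod 3))
    (hO2 : Cfsg.pCore 2 X = ⊥)
    (hE : ∃ E : Subgroup X, IsMulCommutative E ∧ (∀ a ∈ E, a ^ 3 = 1) ∧ Nat.card E = 27) :
    Hyp X (Cfsg.pCore 3 X) (e.toMonoidHom.comp (QuotientGroup.mk' (Cfsg.pCore 3 X))) := by
  obtain ⟨⟨hp, hfr, hcomm⟩, hzc⟩ := hR
  refine ⟨?_, ?_, hRcard, hRexp, ?_, ?_, ?_, ?_, ?_⟩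
  · ext x
    rw [MonoidHom.mem_ker]
    show e (QuotientGroup.mk' _ x) = 1 ↔ _
    rw [MulEquiv.map_eq_one_iff, QuotientGroup.mk'_apply, QuotientGroup.eq_one_iff]
  · exact e.surjective.comp (QuotientGroup.mk'_surjective _)
  · intro r₁ h₁ r₂ h₂ r₃ h₃
    have h1 : ⁅(⟨r₁, h₁⟩ : ↥(Cfsg.pCore 3 X)), ⟨r₂, h₂⟩⁆ ∈ commutator ↥(Cfsg.pCore 3 X) := by
      rw [commutator_def]
      exact Subgroup.commutator_mem_commutator (Subgroup.mem_top _) (Subgroup.mem_top _)
    rw [hcomm, Subgroup.mem_center_iff] at h1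
    have h2 := congrArg Subtype.val (h1 ⟨r₃, h₃⟩)
    rw [commutatorElement_def] at h2
    exact h2.symm
  · have h1 : (Subgroup.center ↥(Cfsg.pCore 3 X)).map (Cfsg.pCore 3 X).subtype =
        Cfsg.pCore 3 X ⊓ Subgroup.centralizer (Cfsg.pCore 3 X : Set X) := by
      ext x
      constructor
      · rintro ⟨z, hz, rfl⟩
        refine ⟨z.2, ?_⟩
        apply Subgroup.mem_centralizer_iff.mpr
        intro r hr
        have hz' : z ∈ Subgroup.center ↥(Cfsg.pCore 3 X) := hz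
        rw [Subgroup.mem_center_iff] at hz'
        exact congrArg Subtype.val (hz' ⟨r, hr⟩)
      · rintro ⟨hxE, hxC⟩
        refine ⟨⟨x, hxE⟩, ?_, rfl⟩
        rw [SetLike.mem_coe, Subgroup.mem_center_iff]
        intro r
        apply Subtype.ext
        have hxC' : x ∈ Subgroup.centralizer (Cfsg.pCore 3 X : Set X) := hxC
        rw [Subgroup.mem_centralizer_iff] at hxC'
        exact hxC' r r.2
    rw [← h1, Subgroup.card_map_of_injective (Subgroup.subtype_injective _)]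
    exact hzc
  · intro N hN hpN
    have : N ≤ Cfsg.pCore 2 X := le_sSup ⟨hN, hpN⟩
    rw [hO2] at this
    exact le_bot_iff.mp this
  · intro N hN hpN
    exact le_sSup ⟨hN, hpN⟩
  · obtain ⟨E, hEc, hEe, hEcard⟩ := hE
    refine ⟨E, ?_, hEe, hEcard⟩
    intro a ha b hb
    have := hEc.is_comm.comm (⟨a, ha⟩ : ↥E) ⟨b, hb⟩
    exact congrArg Subtype.val this

end Cfsg.Agent.Lib.Helper19.C3P
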