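import Mathlib

set_option autoImplicit false

namespace Cfsg.Agent.Lib.Helper19.PSp43

abbrev Z3 := ZMod 3

structure M16 where
  (a11 a12 a13 a14 a21 a22 a23 a24 a31 a32 a33 a34 a41 a42 a43 a44 : ZMod 3)
deriving DecidableEq

def M16.mul (x y : M16) : M16 :=
  ⟨x.a11 * y.a11 + x.a12 * y.a21 + x.a13 * y.a31 + x.a14 * y.a41,
   x.a11 * y.a12 + x.a12 * y.a22 + x.a13 * y.a32 + x.a14 * y.a42,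
   x.a11 * y.a13 + x.a12 * y.a23 + x.a13 * y.a33 + x.a14 * y.a43,
   x.a11 * y.a14 + x.a12 * y.a24 + x.a13 * y.a34 + x.a14 * y.a44,
   x.a21 * y.a11 + x.a22 * y.a21 + x.a23 * y.a31 + x.a24 * y.a41,
   x.a21 * y.a12 + x.a22 * y.a22 + x.a23 * y.a32 + x.a24 * y.a42,
   x.a21 * y.a13 + x.a22 * y.a23 + x.a23 * y.a33 + x.a24 * y.a43,
   x.a21 * y.a14 + x.a22 * y.a24 + x.a23 * y.a34 + x.a24 * y.a44,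
   x.a31 * y.a11 + x.a32 * y.a21 + x.a33 * y.a31 + x.a34 * y.a41,
   x.a31 * y.a12 + x.a32 * y.a22 + x.a33 * y.a32 + x.a34 * y.a42,
   x.a31 * y.a13 + x.a32 * y.a23 + x.a33 * y.a33 + x.a34 * y.a43,
   x.a31 * y.a14 + x.a32 * y.a24 + x.a33 * y.a34 + x.a34 * y.a44,
   x.a41 * y.a11 + x.a42 * y.a21 + x.a43 * y.a31 + x.a44 * y.a41,
   x.a41 * y.a12 + x.a42 * y.a22 + x.a43 * y.a32 + x.a44 * y.a42,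
   x.a41 * y.a13 + x.a42 * y.a23 + x.a43 * y.a33 + x.a44 * y.a43,
   x.a41 * y.a14 + x.a42 * y.a24 + x.a43 * y.a34 + x.a44 * y.a44⟩

def M16.one : M16 := ⟨1, 0, 0, 0, 0, 1, 0, 0, 0, 0, 1, 0, 0, 0, 0, 1⟩

def M16.negOne : M16 := ⟨2, 0, 0, 0, 0, 2, 0, 0, 0, 0, 2, 0, 0, 0, 0, 2⟩

def bindZ (x : ZMod 3) (k : ZMod 3 → Bool) : Bool :=
  if x = 0 then k 0 else if x = 1 then k 1 else k 2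

def mulK (x y : M16) (k : M16 → Bool) : Bool :=
  bindZ (x.a11 * y.a11 + x.a12 * y.a21 + x.a13 * y.a31 + x.a14 * y.a41) fun t1 =>
  bindZ (x.a11 * y.a12 + x.a12 * y.a22 + x.a13 * y.a32 + x.a14 * y.a42) fun t2 =>
  bindZ (x.a11 * y.a13 + x.a12 * y.a23 + x.a13 * y.a33 + x.a14 * y.a43) fun t3 =>
  bindZ (x.a11 * y.a14 + x.a12 * y.a24 + x.a13 * y.a34 + x.a14 * y.a44) fun t4 =>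
  bindZ (x.a21 * y.a11 + x.a22 * y.a21 + x.a23 * y.a31 + x.a24 * y.a41) fun t5 =>
  bindZ (x.a21 * y.a12 + x.a22 * y.a22 + x.a23 * y.a32 + x.a24 * y.a42) fun t6 =>
  bindZ (x.a21 * y.a13 + x.a22 * y.a23 + x.a23 * y.a33 + x.a24 * y.a43) fun t7 =>
  bindZ (x.a21 * y.a14 + x.a22 * y.a24 + x.a23 * y.a34 + x.a24 * y.a44) fun t8 =>
  bindZ (x.a31 * y.a11 + x.a32 * y.a21 + x.a33 * y.a31 + x.a34 * y.a41) fun t9 =>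
  bindZ (x.a31 * y.a12 + x.a32 * y.a22 + x.a33 * y.a32 + x.a34 * y.a42) fun t10 =>
  bindZ (x.a31 * y.a13 + x.a32 * y.a23 + x.a33 * y.a33 + x.a34 * y.a43) fun t11 =>
  bindZ (x.a31 * y.a14 + x.a32 * y.a24 + x.a33 * y.a34 + x.a34 * y.a44) fun t12 =>
  bindZ (x.a41 * y.a11 + x.a42 * y.a21 + x.a43 * y.a31 + x.a44 * y.a41) fun t13 =>
  bindZ (x.a41 * y.a12 + x.a42 * y.a22 + x.a43 * y.a32 + x.a44 * y.a42) fun t14 =>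
  bindZ (x.a41 * y.a13 + x.a42 * y.a23 + x.a43 * y.a33 + x.a44 * y.a43) fun t15 =>
  bindZ (x.a41 * y.a14 + x.a42 * y.a24 + x.a43 * y.a34 + x.a44 * y.a44) fun t16 =>
  k ⟨t1, t2, t3, t4, t5, t6, t7, t8, t9, t10, t11, t12, t13, t14, t15, t16⟩

def isPM (x : M16) : Bool := (x == M16.one) || (x == M16.negOne)

def chkP (x : M16) : Bool :=
  mulK x x fun x2 => mulK x2 x2 fun x4 =>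
    isPM x4 || (mulK x4 x fun x5 => isPM x5) ||
      (mulK x4 x4 fun x8 => (mulK x8 x fun x9 => isPM x9) || (mulK x8 x4 fun x12 => isPM x12))

def Bf (v1 v2 v3 v4 w1 w2 w3 w4 : Z3) : Z3 := v3 * w1 + v4 * w2 - v1 * w3 - v2 * w4

def all3 (f : Z3 → Bool) : Bool := f 0 && f 1 && f 2
def all4 (f : Z3 → Z3 → Z3 → Z3 → Bool) : Bool :=
  all3 fun a => all3 fun b => all3 fun c => all3 fun d => f a b c d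
def imp (p q : Bool) : Bool := !p || q

/-- the matrix with columns `p, q, r, s` -/
def bld (p1 p2 p3 p4 q1 q2 q3 q4 r1 r2 r3 r4 s1 s2 s3 s4 : Z3) : M16 :=
  ⟨p1, q1, r1, s1, p2, q2, r2, s2, p3, q3, r3, s3, p4, q4, r4, s4⟩

def rep (p1 p2 p3 p4 : Z3) : Bool :=
  all4 fun r1 r2 r3 r4 => imp (Bf p1 p2 p3 p4 r1 r2 r3 r4 == 2) <|
  all4 fun q1 q2 q3 q4 => imp (Bf p1 p2 p3 p4 q1 q2 q3 q4 == 0 && Bf q1 q2 q3 q4 r1 r2 r3 r4 == 0) <|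
  all4 fun s1 s2 s3 s4 => imp (Bf p1 p2 p3 p4 s1 s2 s3 s4 == 0 && Bf r1 r2 r3 r4 s1 s2 s3 s4 == 0 &&
      Bf q1 q2 q3 q4 s1 s2 s3 s4 == 2) <|
    chkP (bld p1 p2 p3 p4 q1 q2 q3 q4 r1 r2 r3 r4 s1 s2 s3 s4)

def inR (v1 v2 v3 v4 : Z3) : Bool :=
  (v1 == 1 && v2 == 0 && v3 == 0 && v4 == 0) || (v1 == 2 && v2 == 0 && v3 == 0 && v4 == 0) ||
  (v1 == 0 && v2 == 1 && v3 == 0 && v4 == 0) || (v1 == 0 && v2 == 0 && v3 == 1 && v4 == 0) ||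
  (v1 == 0 && v2 == 0 && v3 == 2 && v4 == 0)

set_option maxRecDepth 1000000 in
theorem rep_1000 : rep 1 0 0 0 = true := by decide +kernel

set_option maxRecDepth 1000000 in
theorem rep_2000 : rep 2 0 0 0 = true := by decide +kernel

set_option maxRecDepth 1000000 in
theorem rep_0100 : rep 0 1 0 0 = true := by decide +kernel

set_option maxRecDepth 1000000 in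
theorem rep_0010 : rep 0 0 1 0 = true := by decide +kernel

set_option maxRecDepth 1000000 in
theorem rep_0020 : rep 0 0 2 0 = true := by decide +kernel

def sel3 (a : Z3) (x0 x1 x2 : M16) : M16 := if a = 0 then x0 else if a = 1 then x1 else x2

def tab (a b c d : Z3) : M16 :=
  (sel3 a (sel3 b (sel3 c (sel3 d M16.one ⟨1, 0, 0, 0, 0, 0, 0, 1, 0, 0, 1, 0, 0, 2, 0, 0⟩ ⟨1, 0, 0, 0, 0, 0, 0, 2, 0, 0, 1, 0, 0, 1, 0, 0⟩) (sel3 d ⟨1, 0, 0, 0, 0, 0, 0, 2, 0, 0, 1, 0, 0, 1, 0, 0⟩ ⟨1, 1, 0, 0, 0, 2, 0, 0, 0, 0, 1, 0, 0, 0, 1, 2⟩ ⟨1, 2, 0, 0, 0, 1, 0, 0, 0, 0, 1, 0, 0, 0, 1, 1⟩) (sel3 d ⟨1, 0, 0, 0, 0, 0, 0, 2, 0, 0, 1, 0, 0, 1, 0, 0⟩ ⟨1, 2, 0, 0, 0, 1, 0, 0, 0, 0, 1, 0, 0, 0, 1, 1⟩ ⟨1, 1, 0, 0, 0, 2, 0, 0, 0, 0, 1, 0,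 0, 0, 1, 2⟩)) (sel3 c (sel3 d ⟨1, 0, 0, 0, 0, 1, 0, 0, 0, 0, 1, 0, 0, 0, 0, 1⟩ ⟨1, 0, 0, 0, 0, 0, 0, 1, 0, 0, 1, 0, 0, 2, 0, 1⟩ ⟨1, 0, 0, 0, 0, 0, 0, 2, 0, 0, 1, 0, 0, 1, 0, 1⟩) (sel3 d ⟨1, 0, 0, 2, 0, 0, 0, 1, 0, 0, 1, 0, 0, 2, 1, 0⟩ ⟨1, 1, 0, 2, 0, 2, 0, 1, 0, 0, 1, 0, 0, 0, 1, 2⟩ ⟨1, 2, 0, 2, 0, 1, 0, 1, 0, 0, 1, 0, 0, 0, 1, 1⟩) (sel3 d ⟨1, 0, 0, 1, 0, 0, 0, 2, 0, 0, 1, 0, 0, 1, 1, 0⟩ ⟨1, 2, 0, 1, 0, 1, 0, 2, 0, 0, 1, 0, 0, 0, 1, 1⟩ ⟨1, 1, 0, 1, 0, 2, 0, 2, 0, 0, 1, 0, 0, 0, 1, 2⟩)) (sel3 c (sel3 d ⟨1, 0, 0, 0, 0, 2, 0, 0, 0, 0, 1, 0, 0, 0, 0, 2⟩ ⟨1, 0, 0, 0, 0, 0, 0, 1, 0, 0, 1, 0, 0, 2, 0, 2⟩ ⟨1, 0, 0, 0, 0, 0, 0, 2, 0, 0, 1, 0, 0, 1, 0, 2⟩) (sel3 d ⟨1, 0, 0, 1, 0, 0, 0, 2, 0, 0, 1, 0, 0, 1, 1, 0⟩ ⟨1, 1,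 0, 1, 0, 2, 0, 2, 0, 0, 1, 0, 0, 0, 1, 2⟩ ⟨1, 2, 0, 1, 0, 1, 0, 2, 0, 0, 1, 0, 0, 0, 1, 1⟩) (sel3 d ⟨1, 0, 0, 2, 0, 0, 0, 1, 0, 0, 1, 0, 0, 2, 1, 0⟩ ⟨1, 2, 0, 2, 0, 1, 0, 1, 0, 0, 1, 0, 0, 0, 1, 1⟩ ⟨1, 1, 0, 2, 0, 2, 0, 1, 0, 0, 1, 0, 0, 0, 1, 2⟩))) (sel3 b (sel3 c (sel3 d ⟨1, 0, 0, 0, 0, 0, 0, 2, 0, 0, 1, 0, 0, 1, 0, 0⟩ ⟨1, 0, 0, 2, 0, 0, 0, 1, 0, 0, 1, 0, 0, 2, 1, 0⟩ ⟨1, 0, 0, 1, 0, 0, 0, 2, 0, 0, 1, 0, 0, 1, 1, 0⟩) (sel3 d ⟨1, 0, 2, 0, 0, 0, 0, 2, 0, 0, 1, 0, 0, 1, 0, 0⟩ ⟨1, 1, 2, 0, 0, 2, 0, 0, 0, 0, 1, 0, 0, 0, 1, 2⟩ ⟨1, 2, 2, 0, 0, 1, 0, 0, 0, 0, 1, 0, 0, 0, 1, 1⟩) (sel3 d ⟨1, 0, 1, 0, 0, 0, 0, 2, 0, 0, 1, 0, 0, 1, 0, 0⟩ ⟨1, 2, 1, 0, 0, 1, 0, 0, 0, 0, 1, 0, 0, 0, 1, 1⟩ ⟨1, 1, 1, 0, 0, 2, 0, 0, 0, 0, 1,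 0, 0, 0, 1, 2⟩)) (sel3 c (sel3 d ⟨1, 2, 0, 0, 0, 1, 0, 0, 0, 0, 1, 0, 0, 0, 1, 1⟩ ⟨1, 0, 0, 2, 0, 0, 0, 1, 0, 0, 1, 0, 0, 2, 1, 1⟩ ⟨1, 0, 0, 1, 0, 0, 0, 2, 0, 0, 1, 0, 0, 1, 1, 1⟩) (sel3 d ⟨1, 0, 2, 2, 0, 0, 0, 1, 0, 0, 1, 0, 0, 2, 1, 0⟩ ⟨1, 1, 2, 2, 0, 2, 0, 1, 0, 0, 1, 0, 0, 0, 1, 2⟩ ⟨1, 2, 2, 2, 0, 1, 0, 1, 0, 0, 1, 0, 0, 0, 1, 1⟩) (sel3 d ⟨1, 0, 1, 1, 0, 0, 0, 2, 0, 0, 1, 0, 0, 1, 1, 0⟩ ⟨1, 2, 1, 1, 0, 1, 0, 2, 0, 0, 1, 0, 0, 0, 1, 1⟩ ⟨1, 1, 1, 1, 0, 2, 0, 2, 0, 0, 1, 0, 0, 0, 1, 2⟩)) (sel3 c (sel3 d ⟨1, 1, 0, 0, 0, 2, 0, 0, 0, 0, 1, 0, 0, 0, 1, 2⟩ ⟨1, 0, 0, 2, 0, 0, 0, 1, 0, 0, 1, 0, 0, 2, 1, 2⟩ ⟨1, 0, 0, 1, 0, 0, 0, 2, 0, 0, 1, 0, 0, 1, 1, 2⟩) (sel3 d ⟨1, 0, 2, 1, 0, 0, 0, 2, 0, 0, 1, 0, 0, 1, 1, 0⟩ ⟨1,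 1, 2, 1, 0, 2, 0, 2, 0, 0, 1, 0, 0, 0, 1, 2⟩ ⟨1, 2, 2, 1, 0, 1, 0, 2, 0, 0, 1, 0, 0, 0, 1, 1⟩) (sel3 d ⟨1, 0, 1, 2, 0, 0, 0, 1, 0, 0, 1, 0, 0, 2, 1, 0⟩ ⟨1, 2, 1, 2, 0, 1, 0, 1, 0, 0, 1, 0, 0, 0, 1, 1⟩ ⟨1, 1, 1, 2, 0, 2, 0, 1, 0, 0, 1, 0, 0, 0, 1, 2⟩))) (sel3 b (sel3 c (sel3 d ⟨1, 0, 0, 0, 0, 0, 0, 2, 0, 0, 1, 0, 0, 1, 0, 0⟩ ⟨1, 0, 0, 1, 0, 0, 0, 1, 0, 0, 1, 0, 0, 2, 2, 0⟩ ⟨1, 0, 0, 2, 0, 0, 0, 2, 0, 0, 1, 0, 0, 1, 2, 0⟩) (sel3 d ⟨1, 0, 1, 0, 0, 0, 0, 2, 0, 0, 1, 0, 0, 1, 0, 0⟩ ⟨1, 1, 1, 0, 0, 2, 0, 0, 0, 0, 1, 0, 0, 0, 1, 2⟩ ⟨1, 2, 1, 0, 0, 1, 0, 0, 0, 0, 1, 0, 0, 0, 1, 1⟩) (sel3 d ⟨1, 0, 2, 0, 0, 0, 0, 2, 0, 0, 1, 0, 0, 1, 0, 0⟩ ⟨1, 2, 2, 0, 0, 1, 0, 0, 0, 0, 1, 0, 0, 0, 1, 1⟩ ⟨1, 1, 2, 0, 0, 2, 0, 0, 0, 0,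 1, 0, 0, 0, 1, 2⟩)) (sel3 c (sel3 d ⟨1, 1, 0, 0, 0, 1, 0, 0, 0, 0, 1, 0, 0, 0, 2, 1⟩ ⟨1, 0, 0, 1, 0, 0, 0, 1, 0, 0, 1, 0, 0, 2, 2, 1⟩ ⟨1, 0, 0, 2, 0, 0, 0, 2, 0, 0, 1, 0, 0, 1, 2, 1⟩) (sel3 d ⟨1, 0, 1, 2, 0, 0, 0, 1, 0, 0, 1, 0, 0, 2, 1, 0⟩ ⟨1, 1, 1, 2, 0, 2, 0, 1, 0, 0, 1, 0, 0, 0, 1, 2⟩ ⟨1, 2, 1, 2, 0, 1, 0, 1, 0, 0, 1, 0, 0, 0, 1, 1⟩) (sel3 d ⟨1, 0, 2, 1, 0, 0, 0, 2, 0, 0, 1, 0, 0, 1, 1, 0⟩ ⟨1, 2, 2, 1, 0, 1, 0, 2, 0, 0, 1, 0, 0, 0, 1, 1⟩ ⟨1, 1, 2, 1, 0, 2, 0, 2, 0, 0, 1, 0, 0, 0, 1, 2⟩)) (sel3 c (sel3 d ⟨1, 2, 0, 0, 0, 2, 0, 0, 0, 0, 1, 0, 0, 0, 2, 2⟩ ⟨1, 0, 0, 1, 0, 0, 0, 1, 0, 0, 1, 0, 0, 2, 2, 2⟩ ⟨1, 0, 0, 2, 0, 0, 0, 2, 0, 0, 1, 0, 0, 1, 2, 2⟩) (sel3 d ⟨1, 0, 1, 1, 0, 0, 0, 2, 0, 0, 1, 0, 0, 1, 1, 0⟩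 ⟨1, 1, 1, 1, 0, 2, 0, 2, 0, 0, 1, 0, 0, 0, 1, 2⟩ ⟨1, 2, 1, 1, 0, 1, 0, 2, 0, 0, 1, 0, 0, 0, 1, 1⟩) (sel3 d ⟨1, 0, 2, 2, 0, 0, 0, 1, 0, 0, 1, 0, 0, 2, 1, 0⟩ ⟨1, 2, 2, 2, 0, 1, 0, 1, 0, 0, 1, 0, 0, 0, 1, 1⟩ ⟨1, 1, 2, 2, 0, 2, 0, 1, 0, 0, 1, 0, 0, 0, 1, 2⟩))))

/-- columns of `x` satisfy the symplectic relations -/
def sympK (x : M16) : Bool :=
  (Bf x.a11 x.a21 x.a31 x.a41 x.a13 x.a23 x.a33 x.a43 == 2) &&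
  (Bf x.a12 x.a22 x.a32 x.a42 x.a14 x.a24 x.a34 x.a44 == 2) &&
  (Bf x.a11 x.a21 x.a31 x.a41 x.a12 x.a22 x.a32 x.a42 == 0) &&
  (Bf x.a11 x.a21 x.a31 x.a41 x.a14 x.a24 x.a34 x.a44 == 0) &&
  (Bf x.a12 x.a22 x.a32 x.a42 x.a13 x.a23 x.a33 x.a43 == 0) &&
  (Bf x.a13 x.a23 x.a33 x.a43 x.a14 x.a24 x.a34 x.a44 == 0)

def tabChk (x : M16) (a b c d : Z3) : Bool :=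
  sympK x && (x.a11 == 1 && x.a21 == 0 && x.a31 == 0 && x.a41 == 0) &&
  inR (x.a11 * a + x.a12 * b + x.a13 * c + x.a14 * d) (x.a21 * a + x.a22 * b + x.a23 * c + x.a24 * d)
    (x.a31 * a + x.a32 * b + x.a33 * c + x.a34 * d) (x.a41 * a + x.a42 * b + x.a43 * c + x.a44 * d)

def tabAll : Bool :=
  all4 fun a b c d => imp (!(a == 0 && b == 0 && c == 0 && d == 0)) (tabChk (tab a b c d) a b c d)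

set_option maxRecDepth 1000000 in
theorem tabAll_true : tabAll = true := by decide +kernel

def w5 : M16 := ⟨0, 0, 0, 2, 1, 0, 0, 1, 0, 1, 1, 2, 0, 0, 1, 0⟩

def w9 : M16 := ⟨1, 0, 0, 1, 0, 0, 0, 2, 0, 0, 1, 0, 0, 1, 1, 2⟩

def w12 : M16 := ⟨1, 0, 0, 1, 0, 0, 0, 2, 0, 0, 1, 0, 0, 1, 1, 0⟩

def cJ : M16 := ⟨0, 0, 2, 0, 0, 0, 0, 2, 1, 0, 0, 0, 0, 1, 0, 0⟩

theorem wit_symp : sympK w5 = true ∧ sympK w9 = true ∧ sympK w12 = true ∧ sympK cJ = true := by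
  decide +kernel

theorem w5_pow : ((w5.mul w5).mul (w5.mul w5)).mul w5 = M16.negOne := by decide +kernel

theorem w5_nc : w5.mul cJ ≠ cJ.mul w5 := by decide +kernel

theorem w9_pow :
    (((w9.mul w9).mul (w9.mul w9)).mul ((w9.mul w9).mul (w9.mul w9))).mul w9 = M16.one := by
  decide +kernel

theorem w9_nc : ((w9.mul w9).mul w9).mul cJ ≠ cJ.mul ((w9.mul w9).mul w9) := by decide +kernel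

theorem w12_pow :
    (((w12.mul w12).mul (w12.mul w12)).mul (w12.mul w12)).mul
      (((w12.mul w12).mul (w12.mul w12)).mul (w12.mul w12)) = M16.one := by decide +kernel

theorem w12_nc6 : (((w12.mul w12).mul (w12.mul w12)).mul (w12.mul w12)).mul cJ ≠
    cJ.mul (((w12.mul w12).mul (w12.mul w12)).mul (w12.mul w12)) := by decide +kernel

theorem w12_nc4 : ((w12.mul w12).mul (w12.mul w12)).mul cJ ≠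
    cJ.mul ((w12.mul w12).mul (w12.mul w12)) := by decide +kernel

end Cfsg.Agent.Lib.Helper19.PSp43
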