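import Mathlib
import Cfsg.Agent.Lib.Helper19.PSp43Data

set_option autoImplicit false

namespace Cfsg.Agent.Lib.Helper19.PSp43

open Matrix

abbrev I4 := Fin 2 ⊕ Fin 2
abbrev Mat4 := Matrix I4 I4 Z3

abbrev i1 : I4 := Sum.inl 0
abbrev i2 : I4 := Sum.inl 1
abbrev i3 : I4 := Sum.inr 0
abbrev i4 : I4 := Sum.inr 1

theorem sum_I4 {M : Type*} [AddCommMonoid M] (f : I4 → M) :
    ∑ i, f i = f i1 + f i2 + f i3 + f i4 := by
  simp only [Fintype.sum_sum_type, Fin.sum_univ_two, add_assoc]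

theorem forall_I4 {P : I4 → Prop} : (∀ i, P i) ↔ P i1 ∧ P i2 ∧ P i3 ∧ P i4 := by
  rw [Sum.forall, Fin.forall_fin_two, Fin.forall_fin_two, and_assoc]

theorem mulVec_apply4 (A : Mat4) (v : I4 → Z3) (i : I4) :
    (A *ᵥ v) i = A i i1 * v i1 + A i i2 * v i2 + A i i3 * v i3 + A i i4 * v i4 := by
  rw [Matrix.mulVec, dotProduct, sum_I4]

theorem J_mulVec (w : I4 → Z3) : J (Fin 2) Z3 *ᵥ w =
    Sum.elim (fun i => - w (Sum.inr i)) (fun i => w (Sum.inl i)) := by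
  rw [J, fromBlocks_mulVec]
  simp only [zero_mulVec, neg_mulVec, one_mulVec, zero_add, add_zero]
  rfl

theorem B_eq (v w : I4 → Z3) : v ⬝ᵥ (J (Fin 2) Z3 *ᵥ w) =
    Bf (v i1) (v i2) (v i3) (v i4) (w i1) (w i2) (w i3) (w i4) := by
  rw [J_mulVec, dotProduct, sum_I4]
  simp only [Sum.elim_inl, Sum.elim_inr, Bf]
  ring

theorem sympl_apply (A : Mat4) (i j : I4) :
    (A * J (Fin 2) Z3 * Aᵀ) i j =
      Bf (A i i1) (A i i2) (A i i3) (A i i4) (A j i1) (A j i2) (A j i3) (A j i4) := by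
  have h : (A * J (Fin 2) Z3 * Aᵀ) i j = (fun k => A i k) ⬝ᵥ (J (Fin 2) Z3 *ᵥ (fun k => A j k)) := by
    rw [Matrix.mul_assoc, Matrix.mul_apply]
    rfl
  rw [h, B_eq]

theorem sympl_apply' (A : Mat4) (i j : I4) :
    (Aᵀ * J (Fin 2) Z3 * A) i j =
      Bf (A i1 i) (A i2 i) (A i3 i) (A i4 i) (A i1 j) (A i2 j) (A i3 j) (A i4 j) := by
  have := sympl_apply Aᵀ i j
  rw [Matrix.transpose_transpose] at this
  exact this

def M16.toMat (x : M16) : Mat4 :=
  Matrix.of (Sum.elim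
    (fun a => Sum.elim (![![x.a11, x.a12], ![x.a21, x.a22]] a) (![![x.a13, x.a14], ![x.a23, x.a24]] a))
    (fun a => Sum.elim (![![x.a31, x.a32], ![x.a41, x.a42]] a) (![![x.a33, x.a34], ![x.a43, x.a44]] a)))

def ofMat (A : Mat4) : M16 :=
  ⟨A i1 i1, A i1 i2, A i1 i3, A i1 i4, A i2 i1, A i2 i2, A i2 i3, A i2 i4,
   A i3 i1, A i3 i2, A i3 i3, A i3 i4, A i4 i1, A i4 i2, A i4 i3, A i4 i4⟩

theorem ext4 {A B : Mat4} (h : ∀ i j, A i j = B i j) : A = B := Matrix.ext h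

theorem forall2_I4 {P : I4 → I4 → Prop} (h11 : P i1 i1) (h12 : P i1 i2) (h13 : P i1 i3) (h14 : P i1 i4)
    (h21 : P i2 i1) (h22 : P i2 i2) (h23 : P i2 i3) (h24 : P i2 i4)
    (h31 : P i3 i1) (h32 : P i3 i2) (h33 : P i3 i3) (h34 : P i3 i4)
    (h41 : P i4 i1) (h42 : P i4 i2) (h43 : P i4 i3) (h44 : P i4 i4) : ∀ i j, P i j := by
  intro i
  rw [forall_I4]
  revert i
  rw [forall_I4]
  exact ⟨⟨h11, h12, h13, h14⟩, ⟨h21, h22, h23, h24⟩, ⟨h31, h32, h33, h34⟩, ⟨h41, h42, h43, h44⟩⟩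

theorem toMat_ofMat (A : Mat4) : (ofMat A).toMat = A := by
  apply Matrix.ext
  apply forall2_I4 <;> rfl

theorem toMat_mul (x y : M16) : (x.mul y).toMat = x.toMat * y.toMat := by
  apply Matrix.ext
  apply forall2_I4 <;> (rw [Matrix.mul_apply, sum_I4]; rfl)

theorem toMat_one : M16.one.toMat = 1 := by
  apply Matrix.ext
  apply forall2_I4 <;> decide

theorem toMat_negOne : M16.negOne.toMat = -1 := by
  apply Matrix.ext
  apply forall2_I4 <;> decide

theorem toMat_injective : Function.Injective M16.toMat := by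
  intro x y h
  have e := fun i j => congrFun (congrFun h i) j
  cases x
  cases y
  simp only [M16.mk.injEq]
  exact ⟨e i1 i1, e i1 i2, e i1 i3, e i1 i4, e i2 i1, e i2 i2, e i2 i3, e i2 i4,
    e i3 i1, e i3 i2, e i3 i3, e i3 i4, e i4 i1, e i4 i2, e i4 i3, e i4 i4⟩

theorem z3_cases (x : Z3) : x = 0 ∨ x = 1 ∨ x = 2 := by revert x; decide

theorem bindZ_eq (x : Z3) (k : Z3 → Bool) : bindZ x k = k x := by
  rcases z3_cases x with rfl | rfl | rfl <;> rfl

theorem mulK_eq (x y : M16) (k : M16 → Bool) : mulK x y k = k (x.mul y) := by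
  simp only [mulK, bindZ_eq]
  rfl

theorem all3_spec {f : Z3 → Bool} (h : all3 f = true) (x : Z3) : f x = true := by
  simp only [all3, Bool.and_eq_true] at h
  rcases z3_cases x with rfl | rfl | rfl
  exacts [h.1.1, h.1.2, h.2]

theorem all4_spec {f : Z3 → Z3 → Z3 → Z3 → Bool} (h : all4 f = true) (a b c d : Z3) :
    f a b c d = true :=
  all3_spec (all3_spec (all3_spec (all3_spec h a) b) c) d

theorem imp_spec {p q : Bool} (h : imp p q = true) (hp : p = true) : q = true := by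
  subst hp
  simpa [imp] using h

def PMm (M : Mat4) : Prop := M = 1 ∨ M = -1

def Pm (M : Mat4) : Prop := PMm (M ^ 4) ∨ PMm (M ^ 5) ∨ PMm (M ^ 9) ∨ PMm (M ^ 12)

theorem isPM_spec (x : M16) (h : isPM x = true) : PMm x.toMat := by
  simp only [isPM, Bool.or_eq_true, beq_iff_eq] at h
  rcases h with rfl | rfl
  · left; exact toMat_one
  · right; exact toMat_negOne

theorem pow4 (M : Mat4) : M ^ 4 = (M * M) * (M * M) := by
  simp only [pow_succ, pow_zero, one_mul, mul_assoc]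

theorem pow5 (M : Mat4) : M ^ 5 = ((M * M) * (M * M)) * M := by
  simp only [pow_succ, pow_zero, one_mul, mul_assoc]

theorem pow9 (M : Mat4) : M ^ 9 = (((M * M) * (M * M)) * ((M * M) * (M * M))) * M := by
  simp only [pow_succ, pow_zero, one_mul, mul_assoc]

theorem pow12 (M : Mat4) :
    M ^ 12 = (((M * M) * (M * M)) * ((M * M) * (M * M))) * ((M * M) * (M * M)) := by
  simp only [pow_succ, pow_zero, one_mul, mul_assoc]

theorem chkP_spec (x : M16) (h : chkP x = true) : Pm x.toMat := by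
  simp only [chkP, mulK_eq, Bool.or_eq_true] at h
  rcases h with (h | h) | (h | h)
  · left
    have := isPM_spec _ h
    simp only [toMat_mul] at this
    rw [pow4]; exact this
  · right; left
    have := isPM_spec _ h
    simp only [toMat_mul] at this
    rw [pow5]; exact this
  · right; right; left
    have := isPM_spec _ h
    simp only [toMat_mul] at this
    rw [pow9]; exact this
  · right; right; right
    have := isPM_spec _ h
    simp only [toMat_mul] at this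
    rw [pow12]; exact this

theorem toMat_cJ : cJ.toMat = J (Fin 2) Z3 := by
  apply Matrix.ext
  apply forall2_I4 <;> decide

theorem neg_one_eq_two : (-1 : Z3) = 2 := by decide

theorem rep_spec (A : Mat4) (hA : Aᵀ * J (Fin 2) Z3 * A = J (Fin 2) Z3)
    (p1 p2 p3 p4 : Z3) (hrep : rep p1 p2 p3 p4 = true)
    (h1 : A i1 i1 = p1) (h2 : A i2 i1 = p2) (h3 : A i3 i1 = p3) (h4 : A i4 i1 = p4) : Pm A := by
  have e : ∀ i j, Bf (A i1 i) (A i2 i) (A i3 i) (A i4 i) (A i1 j) (A i2 j) (A i3 j) (A i4 j) =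
      cJ.toMat i j := by
    intro i j
    rw [toMat_cJ, ← sympl_apply', hA]
  have e13 : Bf (A i1 i1) (A i2 i1) (A i3 i1) (A i4 i1) (A i1 i3) (A i2 i3) (A i3 i3) (A i4 i3) = 2 :=
    e i1 i3
  have e12 : Bf (A i1 i1) (A i2 i1) (A i3 i1) (A i4 i1) (A i1 i2) (A i2 i2) (A i3 i2) (A i4 i2) = 0 :=
    e i1 i2
  have e23 : Bf (A i1 i2) (A i2 i2) (A i3 i2) (A i4 i2) (A i1 i3) (A i2 i3) (A i3 i3) (A i4 i3) = 0 :=
    e i2 i3
  have e14 : Bf (A i1 i1) (A i2 i1) (A i3 i1) (A i4 i1) (A i1 i4) (A i2 i4) (A i3 i4) (A i4 i4) = 0 :=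
    e i1 i4
  have e34 : Bf (A i1 i3) (A i2 i3) (A i3 i3) (A i4 i3) (A i1 i4) (A i2 i4) (A i3 i4) (A i4 i4) = 0 :=
    e i3 i4
  have e24 : Bf (A i1 i2) (A i2 i2) (A i3 i2) (A i4 i2) (A i1 i4) (A i2 i4) (A i3 i4) (A i4 i4) = 2 :=
    e i2 i4
  subst h1 h2 h3 h4
  unfold rep at hrep
  have k1 := imp_spec (all4_spec hrep (A i1 i3) (A i2 i3) (A i3 i3) (A i4 i3))
    (beq_iff_eq.mpr e13)
  have k2 := imp_spec (all4_spec k1 (A i1 i2) (A i2 i2) (A i3 i2) (A i4 i2))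
    (by rw [Bool.and_eq_true, beq_iff_eq, beq_iff_eq]; exact ⟨e12, e23⟩)
  have k3 := imp_spec (all4_spec k2 (A i1 i4) (A i2 i4) (A i3 i4) (A i4 i4))
    (by rw [Bool.and_eq_true, Bool.and_eq_true, beq_iff_eq, beq_iff_eq, beq_iff_eq]
        exact ⟨⟨e14, e34⟩, e24⟩)
  have k4 := chkP_spec (ofMat A) k3
  rw [toMat_ofMat] at k4
  exact k4

theorem Bf_antisymm (v1 v2 v3 v4 w1 w2 w3 w4 : Z3) :
    Bf w1 w2 w3 w4 v1 v2 v3 v4 = - Bf v1 v2 v3 v4 w1 w2 w3 w4 := by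
  unfold Bf; ring

theorem Bf_self (v1 v2 v3 v4 : Z3) : Bf v1 v2 v3 v4 v1 v2 v3 v4 = 0 := by
  unfold Bf; ring

theorem sympK_spec (x : M16) (h : sympK x = true) :
    x.toMatᵀ * J (Fin 2) Z3 * x.toMat = J (Fin 2) Z3 := by
  simp only [sympK, Bool.and_eq_true, beq_iff_eq] at h
  obtain ⟨⟨⟨⟨⟨h13, h24⟩, h12⟩, h14⟩, h23⟩, h34⟩ := h
  have e : ∀ i j, (x.toMatᵀ * J (Fin 2) Z3 * x.toMat) i j =
      Bf (x.toMat i1 i) (x.toMat i2 i) (x.toMat i3 i) (x.toMat i4 i)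
        (x.toMat i1 j) (x.toMat i2 j) (x.toMat i3 j) (x.toMat i4 j) := sympl_apply' _
  have hJ : ∀ i j, J (Fin 2) Z3 i j = cJ.toMat i j := by
    intro i j
    rw [toMat_cJ]
  apply Matrix.ext
  apply forall2_I4
  · rw [e, hJ]; exact Bf_self _ _ _ _
  · rw [e, hJ]; exact h12
  · rw [e, hJ]; exact h13
  · rw [e, hJ]; exact h14
  · rw [e, hJ, Bf_antisymm]; show - Bf x.a11 x.a21 x.a31 x.a41 x.a12 x.a22 x.a32 x.a42 = 0
    rw [h12]; rfl
  · rw [e, hJ]; exact Bf_self _ _ _ _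
  · rw [e, hJ]; exact h23
  · rw [e, hJ]; exact h24
  · rw [e, hJ, Bf_antisymm]; show - Bf x.a11 x.a21 x.a31 x.a41 x.a13 x.a23 x.a33 x.a43 = 1
    rw [h13]; rfl
  · rw [e, hJ, Bf_antisymm]; show - Bf x.a12 x.a22 x.a32 x.a42 x.a13 x.a23 x.a33 x.a43 = 0
    rw [h23]; rfl
  · rw [e, hJ]; exact Bf_self _ _ _ _
  · rw [e, hJ]; exact h34
  · rw [e, hJ, Bf_antisymm]; show - Bf x.a11 x.a21 x.a31 x.a41 x.a14 x.a24 x.a34 x.a44 = 0
    rw [h14]; rfl
  · rw [e, hJ, Bf_antisymm]; show - Bf x.a12 x.a22 x.a32 x.a42 x.a14 x.a24 x.a34 x.a44 = 1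
    rw [h24]; rfl
  · rw [e, hJ, Bf_antisymm]; show - Bf x.a13 x.a23 x.a33 x.a43 x.a14 x.a24 x.a34 x.a44 = 0
    rw [h34]; rfl
  · rw [e, hJ]; exact Bf_self _ _ _ _

abbrev Sp := symplecticGroup (Fin 2) Z3

def negOne : Sp := ⟨-1, SymplecticGroup.neg_mem (one_mem _)⟩

theorem negOne_comm (y : Sp) : y * negOne = negOne * y := by
  apply Subtype.ext
  show y.1 * (-1) = (-1) * y.1
  rw [mul_neg, neg_mul, mul_one, one_mul]

def PMg (x : Sp) : Prop := x = 1 ∨ x = negOne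

def Pg (g : Sp) : Prop := PMg (g ^ 4) ∨ PMg (g ^ 5) ∨ PMg (g ^ 9) ∨ PMg (g ^ 12)

theorem PMg_of_PMm (x : Sp) (h : PMm x.1) : PMg x := by
  rcases h with h | h
  · left; exact Subtype.ext h
  · right; exact Subtype.ext h

theorem PMg_conj (s x : Sp) (h : PMg (s * x * s⁻¹)) : PMg x := by
  rcases h with h | h
  · left
    have : x = s⁻¹ * (s * x * s⁻¹) * s := by group
    rw [this, h]; group
  · right
    have : x = s⁻¹ * (s * x * s⁻¹) * s := by group
    rw [this, h, mul_assoc, ← negOne_comm s, ← mul_assoc, inv_mul_cancel, one_mul]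

theorem Pg_conj (s g : Sp) (h : Pg (s * g * s⁻¹)) : Pg g := by
  unfold Pg at h ⊢
  simp only [conj_pow] at h
  rcases h with h | h | h | h
  · exact Or.inl (PMg_conj s _ h)
  · exact Or.inr (Or.inl (PMg_conj s _ h))
  · exact Or.inr (Or.inr (Or.inl (PMg_conj s _ h)))
  · exact Or.inr (Or.inr (Or.inr (PMg_conj s _ h)))

theorem Pg_of_Pm (g : Sp) (h : Pm g.1) : Pg g := by
  unfold Pm at h
  unfold Pg
  have e : ∀ n : ℕ, (g ^ n).1 = g.1 ^ n := fun n => SubmonoidClass.coe_pow g n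
  rcases h with h | h | h | h
  · exact Or.inl (PMg_of_PMm _ (by rw [e]; exact h))
  · exact Or.inr (Or.inl (PMg_of_PMm _ (by rw [e]; exact h)))
  · exact Or.inr (Or.inr (Or.inl (PMg_of_PMm _ (by rw [e]; exact h))))
  · exact Or.inr (Or.inr (Or.inr (PMg_of_PMm _ (by rw [e]; exact h))))

theorem tab_spec (a b c d : Z3) (hne : ¬ (a = 0 ∧ b = 0 ∧ c = 0 ∧ d = 0)) :
    tabChk (tab a b c d) a b c d = true := by
  have h := tabAll_true
  unfold tabAll at h
  refine imp_spec (all4_spec h a b c d) ?_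
  rw [Bool.not_eq_true', Bool.eq_false_iff]
  intro hc
  apply hne
  simpa [and_assoc] using hc

theorem main (g : Sp) : Pg g := by
  have hA : g.1ᵀ * J (Fin 2) Z3 * g.1 = J (Fin 2) Z3 := SymplecticGroup.mem_iff'.mp g.2
  have e13 : Bf (g.1 i1 i1) (g.1 i2 i1) (g.1 i3 i1) (g.1 i4 i1)
      (g.1 i1 i3) (g.1 i2 i3) (g.1 i3 i3) (g.1 i4 i3) = 2 := by
    have := sympl_apply' g.1 i1 i3
    rw [hA] at this
    rw [← this, ← toMat_cJ]; rfl
  have hne : ¬ (g.1 i1 i1 = 0 ∧ g.1 i2 i1 = 0 ∧ g.1 i3 i1 = 0 ∧ g.1 i4 i1 = 0) := by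
    rintro ⟨h1, h2, h3, h4⟩
    rw [h1, h2, h3, h4] at e13
    revert e13
    simp only [Bf, zero_mul, add_zero, sub_zero]
    decide
  have hS := tab_spec _ _ _ _ hne
  generalize tab (g.1 i1 i1) (g.1 i2 i1) (g.1 i3 i1) (g.1 i4 i1) = S at hS
  simp only [tabChk, Bool.and_eq_true, beq_iff_eq] at hS
  obtain ⟨⟨hsymp, ⟨⟨⟨c1, c2⟩, c3⟩, c4⟩⟩, hR⟩ := hS
  let s : Sp := ⟨S.toMat, SymplecticGroup.mem_iff'.mpr (sympK_spec S hsymp)⟩
  apply Pg_conj s
  apply Pg_of_Pm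
  have hTS : (s⁻¹).1 * S.toMat = 1 := by
    have := congrArg Subtype.val (inv_mul_cancel s)
    exact this
  have hT : ∀ l, (s⁻¹).1 l i1 = (1 : Mat4) l i1 := by
    intro l
    rw [← hTS, Matrix.mul_apply, sum_I4]
    have d1 : S.toMat i1 i1 = 1 := c1
    have d2 : S.toMat i2 i1 = 0 := c2
    have d3 : S.toMat i3 i1 = 0 := c3
    have d4 : S.toMat i4 i1 = 0 := c4
    rw [d1, d2, d3, d4, mul_one, mul_zero, mul_zero, mul_zero, add_zero, add_zero, add_zero]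
  have hcol : ∀ k, (s * g * s⁻¹).1 k i1 =
      S.toMat k i1 * g.1 i1 i1 + S.toMat k i2 * g.1 i2 i1 + S.toMat k i3 * g.1 i3 i1 +
        S.toMat k i4 * g.1 i4 i1 := by
    intro k
    have e : (s * g * s⁻¹).1 = S.toMat * g.1 * (s⁻¹).1 := rfl
    rw [e, Matrix.mul_apply, sum_I4, hT, hT, hT, hT]
    have o1 : (1 : Mat4) i1 i1 = 1 := by decide
    have o2 : (1 : Mat4) i2 i1 = 0 := by decide
    have o3 : (1 : Mat4) i3 i1 = 0 := by decide
    have o4 : (1 : Mat4) i4 i1 = 0 := by decide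
    rw [o1, o2, o3, o4, mul_one, mul_zero, mul_zero, mul_zero, add_zero, add_zero, add_zero,
      Matrix.mul_apply, sum_I4]
  have hA' : (s * g * s⁻¹).1ᵀ * J (Fin 2) Z3 * (s * g * s⁻¹).1 = J (Fin 2) Z3 :=
    SymplecticGroup.mem_iff'.mp (s * g * s⁻¹).2
  simp only [inR, Bool.or_eq_true, Bool.and_eq_true, beq_iff_eq] at hR
  rcases hR with (((h | h) | h) | h) | h
  · obtain ⟨⟨⟨h1, h2⟩, h3⟩, h4⟩ := h
    exact rep_spec _ hA' 1 0 0 0 rep_1000 ((hcol i1).trans h1) ((hcol i2).trans h2)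
      ((hcol i3).trans h3) ((hcol i4).trans h4)
  · obtain ⟨⟨⟨h1, h2⟩, h3⟩, h4⟩ := h
    exact rep_spec _ hA' 2 0 0 0 rep_2000 ((hcol i1).trans h1) ((hcol i2).trans h2)
      ((hcol i3).trans h3) ((hcol i4).trans h4)
  · obtain ⟨⟨⟨h1, h2⟩, h3⟩, h4⟩ := h
    exact rep_spec _ hA' 0 1 0 0 rep_0100 ((hcol i1).trans h1) ((hcol i2).trans h2)
      ((hcol i3).trans h3) ((hcol i4).trans h4)
  · obtain ⟨⟨⟨h1, h2⟩, h3⟩, h4⟩ := h
    exact rep_spec _ hA' 0 0 1 0 rep_0010 ((hcol i1).trans h1) ((hcol i2).trans h2)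
      ((hcol i3).trans h3) ((hcol i4).trans h4)
  · obtain ⟨⟨⟨h1, h2⟩, h3⟩, h4⟩ := h
    exact rep_spec _ hA' 0 0 2 0 rep_0020 ((hcol i1).trans h1) ((hcol i2).trans h2)
      ((hcol i3).trans h3) ((hcol i4).trans h4)

abbrev PSpZ := Sp ⧸ Subgroup.center Sp

theorem negOne_mem_center : negOne ∈ Subgroup.center Sp := by
  rw [Subgroup.mem_center_iff]
  intro y
  exact negOne_comm y

theorem mk_eq_one_of_PMg {x : Sp} (h : PMg x) : (QuotientGroup.mk x : PSpZ) = 1 := by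
  rw [QuotientGroup.eq_one_iff]
  rcases h with rfl | rfl
  · exact one_mem _
  · exact negOne_mem_center

theorem orderOf_mk_mem (g : Sp) :
    orderOf (QuotientGroup.mk g : PSpZ) ∈ ({1, 2, 3, 4, 5, 6, 9, 12} : Set ℕ) := by
  have hpow : ∀ n : ℕ, (QuotientGroup.mk g : PSpZ) ^ n = QuotientGroup.mk (g ^ n) := fun n => rfl
  rcases main g with h | h | h | h
  · have h1 : orderOf (QuotientGroup.mk g : PSpZ) ∈ Nat.divisors 4 :=
      Nat.mem_divisors.mpr ⟨orderOf_dvd_of_pow_eq_one (by rw [hpow]; exact mk_eq_one_of_PMg h),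
        by norm_num⟩
    have h2 : Nat.divisors 4 = {1, 2, 4} := by decide
    rw [h2] at h1
    simp only [Finset.mem_insert, Finset.mem_singleton] at h1
    simp only [Set.mem_insert_iff, Set.mem_singleton_iff]
    omega
  · have h1 : orderOf (QuotientGroup.mk g : PSpZ) ∣ 5 :=
      orderOf_dvd_of_pow_eq_one (by rw [hpow]; exact mk_eq_one_of_PMg h)
    rcases (Nat.dvd_prime (by norm_num : Nat.Prime 5)).mp h1 with h2 | h2
    · simp only [Set.mem_insert_iff, Set.mem_singleton_iff]; omega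
    · simp only [Set.mem_insert_iff, Set.mem_singleton_iff]; omega
  · have h1 : orderOf (QuotientGroup.mk g : PSpZ) ∈ Nat.divisors 9 :=
      Nat.mem_divisors.mpr ⟨orderOf_dvd_of_pow_eq_one (by rw [hpow]; exact mk_eq_one_of_PMg h),
        by norm_num⟩
    have h2 : Nat.divisors 9 = {1, 3, 9} := by decide
    rw [h2] at h1
    simp only [Finset.mem_insert, Finset.mem_singleton] at h1
    simp only [Set.mem_insert_iff, Set.mem_singleton_iff]
    omega
  · have h1 : orderOf (QuotientGroup.mk g : PSpZ) ∈ Nat.divisors 12 :=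
      Nat.mem_divisors.mpr ⟨orderOf_dvd_of_pow_eq_one (by rw [hpow]; exact mk_eq_one_of_PMg h),
        by norm_num⟩
    have h2 : Nat.divisors 12 = {1, 2, 3, 4, 6, 12} := by decide
    rw [h2] at h1
    simp only [Finset.mem_insert, Finset.mem_singleton] at h1
    simp only [Set.mem_insert_iff, Set.mem_singleton_iff]
    omega

def mkSp (x : M16) (h : sympK x = true) : Sp :=
  ⟨x.toMat, SymplecticGroup.mem_iff'.mpr (sympK_spec x h)⟩

theorem coe_pow_Sp (g : Sp) (n : ℕ) : (g ^ n).1 = g.1 ^ n := SubmonoidClass.coe_pow g n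

theorem not_center_of_nc (x : Sp) (y : M16) (hy : x.1 = y.toMat) (hnc : y.mul cJ ≠ cJ.mul y) :
    x ∉ Subgroup.center Sp := by
  intro hx
  rw [Subgroup.mem_center_iff] at hx
  have h := congrArg Subtype.val (hx (mkSp cJ wit_symp.2.2.2))
  apply hnc
  apply toMat_injective
  rw [toMat_mul, toMat_mul, ← hy]
  exact h.symm

theorem pow3 (M : Mat4) : M ^ 3 = (M * M) * M := by
  simp only [pow_succ, pow_zero, one_mul]

theorem pow6 (M : Mat4) : M ^ 6 = ((M * M) * (M * M)) * (M * M) := by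
  simp only [pow_succ, pow_zero, one_mul, mul_assoc]

theorem pow12' (M : Mat4) :
    M ^ 12 = (((M * M) * (M * M)) * (M * M)) * (((M * M) * (M * M)) * (M * M)) := by
  simp only [pow_succ, pow_zero, one_mul, mul_assoc]

def g5 : Sp := mkSp w5 wit_symp.1
def g9 : Sp := mkSp w9 wit_symp.2.1
def g12 : Sp := mkSp w12 wit_symp.2.2.1

theorem mk_pow (g : Sp) (n : ℕ) : (QuotientGroup.mk g : PSpZ) ^ n = QuotientGroup.mk (g ^ n) := rfl

theorem order5 : orderOf (QuotientGroup.mk g5 : PSpZ) = 5 := by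
  have : Fact (Nat.Prime 5) := ⟨by norm_num⟩
  apply orderOf_eq_prime
  · rw [mk_pow]
    apply mk_eq_one_of_PMg
    right
    apply Subtype.ext
    rw [coe_pow_Sp]
    show w5.toMat ^ 5 = -1
    rw [pow5, ← toMat_mul, ← toMat_mul, ← toMat_mul, w5_pow, toMat_negOne]
  · rw [Ne, QuotientGroup.eq_one_iff]
    exact not_center_of_nc g5 w5 rfl w5_nc

theorem order9 : orderOf (QuotientGroup.mk g9 : PSpZ) = 9 := by
  have h9 : (9 : ℕ) = 3 ^ (1 + 1) := by norm_num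
  rw [h9]
  apply orderOf_eq_prime_pow
  · rw [mk_pow, QuotientGroup.eq_one_iff]
    refine not_center_of_nc _ ((w9.mul w9).mul w9) ?_ w9_nc
    rw [coe_pow_Sp]
    show w9.toMat ^ 3 ^ 1 = _
    rw [pow_one, pow3, ← toMat_mul, ← toMat_mul]
  · rw [mk_pow]
    apply mk_eq_one_of_PMg
    left
    apply Subtype.ext
    rw [coe_pow_Sp]
    show w9.toMat ^ 3 ^ (1 + 1) = 1
    norm_num
    rw [pow9, ← toMat_mul, ← toMat_mul, ← toMat_mul, ← toMat_mul, w9_pow, toMat_one]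

theorem order12 : orderOf (QuotientGroup.mk g12 : PSpZ) = 12 := by
  apply orderOf_eq_of_pow_and_pow_div_prime (by norm_num)
  · rw [mk_pow]
    apply mk_eq_one_of_PMg
    left
    apply Subtype.ext
    rw [coe_pow_Sp]
    show w12.toMat ^ 12 = 1
    rw [pow12', ← toMat_mul, ← toMat_mul, ← toMat_mul, ← toMat_mul, w12_pow, toMat_one]
  · intro p hp hp12
    have hp' : p = 2 ∨ p = 3 := by
      have h1 : p ∣ 2 * (2 * 3) := by norm_num; exact hp12
      rcases (Nat.Prime.dvd_mul hp).mp h1 with h | h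
      · left; exact (Nat.prime_dvd_prime_iff_eq hp Nat.prime_two).mp h
      · rcases (Nat.Prime.dvd_mul hp).mp h with h | h
        · left; exact (Nat.prime_dvd_prime_iff_eq hp Nat.prime_two).mp h
        · right; exact (Nat.prime_dvd_prime_iff_eq hp Nat.prime_three).mp h
    rcases hp' with rfl | rfl
    · rw [Ne, mk_pow, QuotientGroup.eq_one_iff]
      refine not_center_of_nc _ (((w12.mul w12).mul (w12.mul w12)).mul (w12.mul w12)) ?_ w12_nc6
      rw [coe_pow_Sp]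
      show w12.toMat ^ (12 / 2) = _
      norm_num
      rw [pow6, ← toMat_mul, ← toMat_mul, ← toMat_mul]
    · rw [Ne, mk_pow, QuotientGroup.eq_one_iff]
      refine not_center_of_nc _ ((w12.mul w12).mul (w12.mul w12)) ?_ w12_nc4
      rw [coe_pow_Sp]
      show w12.toMat ^ (12 / 3) = _
      norm_num
      rw [pow4, ← toMat_mul, ← toMat_mul]

theorem range_orderOf_PSp43 :
    Set.range (orderOf : PSpZ → ℕ) = {1, 2, 3, 4, 5, 6, 9, 12} := by
  ext k
  constructor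
  · rintro ⟨y, rfl⟩
    obtain ⟨g, rfl⟩ := QuotientGroup.mk_surjective y
    exact orderOf_mk_mem g
  · simp only [Set.mem_insert_iff, Set.mem_singleton_iff]
    rintro (rfl | rfl | rfl | rfl | rfl | rfl | rfl | rfl)
    · exact ⟨1, orderOf_one⟩
    · exact ⟨(QuotientGroup.mk g12 : PSpZ) ^ 6, by
        rw [orderOf_pow' _ (by norm_num), order12]; norm_num⟩
    · exact ⟨(QuotientGroup.mk g12 : PSpZ) ^ 4, by
        rw [orderOf_pow' _ (by norm_num), order12]; norm_num⟩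
    · exact ⟨(QuotientGroup.mk g12 : PSpZ) ^ 3, by
        rw [orderOf_pow' _ (by norm_num), order12]; norm_num⟩
    · exact ⟨_, order5⟩
    · exact ⟨(QuotientGroup.mk g12 : PSpZ) ^ 2, by
        rw [orderOf_pow' _ (by norm_num), order12]; norm_num⟩
    · exact ⟨_, order9⟩
    · exact ⟨_, order12⟩

end Cfsg.Agent.Lib.Helper19.PSp43
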