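import Mathlib
import Cfsg.Agent.Lib.Helper19.C3PB
import Cfsg.Agent.Lib.Helper19.PSp43

set_option autoImplicit false

/-! The embedding of the model `3^{1+2} : SL₂(3)` in `Sp₄(3)` as the stabilizer of a vector: data and
decidable facts. -/

namespace Cfsg.Agent.Lib.Helper19.C3P

open Cfsg.Agent.Lib.Helper19.PSp43 (M16 all4 imp Bf bld sympK)

/-- The unipotent matrix with parameters `u, v, a`. -/
def mHr (u v a : ZMod 3) : M16 := ⟨1, -v, -a, u, 0, 1, u, 0, 0, 0, 1, 0, 0, 0, v, 1⟩

/-- The block matrix with parameters the entries of a `2 × 2` matrix. -/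
def dAr (a b c d : ZMod 3) : M16 := ⟨1, 0, 0, 0, 0, a, 0, b, 0, 0, 1, 0, 0, c, 0, d⟩

def mH (h : H3) : M16 := mHr h.u h.v h.a

def dA (A : SL23) : M16 := dAr (A.1 0 0) (A.1 0 1) (A.1 1 0) (A.1 1 1)

set_option maxRecDepth 1000000 in
set_option maxHeartbeats 4000000 in
theorem mH_mul : ∀ h h' : H3, mH (h * h') = (mH h).mul (mH h') := by decide

set_option maxRecDepth 1000000 in
set_option synthInstance.maxSize 2000 in
set_option synthInstance.maxHeartbeats 400000 in
set_option maxHeartbeats 4000000 in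
theorem dA_mul : ∀ A A' : SL23, dA (A * A') = (dA A).mul (dA A') := by decide

set_option maxRecDepth 1000000 in
set_option synthInstance.maxSize 2000 in
set_option synthInstance.maxHeartbeats 400000 in
set_option maxHeartbeats 4000000 in
theorem dA_mH : ∀ (A : SL23) (h : H3), (dA A).mul (mH h) = (mH (natFun A h)).mul (dA A) := by decide

set_option maxRecDepth 1000000 in
set_option maxHeartbeats 4000000 in
theorem mH_symp : ∀ h : H3, sympK (mH h) = true := by decide

set_option maxRecDepth 1000000 in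
set_option synthInstance.maxSize 2000 in
set_option synthInstance.maxHeartbeats 400000 in
set_option maxHeartbeats 4000000 in
theorem dA_symp : ∀ A : SL23, sympK (dA A) = true := by decide

set_option maxRecDepth 1000000 in
set_option synthInstance.maxSize 2000 in
set_option synthInstance.maxHeartbeats 400000 in
set_option maxHeartbeats 4000000 in
theorem psi_inj : ∀ (h : H3) (A : SL23), (mH h).mul (dA A) = M16.one → h = 1 ∧ A = 1 := by decide

set_option maxRecDepth 1000000 in
set_option synthInstance.maxSize 2000 in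
set_option synthInstance.maxHeartbeats 400000 in
set_option maxHeartbeats 4000000 in
theorem psi_comm : ∀ (h : H3) (A : SL23),
    ((mH h).mul (dA A)).mul (mH H3.Zc) = (mH H3.Zc).mul ((mH h).mul (dA A)) := by decide

set_option maxRecDepth 1000000 in
set_option synthInstance.maxSize 2000 in
set_option synthInstance.maxHeartbeats 400000 in
set_option maxHeartbeats 4000000 in
theorem psi_a11 : ∀ (h : H3) (A : SL23), ((mH h).mul (dA A)).a11 = 1 := by decide

set_option maxRecDepth 1000000 in
set_option synthInstance.maxSize 2000 in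
set_option synthInstance.maxHeartbeats 400000 in
set_option maxHeartbeats 40000000 in
theorem model_centralizer : ∀ (h : H3) (A : SL23), (∀ w : H3, h * natFun A w = w * h) →
    A = 1 ∧ h.u = 0 ∧ h.v = 0 := by decide

/-- Membership in the image, as a Boolean test on a matrix with first column `e₁`. -/
def inImg (x : M16) : Bool :=
  (x.a22 * x.a44 - x.a24 * x.a42 == 1) &&
  (x == (mHr x.a23 x.a43 (-x.a13)).mul (dAr x.a22 x.a24 x.a42 x.a44))

def stabChk : Bool :=
  all4 fun r1 r2 r3 r4 => imp (Bf 1 0 0 0 r1 r2 r3 r4 == 2) <|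
  all4 fun q1 q2 q3 q4 => imp (Bf 1 0 0 0 q1 q2 q3 q4 == 0 && Bf q1 q2 q3 q4 r1 r2 r3 r4 == 0) <|
  all4 fun s1 s2 s3 s4 => imp (Bf 1 0 0 0 s1 s2 s3 s4 == 0 && Bf r1 r2 r3 r4 s1 s2 s3 s4 == 0 &&
      Bf q1 q2 q3 q4 s1 s2 s3 s4 == 2) <|
    inImg (bld 1 0 0 0 q1 q2 q3 q4 r1 r2 r3 r4 s1 s2 s3 s4)

set_option maxRecDepth 1000000 in
theorem stabChk_true : stabChk = true := by decide +kernel

theorem z3_sq : ∀ x : ZMod 3, x * x = 1 → x = 1 ∨ x = -1 := by decide

end Cfsg.Agent.Lib.Helper19.C3P
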