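import Mathlib
import Cfsg.Agent.Lib.Helper19.C3PS
import Cfsg.Agent.S0246

set_option autoImplicit false
set_option linter.unusedSectionVars false
set_option linter.unusedVariables false

/-! The embedding of the model `3^{1+2} : SL₂(3)` in `Sp₄(3)` and in `PSp₄(3)`, with image the
centralizer of the image of the central element. -/

namespace Cfsg.Agent.Lib.Helper19.C3P

open Matrix
open Cfsg.Agent.Lib.Helper19.PSp43 (M16 Mat4 I4 i1 i2 i3 i4 Sp negOne mkSp sympK Bf bld all4 imp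
  toMat_mul toMat_one toMat_injective toMat_ofMat ofMat all4_spec imp_spec sympl_apply' toMat_cJ cJ
  PSpZ negOne_mem_center negOne_comm)

/-- The unipotent radical. -/
def fH : H3 →* Sp := MonoidHom.mk' (fun h => mkSp (mH h) (mH_symp h)) (by
  intro h h'
  apply Subtype.ext
  show (mH (h * h')).toMat = (mH h).toMat * (mH h').toMat
  rw [mH_mul, toMat_mul])

/-- The Levi complement. -/
def fA : SL23 →* Sp := MonoidHom.mk' (fun A => mkSp (dA A) (dA_symp A)) (by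
  intro A A'
  apply Subtype.ext
  show (dA (A * A')).toMat = (dA A).toMat * (dA A').toMat
  rw [dA_mul, toMat_mul])

theorem fH_val (h : H3) : (fH h).1 = (mH h).toMat := rfl
theorem fA_val (A : SL23) : (fA A).1 = (dA A).toMat := rfl

theorem fA_fH (A : SL23) (h : H3) : fA A * fH h = fH (natFun A h) * fA A := by
  apply Subtype.ext
  show (dA A).toMat * (mH h).toMat = (mH (natFun A h)).toMat * (dA A).toMat
  rw [← toMat_mul, ← toMat_mul, dA_mH]

/-- The embedding of the model in `Sp₄(3)`. -/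
def Psi : Model →* Sp := SemidirectProduct.lift fH fA (by
  intro A
  ext h : 1
  show fH (natFun A h) = fA A * fH h * (fA A)⁻¹
  rw [fA_fH, mul_inv_cancel_right])

theorem Psi_eq (m : Model) : Psi m = fH m.left * fA m.right := by
  conv_lhs => rw [← SemidirectProduct.inl_left_mul_inr_right m]
  rw [map_mul]
  unfold Psi
  rw [SemidirectProduct.lift_inl, SemidirectProduct.lift_inr]

theorem Psi_val (m : Model) : (Psi m).1 = ((mH m.left).mul (dA m.right)).toMat := by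
  rw [Psi_eq, toMat_mul]
  rfl

theorem Psi_injective : Function.Injective Psi := by
  rw [injective_iff_map_eq_one]
  intro m hm
  have h1 := congrArg Subtype.val hm
  rw [Psi_val] at h1
  have h2 : (mH m.left).mul (dA m.right) = M16.one := toMat_injective (h1.trans toMat_one.symm)
  obtain ⟨h3, h4⟩ := psi_inj _ _ h2
  exact SemidirectProduct.ext h3 h4

theorem Psi_a11 (m : Model) : (Psi m).1 i1 i1 = 1 := by
  rw [Psi_val]
  exact psi_a11 _ _

/-- The central element of order 3. -/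
def c0 : Sp := fH H3.Zc

theorem c0_eq : c0 = Psi (SemidirectProduct.inl H3.Zc) := by
  unfold Psi
  rw [SemidirectProduct.lift_inl]
  rfl

theorem c0_pow3 : c0 ^ 3 = 1 := by
  unfold c0
  rw [← map_pow, h3_pow3, map_one]

theorem Psi_comm_c0 (m : Model) : Psi m * c0 = c0 * Psi m := by
  apply Subtype.ext
  show (Psi m).1 * (mH H3.Zc).toMat = (mH H3.Zc).toMat * (Psi m).1
  rw [Psi_val, ← toMat_mul, ← toMat_mul, psi_comm]

theorem stab_spec (A : Mat4) (hA : Aᵀ * J (Fin 2) (ZMod 3) * A = J (Fin 2) (ZMod 3))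
    (h1 : A i1 i1 = 1) (h2 : A i2 i1 = 0) (h3 : A i3 i1 = 0) (h4 : A i4 i1 = 0) :
    inImg (ofMat A) = true := by
  have e : ∀ i j, Bf (A i1 i) (A i2 i) (A i3 i) (A i4 i) (A i1 j) (A i2 j) (A i3 j) (A i4 j) =
      cJ.toMat i j := by
    intro i j
    rw [toMat_cJ, ← sympl_apply', hA]
  have e13 : Bf (A i1 i1) (A i2 i1) (A i3 i1) (A i4 i1) (A i1 i3) (A i2 i3) (A i3 i3) (A i4 i3) = 2 :=
    e i1 i3
  have e12 : Bf (A i1 i1) (A i2 i1) (A i3 i1) (A i4 i1) (A i1 i2) (A i2 i2) (A i3 i2) (A i4 i2) = 0 :=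
    e i1 i2
  have e23 : Bf (A i1 i2) (A i2 i2) (A i3 i2) (A i4 i2) (A i1 i3) (A i2 i3) (A i3 i3) (A i4 i3) = 0 :=
    e i2 i3
  have e14 : Bf (A i1 i1) (A i2 i1) (A i3 i1) (A i4 i1) (A i1 i4) (A i2 i4) (A i3 i4) (A i4 i4) = 0 :=
    e i1 i4
  have e34 : Bf (A i1 i3) (A i2 i3) (A i3 i3) (A i4 i3) (A i1 i4) (A i2 i4) (A i3 i4) (A i4 i4) = 0 :=
    e i3 i4
  have e24 : Bf (A i1 i2) (A i2 i2) (A i3 i2) (A i4 i2) (A i1 i4) (A i2 i4) (A i3 i4) (A i4 i4) = 2 :=
    e i2 i4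
  rw [h1, h2, h3, h4] at e13 e12 e14
  have hrep := stabChk_true
  unfold stabChk at hrep
  have k1 := imp_spec (all4_spec hrep (A i1 i3) (A i2 i3) (A i3 i3) (A i4 i3))
    (beq_iff_eq.mpr e13)
  have k2 := imp_spec (all4_spec k1 (A i1 i2) (A i2 i2) (A i3 i2) (A i4 i2))
    (by rw [Bool.and_eq_true, beq_iff_eq, beq_iff_eq]; exact ⟨e12, e23⟩)
  have k3 := imp_spec (all4_spec k2 (A i1 i4) (A i2 i4) (A i3 i4) (A i4 i4))
    (by rw [Bool.and_eq_true, Bool.and_eq_true, beq_iff_eq, beq_iff_eq, beq_iff_eq]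
        exact ⟨⟨e14, e34⟩, e24⟩)
  have hb : ofMat A = bld 1 0 0 0 (A i1 i2) (A i2 i2) (A i3 i2) (A i4 i2)
      (A i1 i3) (A i2 i3) (A i3 i3) (A i4 i3) (A i1 i4) (A i2 i4) (A i3 i4) (A i4 i4) := by
    unfold ofMat bld
    rw [h1, h2, h3, h4]
  rw [hb]
  exact k3

/-- Every symplectic matrix fixing the first basis vector is in the image. -/
theorem range_Psi (g : Sp) (h1 : g.1 i1 i1 = 1) (h2 : g.1 i2 i1 = 0) (h3 : g.1 i3 i1 = 0)
    (h4 : g.1 i4 i1 = 0) : ∃ m : Model, Psi m = g := by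
  have hA : g.1ᵀ * J (Fin 2) (ZMod 3) * g.1 = J (Fin 2) (ZMod 3) := SymplecticGroup.mem_iff'.mp g.2
  have hx := stab_spec g.1 hA h1 h2 h3 h4
  generalize hxe : ofMat g.1 = x at hx
  unfold inImg at hx
  rw [Bool.and_eq_true, beq_iff_eq, beq_iff_eq] at hx
  obtain ⟨hdet, heq⟩ := hx
  let A : SL23 := ⟨!![x.a22, x.a24; x.a42, x.a44], by rw [Matrix.det_fin_two_of]; exact hdet⟩
  refine ⟨⟨⟨x.a23, x.a43, -x.a13⟩, A⟩, ?_⟩
  apply Subtype.ext
  rw [Psi_val]
  have h5 : (mH (⟨x.a23, x.a43, -x.a13⟩ : H3)).mul (dA A) =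
      (mHr x.a23 x.a43 (-x.a13)).mul (dAr x.a22 x.a24 x.a42 x.a44) := rfl
  have : (mH (⟨x.a23, x.a43, -x.a13⟩ : H3)).mul (dA A) = x := h5.trans heq.symm
  rw [this, ← hxe, toMat_ofMat]

theorem negOne_mul_val (g : Sp) (i j : I4) : (negOne * g).1 i j = - g.1 i j := by
  show ((-1 : Mat4) * g.1) i j = _
  rw [neg_mul, one_mul]
  rfl

/-- The centralizer of `c0` in `Sp₄(3)`. -/
theorem comm_c0 (g : Sp) (h : g * c0 = c0 * g) : ∃ m : Model, Psi m = g ∨ Psi m = negOne * g := by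
  have h0 := congrArg Subtype.val h
  have h1 : (ofMat g.1).mul (mH H3.Zc) = (mH H3.Zc).mul (ofMat g.1) := by
    apply toMat_injective
    rw [toMat_mul, toMat_mul, toMat_ofMat]
    exact h0
  have e13 := congrArg M16.a13 h1
  have e23 := congrArg M16.a23 h1
  have e33 := congrArg M16.a33 h1
  have e43 := congrArg M16.a43 h1
  simp [M16.mul, mH, mHr, H3.Zc, ofMat] at e13 e23 e33 e43
  have hA : g.1ᵀ * J (Fin 2) (ZMod 3) * g.1 = J (Fin 2) (ZMod 3) := SymplecticGroup.mem_iff'.mp g.2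
  have f13 : Bf (g.1 i1 i1) (g.1 i2 i1) (g.1 i3 i1) (g.1 i4 i1)
      (g.1 i1 i3) (g.1 i2 i3) (g.1 i3 i3) (g.1 i4 i3) = 2 := by
    have := sympl_apply' g.1 i1 i3
    rw [hA] at this
    rw [← this, ← toMat_cJ]; rfl
  rw [e23, e33, e43] at f13
  have h11 : g.1 i1 i1 * g.1 i1 i1 = 1 := by
    have e : g.1 i3 i3 = g.1 i1 i1 := by linear_combination e13
    unfold Bf at f13
    rw [e] at f13
    have three : (3 : ZMod 3) = 0 := by decide
    linear_combination (-1 : ZMod 3) * f13 - three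
  rcases z3_sq _ h11 with h | h
  · obtain ⟨m, hm⟩ := range_Psi g h e23 e33 e43
    exact ⟨m, Or.inl hm⟩
  · obtain ⟨m, hm⟩ := range_Psi (negOne * g) (by rw [negOne_mul_val, h, neg_neg])
      (by rw [negOne_mul_val, e23, neg_zero]) (by rw [negOne_mul_val, e33, neg_zero])
      (by rw [negOne_mul_val, e43, neg_zero])
    exact ⟨m, Or.inr hm⟩

end Cfsg.Agent.Lib.Helper19.C3P
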