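import Mathlib
import Cfsg.Agent.Lib.Helper19.C3PT

set_option autoImplicit false
set_option linter.unusedSectionVars false
set_option linter.unusedVariables false
set_option linter.style.haveILetI false

/-! The model `3^{1+2} : SL₂(3)` as the centralizer of a 3-central element of `PSp₄(3)`. -/

namespace Cfsg.Agent.Lib.Helper19.C3P

open Matrix
open Cfsg.Agent.Lib.Helper19.PSp43 (Mat4 I4 i1 Sp negOne PSpZ negOne_mem_center negOne_comm)

theorem center_cases (g : Sp) (hg : g ∈ Subgroup.center Sp) : g = 1 ∨ g = negOne := by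
  rcases Cfsg.Agent.S0246.center_cases (F := ZMod 3) (m := 2) (by norm_num) g hg with h | h
  · left; exact h
  · right; rw [h]; rfl

theorem negOne_a11 : negOne.1 i1 i1 ≠ 1 := by
  show (-1 : Mat4) i1 i1 ≠ 1
  rw [Matrix.neg_apply, Matrix.one_apply_eq]
  decide

theorem negOne_ne_one : negOne ≠ 1 := by
  intro h
  apply negOne_a11
  rw [h]
  exact Matrix.one_apply_eq i1

theorem negOne_mul_self : negOne * negOne = 1 := by
  apply Subtype.ext
  show (-1 : Mat4) * (-1) = 1
  rw [neg_mul_neg, one_mul]

theorem negOne_pow3 : negOne ^ 3 = negOne := by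
  rw [pow_succ, pow_two, negOne_mul_self, one_mul]

/-- The embedding of the model in `PSp₄(3)`. -/
def PsiBar : Model →* PSpZ := (QuotientGroup.mk' (Subgroup.center Sp)).comp Psi

theorem PsiBar_apply (m : Model) : PsiBar m = QuotientGroup.mk (Psi m) := rfl

theorem PsiBar_injective : Function.Injective PsiBar := by
  rw [injective_iff_map_eq_one]
  intro m hm
  have h1 : Psi m ∈ Subgroup.center Sp := (QuotientGroup.eq_one_iff _).mp hm
  rcases center_cases _ h1 with h | h
  · exact Psi_injective (h.trans (map_one Psi).symm)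
  · exfalso
    have := Psi_a11 m
    rw [h] at this
    exact negOne_a11 this

theorem PsiBar_centralizer (x : PSpZ)
    (hx : x * PsiBar (SemidirectProduct.inl H3.Zc) = PsiBar (SemidirectProduct.inl H3.Zc) * x) :
    ∃ m, PsiBar m = x := by
  obtain ⟨g, rfl⟩ := QuotientGroup.mk_surjective x
  have hc : PsiBar (SemidirectProduct.inl H3.Zc) = QuotientGroup.mk c0 := by
    rw [PsiBar_apply, ← c0_eq]
  rw [hc, ← QuotientGroup.mk_mul, ← QuotientGroup.mk_mul, QuotientGroup.eq] at hx
  rcases center_cases _ hx with h | h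
  · have hcomm : g * c0 = c0 * g := inv_mul_eq_one.mp h
    obtain ⟨m, hm | hm⟩ := comm_c0 g hcomm
    · exact ⟨m, by rw [PsiBar_apply, hm]⟩
    · refine ⟨m, ?_⟩
      rw [PsiBar_apply, hm, QuotientGroup.mk_mul, (QuotientGroup.eq_one_iff negOne).mpr
        negOne_mem_center, one_mul]
  · exfalso
    have h1 : c0 * g = g * c0 * negOne := by rw [← h]; group
    have h2 : g⁻¹ * c0 * (g⁻¹)⁻¹ = c0 * negOne := by
      rw [inv_inv, mul_assoc, h1]; group
    have h3 : (g⁻¹ * c0 * (g⁻¹)⁻¹) ^ 3 = 1 := by
      rw [conj_pow, c0_pow3, mul_one, mul_inv_cancel]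
    have hcm : Commute c0 negOne := negOne_comm c0
    rw [h2, hcm.mul_pow, c0_pow3, one_mul, negOne_pow3] at h3
    exact negOne_ne_one h3

theorem inl_Zc_central (m : Model) :
    m * SemidirectProduct.inl H3.Zc = SemidirectProduct.inl H3.Zc * m := by
  apply SemidirectProduct.ext
  · simp only [SemidirectProduct.mul_left, SemidirectProduct.left_inl, SemidirectProduct.right_inl,
      map_one, MulAut.one_apply, natHom_apply]
    have : natFun m.right H3.Zc = H3.Zc := by
      ext <;> simp [natFun, H3.Zc]
    rw [this, h3_zc_comm]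
  · simp only [SemidirectProduct.mul_right, SemidirectProduct.right_inl, mul_one, one_mul]

theorem h3_center_cases : ∀ h : H3, h.u = 0 → h.v = 0 → h = 1 ∨ h = H3.Zc ∨ h = H3.Zc⁻¹ := by decide

theorem Zc_ne_one : H3.Zc ≠ 1 := by decide

/-- The final assembly, for an abstract embedding of the model as a centralizer. -/
theorem exists_central_of_embedding {P : Type*} [Group P] [Finite P] (θ : Model →* P)
    (hinj : Function.Injective θ)
    (hcent : ∀ x : P, x * θ (SemidirectProduct.inl H3.Zc) = θ (SemidirectProduct.inl H3.Zc) * x →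
      ∃ m, θ m = x) :
    ∃ (c : P) (S : Sylow 3 P), orderOf c = 3 ∧ c ∈ (S : Subgroup P) ∧
      c ∈ Subgroup.centralizer ((S : Subgroup P) : Set P) ∧
      Nonempty (Model ≃* Subgroup.centralizer ({c} : Set P)) := by
  haveI : Fact (Nat.Prime 3) := ⟨Nat.prime_three⟩
  set c := θ (SemidirectProduct.inl H3.Zc) with hc
  have hc1 : c ≠ 1 := by
    intro h
    have := hinj (h.trans (map_one θ).symm)
    exact Zc_ne_one (SemidirectProduct.inl_injective (this.trans (map_one _).symm))
  have hc3 : c ^ 3 = 1 := by
    rw [hc, ← map_pow, ← map_pow, h3_pow3, map_one, map_one]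
  have ho : orderOf c = 3 := orderOf_eq_prime hc3 hc1
  let ι : H3 →* P := θ.comp SemidirectProduct.inl
  have hιinj : Function.Injective ι := hinj.comp SemidirectProduct.inl_injective
  have hT : IsPGroup 3 ↥ι.range := by
    apply IsPGroup.of_card (n := 3)
    rw [← Nat.card_congr (MonoidHom.ofInjective hιinj).toEquiv, H3.card_eq]
    norm_num
  obtain ⟨S, hS⟩ := hT.exists_le_sylow
  have hcS : c ∈ (S : Subgroup P) := hS ⟨H3.Zc, rfl⟩
  have hcomm_all : ∀ m : Model, θ m * c = c * θ m := by
    intro m
    rw [hc, ← map_mul, ← map_mul, inl_Zc_central]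
  refine ⟨c, S, ho, hcS, ?_, ?_⟩
  · haveI : Nontrivial ↥(S : Subgroup P) := ⟨⟨⟨c, hcS⟩, 1, fun h => hc1 (congrArg Subtype.val h)⟩⟩
    haveI := IsPGroup.center_nontrivial S.isPGroup'
    obtain ⟨z, hz⟩ := exists_ne (1 : ↥(Subgroup.center ↥(S : Subgroup P)))
    have hzc : ∀ s : P, s ∈ (S : Subgroup P) → s * (z : ↥(S : Subgroup P)) = (z : ↥(S : Subgroup P)) * s := by
      intro s hs
      have := Subgroup.mem_center_iff.mp z.2 ⟨s, hs⟩
      exact congrArg Subtype.val this
    have hz1 : ((z : ↥(S : Subgroup P)) : P) ≠ 1 := by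
      intro h
      apply hz
      exact Subtype.ext (Subtype.ext h)
    generalize ((z : ↥(S : Subgroup P)) : P) = z' at hzc hz1
    obtain ⟨m, hm⟩ := hcent z' (hzc c hcS).symm
    have hmw : ∀ w : H3, m * SemidirectProduct.inl w = SemidirectProduct.inl w * m := by
      intro w
      apply hinj
      rw [map_mul, map_mul, hm]
      exact (hzc _ (hS ⟨w, rfl⟩)).symm
    have hmc := model_centralizer m.left m.right (by
      intro w
      have := congrArg SemidirectProduct.left (hmw w)
      simpa only [SemidirectProduct.mul_left, SemidirectProduct.left_inl,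
        SemidirectProduct.right_inl, map_one, MulAut.one_apply, natHom_apply] using this)
    have hm' : m = SemidirectProduct.inl m.left :=
      SemidirectProduct.ext rfl (by rw [hmc.1, SemidirectProduct.right_inl])
    rw [Subgroup.mem_centralizer_iff]
    intro s hs
    rcases h3_center_cases m.left hmc.2.1 hmc.2.2 with h | h | h
    · exfalso
      apply hz1
      rw [← hm, hm', h]
      simp
    · have : c = z' := by rw [← hm, hm', h]
      rw [this]
      exact hzc s hs
    · have : c = z'⁻¹ := by rw [← hm, hm', h, map_inv, map_inv, inv_inv]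
      rw [this]
      have h1 := hzc s hs
      calc s * z'⁻¹ = z'⁻¹ * (z' * s) * z'⁻¹ := by group
        _ = z'⁻¹ * (s * z') * z'⁻¹ := by rw [h1]
        _ = z'⁻¹ * s := by group
  · have hmem : ∀ m, θ m ∈ Subgroup.centralizer ({c} : Set P) := by
      intro m
      rw [Subgroup.mem_centralizer_iff]
      intro y hy
      rw [Set.mem_singleton_iff.mp hy]
      exact (hcomm_all m).symm
    let f : Model →* ↥(Subgroup.centralizer ({c} : Set P)) := θ.codRestrict _ hmem
    have hf : Function.Bijective f := by
      constructor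
      · intro a b hab
        exact hinj (congrArg Subtype.val hab)
      · intro x
        have hx : (x : P) * c = c * x :=
          ((Subgroup.mem_centralizer_iff.mp x.2) c (Set.mem_singleton c)).symm
        obtain ⟨m, hm⟩ := hcent x hx
        exact ⟨m, Subtype.ext hm⟩
    exact ⟨MulEquiv.ofBijective f hf⟩

end Cfsg.Agent.Lib.Helper19.C3P
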