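import Mathlib
import Cfsg.Prelude.Def_Classical
import Cfsg.Agent.Lib.Helper19.C3PU

set_option autoImplicit false
set_option linter.unusedSectionVars false
set_option linter.unusedVariables false

/-! Transfer from a field with three elements to `ZMod 3`, and the final form of the `PSp₄(3)` side. -/

namespace Cfsg.Agent.Lib.Helper19.C3P

open Matrix
open Cfsg.Agent.Lib.Helper19.PSp43 (Sp PSpZ)

noncomputable def spEquivRing {F : Type*} [Field F] (e : F ≃+* ZMod 3) :
    Matrix.symplecticGroup (Fin 2) F ≃* Matrix.symplecticGroup (Fin 2) (ZMod 3) where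
  toFun A := ⟨A.1.map e, SymplecticGroup.map_mem A.2 e⟩
  invFun B := ⟨B.1.map e.symm, SymplecticGroup.map_mem B.2 e.symm⟩
  left_inv A := by
    apply Subtype.ext
    ext i j
    simp
  right_inv B := by
    apply Subtype.ext
    ext i j
    simp
  map_mul' A B := by
    apply Subtype.ext
    exact Matrix.map_mul

theorem map_center_mulEquiv {G H : Type*} [Group G] [Group H] (e : G ≃* H) :
    (Subgroup.center G).map e.toMonoidHom = Subgroup.center H := by
  ext y
  rw [Subgroup.mem_map, Subgroup.mem_center_iff]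
  constructor
  · rintro ⟨x, hx, rfl⟩ h
    rw [Subgroup.mem_center_iff] at hx
    have := congrArg e (hx (e.symm h))
    rw [map_mul, map_mul, MulEquiv.apply_symm_apply] at this
    exact this
  · intro hy
    refine ⟨e.symm y, ?_, MulEquiv.apply_symm_apply e y⟩
    rw [Subgroup.mem_center_iff]
    intro g
    apply e.injective
    rw [map_mul, map_mul, MulEquiv.apply_symm_apply]
    exact hy (e g)

/-- The `PSp₄(3)` side of the statement. -/
theorem psp_side (F : Type*) [Field F] [Fintype F] (hF : Fintype.card F = 3) :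
    ∃ (c : Cfsg.PSp 2 F) (S : Sylow 3 (Cfsg.PSp 2 F)), orderOf c = 3 ∧
      c ∈ (S : Subgroup (Cfsg.PSp 2 F)) ∧
      c ∈ Subgroup.centralizer ((S : Subgroup (Cfsg.PSp 2 F)) : Set (Cfsg.PSp 2 F)) ∧
      Nonempty (Model ≃* Subgroup.centralizer ({c} : Set (Cfsg.PSp 2 F))) := by
  have p3 : Nat.Prime 3 := by norm_num
  let e : F ≃+* ZMod 3 := (ZMod.ringEquivOfPrime F p3 hF).symm
  let E := spEquivRing e
  let Q : Cfsg.PSp 2 F ≃* PSpZ := QuotientGroup.congr _ _ E (map_center_mulEquiv E)
  haveI : Finite (Cfsg.PSp 2 F) := Finite.of_equiv PSpZ Q.symm.toEquiv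
  apply exists_central_of_embedding (Q.symm.toMonoidHom.comp PsiBar)
  · exact Q.symm.injective.comp PsiBar_injective
  · intro x hx
    have hx' : Q x * PsiBar (SemidirectProduct.inl H3.Zc) =
        PsiBar (SemidirectProduct.inl H3.Zc) * Q x := by
      have := congrArg Q hx
      simpa only [map_mul, MonoidHom.comp_apply, MulEquiv.coe_toMonoidHom,
        MulEquiv.apply_symm_apply] using this
    obtain ⟨m, hm⟩ := PsiBar_centralizer (Q x) hx'
    refine ⟨m, ?_⟩
    show Q.symm (PsiBar m) = x
    rw [hm, MulEquiv.symm_apply_apply]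

end Cfsg.Agent.Lib.Helper19.C3P
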