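import Mathlib
import Cfsg.Agent.Lib.helper3.C6U.Defs
import Cfsg.Agent.Lib.Helper5.C6PG0
import Cfsg.Agent.Lib.helper15.C6UW1
import Cfsg.Agent.Lib.helper15.C6UE0
import Cfsg.Agent.Lib.Helper9.C6UA4
import Cfsg.Agent.Lib.Helper20.C6UA1
import Cfsg.Agent.Lib.Helper1.C6UE3

set_option autoImplicit false
set_option linter.unusedVariables false
set_option linter.unusedSectionVars false
set_option linter.unnecessarySeqFocus false

/-!
# Project C6U (S6001, designer helper3), row E4 (`suff_three_u`), second copy by helper19 as a CORE: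
the statement of W3 (`wit_three_u`) enters as a hypothesis; A2 A4 A5 E0 E3 W5 are cited from main.
Reusable: `c6ue4h19_gram_smul`, `c6ue4h19_gram_one`, `c6ue4h19_scal` (`x ∈ SU`, `x ^ r = z`: `z ^ 4 = 1`, `z ^ (p+1) = 1`),
`c6ue4h19_transport` (transport of a witness with its order and `det (y - 1)`), `c6ue4h19_cent` (the centralising diagonal matrix).
-/

namespace Cfsg.Agent.Lib.helper3.C6U

open Polynomial Matrix
open Cfsg.Agent.Lib.Helper10.C6P
open scoped MatrixGroups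

variable {F : Type*} [Field F]

section fin

variable [Fintype F] {p : ℕ} [Fact p.Prime] [CharP F p]

/-- the Gram matrix of a scalar multiple -/
theorem c6ue4h19_gram_smul (c : F) (A : M4 F) : gram p (c • A) = c ^ (p + 1) • gram p A := by
  unfold gram
  have h1 : (c • A).map (fun a => a ^ p) = c ^ p • A.map (fun a => a ^ p) := by
    ext j k
    simp [mul_pow]
  rw [Matrix.transpose_smul, h1, Matrix.smul_mul, Matrix.mul_smul, smul_smul, pow_succ']

theorem c6ue4h19_gram_one : gram p (1 : M4 F) = 1 := by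
  have hpp : p.Prime := Fact.out
  unfold gram
  rw [Matrix.transpose_one, Matrix.one_mul]
  ext j k
  by_cases h : j = k
  · subst h; simp
  · simp [Matrix.one_apply_ne h, hpp.ne_zero]

/-- the scalar `z` of `x ^ r = z`, `x ∈ SU_4`: `z ^ 4 = 1` and `z` has norm one -/
theorem c6ue4h19_scal (x : GL (Fin 4) F) (hx : x ∈ Cfsg.GU 4 F p ⊓ Cfsg.Geo.specialLinear (Fin 4) F) (r : ℕ) (z : F)
    (hz : ((x ^ r : GL (Fin 4) F) : M4 F) = z • (1 : M4 F)) : z ^ 4 = 1 ∧ z ^ (p + 1) = 1 := by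
  have hx' := Subgroup.mem_inf.mp hx
  constructor
  · have hdet : (x : M4 F).det = 1 := c6pg_det_of_mem x hx'.2
    have h1 : ((x ^ r : GL (Fin 4) F) : M4 F).det = 1 := by
      rw [Units.val_pow_eq_pow_val, Matrix.det_pow, hdet, one_pow]
    rw [hz, Matrix.det_smul, Matrix.det_one, mul_one] at h1
    simpa using h1
  · have hU : IsU p ((x ^ r : GL (Fin 4) F) : M4 F) :=
      c6uw1_isU_of_mem (x ^ r) (Subgroup.pow_mem _ hx'.1 r)
    unfold IsU at hU
    rw [hz, c6ue4h19_gram_smul, c6ue4h19_gram_one] at hU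
    have := congrFun (congrFun hU 0) 0
    simpa using this

/-- transport of a witness along the conjugation `P`, keeping its order and `det (y - 1)` -/
theorem c6ue4h19_transport (hF : Fintype.card F = p ^ 2) (R : Subgroup (GL (Fin 4) F)) (P : GL (Fin 4) F)
    (hP : P ∈ Cfsg.GU 4 F p) (y0 : M4 F) (h : NrmU p (R.map (MulAut.conj P).toMonoidHom) y0) (n : ℕ) (hy0 : y0 ^ n = 1)
    (hne : y0 ≠ 1) :
    ∃ y : M4 F, NrmU p R y ∧ y ^ n = 1 ∧ y ≠ 1 ∧ (y - 1).det = (y0 - 1).det := by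
  refine ⟨((P⁻¹ : GL (Fin 4) F) : M4 F) * y0 * (P : M4 F), nrmu_transport hF R P hP y0 h, ?_, ?_, ?_⟩
  · have h1 := Units.conj_pow (P⁻¹) y0 n
    rw [inv_inv] at h1
    rw [h1, hy0, Matrix.mul_one, c6pg_inv_mul]
  · intro h1
    apply hne
    have h2 : y0 = (P : M4 F) * (((P⁻¹ : GL (Fin 4) F) : M4 F) * y0 * (P : M4 F)) * ((P⁻¹ : GL (Fin 4) F) : M4 F) := by
      rw [Matrix.mul_assoc, Matrix.mul_assoc, c6pg_mul_inv, Matrix.mul_one, ← Matrix.mul_assoc, c6pg_mul_inv,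
        Matrix.one_mul]
    rw [h2, h1, Matrix.mul_one, c6pg_mul_inv]
  · have e : ((P⁻¹ : GL (Fin 4) F) : M4 F) * y0 * (P : M4 F) - 1 =
        ((P⁻¹ : GL (Fin 4) F) : M4 F) * (y0 - 1) * (P : M4 F) := by
      rw [Matrix.mul_sub, Matrix.sub_mul, Matrix.mul_one, c6pg_inv_mul]
    rw [e]
    exact Matrix.det_units_conj' P (y0 - 1)

/-- the centralising matrix `diag(t, (t^p)⁻¹, 1, 1)` with `t / t^p = δ` -/
theorem c6ue4h19_cent (hF : Fintype.card F = p ^ 2) (ω : F) (a : ℕ) (ha : a = 1 ∨ a = 2) (δ : F) (hδ : δ ^ (p + 1) = 1) :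
    ∃ C : GL (Fin 4) F,
      (C : M4 F).transpose * G3 F a * (C : M4 F).map (fun a => a ^ p) = G3 F a ∧
      (C : M4 F) * D3 ω a = D3 ω a * (C : M4 F) ∧ (C : M4 F).det = δ := by
  have hpp : p.Prime := Fact.out
  have hδ0 : δ ≠ 0 := by
    rintro rfl
    rw [zero_pow (by omega)] at hδ
    exact zero_ne_one hδ
  obtain ⟨ν, hν0, hν⟩ := h90 hF δ⁻¹ (by rw [inv_pow, hδ, inv_one])
  have hνp0 : ν ^ p ≠ 0 := pow_ne_zero _ hν0
  have hfrob : (ν ^ p) ^ p = ν := (frob_p hF).2 ν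
  have hsp : ((ν ^ p)⁻¹) ^ p = ν⁻¹ := by rw [inv_pow, hfrob]
  have hdetne : (Matrix.diagonal ![ν, (ν ^ p)⁻¹, 1, 1] : M4 F).det ≠ 0 := by
    rw [Matrix.det_diagonal, Fin.prod_univ_four]
    simp [hν0]
  refine ⟨Matrix.GeneralLinearGroup.mkOfDetNeZero (Matrix.diagonal ![ν, (ν ^ p)⁻¹, 1, 1]) hdetne, ?_, ?_, ?_⟩
  · show (Matrix.diagonal ![ν, (ν ^ p)⁻¹, 1, 1] : M4 F).transpose * G3 F a *
        (Matrix.diagonal ![ν, (ν ^ p)⁻¹, 1, 1] : M4 F).map (fun a => a ^ p) = G3 F a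
    have hmap : (Matrix.diagonal ![ν, (ν ^ p)⁻¹, 1, 1] : M4 F).map (fun a => a ^ p) =
        Matrix.diagonal ![ν ^ p, ν⁻¹, 1, 1] := by
      rw [Matrix.diagonal_map (f := fun a : F => a ^ p) (zero_pow hpp.ne_zero)]
      congr 1
      funext k
      fin_cases k <;> simp [hsp]
    rw [hmap, Matrix.diagonal_transpose]
    rcases ha with rfl | rfl
    · rw [c6ue3_G3_one]
      ext j k
      rw [Matrix.mul_diagonal, Matrix.diagonal_mul]
      fin_cases j <;> fin_cases k <;> simp [hν0, hνp0]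
    · rw [c6ue3_G3_two]
      ext j k
      rw [Matrix.mul_diagonal, Matrix.diagonal_mul]
      fin_cases j <;> fin_cases k <;> simp [hν0, hνp0]
  · show (Matrix.diagonal ![ν, (ν ^ p)⁻¹, 1, 1] : M4 F) * D3 ω a = D3 ω a * Matrix.diagonal ![ν, (ν ^ p)⁻¹, 1, 1]
    rcases ha with rfl | rfl
    · rw [c6ue3_D3_one, Matrix.diagonal_mul_diagonal, Matrix.diagonal_mul_diagonal]
      congr 1
      funext k
      exact mul_comm _ _
    · rw [c6ue3_D3_two, Matrix.diagonal_mul_diagonal, Matrix.diagonal_mul_diagonal]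
      congr 1
      funext k
      exact mul_comm _ _
  · show (Matrix.diagonal ![ν, (ν ^ p)⁻¹, 1, 1] : M4 F).det = δ
    rw [Matrix.det_diagonal, Fin.prod_univ_four]
    simp only [Matrix.cons_val_zero, Matrix.cons_val_one, Matrix.cons_val_two, Matrix.cons_val_three,
      Matrix.head_cons, Matrix.tail_cons, mul_one]
    rw [hν]
    field_simp

/-- E4 core: `hW3` is the statement of W3 (`wit_three_u`). -/
theorem c6ue4_h19_core (hF : Fintype.card F = p ^ 2) (hp4 : p % 4 = 3) (hp3 : p % 3 = 1) {i : F} {R : Subgroup (GL (Fin 4) F)}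
    (hctx : RCtx i R) (hstd : HasStdU p i R)
    (hW3 : ∀ R' : Subgroup (GL (Fin 4) F), IsStd i R' → (2 : F) ≠ 0 → (3 : F) ≠ 0 → i ^ p = -i →
      (∃ y : M4 F, NrmU p R' y ∧ y ^ 3 = 1 ∧ y ≠ 1 ∧ (y - 1).det ≠ 0) ∧
      (∃ y : M4 F, NrmU p R' y ∧ y ^ 3 = 1 ∧ y ≠ 1 ∧ (y - 1).det = 0)) : AllFixU p R 3 := by
  have hpp : p.Prime := Fact.out
  intro x hx ⟨z, hz⟩ hns
  have hx' := Subgroup.mem_inf.mp hx
  obtain ⟨hz4, hzn⟩ := c6ue4h19_scal x hx 3 z hz
  have hz0 : z ≠ 0 := by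
    rintro rfl
    rw [zero_pow (by norm_num)] at hz4
    exact zero_ne_one hz4
  -- `w = z ^ 3`
  obtain ⟨w, hwdef⟩ : ∃ w : F, w = z ^ 3 := ⟨_, rfl⟩
  have hw3 : w ^ 3 = z := by
    rw [hwdef]
    have : (z ^ 3) ^ 3 = (z ^ 4) ^ 2 * z := by ring
    rw [this, hz4, one_pow, one_mul]
  have hwn : w ^ (p + 1) = 1 := by
    rw [hwdef, ← pow_mul, mul_comm, pow_mul, hzn, one_pow]
  have hw0 : w ≠ 0 := by rw [hwdef]; exact pow_ne_zero _ hz0
  have hxU : IsU p (x : M4 F) := c6uw1_isU_of_mem x hx'.1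
  have hU : IsU p (w⁻¹ • (x : M4 F)) := by
    unfold IsU
    rw [c6ue4h19_gram_smul, inv_pow, hwn, inv_one, one_smul]
    exact hxU
  have hx3 : (x : M4 F) ^ 3 = z • (1 : M4 F) := by rw [← Units.val_pow_eq_pow_val]; exact hz
  have hu3 : (w⁻¹ • (x : M4 F)) ^ 3 = 1 := by
    rw [_root_.smul_pow, hx3, smul_smul, inv_pow, hw3, inv_mul_cancel₀ hz0, one_smul]
  have hne : w⁻¹ • (x : M4 F) ≠ 1 := by
    intro h1
    apply hns w
    have : (x : M4 F) = w • (w⁻¹ • (x : M4 F)) := by rw [smul_smul, mul_inv_cancel₀ hw0, one_smul]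
    rw [this, h1]
  have h3 : (3 : F) ≠ 0 := by
    intro h0
    have h1 : ((3 : ℕ) : F) = 0 := by exact_mod_cast h0
    have h2 := (CharP.cast_eq_zero_iff F p 3).mp h1
    have h4 := (Nat.prime_dvd_prime_iff_eq hpp Nat.prime_three).mp h2
    omega
  obtain ⟨ω, hω, hωp⟩ := exists_omega hF hp3
  obtain ⟨a, Bu, ha, hadet, hBu, hDu⟩ := nf_three hF h3 ω hω hωp (w⁻¹ • (x : M4 F)) hU hu3 hne
  obtain ⟨P, hP, hstdP⟩ := hstd
  have hip : i ^ p = -i := i_frob hp4 i hctx.hi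
  obtain ⟨⟨y1, hy1N, hy13, hy1ne, hy1d⟩, ⟨y2, hy2N, hy23, hy2ne, hy2d⟩⟩ := hW3 _ hstdP hctx.two h3 hip
  -- the witness with the same `a`
  obtain ⟨y, hyN, hy3, hyne, hydet⟩ : ∃ y : M4 F, NrmU p R y ∧ y ^ 3 = 1 ∧ y ≠ 1 ∧ (a = 2 ↔ (y - 1).det ≠ 0) := by
    by_cases ha2 : a = 2
    · obtain ⟨y, h1, h2, h3', h4⟩ := c6ue4h19_transport hF R P hP y1 hy1N 3 hy13 hy1ne
      exact ⟨y, h1, h2, h3', ⟨fun _ => by rw [h4]; exact hy1d, fun _ => ha2⟩⟩
    · obtain ⟨y, h1, h2, h3', h4⟩ := c6ue4h19_transport hF R P hP y2 hy2N 3 hy23 hy2ne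
      exact ⟨y, h1, h2, h3', ⟨fun h => absurd h ha2, fun h => absurd (by rw [h4]; exact hy2d) h⟩⟩
  obtain ⟨a', By, ha', ha'det, hBy, hDy⟩ := nf_three hF h3 ω hω hωp y hyN.2 hy3 hyne
  have haa : a' = a := by
    by_cases ha2 : a = 2
    · rw [ha2]; exact ha'det.mpr (hydet.mp ha2)
    · have h1 : a' ≠ 2 := fun h => ha2 (hydet.mpr (ha'det.mp h))
      rcases ha with h | h
      · rcases ha' with h' | h'
        · rw [h, h']
        · exact absurd h' h1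
      · exact absurd h ha2
  rw [haa] at hBy hDy
  exact uconj hF R x hx w hwn y hyN.1 (G3 F a) (D3 ω a) Bu By hBu hBy hDu hDy
    (fun δ hδ => c6ue4h19_cent hF ω a ha δ hδ)

end fin

end Cfsg.Agent.Lib.helper3.C6U
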