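import Mathlib
import Cfsg.Agent.Lib.helper3.C6U.Defs
import Cfsg.Agent.Lib.Helper5.C6PG0
import Cfsg.Agent.Lib.Helper5.C6PG3
import Cfsg.Agent.Lib.Helper10.C6PNTF
import Cfsg.Agent.Lib.helper6.C6PNFIX
import Cfsg.Agent.Lib.helper6.C6PNCEN
import Cfsg.Agent.Lib.Lead.Unitary

set_option autoImplicit false
set_option linter.unusedVariables false
set_option linter.unusedSectionVars false
set_option linter.unnecessarySeqFocus false

/-!
# Project C6U (S6001, designer helper3), row G2 (helper19): `p ≡ 2 (mod 3)`: the unitary `x = diag(ω,ω,ω,1)` is not conjugate into `N(R)`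
(port of Helper5.C6PG3: trace formula `28 ∈ {4,16,64}`).  Also the common reduction `c6ug2_not_allfix` of the unitary necessity rows and
`c6ug2_mem_gu` (a matrix with `gram = 1` lies in `GU`).
-/

namespace Cfsg.Agent.Lib.helper3.C6U

open Polynomial Matrix
open Cfsg.Agent.Lib.Helper10.C6P
open scoped MatrixGroups

variable {F : Type*} [Field F]

/-- the common reduction of the unitary necessity rows (cf. Helper5 `c6pg_not_allfix`) -/
theorem c6ug2_not_allfix (p : ℕ) (R : Subgroup (GL (Fin 4) F)) (r : ℕ) (x : GL (Fin 4) F)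
    (hxU : x ∈ Cfsg.GU 4 F p) (hx : x ∈ Cfsg.Geo.specialLinear (Fin 4) F) (hxr : x ^ r = 1)
    (hns : ∀ c : F, (x : M4 F) ≠ c • (1 : M4 F))
    (hno : ∀ y : GL (Fin 4) F, y ∈ Cfsg.Geo.subgroupNormalizer R → y ^ r = 1 →
      (∀ c : F, (y : M4 F) ≠ c • (1 : M4 F)) →
      Matrix.trace (y : M4 F) = Matrix.trace (x : M4 F) →
      Matrix.trace ((y⁻¹ : GL (Fin 4) F) : M4 F) = Matrix.trace ((x⁻¹ : GL (Fin 4) F) : M4 F) →
      (∀ c : F, ((y : M4 F) - c • (1 : M4 F)).rank = ((x : M4 F) - c • (1 : M4 F)).rank) → False) :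
    ¬ AllFixU p R r := by
  intro hall
  obtain ⟨g, -, hgN⟩ := hall x (Subgroup.mem_inf.mpr ⟨hxU, hx⟩) ⟨1, by rw [hxr, one_smul]; rfl⟩ hns
  refine hno (g⁻¹ * x * g) hgN ?_ ?_ (c6pg_trace_conj g x) ?_ (c6pg_rank_conj g x)
  · rw [c6pg_pow_conj, hxr]; group
  · intro c hc
    exact hns c (c6pg_scalar_of_conj g x c hc)
  · rw [c6pg_inv_conj]
    exact c6pg_trace_conj g x⁻¹

section fin

variable [Fintype F] {p : ℕ} [Fact p.Prime] [CharP F p]

/-- a matrix with Gram matrix `1` lies in `GU` (Lead `preserves_iff` with `σ = frobenius`) -/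
theorem c6ug2_mem_gu (g : GL (Fin 4) F) (h : IsU p (g : M4 F)) : g ∈ Cfsg.GU 4 F p := by
  have h1 : g ∈ Cfsg.GU 4 F p ↔ ∀ u v, Cfsg.hermForm 4 F p ((g : M4 F) *ᵥ u) ((g : M4 F) *ᵥ v)
      = Cfsg.hermForm 4 F p u v := Iff.rfl
  rw [h1, Cfsg.Agent.Lib.Lead.preserves_iff (frobenius F p) (fun x => rfl)]
  exact h

/-- `diag(ω,ω,ω,1)` is unitary when `ω` has norm one -/
theorem c6ug2_unitary (ω : F) (hω : ω ^ (p + 1) = 1) : IsU p (Matrix.diagonal ![ω, ω, ω, 1] : M4 F) := by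
  have hpp : p.Prime := Fact.out
  unfold IsU gram
  rw [Matrix.diagonal_transpose, Matrix.diagonal_map (f := fun a : F => a ^ p) (zero_pow hpp.ne_zero), Matrix.diagonal_mul_diagonal,
    ← Matrix.diagonal_one]
  congr 1
  funext a
  fin_cases a <;> simp [← pow_succ', hω]

/-- G2 [M] : `p ≡ 2 (mod 3)` (so `p ≥ 11`): `ω` of order 3 has norm one (`3 ∣ p + 1`); `x = diag(ω,ω,ω,1) ∈ SU`, `x³ = 1`, not scalar; trace formula as in Helper5.C6PG3:
`28 = 2^k` in `F`, `k ∈ {2,4,6}`: `p ∣ 24, 12, 36`, impossible. -/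
theorem nec_three_u (hF : Fintype.card F = p ^ 2) (hp4 : p % 4 = 3) (hp3 : p % 3 = 2) {i : F} {R : Subgroup (GL (Fin 4) F)}
    (hctx : RCtx i R) : ¬ AllFixU p R 3 := by
  have hpp : p.Prime := Fact.out
  have : Fact (Nat.Prime 3) := ⟨Nat.prime_three⟩
  obtain ⟨k, hk⟩ : ∃ k, p = 3 * k + 2 := ⟨p / 3, by omega⟩
  have h3dvd : 3 ∣ Nat.card Fˣ := by
    classical
    rw [Nat.card_eq_fintype_card, Fintype.card_units, hF, hk]
    refine ⟨3 * k ^ 2 + 4 * k + 1, ?_⟩
    apply Nat.sub_eq_of_eq_add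
    ring
  obtain ⟨u, hu⟩ := exists_prime_orderOf_dvd_card' 3 h3dvd
  have hu3 : ((u : Fˣ) : F) ^ 3 = 1 := by
    have h1 : u ^ 3 = 1 := by rw [← hu]; exact pow_orderOf_eq_one u
    have := congrArg Units.val h1
    simpa using this
  have hu1 : ((u : Fˣ) : F) ≠ 1 := by
    intro h
    have h1 : u = 1 := Units.ext h
    rw [h1, orderOf_one] at hu
    norm_num at hu
  obtain ⟨ω, hωdef⟩ : ∃ ω : F, ω = ((u : Fˣ) : F) := ⟨_, rfl⟩
  rw [← hωdef] at hu3 hu1
  have hω : ω ^ 2 + ω + 1 = 0 := by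
    have h1 : (ω - 1) * (ω ^ 2 + ω + 1) = 0 := by
      have : (ω - 1) * (ω ^ 2 + ω + 1) = ω ^ 3 - 1 := by ring
      rw [this, hu3, sub_self]
    exact (mul_eq_zero.mp h1).resolve_left (sub_ne_zero.mpr hu1)
  have hωn : ω ^ (p + 1) = 1 := by
    have e : p + 1 = 3 * (k + 1) := by omega
    rw [e, pow_mul, hu3, one_pow]
  set x : GL (Fin 4) F := ⟨Matrix.diagonal ![ω, ω, ω, 1], Matrix.diagonal ![ω ^ 2, ω ^ 2, ω ^ 2, 1],
    c6pg3_mul ω hu3, c6pg3_mul' ω hu3⟩ with hx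
  have hxval : (x : M4 F) = Matrix.diagonal ![ω, ω, ω, 1] := rfl
  have hxinv : ((x⁻¹ : GL (Fin 4) F) : M4 F) = Matrix.diagonal ![ω ^ 2, ω ^ 2, ω ^ 2, 1] := rfl
  have hxU : x ∈ Cfsg.GU 4 F p := by
    apply c6ug2_mem_gu
    rw [hxval]
    exact c6ug2_unitary ω hωn
  have hxSL : x ∈ Cfsg.Geo.specialLinear (Fin 4) F := by
    apply c6pg_mem_of_det
    rw [hxval]
    exact c6pg3_det ω hu3
  have hx3 : x ^ 3 = 1 := by
    apply Units.ext
    rw [Units.val_pow_eq_pow_val, hxval, Units.val_one]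
    exact c6pg3_pow ω hu3
  have hns : ∀ c : F, (x : M4 F) ≠ c • (1 : M4 F) := by
    intro c hc
    have h1 := congrFun (congrFun hc 0) 0
    have h2 := congrFun (congrFun hc 3) 3
    rw [hxval] at h1 h2
    simp at h1 h2
    exact hu1 (h1.trans h2.symm)
  apply c6ug2_not_allfix p R 3 x hxU hxSL hx3 hns
  intro y hyN hyr hyns htr htri _
  have htf := trace_formula hctx y hyN 3 (by decide) hyr
  have hfc := fix_count hctx y hyN 3 ⟨1, by rw [hyr, one_smul]; rfl⟩
  obtain ⟨k', hk2, hk6, hk'⟩ := cent_card hctx y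
  have htx : Matrix.trace (x : M4 F) = 3 * ω + 1 := by
    rw [hxval]
    simp [Matrix.trace, Fin.sum_univ_four]
    ring
  have htxi : Matrix.trace ((x⁻¹ : GL (Fin 4) F) : M4 F) = 3 * ω ^ 2 + 1 := by
    rw [hxinv]
    simp [Matrix.trace, Fin.sum_univ_four]
    ring
  rw [htr, htri, htx, htxi, hk'] at htf
  rw [hk'] at hfc
  have h28 : ((2 ^ k' : ℕ) : F) = 28 := by
    rw [← htf]
    linear_combination (36 : F) * hu3 + (12 : F) * hω
  have h2 := hpp.two_le
  have hk246 : k' = 2 ∨ k' = 4 ∨ k' = 6 := by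
    interval_cases k' <;> simp [Nat.ModEq] at hfc <;> simp
  rcases hk246 with rfl | rfl | rfl
  · have h0 : ((24 : ℕ) : F) = 0 := by
      push_cast
      push_cast at h28
      linear_combination (-1 : F) * h28
    have hdvd : p ∣ 24 := (CharP.cast_eq_zero_iff F p 24).mp h0
    have hle : p ≤ 24 := Nat.le_of_dvd (by norm_num) hdvd
    clear hk
    interval_cases p <;> omega
  · have h0 : ((12 : ℕ) : F) = 0 := by
      push_cast
      push_cast at h28
      linear_combination (-1 : F) * h28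
    have hdvd : p ∣ 12 := (CharP.cast_eq_zero_iff F p 12).mp h0
    have hle : p ≤ 12 := Nat.le_of_dvd (by norm_num) hdvd
    clear hk
    interval_cases p <;> omega
  · have h0 : ((36 : ℕ) : F) = 0 := by
      push_cast
      push_cast at h28
      linear_combination h28
    have hdvd : p ∣ 36 := (CharP.cast_eq_zero_iff F p 36).mp h0
    have hle : p ≤ 36 := Nat.le_of_dvd (by norm_num) hdvd
    clear hk
    interval_cases p <;> omega

end fin

end Cfsg.Agent.Lib.helper3.C6U
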