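import Mathlib
import Cfsg.Agent.Lib.helper3.C6U.Defs
import Cfsg.Agent.Lib.Helper5.C6PG0
import Cfsg.Agent.Lib.Helper5.C6PG5B
import Cfsg.Agent.Lib.Helper10.C6PNPR
import Cfsg.Agent.Lib.Helper19.C6UG2

set_option autoImplicit false
set_option linter.unusedVariables false
set_option linter.unusedSectionVars false
set_option linter.unnecessarySeqFocus false

/-!
# Project C6U (S6001, designer helper3), row G3 (helper19): `p = 3`: a unitary transvection is not conjugate into `N(R)` (NPR).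
`x = 1 + i • J`, `J = v vᵀ` with `v = (1,1,1,0)` (isotropic in characteristic 3: `1 + 1 + 1 = 0`), `i * i = -1`, `i ^ 3 = -i`.
-/

namespace Cfsg.Agent.Lib.helper3.C6U

open Polynomial Matrix
open Cfsg.Agent.Lib.Helper10.C6P
open scoped MatrixGroups

variable {F : Type*} [Field F]

/-- the unitary transvection -/
def c6ug3_X (i : F) : M4 F := !![1 + i, i, i, 0; i, 1 + i, i, 0; i, i, 1 + i, 0; 0, 0, 0, 1]

/-- its inverse -/
def c6ug3_Y (i : F) : M4 F := !![1 - i, -i, -i, 0; -i, 1 - i, -i, 0; -i, -i, 1 - i, 0; 0, 0, 0, 1]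

theorem c6ug3_mul (i : F) (h3 : (3 : F) = 0) (hi : i * i = -1) : c6ug3_X i * c6ug3_Y i = 1 := by
  ext a b
  fin_cases a <;> fin_cases b <;>
    simp [c6ug3_X, c6ug3_Y, Matrix.mul_apply, Fin.sum_univ_four, Matrix.one_apply] <;> grind

theorem c6ug3_mul' (i : F) (h3 : (3 : F) = 0) (hi : i * i = -1) : c6ug3_Y i * c6ug3_X i = 1 := by
  ext a b
  fin_cases a <;> fin_cases b <;>
    simp [c6ug3_X, c6ug3_Y, Matrix.mul_apply, Fin.sum_univ_four, Matrix.one_apply] <;> grind

theorem c6ug3_sq (i : F) (h3 : (3 : F) = 0) (hi : i * i = -1) : c6ug3_X i * c6ug3_X i = c6ug3_Y i := by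
  ext a b
  fin_cases a <;> fin_cases b <;>
    simp [c6ug3_X, c6ug3_Y, Matrix.mul_apply, Fin.sum_univ_four] <;> grind

theorem c6ug3_gram (i : F) (h3 : (3 : F) = 0) (hi : i * i = -1) : gram 3 (c6ug3_X i) = 1 := by
  unfold gram
  ext a b
  fin_cases a <;> fin_cases b <;>
    simp [c6ug3_X, Matrix.mul_apply, Fin.sum_univ_four, Matrix.one_apply, Matrix.transpose_apply] <;> grind

theorem c6ug3_sub (i : F) : c6ug3_X i - (1 : F) • (1 : M4 F) = Matrix.vecMulVec ![i, i, i, 0] ![1, 1, 1, 0] := by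
  ext a b
  fin_cases a <;> fin_cases b <;>
    simp [c6ug3_X, Matrix.vecMulVec_apply, Matrix.one_apply]

section fin

variable [Fintype F] {p : ℕ} [Fact p.Prime] [CharP F p]

/-- G3 [M-L] : `p = 3`: the unitary transvection `x = 1 + t • vecMulVec v (σ v)` with `v = (1, a, 0, 0)`, `a^(p+1) = -1` (A3), `t^p = -t`, `t ≠ 0` (e.g. `t = i`):
unitary, `det = 1`, `x³ = 1`, not scalar, `x - 1` of rank one; `y = g⁻¹ x g`; Helper10 `no_rank_one` (port of Helper5.C6PG5B). -/
theorem nec_three_p (hF : Fintype.card F = p ^ 2) (hp : p = 3) {i : F} {R : Subgroup (GL (Fin 4) F)} (hctx : RCtx i R) :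
    ¬ AllFixU p R 3 := by
  subst hp
  have h3 : (3 : F) = 0 := by
    have := CharP.cast_eq_zero F 3
    exact_mod_cast this
  have hi := hctx.hi
  have hi0 : i ≠ 0 := by
    intro h0
    rw [h0, mul_zero] at hi
    exact one_ne_zero (neg_eq_zero.mp hi.symm)
  set x : GL (Fin 4) F := ⟨c6ug3_X i, c6ug3_Y i, c6ug3_mul i h3 hi, c6ug3_mul' i h3 hi⟩ with hx
  have hxval : (x : M4 F) = c6ug3_X i := rfl
  have hxU : x ∈ Cfsg.GU 4 F 3 := by
    apply c6ug2_mem_gu
    rw [hxval]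
    exact c6ug3_gram i h3 hi
  have hx3M : c6ug3_X i ^ 3 = 1 := by
    rw [pow_succ, pow_two, c6ug3_sq i h3 hi, c6ug3_mul' i h3 hi]
  have hx3 : x ^ 3 = 1 := by
    apply Units.ext
    rw [Units.val_pow_eq_pow_val, hxval, Units.val_one]
    exact hx3M
  have hxSL : x ∈ Cfsg.Geo.specialLinear (Fin 4) F := by
    apply c6pg_mem_of_det
    rw [hxval]
    have hd3 : (c6ug3_X i).det ^ 3 = 1 := by rw [← Matrix.det_pow, hx3M, Matrix.det_one]
    have hcube : ((c6ug3_X i).det - 1) ^ 3 = 0 := by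
      have e : ((c6ug3_X i).det - 1) ^ 3 = (c6ug3_X i).det ^ 3 - 1
          - 3 * ((c6ug3_X i).det ^ 2 - (c6ug3_X i).det) := by ring
      rw [e, hd3, h3]
      ring
    exact sub_eq_zero.mp (pow_eq_zero_iff (by norm_num) |>.mp hcube)
  have hns : ∀ c : F, (x : M4 F) ≠ c • (1 : M4 F) := by
    intro c hc
    have h1 := congrFun (congrFun hc 0) 1
    rw [hxval] at h1
    simp [c6ug3_X] at h1
    exact hi0 h1
  apply c6ug2_not_allfix 3 R 3 x hxU hxSL hx3 hns
  intro y hyN hyr hyns _ _ hrank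
  have hr1 : ((y : M4 F) - (1 : F) • (1 : M4 F)).rank = 1 := by
    rw [hrank 1, hxval, c6ug3_sub]
    apply le_antisymm
    · exact Matrix.rank_vecMulVec_le _ _
    · exact c6pg5b_rank_pos _ 0 0 (by simp [Matrix.vecMulVec_apply, hi0])
  exact no_rank_one hctx y hyN 1 one_ne_zero hr1 3 (by decide) ⟨1, by rw [hyr, one_smul]; rfl⟩

end fin

end Cfsg.Agent.Lib.helper3.C6U
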