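import Mathlib
import Cfsg.Agent.Lib.Helper28.CD3.Defs
import Cfsg.Agent.Lib.Helper25.Gagola
import Cfsg.Agent.Lib.Helper25.CharLinear
import Cfsg.Agent.S4461

/-!
# CD3 piece BG: `cd(G/F) ⊆ {1, m}` from Broline-Garrison (S4461).
-/

set_option autoImplicit false
open scoped commutatorElement ComplexConjugate

namespace Cfsg.Agent.Lib.Helper28.CD3

universe u

section partB
variable {G : Type u} [Group G] [Finite G]

/-- an irreducible character that is constant is the trivial character, of degree 1 -/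
theorem cd3bg_degree_one_of_const (χ : Cfsg.IrrCharacter G)
    (h : ∀ g : G, (χ : G → ℂ) g = (χ : G → ℂ) 1) : Cfsg.charDegree (χ : G → ℂ) = 1 := by
  classical
  haveI : Fintype G := Fintype.ofFinite G
  have h1 := Cfsg.Agent.Lib.Helper25.irr_classInner χ (Cfsg.Agent.Lib.Helper25.trivIrr G)
  have h2 : Cfsg.classInner (χ : G → ℂ) (Cfsg.Agent.Lib.Helper25.trivIrr G : G → ℂ) =
      (χ : G → ℂ) 1 := by
    unfold Cfsg.classInner
    have h3 : ∀ g : G, (χ : G → ℂ) g *
        conj ((Cfsg.Agent.Lib.Helper25.trivIrr G : G → ℂ) g) = (χ : G → ℂ) 1 := by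
      intro g
      rw [Cfsg.Agent.Lib.Helper25.trivIrr_apply, map_one, mul_one, h g]
    rw [Finset.sum_congr rfl (fun g _ => h3 g), Finset.sum_const, Finset.card_univ,
      nsmul_eq_mul, ← Nat.card_eq_fintype_card, ← mul_assoc, inv_mul_cancel₀, one_mul]
    exact_mod_cast Nat.card_pos.ne'
  rw [h2] at h1
  have h4 : χ = Cfsg.Agent.Lib.Helper25.trivIrr G := by
    by_contra hne
    rw [if_neg hne] at h1
    exact Cfsg.Agent.Lib.Helper25.irr_one_ne_zero χ h1
  rw [h4]
  unfold Cfsg.charDegree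
  rw [Cfsg.Agent.Lib.Helper25.trivIrr_apply]
  simp

theorem bg_quot {m n q : ℕ} {F : Subgroup G} (h : BData G m n q F) : cdOver F ⊆ {1, m} := by
  rintro d ⟨χ, hker, rfl⟩
  have hmem : Cfsg.charDegree (χ : G → ℂ) ∈ Cfsg.charDegrees G := ⟨χ, rfl⟩
  rw [h.hce.hcd] at hmem
  have hm := h.hce.hm
  have hmn := h.hce.hmn
  rcases hmem with h1 | h1 | h1
  · left; exact h1
  · right; exact h1
  · exfalso
    have hn : Cfsg.charDegree (χ : G → ℂ) = n := h1
    -- the kernel of χ
    have hK := Cfsg.Agent.Lib.Helper25.mem_irrKer χ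
    have hFK : F ≤ Cfsg.Agent.Lib.Helper25.irrKer χ := by
      intro x hx
      exact (hK x).2 (hker x hx)
    have key : ∀ ψ : Cfsg.IrrCharacter G,
        ¬ Cfsg.charDegree (χ : G → ℂ) < Cfsg.charDegree (ψ : G → ℂ) := by
      intro ψ hlt
      have hψ : Cfsg.charDegree (ψ : G → ℂ) ∈ Cfsg.charDegrees G := ⟨ψ, rfl⟩
      rw [h.hce.hcd] at hψ
      rw [hn] at hlt
      rcases hψ with h2 | h2 | h2
      · rw [h2] at hlt; omega
      · rw [h2] at hlt; omega
      · have : Cfsg.charDegree (ψ : G → ℂ) = n := h2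
        omega
    by_cases hKF : Cfsg.Agent.Lib.Helper25.irrKer χ ≤ Cfsg.fittingSubgroup G
    · have hKeq : Cfsg.Agent.Lib.Helper25.irrKer χ = Cfsg.fittingSubgroup G := by
        apply le_antisymm hKF
        rw [← h.hFfit]
        exact hFK
      have hsol : Group.IsSolvable (G ⧸ Cfsg.Agent.Lib.Helper25.irrKer χ) := by
        haveI := h.hs
        infer_instance
      have htop : Cfsg.Agent.Lib.Helper25.irrKer χ ≠ ⊤ := by
        intro htop
        have hconst : ∀ g : G, (χ : G → ℂ) g = (χ : G → ℂ) 1 := by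
          intro g
          apply (hK g).1
          rw [htop]
          exact Subgroup.mem_top g
        have := cd3bg_degree_one_of_const χ hconst
        omega
      obtain ⟨ψ, hψ, _⟩ := Cfsg.Agent.S4461.result χ (Cfsg.Agent.Lib.Helper25.irrKer χ) hK
        (Or.inr ⟨hKeq, hsol, htop⟩)
      exact key ψ hψ
    · obtain ⟨ψ, hψ, _⟩ := Cfsg.Agent.S4461.result χ (Cfsg.Agent.Lib.Helper25.irrKer χ) hK
        (Or.inl hKF)
      exact key ψ hψ

end partB

end Cfsg.Agent.Lib.Helper28.CD3
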