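import Mathlib
import Cfsg.Agent.Lib.Helper28.CD3.Defs
import Cfsg.Agent.Lib.Helper19.CD3BG
import Cfsg.Agent.Lib.helper23.CD3DERQ
import Cfsg.Agent.Lib.Helper28.CD3SMALL
import Cfsg.Agent.S4765

/-!
# CD3 piece BD2: `G'' ≤ F`  (BG + SMALL + DERQ + inflation of characters of `G ⧸ F`).
-/

set_option autoImplicit false
open scoped commutatorElement

namespace Cfsg.Agent.Lib.Helper28.CD3

universe u

section partB
variable {G : Type u} [Group G] [Finite G]

/-- the degrees of `G ⧸ N` are degrees of characters of `G` with `N` in the kernel -/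
theorem cd3bd2_quot_subset_cdOver (N : Subgroup G) [N.Normal] :
    Cfsg.charDegrees (G ⧸ N) ⊆ cdOver N := by
  rintro d ⟨χ, rfl⟩
  refine ⟨⟨_, Cfsg.Agent.S4765.infl_irr N _ χ.2⟩, ?_, rfl⟩
  intro x hx
  show (χ : G ⧸ N → ℂ) ((x : G) : G ⧸ N) = (χ : G ⧸ N → ℂ) ((1 : G) : G ⧸ N)
  rw [(QuotientGroup.eq_one_iff x).mpr hx, QuotientGroup.mk_one]

-- piece BD2
theorem derived2_le_F {m n q : ℕ} {F : Subgroup G} (h : BData G m n q F) :
    derivedSeries G 2 ≤ F := by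
  haveI := h.hFn
  apply derived_le_of_quot F 2
  apply dl_of_ncard_le_two
  have h1 : Cfsg.charDegrees (G ⧸ F) ⊆ ({1, m} : Set ℕ) :=
    (cd3bd2_quot_subset_cdOver F).trans (bg_quot h)
  have h2 : ({1, m} : Set ℕ).Finite := Set.toFinite _
  calc (Cfsg.charDegrees (G ⧸ F)).ncard ≤ ({1, m} : Set ℕ).ncard := Set.ncard_le_ncard h1 h2
    _ ≤ 2 := Set.ncard_insert_le 1 {m} |>.trans (by simp)

end partB

end Cfsg.Agent.Lib.Helper28.CD3
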