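import Mathlib
import Cfsg.Agent.Lib.Helper28.CD3.Defs
import Cfsg.Agent.Lib.Helper19.CD3BG
import Cfsg.Agent.Lib.helper23.CD3DERQ

/-!
# CD3 piece BD2 (core): `G'' ≤ F`, with the conclusions of OVERQ and SMALL as hypotheses.
-/

set_option autoImplicit false
open scoped commutatorElement

namespace Cfsg.Agent.Lib.Helper28.CD3

universe u

section partB
variable {G : Type u} [Group G] [Finite G]

theorem cd3bd2_core {m n q : ℕ} {F : Subgroup G} (h : BData G m n q F)
    (hOVERQ : ∀ (N : Subgroup G) [N.Normal], cdOver N = Cfsg.charDegrees (G ⧸ N))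
    (hSMALL : ∀ (H : Type u) [Group H] [Finite H], (Cfsg.charDegrees H).ncard ≤ 2 →
      derivedSeries H 2 = ⊥) :
    derivedSeries G 2 ≤ F := by
  haveI := h.hFn
  apply derived_le_of_quot F 2
  apply hSMALL
  rw [← hOVERQ F]
  have h1 := bg_quot h
  have h2 : ({1, m} : Set ℕ).Finite := Set.toFinite _
  calc (cdOver F).ncard ≤ ({1, m} : Set ℕ).ncard := Set.ncard_le_ncard h1 h2
    _ ≤ 2 := Set.ncard_insert_le 1 {m} |>.trans (by simp)

end partB

end Cfsg.Agent.Lib.Helper28.CD3
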