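import Mathlib
import Cfsg.Agent.Lib.Helper28.CD3.Defs

/-!
# CD3 piece BFAB (core): `F` is not abelian, given `G'' ≤ F` (piece BD2).
-/

set_option autoImplicit false
open scoped commutatorElement

namespace Cfsg.Agent.Lib.Helper28.CD3

universe u

section partB
variable {G : Type u} [Group G] [Finite G]

theorem cd3bfab_core {m n q : ℕ} {F : Subgroup G} (h : BData G m n q F)
    (hBD2 : derivedSeries G 2 ≤ F) :
    ¬ ∀ x ∈ F, ∀ y ∈ F, x * y = y * x := by
  intro hab
  apply h.hce.hne
  rw [derivedSeries_succ, eq_bot_iff]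
  calc ⁅derivedSeries G 2, derivedSeries G 2⁆ ≤ ⁅F, F⁆ := Subgroup.commutator_mono hBD2 hBD2
    _ = ⊥ := by
      rw [Subgroup.commutator_eq_bot_iff_le_centralizer]
      intro x hx
      rw [Subgroup.mem_centralizer_iff]
      intro y hy
      exact hab y hy x hx

end partB

end Cfsg.Agent.Lib.Helper28.CD3
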