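import Mathlib
import Cfsg.Agent.Lib.Helper28.CD3.Defs
import Cfsg.Agent.Lib.Helper19.CD3BD2
import Cfsg.Agent.Lib.Helper19.CD3BFABcore

/-!
# CD3 piece BFAB: `F` is not abelian.
-/

set_option autoImplicit false
open scoped commutatorElement

namespace Cfsg.Agent.Lib.Helper28.CD3

universe u

section partB
variable {G : Type u} [Group G] [Finite G]

-- piece BFAB
theorem F_not_abelian {m n q : ℕ} {F : Subgroup G} (h : BData G m n q F) :
    ¬ ∀ x ∈ F, ∀ y ∈ F, x * y = y * x :=
  cd3bfab_core h (derived2_le_F h)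

end partB

end Cfsg.Agent.Lib.Helper28.CD3
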