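import Mathlib
import Cfsg.Agent.Lib.helper7.CEU.Defs
import Cfsg.Agent.Lib.Helper27.STU.Defs3
import Cfsg.Agent.Lib.Helper24.STCI1
import Cfsg.Agent.Lib.Helper24.STUB1
import Cfsg.Agent.Lib.Helper24.STUM0
import Cfsg.Agent.Lib.Helper24.STUM1
import Cfsg.Agent.Lib.Helper16.STUH1
import Cfsg.Prelude.Def_Classical
import Cfsg.Prelude.Def_KGroupFacts

/-!
# Project CEU (designer helper7), block X: rows X1 `Xt_map`, X2 `Xt_add`, X3 `Xt_sym`, X4 `Xt_eqv`, X5 `shortLift_tor`, VERBATIM (helper19)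

Ports of the CEC rows `helper6.CECX`.
-/

set_option autoImplicit false

namespace Cfsg.Agent.Lib.helper7.CEU

open Cfsg.Agent.Lib.helper15.St2 Cfsg.Agent.Lib.helper7.Ce Cfsg.Agent.Lib.helper3.STC Cfsg.Agent.Lib.Helper27.STU

open Cfsg.Agent.Lib.helper7.CEC (I2 I3 I4 U2 U3)

section X

variable {F : Type*} [Field F] [StarRing F] {od : Prop} {ι : Type*} {Γ G : Type*} [Group Γ] [Group G] {S : SysU F od ι G} {σ : Γ →* G}

/-- `ab a ≠ ab b` unpacked -/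
theorem ceux1_ne {a b : ι ⊕ ι} (h : ab a ≠ ab b) : a ≠ b ∧ a ≠ ng b ∧ b ≠ a ∧ b ≠ ng a := by
  refine ⟨?_, ?_, ?_, ?_⟩
  · rintro rfl; exact h rfl
  · intro e; exact h (by rw [e, ab_ng])
  · rintro rfl; exact h rfl
  · intro e; exact h (by rw [e, ab_ng])

/-- the short torus element `hs a b c₁` scales `xs a b` by `c₁²` -/
theorem ceux1_cj_hs_xs [DecidableEq ι] (hH : S.HH) {c₁ : F} (hc0 : c₁ ≠ 0) {a b : ι ⊕ ι} (hab : ab a ≠ ab b) (s : F) :
    cj (S.hs a b c₁) (S.xs a b s) = S.xs a b (c₁ ^ 2 * s) := by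
  obtain ⟨hne, hne', hba, hba'⟩ := ceux1_ne hab
  have hm := hH.1 a b hne hne' c₁ hc0
  have h2 := hm.2.1 a b hne hne' s
  rw [h2]
  simp only [Equiv.Perm.one_apply]
  congr 1
  have da : Cfsg.Agent.Lib.Helper27.STU.dhs a b c₁ a = c₁ := by
    unfold Cfsg.Agent.Lib.Helper27.STU.dhs; rw [if_pos rfl]
  have db : Cfsg.Agent.Lib.Helper27.STU.dhs a b c₁ b = c₁⁻¹ := by
    unfold Cfsg.Agent.Lib.Helper27.STU.dhs
    rw [if_neg hba, if_pos rfl]
  rw [da, db, inv_inv]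
  ring

theorem ceux1_cm_hs_xs [DecidableEq ι] (hH : S.HH) {c₁ : F} (hc0 : c₁ ≠ 0) {a b : ι ⊕ ι} (hab : ab a ≠ ab b) (s : F) :
    cm (S.hs a b c₁) (S.xs a b s) = S.xs a b ((c₁ ^ 2 - 1) * s) := by
  obtain ⟨hne, hne', hba, hba'⟩ := ceux1_ne hab
  have e : cm (S.hs a b c₁) (S.xs a b s) = cj (S.hs a b c₁) (S.xs a b s) * (S.xs a b s)⁻¹ := by
    unfold cm cj; group
  rw [e, ceux1_cj_hs_xs hH hc0 hab, ← S.xs_neg hne hne', S.adds a b hne hne']
  congr 1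
  ring

/-- X1 [S-M] -/
theorem Xt_map [DecidableEq ι] (h : IsCE σ) (hH : S.HH) {c₁ : F} (hc0 : c₁ ≠ 0) (hc2 : c₁ ^ 2 ≠ 1) {a b : ι ⊕ ι} (hab : ab a ≠ ab b) (t : F) :
    σ (Xt S h c₁ a b t) = S.xs a b t := by
  unfold Xt
  rw [map_cm, map_lf, map_lf, ceux1_cm_hs_xs hH hc0 hab]
  congr 1
  have : c₁ ^ 2 - 1 ≠ 0 := sub_ne_zero.2 hc2
  field_simp

/-- X2 [S-M] -/
theorem Xt_add [DecidableEq ι] (h : IsCE σ) (hC : HCs S σ) (hH : S.HH) {c₁ : F} (hc0 : c₁ ≠ 0) (hc2 : c₁ ^ 2 ≠ 1) {a b : ι ⊕ ι} (hab : ab a ≠ ab b) (t u : F) :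
    Xt S h c₁ a b (t + u) = Xt S h c₁ a b t * Xt S h c₁ a b u := by
  obtain ⟨hne, hne', hba, hba'⟩ := ceux1_ne hab
  set s : F := (c₁ ^ 2 - 1)⁻¹ with hs
  set p : Γ := lf h (S.xs a b (s * t)) with hp
  set q : Γ := lf h (S.xs a b (s * u)) with hq
  have e1 : σ (lf h (S.xs a b (s * (t + u)))) = σ (p * q) := by
    rw [map_mul, map_lf, hp, hq, map_lf, map_lf, S.adds a b hne hne', mul_add]
  have e2 : Xt S h c₁ a b (t + u) = cm (lf h (S.hs a b c₁)) (p * q) := by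
    unfold Xt
    exact h.cm_congr rfl e1
  have e3 : cm (lf h (S.hs a b c₁)) q = Xt S h c₁ a b u := rfl
  have e4 : cm (lf h (S.hs a b c₁)) p = Xt S h c₁ a b t := rfl
  rw [e2, cm_mul_right, e3, e4]
  -- `p` commutes with `Xt u`
  have hcl : CL σ (S.xs a b (s * t)) (S.xs a b u) :=
    hC a b a b hne hne' hne hne' hba hne (fun e => ne_ng b e) (fun e => ne_ng a e) (s * t) u
  have hcomm : p * Xt S h c₁ a b u = Xt S h c₁ a b u * p :=
    hcl p (Xt S h c₁ a b u) (map_lf h _) (Xt_map h hH hc0 hc2 hab u)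
  rw [hcomm, mul_inv_cancel_right]

/-- X3 [S] -/
theorem Xt_sym [Finite F] [DecidableEq ι] (h : IsCE σ) {c₁ : F} (hc0 : c₁ ≠ 0) (hc : star c₁ = c₁) {a b : ι ⊕ ι} (hab : ab a ≠ ab b) (t : F) :
    Xt S h c₁ a b t = Xt S h c₁ (ng b) (ng a) (-(star t)) := by
  obtain ⟨hne, hne', hba, hba'⟩ := ceux1_ne hab
  unfold Xt
  rw [S.hs_sym hne hne' c₁ hc0, hc, S.sym a b hne hne']
  congr 3
  rw [star_mul', star_inv₀, star_sub, star_pow, star_one, hc]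
  ring

/-- X4 [M] -/
theorem Xt_eqv [Finite F] [DecidableEq ι] (h : IsCE σ) {c₁ : F} (hc0 : c₁ ≠ 0) {g : G} {π : Equiv.Perm (ι ⊕ ι)} {d : ι ⊕ ι → F} {d0 : F}
    (hg : S.IsMon g π d d0) {e : Γ} (he : σ e = g) {a b : ι ⊕ ι} (hab : ab a ≠ ab b) (t : F) :
    cj e (Xt S h c₁ a b t) = Xt S h c₁ (π a) (π b) (d a * (d b)⁻¹ * t) := by
  obtain ⟨hne, hne', hba, hba'⟩ := ceux1_ne hab
  have hπ : π a ≠ π b := fun e' => hne (π.injective e')
  have hπ' : π a ≠ ng (π b) := fun e' => hne' (π.injective (by rw [e', hg.1.pi_ng]))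
  have hda := hg.1.d_ne a
  have hdb := hg.1.d_ne b
  have hδ : d a * (d b)⁻¹ ≠ 0 := mul_ne_zero hda (inv_ne_zero hdb)
  unfold Xt
  rw [cj_cm]
  apply h.cm_congr
  · rw [map_cj, he, map_lf, map_lf, SysU.IsMon.cj_hs S hg hne hne' c₁ hc0,
      S.ws_mul_ws hπ hπ' _ _ (mul_ne_zero hδ hc0) (neg_ne_zero.2 hδ)]
    congr 1
    field_simp
  · rw [map_cj, he, map_lf, map_lf, hg.2.1 a b hne hne']
    congr 1
    ring

/-- X5 [S-M] -/
theorem shortLift_tor [Finite F] [DecidableEq ι] (h : IsCE σ) (hC : HCs S σ) (hH : S.HH) (u2 : U2 ι) {c₁ : F} (hc0 : c₁ ≠ 0) (hc2 : c₁ ^ 2 ≠ 1)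
    (hc : star c₁ = c₁) :
    ∃ L : ShortLift S h, ∀ a b t, L.X a b t = Xt S h c₁ a b t := by
  refine ⟨{ X := Xt S h c₁
            map := fun a b hab t => Xt_map h hH hc0 hc2 hab t
            add := fun a b hab t u => Xt_add h hC hH hc0 hc2 hab t u
            sym := fun a b hab t => Xt_sym h hc0 hc hab t
            eqv := fun g π d d0 hg e he a b hab t => Xt_eqv h hc0 hg he hab t
            c3 := fun a c b hac hcb hab' t u => by
              exfalso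
              rcases u2 a c b hac with e | e
              · exact hab' e.symm
              · exact hcb e.symm }, fun a b t => rfl⟩

end X

end Cfsg.Agent.Lib.helper7.CEU
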