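import Cfsg.Agent.Lib.Lead.Co2Inv.Defs

/-! CI-P1 for lead S2136 project: block-matrix algebra over ZMod 2 (p1_mul, p1_symp). -/

set_option autoImplicit false
open Cfsg

namespace Cfsg.Agent.Lib.Helper19.CI

open Cfsg.Agent.Lib.helper3 Cfsg.Agent.Lib.helper4 Cfsg.Agent.S1571 Cfsg.Agent.S0398
open Cfsg.Agent.Lib.Lead.LC Cfsg.Agent.Lib.Lead.CI

theorem p1_row (B : Matrix I8 I8 (ZMod 2)) (hB : B.transpose * G2 * B = G2)
    (hB0 : ∀ k, B k (Sum.inr 0) = if k = Sum.inr 0 then 1 else 0) (j : Fin 3 ⊕ Fin 3) :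
    B (Sum.inr 1) (Sum.inl j) = 0 := by
  have h := congrFun (congrFun hB (Sum.inl j)) (Sum.inr 0)
  simp only [Matrix.mul_apply, Matrix.transpose_apply, G2, Fintype.sum_sum_type, Fin.sum_univ_two,
    Fin.sum_univ_three, Matrix.fromBlocks_apply₁₁, Matrix.fromBlocks_apply₁₂,
    Matrix.fromBlocks_apply₂₁, Matrix.fromBlocks_apply₂₂, hB0] at h
  simp at h
  exact h

theorem p1_mul (A B : Matrix I8 I8 (ZMod 2)) (hB : B.transpose * G2 * B = G2)
    (hA0 : ∀ k, A k (Sum.inr 0) = if k = Sum.inr 0 then 1 else 0)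
    (hB0 : ∀ k, B k (Sum.inr 0) = if k = Sum.inr 0 then 1 else 0) :
    (A * B).toBlocks₁₁ = A.toBlocks₁₁ * B.toBlocks₁₁ := by
  ext i j
  have hr := p1_row B hB hB0 j
  have ha : A (Sum.inl i) (Sum.inr 0) = 0 := by rw [hA0]; simp
  simp only [Matrix.toBlocks₁₁, Matrix.mul_apply, Matrix.of_apply, Fintype.sum_sum_type (α₁ := Fin 3 ⊕ Fin 3)
    (α₂ := Fin 2), Fin.sum_univ_two, hr, ha]
  simp

theorem p1_symp (A : Matrix I8 I8 (ZMod 2)) (hA : A.transpose * G2 * A = G2)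
    (hA0 : ∀ k, A k (Sum.inr 0) = if k = Sum.inr 0 then 1 else 0) :
    A.toBlocks₁₁ ∈ Matrix.symplecticGroup (Fin 3) (ZMod 2) := by
  rw [SymplecticGroup.mem_iff']
  have hr := p1_row A hA hA0
  have hblk : A = Matrix.fromBlocks A.toBlocks₁₁ A.toBlocks₁₂ A.toBlocks₂₁ A.toBlocks₂₂ :=
    (Matrix.fromBlocks_toBlocks A).symm
  have h11 := congrArg Matrix.toBlocks₁₁ hA
  rw [hblk, G2, Matrix.fromBlocks_transpose, Matrix.fromBlocks_multiply, Matrix.fromBlocks_multiply,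
    Matrix.toBlocks_fromBlocks₁₁, Matrix.toBlocks_fromBlocks₁₁] at h11
  simp only [Matrix.mul_zero, add_zero, zero_add] at h11
  have hz : A.toBlocks₂₁.transpose * (!![0, 1; 1, 0] : Matrix (Fin 2) (Fin 2) (ZMod 2)) * A.toBlocks₂₁ = 0 := by
    ext i j
    simp [Matrix.mul_apply, Fin.sum_univ_two, Matrix.toBlocks₂₁, hr]
  rw [hz, add_zero] at h11
  exact h11

end Cfsg.Agent.Lib.Helper19.CI
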