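import Mathlib

set_option autoImplicit false

namespace Cfsg.Agent.Lib.Helper19.SL23Facts

/-- Abstract properties of `SL₂(3)` used for normal-subgroup arguments. -/
structure IsSL23Like (S : Type*) [Group S] : Prop where
  card : Nat.card S = 24
  card4 : Nat.card {x : S // x ^ 4 = 1} = 8
  comm : ∀ a : S, a ≠ 1 → a ^ 3 = 1 → ∀ c : S, c ^ 4 = 1 →
    ∃ x x' : S, c = (x * a * x⁻¹ * a⁻¹) * (x' * a * x'⁻¹ * a⁻¹)
  cover : ∀ a : S, a ≠ 1 → a ^ 3 = 1 → ∀ y : S, ∃ c : S, c ^ 4 = 1 ∧ (y = c ∨ y = c * a ∨ y = c * a * a)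

abbrev SL23 := Matrix.SpecialLinearGroup (Fin 2) (ZMod 3)

set_option maxRecDepth 100000 in
theorem sl23_card4 : (Finset.univ.filter (fun x : SL23 => x ^ 4 = 1)).card = 8 := by decide

set_option maxRecDepth 1000000 in
set_option synthInstance.maxSize 2000 in
set_option synthInstance.maxHeartbeats 400000 in
set_option maxHeartbeats 4000000 in
theorem sl23_comm : ∀ a : SL23, a ≠ 1 → a ^ 3 = 1 → ∀ c : SL23, c ^ 4 = 1 →
    ∃ x x' : SL23, c = (x * a * x⁻¹ * a⁻¹) * (x' * a * x'⁻¹ * a⁻¹) := by decide

set_option maxRecDepth 1000000 in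
set_option synthInstance.maxSize 2000 in
set_option synthInstance.maxHeartbeats 400000 in
theorem sl23_cover : ∀ a : SL23, a ≠ 1 → a ^ 3 = 1 → ∀ y : SL23,
    ∃ c : SL23, c ^ 4 = 1 ∧ (y = c ∨ y = c * a ∨ y = c * a * a) := by decide

theorem sl23_card : Nat.card SL23 = 24 := by
  rw [Nat.card_eq_fintype_card]; decide

theorem isSL23Like_SL23 : IsSL23Like SL23 where
  card := sl23_card
  card4 := by
    rw [Nat.card_eq_fintype_card, Fintype.card_subtype]
    exact sl23_card4
  comm := sl23_comm
  cover := sl23_cover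

theorem IsSL23Like.of_equiv {S S' : Type*} [Group S] [Group S'] (e : S ≃* S') (h : IsSL23Like S') :
    IsSL23Like S where
  card := by rw [Nat.card_congr e.toEquiv]; exact h.card
  card4 := by
    rw [← h.card4]
    apply Nat.card_congr
    refine
      { toFun := fun x => ⟨e x.1, by rw [← map_pow, x.2, map_one]⟩
        invFun := fun y => ⟨e.symm y.1, by rw [← map_pow, y.2, map_one]⟩
        left_inv := fun x => by simp
        right_inv := fun y => by simp }
  comm := by
    intro a ha ha3 c hc
    have ha' : e a ≠ 1 := fun h0 => ha (by simpa using h0)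
    have ha3' : e a ^ 3 = 1 := by rw [← map_pow, ha3, map_one]
    have hc' : e c ^ 4 = 1 := by rw [← map_pow, hc, map_one]
    obtain ⟨x, x', hx⟩ := h.comm (e a) ha' ha3' (e c) hc'
    refine ⟨e.symm x, e.symm x', ?_⟩
    apply e.injective
    simp only [map_mul, map_inv, MulEquiv.apply_symm_apply]
    exact hx
  cover := by
    intro a ha ha3 y
    have ha' : e a ≠ 1 := fun h0 => ha (by simpa using h0)
    have ha3' : e a ^ 3 = 1 := by rw [← map_pow, ha3, map_one]
    obtain ⟨c, hc, hy⟩ := h.cover (e a) ha' ha3' (e y)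
    refine ⟨e.symm c, by rw [← map_pow, hc, map_one], ?_⟩
    rcases hy with hy | hy | hy
    · left
      apply e.injective
      simpa using hy
    · right; left
      apply e.injective
      simpa using hy
    · right; right
      apply e.injective
      simpa using hy

/-- `SL₂` over isomorphic fields. -/
noncomputable def slEquiv {F F' : Type*} [Field F] [Field F'] (e : F ≃+* F') :
    Matrix.SpecialLinearGroup (Fin 2) F ≃* Matrix.SpecialLinearGroup (Fin 2) F' where
  toFun := Matrix.SpecialLinearGroup.map e.toRingHom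
  invFun := Matrix.SpecialLinearGroup.map e.symm.toRingHom
  left_inv y := by
    apply Subtype.ext
    ext i j <;> simp [Matrix.SpecialLinearGroup.map_apply_coe]
  right_inv y := by
    apply Subtype.ext
    ext i j <;> simp [Matrix.SpecialLinearGroup.map_apply_coe]
  map_mul' := map_mul _

theorem isSL23Like_of_card {F : Type*} [Field F] [Fintype F] (hF : Fintype.card F = 3) :
    IsSL23Like (Matrix.SpecialLinearGroup (Fin 2) F) := by
  have e : ZMod 3 ≃+* F := ZMod.ringEquivOfPrime F Nat.prime_three hF
  exact IsSL23Like.of_equiv (slEquiv e.symm) isSL23Like_SL23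

end Cfsg.Agent.Lib.Helper19.SL23Facts
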