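import Mathlib
import Cfsg.Agent.Lib.Helper19.SL23Facts

set_option autoImplicit false

namespace Cfsg.Agent.Lib.Helper19.CentralProd

open Subgroup Cfsg.Agent.Lib.Helper19.SL23Facts
open scoped commutatorElement

variable {G : Type*} [Group G]

/-- Elements of the join of two elementwise commuting subgroups are products. -/
theorem mem_sup_of_commute {L₁ L₂ : Subgroup G} (hc : ∀ x ∈ L₁, ∀ y ∈ L₂, x * y = y * x) {g : G}
    (hg : g ∈ L₁ ⊔ L₂) : ∃ a ∈ L₁, ∃ b ∈ L₂, g = a * b := by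
  let P : Subgroup G :=
    { carrier := {g | ∃ a ∈ L₁, ∃ b ∈ L₂, g = a * b}
      one_mem' := ⟨1, L₁.one_mem, 1, L₂.one_mem, by simp⟩
      mul_mem' := by
        rintro _ _ ⟨a, ha, b, hb, rfl⟩ ⟨a', ha', b', hb', rfl⟩
        refine ⟨a * a', L₁.mul_mem ha ha', b * b', L₂.mul_mem hb hb', ?_⟩
        calc a * b * (a' * b') = a * (b * a') * b' := by group
          _ = a * (a' * b) * b' := by rw [hc a' ha' b hb]
          _ = a * a' * (b * b') := by group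
      inv_mem' := by
        rintro _ ⟨a, ha, b, hb, rfl⟩
        refine ⟨a⁻¹, L₁.inv_mem ha, b⁻¹, L₂.inv_mem hb, ?_⟩
        rw [mul_inv_rev, hc a⁻¹ (L₁.inv_mem ha) b⁻¹ (L₂.inv_mem hb)] }
  have h1 : L₁ ≤ P := fun a ha => ⟨a, ha, 1, L₂.one_mem, by simp⟩
  have h2 : L₂ ≤ P := fun b hb => ⟨1, L₁.one_mem, b, hb, by simp⟩
  exact (sup_le h1 h2) hg

/-- Key dichotomy: a subgroup `M` of the central product normalized by a perfect factor `L₁` whose normal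
subgroups are central or everything either contains `L₁` or lies in `L₂`. -/
theorem le_or_le {L₁ L₂ M : Subgroup G} (hc : ∀ x ∈ L₁, ∀ y ∈ L₂, x * y = y * x)
    (hZ₁ : ∀ x ∈ L₁, (∀ y ∈ L₁, x * y = y * x) → x ∈ L₂)
    (hML : M ≤ L₁ ⊔ L₂) (hMn : ∀ x ∈ L₁, ∀ m ∈ M, x * m * x⁻¹ ∈ M)
    (hNC : ∀ N : Subgroup ↥L₁, N.Normal → N ≤ Subgroup.center ↥L₁ ∨ N = ⊤)
    (hperf : commutator ↥L₁ = ⊤) :
    L₁ ≤ M ∨ M ≤ L₂ := by
  have hN : (M.subgroupOf L₁).Normal := by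
    refine ⟨fun y hy x => ?_⟩
    rw [mem_subgroupOf] at hy ⊢
    exact hMn x.1 x.2 y.1 hy
  rcases hNC _ hN with h | h
  · right
    -- elements of M ∩ L₁ are central in L₁
    have hcent : ∀ y ∈ M, y ∈ L₁ → ∀ x ∈ L₁, x * y = y * x := by
      intro y hyM hyL x hx
      have := h (show (⟨y, hyL⟩ : ↥L₁) ∈ M.subgroupOf L₁ from by rw [mem_subgroupOf]; exact hyM)
      rw [Subgroup.mem_center_iff] at this
      exact congrArg Subtype.val (this ⟨x, hx⟩)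
    intro m hm
    obtain ⟨a, ha, b, hb, rfl⟩ := mem_sup_of_commute hc (hML hm)
    -- conjugation by m on L₁ is conjugation by a
    have hconj : ∀ x ∈ L₁, (a * b) * x * (a * b)⁻¹ = a * x * a⁻¹ := by
      intro x hx
      calc (a * b) * x * (a * b)⁻¹ = a * (b * x) * b⁻¹ * a⁻¹ := by group
        _ = a * (x * b) * b⁻¹ * a⁻¹ := by rw [hc x hx b hb]
        _ = a * x * a⁻¹ := by group
    -- c_x := m x m⁻¹ x⁻¹ is central in L₁
    have hcx : ∀ x ∈ L₁, ∀ y ∈ L₁, y * ((a * b) * x * (a * b)⁻¹ * x⁻¹) = ((a * b) * x * (a * b)⁻¹ * x⁻¹) * y := by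
      intro x hx y hy
      apply hcent _ _ _ y hy
      · have h1 : x * (a * b)⁻¹ * x⁻¹ ∈ M := hMn x hx _ (M.inv_mem hm)
        have e : (a * b) * x * (a * b)⁻¹ * x⁻¹ = (a * b) * (x * (a * b)⁻¹ * x⁻¹) := by group
        rw [e]
        exact M.mul_mem hm h1
      · rw [hconj x hx]
        exact L₁.mul_mem (L₁.mul_mem (L₁.mul_mem ha hx) (L₁.inv_mem ha)) (L₁.inv_mem hx)
    -- m centralizes commutators of L₁
    have hcomm : commutator ↥L₁ ≤ (Subgroup.centralizer ({a * b} : Set G)).subgroupOf L₁ := by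
      rw [commutator_def, Subgroup.commutator_le]
      intro x _ y _
      rw [mem_subgroupOf, mem_centralizer_singleton_iff]
      set m := a * b with hmdef
      set cx := m * x.1 * m⁻¹ * x.1⁻¹ with hcxdef
      set cy := m * y.1 * m⁻¹ * y.1⁻¹ with hcydef
      have hmx : m * x.1 * m⁻¹ = cx * x.1 := by rw [hcxdef]; group
      have hmy : m * y.1 * m⁻¹ = cy * y.1 := by rw [hcydef]; group
      have hcxc : ∀ w ∈ L₁, w * cx = cx * w := fun w hw => hcx x.1 x.2 w hw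
      have hcyc : ∀ w ∈ L₁, w * cy = cy * w := fun w hw => hcx y.1 y.2 w hw
      have hcxL : cx ∈ L₁ := by
        rw [hcxdef, hmdef, hconj x.1 x.2]
        exact L₁.mul_mem (L₁.mul_mem (L₁.mul_mem ha x.2) (L₁.inv_mem ha)) (L₁.inv_mem x.2)
      have hcyL : cy ∈ L₁ := by
        rw [hcydef, hmdef, hconj y.1 y.2]
        exact L₁.mul_mem (L₁.mul_mem (L₁.mul_mem ha y.2) (L₁.inv_mem ha)) (L₁.inv_mem y.2)
      have hval : ((⁅x, y⁆ : ↥L₁) : G) = x.1 * y.1 * x.1⁻¹ * y.1⁻¹ := rfl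
      rw [hval]
      have key : m * (x.1 * y.1 * x.1⁻¹ * y.1⁻¹) * m⁻¹ = x.1 * y.1 * x.1⁻¹ * y.1⁻¹ := by
        calc m * (x.1 * y.1 * x.1⁻¹ * y.1⁻¹) * m⁻¹
            = (m * x.1 * m⁻¹) * (m * y.1 * m⁻¹) * (m * x.1 * m⁻¹)⁻¹ * (m * y.1 * m⁻¹)⁻¹ := by group
          _ = (cx * x.1) * (cy * y.1) * (cx * x.1)⁻¹ * (cy * y.1)⁻¹ := by rw [hmx, hmy]
          _ = cx * (x.1 * cy) * y.1 * x.1⁻¹ * (cx⁻¹ * y.1⁻¹) * cy⁻¹ := by group
          _ = cx * (cy * x.1) * y.1 * x.1⁻¹ * (cx⁻¹ * y.1⁻¹) * cy⁻¹ := by rw [hcyc x.1 x.2]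
          _ = cx * cy * (x.1 * y.1 * x.1⁻¹ * y.1⁻¹) * (y.1 * cx⁻¹ * y.1⁻¹) * cy⁻¹ := by group
          _ = cx * cy * (x.1 * y.1 * x.1⁻¹ * y.1⁻¹) * (cx⁻¹) * cy⁻¹ := by
              have : y.1 * cx⁻¹ * y.1⁻¹ = cx⁻¹ := by
                have h1 := hcxc y.1 y.2
                calc y.1 * cx⁻¹ * y.1⁻¹ = cx⁻¹ * (cx * y.1) * cx⁻¹ * y.1⁻¹ := by group
                  _ = cx⁻¹ * (y.1 * cx) * cx⁻¹ * y.1⁻¹ := by rw [h1]
                  _ = cx⁻¹ := by group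
              rw [this]
          _ = x.1 * y.1 * x.1⁻¹ * y.1⁻¹ := by
              set w := x.1 * y.1 * x.1⁻¹ * y.1⁻¹ with hw
              have hwL : w ∈ L₁ :=
                L₁.mul_mem (L₁.mul_mem (L₁.mul_mem x.2 y.2) (L₁.inv_mem x.2)) (L₁.inv_mem y.2)
              have h1 : w * cx⁻¹ = cx⁻¹ * w := by
                have := hcxc w hwL
                calc w * cx⁻¹ = cx⁻¹ * (cx * w) * cx⁻¹ := by group
                  _ = cx⁻¹ * (w * cx) * cx⁻¹ := by rw [this]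
                  _ = cx⁻¹ * w := by group
              have h2 : w * cy⁻¹ = cy⁻¹ * w := by
                have := hcyc w hwL
                calc w * cy⁻¹ = cy⁻¹ * (cy * w) * cy⁻¹ := by group
                  _ = cy⁻¹ * (w * cy) * cy⁻¹ := by rw [this]
                  _ = cy⁻¹ * w := by group
              have h3 : cy * cx⁻¹ = cx⁻¹ * cy := by
                have := hcxc cy hcyL
                calc cy * cx⁻¹ = cx⁻¹ * (cx * cy) * cx⁻¹ := by group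
                  _ = cx⁻¹ * (cy * cx) * cx⁻¹ := by rw [this]
                  _ = cx⁻¹ * cy := by group
              calc cx * cy * w * cx⁻¹ * cy⁻¹ = cx * cy * (w * cx⁻¹) * cy⁻¹ := by group
                _ = cx * (cy * cx⁻¹) * w * cy⁻¹ := by rw [h1]; group
                _ = cx * (cx⁻¹ * cy) * w * cy⁻¹ := by rw [h3]
                _ = cy * (w * cy⁻¹) := by group
                _ = w := by rw [h2]; group
      calc x.1 * y.1 * x.1⁻¹ * y.1⁻¹ * m = (m * (x.1 * y.1 * x.1⁻¹ * y.1⁻¹) * m⁻¹) * m := by rw [key]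
        _ = m * (x.1 * y.1 * x.1⁻¹ * y.1⁻¹) := by group
    rw [hperf] at hcomm
    have hmcent : ∀ x ∈ L₁, x * (a * b) = (a * b) * x := by
      intro x hx
      have := hcomm (Subgroup.mem_top (⟨x, hx⟩ : ↥L₁))
      rw [mem_subgroupOf, mem_centralizer_singleton_iff] at this
      exact this
    have hacent : ∀ y ∈ L₁, a * y = y * a := by
      intro y hy
      have h1 := hmcent y hy
      have h2 := hc y hy b hb
      -- y a b = a b y = a y b
      have : y * a * b = a * y * b := by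
        calc y * a * b = y * (a * b) := by group
          _ = (a * b) * y := h1
          _ = a * (b * y) := by group
          _ = a * (y * b) := by rw [h2]
          _ = a * y * b := by group
      exact (mul_right_cancel this).symm
    exact L₂.mul_mem (hZ₁ a ha hacent) hb
  · left
    intro x hx
    have : (⟨x, hx⟩ : ↥L₁) ∈ M.subgroupOf L₁ := by rw [h]; exact Subgroup.mem_top _
    rw [mem_subgroupOf] at this
    exact this

/-- transfer the count of solutions of `x^4 = 1` from the subtype to a set of the ambient group. -/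
theorem ncard_pow_four {L : Subgroup G} (h : Nat.card {x : ↥L // x ^ 4 = 1} = 8) :
    ({c : G | c ∈ L ∧ c ^ 4 = 1} : Set G).ncard = 8 := by
  rw [← h, ← Nat.card_coe_set_eq]
  apply Nat.card_congr
  refine
    { toFun := fun c => ⟨⟨c.1, c.2.1⟩, Subtype.ext c.2.2⟩
      invFun := fun x => ⟨x.1.1, x.1.2, congrArg Subtype.val x.2⟩
      left_inv := fun c => rfl
      right_inv := fun x => rfl }

/-- The case of two copies of `SL₂(3)`. -/
theorem eq_or_eq_of_sl23 [Finite G] {L₁ L₂ M : Subgroup G} (hc : ∀ x ∈ L₁, ∀ y ∈ L₂, x * y = y * x)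
    (j : G) (hj2 : j * j = 1) (hj₁ : j ∈ L₁) (hj₂ : j ∈ L₂)
    (hint : ∀ x ∈ L₁, x ∈ L₂ → x = 1 ∨ x = j)
    (hML : M ≤ L₁ ⊔ L₂) (hMn₁ : ∀ x ∈ L₁, ∀ m ∈ M, x * m * x⁻¹ ∈ M)
    (hMn₂ : ∀ x ∈ L₂, ∀ m ∈ M, x * m * x⁻¹ ∈ M)
    (h₁ : IsSL23Like ↥L₁) (h₂ : IsSL23Like ↥L₂) (hM : IsSL23Like ↥M) :
    M = L₁ ∨ M = L₂ := by
  classical
  -- element forms of the abstract facts
  have comm₁ : ∀ a ∈ L₁, a ≠ 1 → a ^ 3 = 1 → ∀ c ∈ L₁, c ^ 4 = 1 →
      ∃ x ∈ L₁, ∃ x' ∈ L₁, c = (x * a * x⁻¹ * a⁻¹) * (x' * a * x'⁻¹ * a⁻¹) := by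
    intro a ha ha1 ha3 c hcL hc4
    obtain ⟨x, x', hx⟩ := h₁.comm ⟨a, ha⟩ (fun h => ha1 (congrArg Subtype.val h)) (Subtype.ext ha3)
      ⟨c, hcL⟩ (Subtype.ext hc4)
    exact ⟨x.1, x.2, x'.1, x'.2, congrArg Subtype.val hx⟩
  have comm₂ : ∀ a ∈ L₂, a ≠ 1 → a ^ 3 = 1 → ∀ c ∈ L₂, c ^ 4 = 1 →
      ∃ x ∈ L₂, ∃ x' ∈ L₂, c = (x * a * x⁻¹ * a⁻¹) * (x' * a * x'⁻¹ * a⁻¹) := by
    intro a ha ha1 ha3 c hcL hc4
    obtain ⟨x, x', hx⟩ := h₂.comm ⟨a, ha⟩ (fun h => ha1 (congrArg Subtype.val h)) (Subtype.ext ha3)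
      ⟨c, hcL⟩ (Subtype.ext hc4)
    exact ⟨x.1, x.2, x'.1, x'.2, congrArg Subtype.val hx⟩
  have cover₁ : ∀ a ∈ L₁, a ≠ 1 → a ^ 3 = 1 → ∀ y ∈ L₁,
      ∃ c ∈ L₁, c ^ 4 = 1 ∧ (y = c ∨ y = c * a ∨ y = c * a * a) := by
    intro a ha ha1 ha3 y hy
    obtain ⟨c, hc4, hyc⟩ := h₁.cover ⟨a, ha⟩ (fun h => ha1 (congrArg Subtype.val h)) (Subtype.ext ha3) ⟨y, hy⟩
    refine ⟨c.1, c.2, congrArg Subtype.val hc4, ?_⟩
    rcases hyc with h | h | h
    · exact Or.inl (congrArg Subtype.val h)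
    · exact Or.inr (Or.inl (congrArg Subtype.val h))
    · exact Or.inr (Or.inr (congrArg Subtype.val h))
  have cover₂ : ∀ a ∈ L₂, a ≠ 1 → a ^ 3 = 1 → ∀ y ∈ L₂,
      ∃ c ∈ L₂, c ^ 4 = 1 ∧ (y = c ∨ y = c * a ∨ y = c * a * a) := by
    intro a ha ha1 ha3 y hy
    obtain ⟨c, hc4, hyc⟩ := h₂.cover ⟨a, ha⟩ (fun h => ha1 (congrArg Subtype.val h)) (Subtype.ext ha3) ⟨y, hy⟩
    refine ⟨c.1, c.2, congrArg Subtype.val hc4, ?_⟩
    rcases hyc with h | h | h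
    · exact Or.inl (congrArg Subtype.val h)
    · exact Or.inr (Or.inl (congrArg Subtype.val h))
    · exact Or.inr (Or.inr (congrArg Subtype.val h))
  have hQ₁ := ncard_pow_four h₁.card4
  have hQ₂ := ncard_pow_four h₂.card4
  have hQM := ncard_pow_four hM.card4
  -- an element of order three in M
  have hfinM : Finite ↥M := inferInstance
  have h3 : 3 ∣ Nat.card ↥M := by rw [hM.card]; norm_num
  have : Fact (Nat.Prime 3) := ⟨Nat.prime_three⟩
  obtain ⟨m, hm3⟩ := exists_prime_orderOf_dvd_card' 3 h3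
  have hmM : (m : G) ∈ M := m.2
  have hm1 : (m : G) ≠ 1 := by
    intro h
    have : m = 1 := Subtype.ext h
    rw [this, orderOf_one] at hm3
    omega
  have hm3' : (m : G) ^ 3 = 1 := by
    have : m ^ 3 = 1 := by rw [← hm3]; exact pow_orderOf_eq_one m
    exact congrArg Subtype.val this
  obtain ⟨a0, ha0, b0, hb0, hmab0⟩ := mem_sup_of_commute hc (hML hmM)
  -- normalise so that a^3 = 1 = b^3
  have hjc₁ : ∀ x ∈ L₁, x * j = j * x := fun x hx => hc x hx j hj₂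
  have hjc₂ : ∀ y ∈ L₂, j * y = y * j := fun y hy => hc j hj₁ y hy
  obtain ⟨a, ha, b, hb, hmab, ha3, hb3⟩ : ∃ a ∈ L₁, ∃ b ∈ L₂, (m : G) = a * b ∧ a ^ 3 = 1 ∧ b ^ 3 = 1 := by
    have hcomm0 : a0 * b0 = b0 * a0 := hc a0 ha0 b0 hb0
    have hpow : a0 ^ 3 * b0 ^ 3 = 1 := by
      rw [← (Commute.mul_pow (show Commute a0 b0 from hcomm0) 3), ← hmab0, hm3']
    have ha3mem : a0 ^ 3 ∈ L₂ := by
      have : a0 ^ 3 = (b0 ^ 3)⁻¹ := eq_inv_of_mul_eq_one_left hpow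
      rw [this]
      exact L₂.inv_mem (L₂.pow_mem hb0 3)
    rcases hint (a0 ^ 3) (L₁.pow_mem ha0 3) ha3mem with h | h
    · refine ⟨a0, ha0, b0, hb0, hmab0, h, ?_⟩
      rw [h, one_mul] at hpow
      exact hpow
    · have hj3 : j ^ 3 = j := by rw [pow_succ, pow_two, hj2, one_mul]
      have hb03 : b0 ^ 3 = j := by
        rw [h] at hpow
        have : b0 ^ 3 = j⁻¹ := eq_inv_of_mul_eq_one_right hpow
        rw [this, inv_eq_iff_mul_eq_one, hj2]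
      refine ⟨a0 * j, L₁.mul_mem ha0 hj₁, j * b0, L₂.mul_mem hj₂ hb0, ?_, ?_, ?_⟩
      · rw [hmab0]
        calc a0 * b0 = a0 * (j * j) * b0 := by rw [hj2, mul_one]
          _ = a0 * j * (j * b0) := by group
      · rw [(Commute.mul_pow (show Commute a0 j from hjc₁ a0 ha0) 3), h, hj3, hj2]
      · rw [(Commute.mul_pow (show Commute j b0 from hjc₂ b0 hb0) 3), hb03, hj3, hj2]
  have hab : a * b = b * a := hc a ha b hb
  -- commutators with a, b lie in M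
  have hcomm_a : ∀ x ∈ L₁, x * a * x⁻¹ * a⁻¹ ∈ M := by
    intro x hx
    have h1 : x * (m : G) * x⁻¹ ∈ M := hMn₁ x hx _ hmM
    have h2 : x * (m : G) * x⁻¹ * (m : G)⁻¹ ∈ M := M.mul_mem h1 (M.inv_mem hmM)
    have e : x * (m : G) * x⁻¹ * (m : G)⁻¹ = x * a * x⁻¹ * a⁻¹ := by
      rw [hmab]
      have hbx : b * x⁻¹ = x⁻¹ * b := (hc x⁻¹ (L₁.inv_mem hx) b hb).symm
      calc x * (a * b) * x⁻¹ * (a * b)⁻¹ = x * a * (b * x⁻¹) * b⁻¹ * a⁻¹ := by group
        _ = x * a * (x⁻¹ * b) * b⁻¹ * a⁻¹ := by rw [hbx]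
        _ = x * a * x⁻¹ * a⁻¹ := by group
    rw [e] at h2
    exact h2
  have hcomm_b : ∀ y ∈ L₂, y * b * y⁻¹ * b⁻¹ ∈ M := by
    intro y hy
    have h1 : y * (m : G) * y⁻¹ ∈ M := hMn₂ y hy _ hmM
    have h2 : y * (m : G) * y⁻¹ * (m : G)⁻¹ ∈ M := M.mul_mem h1 (M.inv_mem hmM)
    have e : y * (m : G) * y⁻¹ * (m : G)⁻¹ = y * b * y⁻¹ * b⁻¹ := by
      rw [hmab]
      have hay : y * a = a * y := (hc a ha y hy).symm
      have hay' : a⁻¹ * (y * b * y⁻¹ * b⁻¹) = (y * b * y⁻¹ * b⁻¹) * a⁻¹ :=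
        hc a⁻¹ (L₁.inv_mem ha) _ (L₂.mul_mem (L₂.mul_mem (L₂.mul_mem hy hb) (L₂.inv_mem hy)) (L₂.inv_mem hb))
      calc y * (a * b) * y⁻¹ * (a * b)⁻¹ = (y * a) * b * y⁻¹ * b⁻¹ * a⁻¹ := by group
        _ = (a * y) * b * y⁻¹ * b⁻¹ * a⁻¹ := by rw [hay]
        _ = a * ((y * b * y⁻¹ * b⁻¹) * a⁻¹) := by group
        _ = a * (a⁻¹ * (y * b * y⁻¹ * b⁻¹)) := by rw [hay']
        _ = y * b * y⁻¹ * b⁻¹ := by group
    rw [e] at h2
    exact h2
  have hQ₁M : a ≠ 1 → ∀ c ∈ L₁, c ^ 4 = 1 → c ∈ M := by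
    intro ha1 c hcL hc4
    obtain ⟨x, hx, x', hx', rfl⟩ := comm₁ a ha ha1 ha3 c hcL hc4
    exact M.mul_mem (hcomm_a x hx) (hcomm_a x' hx')
  have hQ₂M : b ≠ 1 → ∀ c ∈ L₂, c ^ 4 = 1 → c ∈ M := by
    intro hb1 c hcL hc4
    obtain ⟨x, hx, x', hx', rfl⟩ := comm₂ b hb hb1 hb3 c hcL hc4
    exact M.mul_mem (hcomm_b x hx) (hcomm_b x' hx')
  by_cases ha1 : a = 1
  · -- m = b ∈ L₂
    right
    have hb1 : b ≠ 1 := by
      intro h
      apply hm1
      rw [hmab, ha1, h, one_mul]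
    have hbM : b ∈ M := by
      have : (m : G) = b := by rw [hmab, ha1, one_mul]
      rw [← this]; exact hmM
    have hle : L₂ ≤ M := by
      intro y hy
      obtain ⟨c, hcL, hc4, hyc⟩ := cover₂ b hb hb1 hb3 y hy
      have hcM := hQ₂M hb1 c hcL hc4
      rcases hyc with rfl | rfl | rfl
      · exact hcM
      · exact M.mul_mem hcM hbM
      · exact M.mul_mem (M.mul_mem hcM hbM) hbM
    have hfin₂ : Finite ↥L₂ := inferInstance
    exact (Subgroup.eq_of_le_of_card_ge hle (by rw [hM.card, h₂.card])).symm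
  · by_cases hb1 : b = 1
    · left
      have haM : a ∈ M := by
        have : (m : G) = a := by rw [hmab, hb1, mul_one]
        rw [← this]; exact hmM
      have hle : L₁ ≤ M := by
        intro y hy
        obtain ⟨c, hcL, hc4, hyc⟩ := cover₁ a ha ha1 ha3 y hy
        have hcM := hQ₁M ha1 c hcL hc4
        rcases hyc with rfl | rfl | rfl
        · exact hcM
        · exact M.mul_mem hcM haM
        · exact M.mul_mem (M.mul_mem hcM haM) haM
      exact (Subgroup.eq_of_le_of_card_ge hle (by rw [hM.card, h₁.card])).symm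
    · exfalso
      -- both Q₁ and Q₂ lie in the 8-element set of solutions of x^4 = 1 in M
      have hsub₁ : ({c : G | c ∈ L₁ ∧ c ^ 4 = 1} : Set G) ⊆ {c : G | c ∈ M ∧ c ^ 4 = 1} :=
        fun c hc => ⟨hQ₁M ha1 c hc.1 hc.2, hc.2⟩
      have hsub₂ : ({c : G | c ∈ L₂ ∧ c ^ 4 = 1} : Set G) ⊆ {c : G | c ∈ M ∧ c ^ 4 = 1} :=
        fun c hc => ⟨hQ₂M hb1 c hc.1 hc.2, hc.2⟩
      have heq₁ := Set.eq_of_subset_of_ncard_le hsub₁ (by rw [hQ₁, hQM]) (Set.toFinite _)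
      have hsub : ({c : G | c ∈ L₂ ∧ c ^ 4 = 1} : Set G) ⊆ ({1, j} : Set G) := by
        intro c hc
        have h1 : c ∈ ({c : G | c ∈ L₁ ∧ c ^ 4 = 1} : Set G) := by rw [heq₁]; exact hsub₂ hc
        rcases hint c h1.1 hc.1 with h | h
        · left; exact h
        · right; exact h
      have h1 := Set.ncard_le_ncard hsub (Set.toFinite _)
      have h2 : ({1, j} : Set G).ncard ≤ 2 := (Set.ncard_insert_le _ _).trans (by simp)
      omega

end Cfsg.Agent.Lib.Helper19.CentralProd
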