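import Mathlib
import Cfsg.Agent.Lib.Helper19.AltSolv

set_option autoImplicit false

namespace Cfsg.Agent.Lib.Helper19.ChiefSimple

open Cfsg.Agent.Lib.Helper19

/-- order of a join with a normal subgroup -/
theorem card_sup_eq {K : Type*} [Group K] [Finite K] (A B : Subgroup K) [B.Normal] :
    Nat.card (A ⊔ B : Subgroup K) = Nat.card B * B.relIndex A := by
  have h1 := Subgroup.relIndex_mul_relIndex (⊥ : Subgroup K) B (A ⊔ B) bot_le le_sup_right
  rw [Subgroup.relIndex_bot_left, Subgroup.relIndex_bot_left, Subgroup.relIndex_sup_right] at h1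
  exact h1.symm

/-- the join of two `p'`-subgroups, one of them normal, is a `p'`-subgroup -/
theorem not_dvd_card_sup {K : Type*} [Group K] [Finite K] {p : ℕ} (hp : p.Prime)
    (A B : Subgroup K) [B.Normal]
    (hA : ¬ p ∣ Nat.card A) (hB : ¬ p ∣ Nat.card B) : ¬ p ∣ Nat.card (A ⊔ B : Subgroup K) := by
  rw [card_sup_eq]
  intro h
  rcases (Nat.Prime.dvd_mul hp).mp h with h | h
  · exact hB h
  · exact hA (h.trans (Subgroup.relIndex_dvd_card _ _))

/-- a normal subgroup of index prime to `p` contains every element of order dividing `p` -/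
theorem mem_of_pow_eq_one {K : Type*} [Group K] [Finite K] {p : ℕ} (hp : p.Prime)
    (M : Subgroup K) [M.Normal]
    (hM : ¬ p ∣ M.index) (y : K) (hy : y ^ p = 1) : y ∈ M := by
  rw [← QuotientGroup.eq_one_iff (N := M)]
  have h1 : orderOf (y : K ⧸ M) ∣ p := by
    apply orderOf_dvd_of_pow_eq_one
    rw [← QuotientGroup.mk_pow, hy]; rfl
  have h2 : orderOf (y : K ⧸ M) ∣ M.index := by
    rw [Subgroup.index_eq_card]
    exact orderOf_dvd_natCard _
  rcases (Nat.dvd_prime hp).mp h1 with h | h
  · exact orderOf_eq_one_iff.mp h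
  · exact absurd (h ▸ h2) hM

/-- a minimal normal subgroup whose order is divisible by a prime exactly once is simple -/
theorem simple_of_minimal_normal {Γ : Type*} [Group Γ] [Finite Γ] (K : Subgroup Γ)
    [hKn : K.Normal] (hK : K ≠ ⊥)
    (hmin : ∀ L : Subgroup Γ, L.Normal → L ≤ K → L = ⊥ ∨ L = K) {p : ℕ} (hp : p.Prime)
    (hpd : p ∣ Nat.card K) (hp2 : ¬ p ^ 2 ∣ Nat.card K) : IsSimpleGroup K := by
  have : Fact p.Prime := ⟨hp⟩
  have : Nontrivial K := (Subgroup.nontrivial_iff_ne_bot K).mpr hK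
  refine ⟨fun M hM => ?_⟩
  by_cases hpM : p ∣ Nat.card M
  · right
    have hidx : ¬ p ∣ M.index := by
      intro h
      apply hp2
      rw [← Subgroup.card_mul_index M, pow_two]
      exact mul_dvd_mul hpM h
    have hmem : ∀ y : K, y ^ p = 1 → y ∈ M := mem_of_pow_eq_one hp M hidx
    obtain ⟨x, hx⟩ := exists_prime_orderOf_dvd_card' (G := M) p hpM
    have hLK : (M.map K.subtype).normalCore ≤ K :=
      (Subgroup.normalCore_le _).trans (Subgroup.map_subtype_le M)
    have hxp : ((x : K) : Γ) ^ p = 1 := by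
      have h1 := pow_orderOf_eq_one x
      rw [hx] at h1
      have h2 := congrArg (fun z : M => ((z : K) : Γ)) h1
      simpa using h2
    have hxL : ((x : K) : Γ) ∈ (M.map K.subtype).normalCore := by
      intro b
      have hbK : b * ((x : K) : Γ) * b⁻¹ ∈ K := hKn.conj_mem _ (x : K).2 b
      refine ⟨⟨_, hbK⟩, ?_, rfl⟩
      apply hmem
      apply Subtype.ext
      show (b * ((x : K) : Γ) * b⁻¹) ^ p = 1
      rw [conj_pow, hxp]
      group
    rcases hmin _ inferInstance hLK with h | h
    · exfalso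
      rw [h, Subgroup.mem_bot] at hxL
      have hx1 : x = 1 := by
        apply Subtype.ext
        apply Subtype.ext
        simpa using hxL
      rw [hx1, orderOf_one] at hx
      exact hp.one_lt.ne hx
    · rw [eq_top_iff]
      intro y _
      have h1 : (y : Γ) ∈ (M.map K.subtype).normalCore := by
        rw [h]
        exact y.2
      obtain ⟨z, hz, hzy⟩ := Subgroup.normalCore_le _ h1
      have h2 : z = y := Subtype.ext hzy
      exact h2 ▸ hz
  · left
    have hne : Nonempty {A : Subgroup K // A.Normal ∧ ¬ p ∣ Nat.card A} :=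
      ⟨⟨⊥, inferInstance, by
        rw [Subgroup.card_bot]
        intro h
        exact hp.one_lt.ne' (Nat.dvd_one.mp h)⟩⟩
    obtain ⟨⟨O, hOn, hOp⟩, hOmax⟩ :=
      Finite.exists_max (fun A : {A : Subgroup K // A.Normal ∧ ¬ p ∣ Nat.card A} => Nat.card A.1)
    have hle : ∀ A : Subgroup K, A.Normal → ¬ p ∣ Nat.card A → A ≤ O := by
      intro A hA hAp
      have h1 : ¬ p ∣ Nat.card (A ⊔ O : Subgroup K) := not_dvd_card_sup hp A O hAp hOp
      have h2 := hOmax ⟨A ⊔ O, inferInstance, h1⟩
      have h3 : O = A ⊔ O := Subgroup.eq_of_le_of_card_ge le_sup_right h2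
      rw [h3]
      exact le_sup_left
    have hOΓ : (O.map K.subtype).Normal := by
      constructor
      intro x hx g
      obtain ⟨o, ho, rfl⟩ := hx
      have hA : (O.map (MulAut.conjNormal g : K ≃* K).toMonoidHom).Normal :=
        hOn.map _ (MulAut.conjNormal g : K ≃* K).surjective
      have hAc : Nat.card (O.map (MulAut.conjNormal g : K ≃* K).toMonoidHom) = Nat.card O :=
        Subgroup.card_map_of_injective (MulAut.conjNormal g : K ≃* K).injective
      have h1 := hle _ hA (by rw [hAc]; exact hOp)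
      have hmem : (MulAut.conjNormal g : K ≃* K) o ∈ O := h1 ⟨o, ho, rfl⟩
      exact ⟨(MulAut.conjNormal g : K ≃* K) o, hmem, rfl⟩
    rcases hmin _ hOΓ (Subgroup.map_subtype_le O) with h | h
    · have hO : O = ⊥ := by
        rw [eq_bot_iff]
        intro o ho
        have h1 : (o : Γ) ∈ O.map K.subtype := ⟨o, ho, rfl⟩
        rw [h, Subgroup.mem_bot] at h1
        rw [Subgroup.mem_bot]
        exact Subtype.ext h1
      rw [eq_bot_iff, ← hO]
      exact hle M hM hpM
    · exfalso
      apply hOp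
      have h1 : Nat.card (O.map K.subtype) = Nat.card O :=
        Subgroup.card_map_of_injective K.subtype_injective
      rw [← h1, h]
      exact hpd

/-- an element of order `q` normalising a subgroup of order `p` gives an element of order
`p * q` when `p ≢ 1 (mod q)` -/
theorem exists_order_mul_of_normalizer {G : Type*} [Group G] [Finite G] {p q : ℕ}
    (hp : p.Prime) (hq : q.Prime) (hne : p ≠ q) (hpq : ¬ p ≡ 1 [MOD q])
    (S : Subgroup G) (hScard : Nat.card S = p)
    (hqN : q ∣ Nat.card (Subgroup.normalizer (S : Set G))) : ∃ g : G, orderOf g = p * q := by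
  have : Fact p.Prime := ⟨hp⟩
  have : Fact q.Prime := ⟨hq⟩
  obtain ⟨y, hy⟩ :=
    exists_prime_orderOf_dvd_card' (G := Subgroup.normalizer (S : Set G)) q hqN
  have hQn : (S.subgroupOf (Subgroup.normalizer (S : Set G))).Normal :=
    Subgroup.normal_in_normalizer
  have hQc : Nat.card (S.subgroupOf (Subgroup.normalizer (S : Set G))) = p := by
    rw [← hScard]
    exact Nat.card_congr (Subgroup.subgroupOfEquivOfLe Subgroup.le_normalizer).toEquiv
  obtain ⟨s, hsS, hs1, hys⟩ := AltSolv.exists_commuting hq _ hQc y hy hpq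
  have hso : orderOf s = p := by
    have h1 : orderOf (⟨s, hsS⟩ : S.subgroupOf (Subgroup.normalizer (S : Set G))) ∣ p := by
      have := orderOf_dvd_natCard (⟨s, hsS⟩ : S.subgroupOf (Subgroup.normalizer (S : Set G)))
      rwa [hQc] at this
    rw [← Subgroup.orderOf_coe] at h1
    rcases (Nat.dvd_prime hp).mp h1 with h2 | h2
    · exact absurd (orderOf_eq_one_iff.mp h2) hs1
    · exact h2
  have hco : (orderOf y).Coprime (orderOf s) := by
    rw [hy, hso]
    exact (Nat.coprime_primes hq hp).mpr (Ne.symm hne)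
  have h5 := Commute.orderOf_mul_eq_mul_orderOf_of_coprime hys hco
  rw [hy, hso] at h5
  refine ⟨((y * s : Subgroup.normalizer (S : Set G)) : G), ?_⟩
  rw [Subgroup.orderOf_coe, h5, mul_comm]

/-- the Frattini argument: a normal subgroup whose order is divisible by `p` has order
divisible by `q`, when `p` divides the order of the group exactly once and there is no
element of order `p * q` -/
theorem dvd_card_normal {G : Type*} [Group G] [Finite G] {p q : ℕ} (hp : p.Prime) (hq : q.Prime)
    (hp2 : ¬ p ^ 2 ∣ Nat.card G) (hqG : q ∣ Nat.card G)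
    (hpq : ¬ p ≡ 1 [MOD q]) (hne : p ≠ q)
    (hno : ∀ g : G, orderOf g ≠ p * q)
    (H : Subgroup G) [H.Normal] (hpH : p ∣ Nat.card H) : q ∣ Nat.card H := by
  have : Fact p.Prime := ⟨hp⟩
  have : Fact q.Prime := ⟨hq⟩
  by_contra hqH
  obtain ⟨S⟩ : Nonempty (Sylow p H) := inferInstance
  have hScard : Nat.card ((S : Subgroup H).map H.subtype) = p := by
    rw [Subgroup.card_map_of_injective H.subtype_injective, Sylow.card_eq_multiplicity]
    have h1 : (Nat.card H).factorization p = 1 := by
      have hle : (Nat.card H).factorization p ≤ 1 := by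
        by_contra h
        push Not at h
        apply hp2
        have h3 : p ^ 2 ∣ Nat.card H :=
          (pow_dvd_pow p h).trans (Nat.ordProj_dvd (Nat.card H) p)
        exact h3.trans (Subgroup.card_subgroup_dvd_card H)
      have hge : 1 ≤ (Nat.card H).factorization p :=
        (hp.dvd_iff_one_le_factorization Nat.card_pos.ne').mp hpH
      omega
    rw [h1, pow_one]
  have hfrat : Subgroup.normalizer (((S : Subgroup H).map H.subtype : Subgroup G) : Set G) ⊔ H
      = ⊤ := Sylow.normalizer_sup_eq_top S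
  have hqN : q ∣ Nat.card
      (Subgroup.normalizer (((S : Subgroup H).map H.subtype : Subgroup G) : Set G)) := by
    have h1 := card_sup_eq
      (Subgroup.normalizer (((S : Subgroup H).map H.subtype : Subgroup G) : Set G)) H
    rw [hfrat, Subgroup.card_top] at h1
    rw [h1] at hqG
    rcases (Nat.Prime.dvd_mul hq).mp hqG with h | h
    · exact absurd h hqH
    · exact h.trans (Subgroup.relIndex_dvd_card _ _)
  obtain ⟨g, hg⟩ := exists_order_mul_of_normalizer hp hq hne hpq _ hScard hqN
  exact hno g hg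

/-- the isomorphism between `H / N` and the image of `H` in `G / N` -/
noncomputable def quotEquivMap {G : Type*} [Group G] (N H : Subgroup G) [N.Normal] :
    (↥H ⧸ N.subgroupOf H) ≃* ↥(H.map (QuotientGroup.mk' N)) :=
  (QuotientGroup.quotientMulEquivOfEq (by
    ext x
    rw [MonoidHom.mem_ker, Subgroup.mem_subgroupOf]
    constructor
    · intro hx
      apply Subtype.ext
      show (QuotientGroup.mk' N) (x : G) = 1
      exact (QuotientGroup.eq_one_iff _).mpr hx
    · intro hx
      have h1 : (QuotientGroup.mk' N) (x : G) = 1 := congrArg Subtype.val hx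
      exact (QuotientGroup.eq_one_iff _).mp h1)).trans
  (QuotientGroup.quotientKerEquivOfSurjective ((QuotientGroup.mk' N).subgroupMap H)
    ((QuotientGroup.mk' N).subgroupMap_surjective H))

/-- a chief factor whose order is divisible by a prime exactly once is simple -/
theorem simple_chief_factor {G : Type*} [Group G] [Finite G] (N H : Subgroup G) [hN : N.Normal]
    [hH : H.Normal] (hNH : N < H)
    (hchief : ∀ L : Subgroup G, L.Normal → N ≤ L → L ≤ H → L = N ∨ L = H) {p : ℕ}
    (hp : p.Prime) (hpd : p ∣ Nat.card (↥H ⧸ N.subgroupOf H))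
    (hp2 : ¬ p ^ 2 ∣ Nat.card (↥H ⧸ N.subgroupOf H)) :
    IsSimpleGroup (↥H ⧸ N.subgroupOf H) := by
  have hcard : Nat.card (↥H ⧸ N.subgroupOf H) = Nat.card ↥(H.map (QuotientGroup.mk' N)) :=
    Nat.card_congr (quotEquivMap N H).toEquiv
  have hKn : (H.map (QuotientGroup.mk' N)).Normal :=
    hH.map _ (QuotientGroup.mk'_surjective N)
  have hK : H.map (QuotientGroup.mk' N) ≠ ⊥ := by
    intro h
    apply not_le_of_gt hNH
    intro x hx
    have h1 : (QuotientGroup.mk' N) x ∈ H.map (QuotientGroup.mk' N) := ⟨x, hx, rfl⟩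
    rw [h, Subgroup.mem_bot] at h1
    exact (QuotientGroup.eq_one_iff _).mp h1
  have hmin : ∀ L : Subgroup (G ⧸ N), L.Normal → L ≤ H.map (QuotientGroup.mk' N) →
      L = ⊥ ∨ L = H.map (QuotientGroup.mk' N) := by
    intro L hL hLK
    have h1 : (L.comap (QuotientGroup.mk' N)).Normal := hL.comap _
    have h2 : N ≤ L.comap (QuotientGroup.mk' N) := by
      intro x hx
      rw [Subgroup.mem_comap]
      have : (QuotientGroup.mk' N) x = 1 := (QuotientGroup.eq_one_iff _).mpr hx
      rw [this]
      exact L.one_mem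
    have h3 : L.comap (QuotientGroup.mk' N) ≤ H := by
      intro x hx
      rw [Subgroup.mem_comap] at hx
      obtain ⟨h, hh, hhx⟩ := hLK hx
      have h4 : h⁻¹ * x ∈ N := by
        apply (QuotientGroup.eq_one_iff (N := N) _).mp
        have : ((h⁻¹ * x : G) : G ⧸ N) = ((QuotientGroup.mk' N) h)⁻¹ * (QuotientGroup.mk' N) x :=
          rfl
        rw [this, hhx, inv_mul_cancel]
      have h5 : x = h * (h⁻¹ * x) := by group
      rw [h5]
      exact H.mul_mem hh (hNH.le h4)
    rcases hchief _ h1 h2 h3 with h | h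
    · left
      rw [eq_bot_iff]
      intro y hy
      obtain ⟨x, rfl⟩ := QuotientGroup.mk'_surjective N y
      have hx : x ∈ L.comap (QuotientGroup.mk' N) := hy
      rw [h] at hx
      rw [Subgroup.mem_bot]
      exact (QuotientGroup.eq_one_iff _).mpr hx
    · right
      apply le_antisymm hLK
      rintro _ ⟨x, hx, rfl⟩
      rw [← h] at hx
      exact hx
  have := simple_of_minimal_normal (H.map (QuotientGroup.mk' N)) hK hmin hp
    (hcard ▸ hpd) (hcard ▸ hp2)
  exact (quotEquivMap N H).isSimpleGroup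

/-- the common shape of the "simple section" step in recognition by order and spectrum:
primes dividing the order exactly once, pairwise without elements of order `p * q`, and
pairwise not congruent to `1`, all divide one non-abelian simple chief factor -/
theorem exists_simple_section {G : Type*} [Group G] [Finite G] (P : ℕ → Prop)
    (hprime : ∀ p, P p → p.Prime)
    (hdvd : ∀ p, P p → p ∣ Nat.card G) (hsq : ∀ p, P p → ¬ p ^ 2 ∣ Nat.card G)
    (hmod : ∀ p q, P p → P q → p ≠ q → ¬ p ≡ 1 [MOD q])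
    (hno : ∀ p q, P p → P q → p ≠ q → ∀ g : G, orderOf g ≠ p * q)
    (p₀ q₀ : ℕ) (hp₀ : P p₀) (hq₀ : P q₀) (hne : p₀ ≠ q₀) :
    ∃ (N H : Subgroup G) (_ : N.Normal), H.Normal ∧ N < H ∧
      IsSimpleGroup (↥H ⧸ N.subgroupOf H) ∧ ¬ IsMulCommutative (↥H ⧸ N.subgroupOf H) ∧
      ∀ p : ℕ, P p → p ∣ Nat.card (↥H ⧸ N.subgroupOf H) := by
  have key : ∀ p q, P p → P q → ∀ H : Subgroup G, H.Normal → p ∣ Nat.card H →
      q ∣ Nat.card H := by
    intro p q hp hq H hH hpH
    by_cases hpq : p = q
    · exact hpq ▸ hpH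
    · exact dvd_card_normal (hprime p hp) (hprime q hq) (hsq p hp) (hdvd q hq)
        (hmod p q hp hq hpq) hpq (hno p q hp hq hpq) H hpH
  have hne1 : Nonempty {H : Subgroup G // H.Normal ∧ p₀ ∣ Nat.card H} :=
    ⟨⟨⊤, inferInstance, by rw [Subgroup.card_top]; exact hdvd p₀ hp₀⟩⟩
  obtain ⟨⟨H, hHn, hHp⟩, hHmin⟩ :=
    Finite.exists_min (fun A : {H : Subgroup G // H.Normal ∧ p₀ ∣ Nat.card H} => Nat.card A.1)
  have hHbot : H ≠ ⊥ := by
    intro h
    rw [h, Subgroup.card_bot] at hHp
    exact (hprime p₀ hp₀).one_lt.ne' (Nat.dvd_one.mp hHp)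
  have hne2 : Nonempty {N : Subgroup G // N.Normal ∧ N < H} :=
    ⟨⟨⊥, inferInstance, bot_lt_iff_ne_bot.mpr hHbot⟩⟩
  obtain ⟨⟨N, hNn, hNH⟩, hNmax⟩ :=
    Finite.exists_max (fun A : {N : Subgroup G // N.Normal ∧ N < H} => Nat.card A.1)
  have hchief : ∀ L : Subgroup G, L.Normal → N ≤ L → L ≤ H → L = N ∨ L = H := by
    intro L hL h1 h2
    by_cases h : L = H
    · exact Or.inr h
    · left
      have h3 := hNmax ⟨L, hL, lt_of_le_of_ne h2 h⟩
      exact (Subgroup.eq_of_le_of_card_ge h1 h3).symm
  have hpN : ¬ p₀ ∣ Nat.card N := by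
    intro h
    have h1 := hHmin ⟨N, hNn, h⟩
    exact hNH.ne (Subgroup.eq_of_le_of_card_ge hNH.le h1)
  have hcardH : Nat.card H = Nat.card (↥H ⧸ N.subgroupOf H) * Nat.card N := by
    rw [Subgroup.card_eq_card_quotient_mul_card_subgroup (N.subgroupOf H)]
    congr 1
    exact Nat.card_congr (Subgroup.subgroupOfEquivOfLe hNH.le).toEquiv
  have hall : ∀ p : ℕ, P p → p ∣ Nat.card (↥H ⧸ N.subgroupOf H) := by
    intro p hp
    have h1 : p ∣ Nat.card H := key p₀ p hp₀ hp H hHn hHp
    have h2 : ¬ p ∣ Nat.card N := fun h => hpN (key p p₀ hp hp₀ N hNn h)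
    rw [hcardH] at h1
    rcases (Nat.Prime.dvd_mul (hprime p hp)).mp h1 with h | h
    · exact h
    · exact absurd h h2
  have hsq0 : ¬ p₀ ^ 2 ∣ Nat.card (↥H ⧸ N.subgroupOf H) := by
    intro h
    apply hsq p₀ hp₀
    exact (h.trans (Dvd.intro _ hcardH.symm)).trans (Subgroup.card_subgroup_dvd_card H)
  have hsimple : IsSimpleGroup (↥H ⧸ N.subgroupOf H) :=
    simple_chief_factor N H hNH hchief (hprime p₀ hp₀) (hall p₀ hp₀) hsq0
  refine ⟨N, H, hNn, hHn, hNH, hsimple, ?_, hall⟩
  intro hcomm
  have : Fact p₀.Prime := ⟨hprime p₀ hp₀⟩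
  obtain ⟨x, hx⟩ := exists_prime_orderOf_dvd_card' (G := ↥H ⧸ N.subgroupOf H) p₀ (hall p₀ hp₀)
  have hZn : (Subgroup.zpowers x).Normal := by
    constructor
    intro a ha g
    rw [hcomm.is_comm.comm g a, mul_inv_cancel_right]
    exact ha
  rcases hsimple.eq_bot_or_eq_top_of_normal _ hZn with h | h
  · rw [Subgroup.zpowers_eq_bot] at h
    rw [h, orderOf_one] at hx
    exact (hprime p₀ hp₀).one_lt.ne hx
  · have h1 : Nat.card (↥H ⧸ N.subgroupOf H) = p₀ := by
      rw [← hx, ← Nat.card_zpowers, h, Subgroup.card_top]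
    have h2 := hall q₀ hq₀
    rw [h1] at h2
    exact hne ((Nat.prime_dvd_prime_iff_eq (hprime q₀ hq₀) (hprime p₀ hp₀)).mp h2).symm

end Cfsg.Agent.Lib.Helper19.ChiefSimple
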