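import Mathlib

set_option autoImplicit false

namespace Cfsg.Agent.Lib.Helper19.DiamTwo

/-- a graph in which any two vertices are equal, adjacent or have a common neighbour, and which
has two distinct non-adjacent vertices, is connected of diameter two -/
theorem connected_and_diam_eq_two {V : Type*} (Γ : SimpleGraph V)
    (h1 : ∀ u v : V, u = v ∨ Γ.Adj u v ∨ ∃ w, Γ.Adj u w ∧ Γ.Adj w v)
    (h2 : ∃ u v : V, u ≠ v ∧ ¬ Γ.Adj u v) : Γ.Connected ∧ Γ.diam = 2 := by
  obtain ⟨u₀, v₀, hne, hnadj⟩ := h2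
  have hreach : ∀ u v, Γ.Reachable u v := by
    intro u v
    rcases h1 u v with rfl | h | ⟨w, h1, h2⟩
    · exact SimpleGraph.Reachable.refl _
    · exact h.reachable
    · exact h1.reachable.trans h2.reachable
  have hconn : Γ.Connected := { preconnected := hreach, nonempty := ⟨u₀⟩ }
  refine ⟨hconn, ?_⟩
  have hle : Γ.ediam ≤ 2 := by
    apply SimpleGraph.ediam_le_of_edist_le
    intro u v
    rcases h1 u v with rfl | h | ⟨w, h1, h2⟩
    · simp
    · rw [SimpleGraph.edist_eq_one_iff_adj.2 h]; norm_num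
    · calc Γ.edist u v ≤ Γ.edist u w + Γ.edist w v := SimpleGraph.edist_triangle
        _ = 1 + 1 := by
          rw [SimpleGraph.edist_eq_one_iff_adj.2 h1, SimpleGraph.edist_eq_one_iff_adj.2 h2]
        _ = 2 := by norm_num
  have hge : 2 ≤ Γ.ediam := by
    have h3 : Γ.edist u₀ v₀ ≤ Γ.ediam := SimpleGraph.edist_le_ediam
    have h0 : Γ.edist u₀ v₀ ≠ 0 := by
      rw [Ne, SimpleGraph.edist_eq_zero_iff]
      exact hne
    have h1' : Γ.edist u₀ v₀ ≠ 1 := by
      rw [Ne, SimpleGraph.edist_eq_one_iff_adj]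
      exact hnadj
    have h4 : (1 : ℕ∞) + 1 ≤ Γ.edist u₀ v₀ := by
      rw [ENat.add_one_le_iff (by norm_num)]
      exact lt_of_le_of_ne (Order.one_le_iff_ne_zero.2 h0) (Ne.symm h1')
    have h5 : (2 : ℕ∞) = 1 + 1 := by norm_num
    rw [h5]
    exact h4.trans h3
  have heq : Γ.ediam = 2 := le_antisymm hle hge
  rw [SimpleGraph.diam, heq]
  rfl

end Cfsg.Agent.Lib.Helper19.DiamTwo
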