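import Mathlib
import Cfsg.Prelude.Def_Solvable
import Cfsg.Agent.Lib.Helper24.BaerSuzuki

set_option autoImplicit false

/-! Groups generated by two involutions; consequences of Baer–Suzuki for involutions. -/

namespace Cfsg.Agent.Lib.Helper19

variable {G : Type*} [Group G]

theorem conj_inv_of_mem_zpowers (X Y : G) (hrel : Y * X * Y⁻¹ = X⁻¹) :
    ∀ a ∈ Subgroup.zpowers X, Y * a * Y⁻¹ = a⁻¹ := by
  intro a ha
  obtain ⟨k, rfl⟩ := Subgroup.mem_zpowers_iff.mp ha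
  rw [← conj_zpow, hrel, inv_zpow]

theorem conj_inv_of_mem_zpowers' (X Y : G) (hrel : Y * X * Y⁻¹ = X⁻¹) :
    ∀ a ∈ Subgroup.zpowers X, Y⁻¹ * a * Y = a⁻¹ := by
  intro a ha
  have h1 := conj_inv_of_mem_zpowers X Y hrel a⁻¹ (Subgroup.inv_mem _ ha)
  rw [inv_inv] at h1
  calc Y⁻¹ * a * Y = Y⁻¹ * (Y * a⁻¹ * Y⁻¹) * Y := by rw [h1]
    _ = a⁻¹ := by group

/-- the subgroup `⟨X⟩ ∪ ⟨X⟩Y` when `Y` inverts `X` and `Y² ∈ ⟨X⟩` -/
def invSubgroup (X Y : G) (hrel : Y * X * Y⁻¹ = X⁻¹) (hYY : Y * Y ∈ Subgroup.zpowers X) :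
    Subgroup G :=
  { carrier := {g | g ∈ Subgroup.zpowers X ∨ g * Y⁻¹ ∈ Subgroup.zpowers X}
    one_mem' := Or.inl (Subgroup.one_mem _)
    mul_mem' := by
      rintro g h (hg | hg) (hh | hh)
      · exact Or.inl (Subgroup.mul_mem _ hg hh)
      · right
        have : g * h * Y⁻¹ = g * (h * Y⁻¹) := by group
        rw [this]; exact Subgroup.mul_mem _ hg hh
      · right
        have : g * h * Y⁻¹ = (g * Y⁻¹) * (Y * h * Y⁻¹) := by group
        rw [this, conj_inv_of_mem_zpowers X Y hrel h hh]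
        exact Subgroup.mul_mem _ hg (Subgroup.inv_mem _ hh)
      · left
        have : g * h = (g * Y⁻¹) * (Y * (h * Y⁻¹) * Y⁻¹) * (Y * Y) := by group
        rw [this, conj_inv_of_mem_zpowers X Y hrel _ hh]
        exact Subgroup.mul_mem _ (Subgroup.mul_mem _ hg (Subgroup.inv_mem _ hh)) hYY
    inv_mem' := by
      rintro g (hg | hg)
      · exact Or.inl (Subgroup.inv_mem _ hg)
      · right
        have : g⁻¹ * Y⁻¹ = (Y⁻¹ * (g * Y⁻¹)⁻¹ * Y) * (Y * Y)⁻¹ := by group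
        rw [this, conj_inv_of_mem_zpowers' X Y hrel _ (Subgroup.inv_mem _ hg), inv_inv]
        exact Subgroup.mul_mem _ hg (Subgroup.inv_mem _ hYY) }

theorem mem_invSubgroup (X Y : G) (hrel : Y * X * Y⁻¹ = X⁻¹) (hYY : Y * Y ∈ Subgroup.zpowers X)
    (g : G) : g ∈ invSubgroup X Y hrel hYY ↔
      (g ∈ Subgroup.zpowers X ∨ g * Y⁻¹ ∈ Subgroup.zpowers X) := Iff.rfl

/-- Two involutions whose product has 2-power order generate a 2-group. -/
theorem isPGroup_two_of_involutions (a a' : G) (ha : a * a = 1) (ha' : a' * a' = 1) (K : ℕ)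
    (hK : (a * a') ^ (2 ^ K) = 1) :
    IsPGroup 2 ↥(Subgroup.zpowers a ⊔ Subgroup.zpowers a') := by
  have hainv : a⁻¹ = a := inv_eq_of_mul_eq_one_left ha
  have ha'inv : a'⁻¹ = a' := inv_eq_of_mul_eq_one_left ha'
  have hrel : a * (a * a') * a⁻¹ = (a * a')⁻¹ := by
    rw [mul_inv_rev, hainv, ha'inv, ← mul_assoc, ha, one_mul]
  have hYY : a * a ∈ Subgroup.zpowers (a * a') := by rw [ha]; exact Subgroup.one_mem _
  have hT : IsPGroup 2 ↥(invSubgroup (a * a') a hrel hYY) := by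
    rintro ⟨g, hg⟩
    rcases hg with hg | hg
    · refine ⟨K, Subtype.ext ?_⟩
      obtain ⟨i, rfl⟩ := Subgroup.mem_zpowers_iff.mp hg
      show ((a * a') ^ i) ^ (2 ^ K) = 1
      rw [← zpow_natCast, ← zpow_mul, mul_comm, zpow_mul, zpow_natCast, hK, one_zpow]
    · refine ⟨1, Subtype.ext ?_⟩
      show g ^ (2 ^ 1) = 1
      rw [pow_one, pow_two]
      have h1 := conj_inv_of_mem_zpowers (a * a') a hrel _ hg
      calc g * g = (g * a⁻¹) * (a * (g * a⁻¹) * a⁻¹) * (a * a) := by group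
        _ = 1 := by rw [h1, ha, mul_inv_cancel, one_mul]
  have haT : a ∈ invSubgroup (a * a') a hrel hYY :=
    Or.inr (by rw [mul_inv_cancel]; exact Subgroup.one_mem _)
  have ha'T : a' ∈ invSubgroup (a * a') a hrel hYY := by
    right
    have : a' * a⁻¹ = (a * a')⁻¹ := by rw [mul_inv_rev, ha'inv]
    rw [this]
    exact Subgroup.inv_mem _ (Subgroup.mem_zpowers _)
  have hle : Subgroup.zpowers a ⊔ Subgroup.zpowers a' ≤ invSubgroup (a * a') a hrel hYY :=
    sup_le ((Subgroup.zpowers_le).mpr haT) ((Subgroup.zpowers_le).mpr ha'T)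
  exact hT.to_le hle

/-- In a dihedral group of twice odd order the two generating involutions are conjugate. -/
theorem dihedral_conj (a b : G) (ha : a * a = 1) (hb : b * b = 1) (t : ℕ)
    (hr : (a * b) ^ (2 * t + 1) = 1) :
    (a * b) ^ t * a * ((a * b) ^ t)⁻¹ = b := by
  have hainv : a⁻¹ = a := inv_eq_of_mul_eq_one_left ha
  have hbinv : b⁻¹ = b := inv_eq_of_mul_eq_one_left hb
  have hrel : a * (a * b) * a⁻¹ = (a * b)⁻¹ := by
    rw [mul_inv_rev, hainv, hbinv, ← mul_assoc, ha, one_mul]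
  have h1 : a * (a * b) ^ t * a⁻¹ = ((a * b) ^ t)⁻¹ := by
    rw [← conj_pow, hrel, inv_pow]
  have h2 : (a * b) ^ t * (a * b) ^ t = (a * b)⁻¹ := by
    have : (a * b) ^ t * (a * b) ^ t * (a * b) = 1 := by
      rw [← pow_add, ← pow_succ]
      have : t + t + 1 = 2 * t + 1 := by ring
      rw [this, hr]
    exact eq_inv_of_mul_eq_one_left this
  calc (a * b) ^ t * a * ((a * b) ^ t)⁻¹
      = (a * b) ^ t * a * (a * (a * b) ^ t * a⁻¹) := by rw [h1]
    _ = (a * b) ^ t * (a * a) * (a * b) ^ t * a⁻¹ := by group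
    _ = ((a * b) ^ t * (a * b) ^ t) * a⁻¹ := by rw [ha, mul_one]
    _ = b := by rw [h2, mul_inv_rev, hainv, hbinv, mul_assoc, ha, mul_one]

/-- Consequence of Baer–Suzuki: an involution outside `O₂(G)` has product of odd order `≠ 1` with
some involution. -/
theorem exists_odd_product_of_not_mem_pCore [Finite G] (a : G) (ha : a * a = 1)
    (hnot : a ∉ Cfsg.pCore 2 G) :
    ∃ b : G, ∃ t : ℕ, b * b = 1 ∧ (a * b) ^ (2 * t + 1) = 1 ∧ a * b ≠ 1 := by
  have : Fact (Nat.Prime 2) := ⟨Nat.prime_two⟩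
  by_contra hcon
  push Not at hcon
  apply hnot
  have hainv : a⁻¹ = a := inv_eq_of_mul_eq_one_left ha
  have hX : IsPGroup 2 ↥(Subgroup.zpowers a) := by
    rintro ⟨g, hg⟩
    refine ⟨1, Subtype.ext ?_⟩
    obtain ⟨i, rfl⟩ := Subgroup.mem_zpowers_iff.mp hg
    show (a ^ i) ^ (2 ^ 1) = 1
    rw [pow_one, ← zpow_natCast, ← zpow_mul, mul_comm, zpow_mul, zpow_natCast, pow_two, ha, one_zpow]
  have key : ∀ g : G, IsPGroup 2
      ↥(Subgroup.zpowers a ⊔ (Subgroup.zpowers a).map (MulAut.conj g).toMonoidHom) := by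
    intro g
    rw [MonoidHom.map_zpowers]
    have hfa : (MulAut.conj g).toMonoidHom a = g * a * g⁻¹ := by simp [MulAut.conj_apply]
    rw [hfa]
    set a' := g * a * g⁻¹ with ha'def
    have ha' : a' * a' = 1 := by
      rw [ha'def]
      calc g * a * g⁻¹ * (g * a * g⁻¹) = g * (a * a) * g⁻¹ := by group
        _ = 1 := by rw [ha]; group
    have ha'inv : a'⁻¹ = a' := inv_eq_of_mul_eq_one_left ha'
    have hrel : a * (a * a') * a⁻¹ = (a * a')⁻¹ := by
      rw [mul_inv_rev, hainv, ha'inv, ← mul_assoc, ha, one_mul]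
    have hn0 : orderOf (a * a') ≠ 0 := (orderOf_pos (a * a')).ne'
    obtain ⟨k, m, hm, hn⟩ := Nat.exists_eq_two_pow_mul_odd hn0
    obtain ⟨t, rfl⟩ := hm
    set s := (a * a') ^ (2 ^ k) with hs
    have hsinv : a * s * a⁻¹ = s⁻¹ := by rw [hs, ← conj_pow, hrel, inv_pow]
    have hb2 : (s⁻¹ * a * s) * (s⁻¹ * a * s) = 1 := by
      calc (s⁻¹ * a * s) * (s⁻¹ * a * s) = s⁻¹ * (a * a) * s := by group
        _ = 1 := by rw [ha]; group
    have hab : a * (s⁻¹ * a * s) = s * s := by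
      calc a * (s⁻¹ * a * s) = (a * s * a⁻¹)⁻¹ * (a * a) * s := by group
        _ = s * s := by rw [hsinv, inv_inv, ha, mul_one]
    have hpow : (a * (s⁻¹ * a * s)) ^ (2 * t + 1) = 1 := by
      rw [hab, ← pow_two, hs, ← pow_mul, ← pow_mul]
      have : 2 ^ k * (2 * (2 * t + 1)) = orderOf (a * a') * 2 := by rw [hn]; ring
      rw [this, pow_mul, pow_orderOf_eq_one, one_pow]
    have h1 := hcon (s⁻¹ * a * s) t hb2 hpow
    rw [hab] at h1
    have hK : (a * a') ^ (2 ^ (k + 1)) = 1 := by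
      rw [pow_succ, pow_mul, ← hs, pow_two, h1]
    exact isPGroup_two_of_involutions a a' ha ha' (k + 1) hK
  obtain ⟨N, hN, hNp, hXN⟩ := Cfsg.Agent.Lib.Helper24.baer_suzuki (Subgroup.zpowers a) hX key
  have hle : N ≤ Cfsg.pCore 2 G := le_sSup ⟨hN, hNp⟩
  exact hle (hXN (Subgroup.mem_zpowers a))

end Cfsg.Agent.Lib.Helper19
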