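import Mathlib

set_option autoImplicit false

namespace Cfsg.Agent.Lib.Helper19.Frob13

structure M4 where
  (e11 e12 e13 e14 e21 e22 e23 e24 e31 e32 e33 e34 e41 e42 e43 e44 : ZMod 13)
deriving DecidableEq

def M4.mul (x y : M4) : M4 :=
  ⟨x.e11 * y.e11 + x.e12 * y.e21 + x.e13 * y.e31 + x.e14 * y.e41,
   x.e11 * y.e12 + x.e12 * y.e22 + x.e13 * y.e32 + x.e14 * y.e42,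
   x.e11 * y.e13 + x.e12 * y.e23 + x.e13 * y.e33 + x.e14 * y.e43,
   x.e11 * y.e14 + x.e12 * y.e24 + x.e13 * y.e34 + x.e14 * y.e44,
   x.e21 * y.e11 + x.e22 * y.e21 + x.e23 * y.e31 + x.e24 * y.e41,
   x.e21 * y.e12 + x.e22 * y.e22 + x.e23 * y.e32 + x.e24 * y.e42,
   x.e21 * y.e13 + x.e22 * y.e23 + x.e23 * y.e33 + x.e24 * y.e43,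
   x.e21 * y.e14 + x.e22 * y.e24 + x.e23 * y.e34 + x.e24 * y.e44,
   x.e31 * y.e11 + x.e32 * y.e21 + x.e33 * y.e31 + x.e34 * y.e41,
   x.e31 * y.e12 + x.e32 * y.e22 + x.e33 * y.e32 + x.e34 * y.e42,
   x.e31 * y.e13 + x.e32 * y.e23 + x.e33 * y.e33 + x.e34 * y.e43,
   x.e31 * y.e14 + x.e32 * y.e24 + x.e33 * y.e34 + x.e34 * y.e44,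
   x.e41 * y.e11 + x.e42 * y.e21 + x.e43 * y.e31 + x.e44 * y.e41,
   x.e41 * y.e12 + x.e42 * y.e22 + x.e43 * y.e32 + x.e44 * y.e42,
   x.e41 * y.e13 + x.e42 * y.e23 + x.e43 * y.e33 + x.e44 * y.e43,
   x.e41 * y.e14 + x.e42 * y.e24 + x.e43 * y.e34 + x.e44 * y.e44⟩

def M4.one : M4 := ⟨1, 0, 0, 0, 0, 1, 0, 0, 0, 0, 1, 0, 0, 0, 0, 1⟩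

def M4.subOne (x : M4) : M4 :=
  ⟨x.e11 - 1, x.e12, x.e13, x.e14, x.e21, x.e22 - 1, x.e23, x.e24, x.e31, x.e32, x.e33 - 1, x.e34, x.e41, x.e42, x.e43, x.e44 - 1⟩

def Klist : List M4 := [
  ⟨1, 0, 0, 0, 0, 1, 0, 0, 0, 0, 1, 0, 0, 0, 0, 1⟩,
  ⟨0, 0, 0, 4, 0, 0, 2, 0, 0, 6, 0, 0, 3, 0, 0, 0⟩,
  ⟨0, 0, 0, 6, 0, 0, 3, 0, 0, 4, 0, 0, 2, 0, 0, 0⟩,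
  ⟨0, 0, 0, 7, 0, 0, 10, 0, 0, 9, 0, 0, 11, 0, 0, 0⟩,
  ⟨0, 0, 0, 9, 0, 0, 11, 0, 0, 7, 0, 0, 10, 0, 0, 0⟩,
  ⟨0, 0, 1, 0, 0, 0, 0, 1, 12, 0, 0, 0, 0, 12, 0, 0⟩,
  ⟨0, 0, 5, 0, 0, 0, 0, 5, 5, 0, 0, 0, 0, 5, 0, 0⟩,
  ⟨0, 0, 8, 0, 0, 0, 0, 8, 8, 0, 0, 0, 0, 8, 0, 0⟩,
  ⟨0, 0, 12, 0, 0, 0, 0, 12, 1, 0, 0, 0, 0, 1, 0, 0⟩,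
  ⟨0, 1, 0, 1, 7, 0, 7, 0, 0, 12, 0, 1, 6, 0, 7, 0⟩,
  ⟨0, 1, 0, 5, 7, 0, 9, 0, 0, 5, 0, 1, 9, 0, 7, 0⟩,
  ⟨0, 1, 0, 8, 7, 0, 4, 0, 0, 8, 0, 1, 4, 0, 7, 0⟩,
  ⟨0, 1, 0, 12, 7, 0, 6, 0, 0, 1, 0, 1, 7, 0, 7, 0⟩,
  ⟨0, 4, 0, 0, 2, 0, 0, 0, 0, 0, 0, 7, 0, 0, 10, 0⟩,
  ⟨0, 5, 0, 1, 9, 0, 7, 0, 0, 12, 0, 8, 6, 0, 4, 0⟩,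
  ⟨0, 5, 0, 5, 9, 0, 9, 0, 0, 5, 0, 8, 9, 0, 4, 0⟩,
  ⟨0, 5, 0, 8, 9, 0, 4, 0, 0, 8, 0, 8, 4, 0, 4, 0⟩,
  ⟨0, 5, 0, 12, 9, 0, 6, 0, 0, 1, 0, 8, 7, 0, 4, 0⟩,
  ⟨0, 6, 0, 0, 3, 0, 0, 0, 0, 0, 0, 9, 0, 0, 11, 0⟩,
  ⟨0, 7, 0, 0, 10, 0, 0, 0, 0, 0, 0, 4, 0, 0, 2, 0⟩,
  ⟨0, 8, 0, 1, 4, 0, 7, 0, 0, 12, 0, 5, 6, 0, 9, 0⟩,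
  ⟨0, 8, 0, 5, 4, 0, 9, 0, 0, 5, 0, 5, 9, 0, 9, 0⟩,
  ⟨0, 8, 0, 8, 4, 0, 4, 0, 0, 8, 0, 5, 4, 0, 9, 0⟩,
  ⟨0, 8, 0, 12, 4, 0, 6, 0, 0, 1, 0, 5, 7, 0, 9, 0⟩,
  ⟨0, 9, 0, 0, 11, 0, 0, 0, 0, 0, 0, 6, 0, 0, 3, 0⟩,
  ⟨0, 12, 0, 1, 6, 0, 7, 0, 0, 12, 0, 12, 6, 0, 6, 0⟩,
  ⟨0, 12, 0, 5, 6, 0, 9, 0, 0, 5, 0, 12, 9, 0, 6, 0⟩,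
  ⟨0, 12, 0, 8, 6, 0, 4, 0, 0, 8, 0, 12, 4, 0, 6, 0⟩,
  ⟨0, 12, 0, 12, 6, 0, 6, 0, 0, 1, 0, 12, 7, 0, 6, 0⟩,
  ⟨2, 0, 2, 0, 0, 2, 0, 2, 3, 0, 10, 0, 0, 3, 0, 10⟩,
  ⟨2, 0, 3, 0, 0, 2, 0, 3, 2, 0, 10, 0, 0, 2, 0, 10⟩,
  ⟨2, 0, 10, 0, 0, 2, 0, 10, 11, 0, 10, 0, 0, 11, 0, 10⟩,
  ⟨2, 0, 11, 0, 0, 2, 0, 11, 10, 0, 10, 0, 0, 10, 0, 10⟩,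
  ⟨3, 0, 2, 0, 0, 3, 0, 2, 3, 0, 11, 0, 0, 3, 0, 11⟩,
  ⟨3, 0, 3, 0, 0, 3, 0, 3, 2, 0, 11, 0, 0, 2, 0, 11⟩,
  ⟨3, 0, 10, 0, 0, 3, 0, 10, 11, 0, 11, 0, 0, 11, 0, 11⟩,
  ⟨3, 0, 11, 0, 0, 3, 0, 11, 10, 0, 11, 0, 0, 10, 0, 11⟩,
  ⟨5, 0, 0, 0, 0, 5, 0, 0, 0, 0, 8, 0, 0, 0, 0, 8⟩,
  ⟨8, 0, 0, 0, 0, 8, 0, 0, 0, 0, 5, 0, 0, 0, 0, 5⟩,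
  ⟨10, 0, 2, 0, 0, 10, 0, 2, 3, 0, 2, 0, 0, 3, 0, 2⟩,
  ⟨10, 0, 3, 0, 0, 10, 0, 3, 2, 0, 2, 0, 0, 2, 0, 2⟩,
  ⟨10, 0, 10, 0, 0, 10, 0, 10, 11, 0, 2, 0, 0, 11, 0, 2⟩,
  ⟨10, 0, 11, 0, 0, 10, 0, 11, 10, 0, 2, 0, 0, 10, 0, 2⟩,
  ⟨11, 0, 2, 0, 0, 11, 0, 2, 3, 0, 3, 0, 0, 3, 0, 3⟩,
  ⟨11, 0, 3, 0, 0, 11, 0, 3, 2, 0, 3, 0, 0, 2, 0, 3⟩,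
  ⟨11, 0, 10, 0, 0, 11, 0, 10, 11, 0, 3, 0, 0, 11, 0, 3⟩,
  ⟨11, 0, 11, 0, 0, 11, 0, 11, 10, 0, 3, 0, 0, 10, 0, 3⟩,
  ⟨12, 0, 0, 0, 0, 12, 0, 0, 0, 0, 12, 0, 0, 0, 0, 12⟩]

def SqList : List (M4 × M4 × M4) := [
  (⟨1, 0, 0, 0, 0, 1, 0, 0, 0, 0, 1, 0, 0, 0, 0, 1⟩, ⟨1, 0, 0, 0, 0, 1, 0, 0, 0, 0, 1, 0, 0, 0, 0, 1⟩, ⟨1, 0, 0, 0, 0, 1, 0, 0, 0, 0, 1, 0, 0, 0, 0, 1⟩),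
  (⟨0, 0, 0, 4, 0, 0, 2, 0, 0, 6, 0, 0, 3, 0, 0, 0⟩, ⟨12, 0, 0, 0, 0, 12, 0, 0, 0, 0, 12, 0, 0, 0, 0, 12⟩, ⟨1, 0, 0, 0, 0, 1, 0, 0, 0, 0, 1, 0, 0, 0, 0, 1⟩),
  (⟨0, 0, 0, 6, 0, 0, 3, 0, 0, 4, 0, 0, 2, 0, 0, 0⟩, ⟨12, 0, 0, 0, 0, 12, 0, 0, 0, 0, 12, 0, 0, 0, 0, 12⟩, ⟨1, 0, 0, 0, 0, 1, 0, 0, 0, 0, 1, 0, 0, 0, 0, 1⟩),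
  (⟨0, 0, 0, 7, 0, 0, 10, 0, 0, 9, 0, 0, 11, 0, 0, 0⟩, ⟨12, 0, 0, 0, 0, 12, 0, 0, 0, 0, 12, 0, 0, 0, 0, 12⟩, ⟨1, 0, 0, 0, 0, 1, 0, 0, 0, 0, 1, 0, 0, 0, 0, 1⟩),
  (⟨0, 0, 0, 9, 0, 0, 11, 0, 0, 7, 0, 0, 10, 0, 0, 0⟩, ⟨12, 0, 0, 0, 0, 12, 0, 0, 0, 0, 12, 0, 0, 0, 0, 12⟩, ⟨1, 0, 0, 0, 0, 1, 0, 0, 0, 0, 1, 0, 0, 0, 0, 1⟩),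
  (⟨0, 0, 1, 0, 0, 0, 0, 1, 12, 0, 0, 0, 0, 12, 0, 0⟩, ⟨12, 0, 0, 0, 0, 12, 0, 0, 0, 0, 12, 0, 0, 0, 0, 12⟩, ⟨1, 0, 0, 0, 0, 1, 0, 0, 0, 0, 1, 0, 0, 0, 0, 1⟩),
  (⟨0, 0, 5, 0, 0, 0, 0, 5, 5, 0, 0, 0, 0, 5, 0, 0⟩, ⟨12, 0, 0, 0, 0, 12, 0, 0, 0, 0, 12, 0, 0, 0, 0, 12⟩, ⟨1, 0, 0, 0, 0, 1, 0, 0, 0, 0, 1, 0, 0, 0, 0, 1⟩),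
  (⟨0, 0, 8, 0, 0, 0, 0, 8, 8, 0, 0, 0, 0, 8, 0, 0⟩, ⟨12, 0, 0, 0, 0, 12, 0, 0, 0, 0, 12, 0, 0, 0, 0, 12⟩, ⟨1, 0, 0, 0, 0, 1, 0, 0, 0, 0, 1, 0, 0, 0, 0, 1⟩),
  (⟨0, 0, 12, 0, 0, 0, 0, 12, 1, 0, 0, 0, 0, 1, 0, 0⟩, ⟨12, 0, 0, 0, 0, 12, 0, 0, 0, 0, 12, 0, 0, 0, 0, 12⟩, ⟨1, 0, 0, 0, 0, 1, 0, 0, 0, 0, 1, 0, 0, 0, 0, 1⟩),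
  (⟨0, 1, 0, 1, 7, 0, 7, 0, 0, 12, 0, 1, 6, 0, 7, 0⟩, ⟨0, 0, 1, 0, 0, 0, 0, 1, 12, 0, 0, 0, 0, 12, 0, 0⟩, ⟨12, 0, 0, 0, 0, 12, 0, 0, 0, 0, 12, 0, 0, 0, 0, 12⟩),
  (⟨0, 1, 0, 5, 7, 0, 9, 0, 0, 5, 0, 1, 9, 0, 7, 0⟩, ⟨0, 0, 5, 0, 0, 0, 0, 5, 5, 0, 0, 0, 0, 5, 0, 0⟩, ⟨12, 0, 0, 0, 0, 12, 0, 0, 0, 0, 12, 0, 0, 0, 0, 12⟩),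
  (⟨0, 1, 0, 8, 7, 0, 4, 0, 0, 8, 0, 1, 4, 0, 7, 0⟩, ⟨0, 0, 8, 0, 0, 0, 0, 8, 8, 0, 0, 0, 0, 8, 0, 0⟩, ⟨12, 0, 0, 0, 0, 12, 0, 0, 0, 0, 12, 0, 0, 0, 0, 12⟩),
  (⟨0, 1, 0, 12, 7, 0, 6, 0, 0, 1, 0, 1, 7, 0, 7, 0⟩, ⟨0, 0, 12, 0, 0, 0, 0, 12, 1, 0, 0, 0, 0, 1, 0, 0⟩, ⟨12, 0, 0, 0, 0, 12, 0, 0, 0, 0, 12, 0, 0, 0, 0, 12⟩),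
  (⟨0, 4, 0, 0, 2, 0, 0, 0, 0, 0, 0, 7, 0, 0, 10, 0⟩, ⟨8, 0, 0, 0, 0, 8, 0, 0, 0, 0, 5, 0, 0, 0, 0, 5⟩, ⟨12, 0, 0, 0, 0, 12, 0, 0, 0, 0, 12, 0, 0, 0, 0, 12⟩),
  (⟨0, 5, 0, 1, 9, 0, 7, 0, 0, 12, 0, 8, 6, 0, 4, 0⟩, ⟨12, 0, 0, 0, 0, 12, 0, 0, 0, 0, 12, 0, 0, 0, 0, 12⟩, ⟨1, 0, 0, 0, 0, 1, 0, 0, 0, 0, 1, 0, 0, 0, 0, 1⟩),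
  (⟨0, 5, 0, 5, 9, 0, 9, 0, 0, 5, 0, 8, 9, 0, 4, 0⟩, ⟨12, 0, 0, 0, 0, 12, 0, 0, 0, 0, 12, 0, 0, 0, 0, 12⟩, ⟨1, 0, 0, 0, 0, 1, 0, 0, 0, 0, 1, 0, 0, 0, 0, 1⟩),
  (⟨0, 5, 0, 8, 9, 0, 4, 0, 0, 8, 0, 8, 4, 0, 4, 0⟩, ⟨12, 0, 0, 0, 0, 12, 0, 0, 0, 0, 12, 0, 0, 0, 0, 12⟩, ⟨1, 0, 0, 0, 0, 1, 0, 0, 0, 0, 1, 0, 0, 0, 0, 1⟩),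
  (⟨0, 5, 0, 12, 9, 0, 6, 0, 0, 1, 0, 8, 7, 0, 4, 0⟩, ⟨12, 0, 0, 0, 0, 12, 0, 0, 0, 0, 12, 0, 0, 0, 0, 12⟩, ⟨1, 0, 0, 0, 0, 1, 0, 0, 0, 0, 1, 0, 0, 0, 0, 1⟩),
  (⟨0, 6, 0, 0, 3, 0, 0, 0, 0, 0, 0, 9, 0, 0, 11, 0⟩, ⟨5, 0, 0, 0, 0, 5, 0, 0, 0, 0, 8, 0, 0, 0, 0, 8⟩, ⟨12, 0, 0, 0, 0, 12, 0, 0, 0, 0, 12, 0, 0, 0, 0, 12⟩),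
  (⟨0, 7, 0, 0, 10, 0, 0, 0, 0, 0, 0, 4, 0, 0, 2, 0⟩, ⟨5, 0, 0, 0, 0, 5, 0, 0, 0, 0, 8, 0, 0, 0, 0, 8⟩, ⟨12, 0, 0, 0, 0, 12, 0, 0, 0, 0, 12, 0, 0, 0, 0, 12⟩),
  (⟨0, 8, 0, 1, 4, 0, 7, 0, 0, 12, 0, 5, 6, 0, 9, 0⟩, ⟨12, 0, 0, 0, 0, 12, 0, 0, 0, 0, 12, 0, 0, 0, 0, 12⟩, ⟨1, 0, 0, 0, 0, 1, 0, 0, 0, 0, 1, 0, 0, 0, 0, 1⟩),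
  (⟨0, 8, 0, 5, 4, 0, 9, 0, 0, 5, 0, 5, 9, 0, 9, 0⟩, ⟨12, 0, 0, 0, 0, 12, 0, 0, 0, 0, 12, 0, 0, 0, 0, 12⟩, ⟨1, 0, 0, 0, 0, 1, 0, 0, 0, 0, 1, 0, 0, 0, 0, 1⟩),
  (⟨0, 8, 0, 8, 4, 0, 4, 0, 0, 8, 0, 5, 4, 0, 9, 0⟩, ⟨12, 0, 0, 0, 0, 12, 0, 0, 0, 0, 12, 0, 0, 0, 0, 12⟩, ⟨1, 0, 0, 0, 0, 1, 0, 0, 0, 0, 1, 0, 0, 0, 0, 1⟩),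
  (⟨0, 8, 0, 12, 4, 0, 6, 0, 0, 1, 0, 5, 7, 0, 9, 0⟩, ⟨12, 0, 0, 0, 0, 12, 0, 0, 0, 0, 12, 0, 0, 0, 0, 12⟩, ⟨1, 0, 0, 0, 0, 1, 0, 0, 0, 0, 1, 0, 0, 0, 0, 1⟩),
  (⟨0, 9, 0, 0, 11, 0, 0, 0, 0, 0, 0, 6, 0, 0, 3, 0⟩, ⟨8, 0, 0, 0, 0, 8, 0, 0, 0, 0, 5, 0, 0, 0, 0, 5⟩, ⟨12, 0, 0, 0, 0, 12, 0, 0, 0, 0, 12, 0, 0, 0, 0, 12⟩),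
  (⟨0, 12, 0, 1, 6, 0, 7, 0, 0, 12, 0, 12, 6, 0, 6, 0⟩, ⟨0, 0, 12, 0, 0, 0, 0, 12, 1, 0, 0, 0, 0, 1, 0, 0⟩, ⟨12, 0, 0, 0, 0, 12, 0, 0, 0, 0, 12, 0, 0, 0, 0, 12⟩),
  (⟨0, 12, 0, 5, 6, 0, 9, 0, 0, 5, 0, 12, 9, 0, 6, 0⟩, ⟨0, 0, 8, 0, 0, 0, 0, 8, 8, 0, 0, 0, 0, 8, 0, 0⟩, ⟨12, 0, 0, 0, 0, 12, 0, 0, 0, 0, 12, 0, 0, 0, 0, 12⟩),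
  (⟨0, 12, 0, 8, 6, 0, 4, 0, 0, 8, 0, 12, 4, 0, 6, 0⟩, ⟨0, 0, 5, 0, 0, 0, 0, 5, 5, 0, 0, 0, 0, 5, 0, 0⟩, ⟨12, 0, 0, 0, 0, 12, 0, 0, 0, 0, 12, 0, 0, 0, 0, 12⟩),
  (⟨0, 12, 0, 12, 6, 0, 6, 0, 0, 1, 0, 12, 7, 0, 6, 0⟩, ⟨0, 0, 1, 0, 0, 0, 0, 1, 12, 0, 0, 0, 0, 12, 0, 0⟩, ⟨12, 0, 0, 0, 0, 12, 0, 0, 0, 0, 12, 0, 0, 0, 0, 12⟩),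
  (⟨2, 0, 2, 0, 0, 2, 0, 2, 3, 0, 10, 0, 0, 3, 0, 10⟩, ⟨10, 0, 11, 0, 0, 10, 0, 11, 10, 0, 2, 0, 0, 10, 0, 2⟩, ⟨2, 0, 2, 0, 0, 2, 0, 2, 3, 0, 10, 0, 0, 3, 0, 10⟩),
  (⟨2, 0, 3, 0, 0, 2, 0, 3, 2, 0, 10, 0, 0, 2, 0, 10⟩, ⟨10, 0, 10, 0, 0, 10, 0, 10, 11, 0, 2, 0, 0, 11, 0, 2⟩, ⟨2, 0, 3, 0, 0, 2, 0, 3, 2, 0, 10, 0, 0, 2, 0, 10⟩),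
  (⟨2, 0, 10, 0, 0, 2, 0, 10, 11, 0, 10, 0, 0, 11, 0, 10⟩, ⟨10, 0, 3, 0, 0, 10, 0, 3, 2, 0, 2, 0, 0, 2, 0, 2⟩, ⟨2, 0, 10, 0, 0, 2, 0, 10, 11, 0, 10, 0, 0, 11, 0, 10⟩),
  (⟨2, 0, 11, 0, 0, 2, 0, 11, 10, 0, 10, 0, 0, 10, 0, 10⟩, ⟨10, 0, 2, 0, 0, 10, 0, 2, 3, 0, 2, 0, 0, 3, 0, 2⟩, ⟨2, 0, 11, 0, 0, 2, 0, 11, 10, 0, 10, 0, 0, 10, 0, 10⟩),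
  (⟨3, 0, 2, 0, 0, 3, 0, 2, 3, 0, 11, 0, 0, 3, 0, 11⟩, ⟨2, 0, 2, 0, 0, 2, 0, 2, 3, 0, 10, 0, 0, 3, 0, 10⟩, ⟨10, 0, 11, 0, 0, 10, 0, 11, 10, 0, 2, 0, 0, 10, 0, 2⟩),
  (⟨3, 0, 3, 0, 0, 3, 0, 3, 2, 0, 11, 0, 0, 2, 0, 11⟩, ⟨2, 0, 3, 0, 0, 2, 0, 3, 2, 0, 10, 0, 0, 2, 0, 10⟩, ⟨10, 0, 10, 0, 0, 10, 0, 10, 11, 0, 2, 0, 0, 11, 0, 2⟩),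
  (⟨3, 0, 10, 0, 0, 3, 0, 10, 11, 0, 11, 0, 0, 11, 0, 11⟩, ⟨2, 0, 10, 0, 0, 2, 0, 10, 11, 0, 10, 0, 0, 11, 0, 10⟩, ⟨10, 0, 3, 0, 0, 10, 0, 3, 2, 0, 2, 0, 0, 2, 0, 2⟩),
  (⟨3, 0, 11, 0, 0, 3, 0, 11, 10, 0, 11, 0, 0, 10, 0, 11⟩, ⟨2, 0, 11, 0, 0, 2, 0, 11, 10, 0, 10, 0, 0, 10, 0, 10⟩, ⟨10, 0, 2, 0, 0, 10, 0, 2, 3, 0, 2, 0, 0, 3, 0, 2⟩),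
  (⟨5, 0, 0, 0, 0, 5, 0, 0, 0, 0, 8, 0, 0, 0, 0, 8⟩, ⟨12, 0, 0, 0, 0, 12, 0, 0, 0, 0, 12, 0, 0, 0, 0, 12⟩, ⟨1, 0, 0, 0, 0, 1, 0, 0, 0, 0, 1, 0, 0, 0, 0, 1⟩),
  (⟨8, 0, 0, 0, 0, 8, 0, 0, 0, 0, 5, 0, 0, 0, 0, 5⟩, ⟨12, 0, 0, 0, 0, 12, 0, 0, 0, 0, 12, 0, 0, 0, 0, 12⟩, ⟨1, 0, 0, 0, 0, 1, 0, 0, 0, 0, 1, 0, 0, 0, 0, 1⟩),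
  (⟨10, 0, 2, 0, 0, 10, 0, 2, 3, 0, 2, 0, 0, 3, 0, 2⟩, ⟨2, 0, 11, 0, 0, 2, 0, 11, 10, 0, 10, 0, 0, 10, 0, 10⟩, ⟨10, 0, 2, 0, 0, 10, 0, 2, 3, 0, 2, 0, 0, 3, 0, 2⟩),
  (⟨10, 0, 3, 0, 0, 10, 0, 3, 2, 0, 2, 0, 0, 2, 0, 2⟩, ⟨2, 0, 10, 0, 0, 2, 0, 10, 11, 0, 10, 0, 0, 11, 0, 10⟩, ⟨10, 0, 3, 0, 0, 10, 0, 3, 2, 0, 2, 0, 0, 2, 0, 2⟩),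
  (⟨10, 0, 10, 0, 0, 10, 0, 10, 11, 0, 2, 0, 0, 11, 0, 2⟩, ⟨2, 0, 3, 0, 0, 2, 0, 3, 2, 0, 10, 0, 0, 2, 0, 10⟩, ⟨10, 0, 10, 0, 0, 10, 0, 10, 11, 0, 2, 0, 0, 11, 0, 2⟩),
  (⟨10, 0, 11, 0, 0, 10, 0, 11, 10, 0, 2, 0, 0, 10, 0, 2⟩, ⟨2, 0, 2, 0, 0, 2, 0, 2, 3, 0, 10, 0, 0, 3, 0, 10⟩, ⟨10, 0, 11, 0, 0, 10, 0, 11, 10, 0, 2, 0, 0, 10, 0, 2⟩),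
  (⟨11, 0, 2, 0, 0, 11, 0, 2, 3, 0, 3, 0, 0, 3, 0, 3⟩, ⟨10, 0, 2, 0, 0, 10, 0, 2, 3, 0, 2, 0, 0, 3, 0, 2⟩, ⟨2, 0, 11, 0, 0, 2, 0, 11, 10, 0, 10, 0, 0, 10, 0, 10⟩),
  (⟨11, 0, 3, 0, 0, 11, 0, 3, 2, 0, 3, 0, 0, 2, 0, 3⟩, ⟨10, 0, 3, 0, 0, 10, 0, 3, 2, 0, 2, 0, 0, 2, 0, 2⟩, ⟨2, 0, 10, 0, 0, 2, 0, 10, 11, 0, 10, 0, 0, 11, 0, 10⟩),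
  (⟨11, 0, 10, 0, 0, 11, 0, 10, 11, 0, 3, 0, 0, 11, 0, 3⟩, ⟨10, 0, 10, 0, 0, 10, 0, 10, 11, 0, 2, 0, 0, 11, 0, 2⟩, ⟨2, 0, 3, 0, 0, 2, 0, 3, 2, 0, 10, 0, 0, 2, 0, 10⟩),
  (⟨11, 0, 11, 0, 0, 11, 0, 11, 10, 0, 3, 0, 0, 10, 0, 3⟩, ⟨10, 0, 11, 0, 0, 10, 0, 11, 10, 0, 2, 0, 0, 10, 0, 2⟩, ⟨2, 0, 2, 0, 0, 2, 0, 2, 3, 0, 10, 0, 0, 3, 0, 10⟩),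
  (⟨12, 0, 0, 0, 0, 12, 0, 0, 0, 0, 12, 0, 0, 0, 0, 12⟩, ⟨1, 0, 0, 0, 0, 1, 0, 0, 0, 0, 1, 0, 0, 0, 0, 1⟩, ⟨1, 0, 0, 0, 0, 1, 0, 0, 0, 0, 1, 0, 0, 0, 0, 1⟩)]

def FpfList : List (M4 × M4) := [
  (⟨0, 0, 0, 4, 0, 0, 2, 0, 0, 6, 0, 0, 3, 0, 0, 0⟩, ⟨6, 0, 0, 11, 0, 6, 12, 0, 0, 10, 6, 0, 5, 0, 0, 6⟩),
  (⟨0, 0, 0, 6, 0, 0, 3, 0, 0, 4, 0, 0, 2, 0, 0, 0⟩, ⟨6, 0, 0, 10, 0, 6, 5, 0, 0, 11, 6, 0, 12, 0, 0, 6⟩),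
  (⟨0, 0, 0, 7, 0, 0, 10, 0, 0, 9, 0, 0, 11, 0, 0, 0⟩, ⟨6, 0, 0, 3, 0, 6, 8, 0, 0, 2, 6, 0, 1, 0, 0, 6⟩),
  (⟨0, 0, 0, 9, 0, 0, 11, 0, 0, 7, 0, 0, 10, 0, 0, 0⟩, ⟨6, 0, 0, 2, 0, 6, 1, 0, 0, 3, 6, 0, 8, 0, 0, 6⟩),
  (⟨0, 0, 1, 0, 0, 0, 0, 1, 12, 0, 0, 0, 0, 12, 0, 0⟩, ⟨6, 0, 6, 0, 0, 6, 0, 6, 7, 0, 6, 0, 0, 7, 0, 6⟩),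
  (⟨0, 0, 5, 0, 0, 0, 0, 5, 5, 0, 0, 0, 0, 5, 0, 0⟩, ⟨6, 0, 4, 0, 0, 6, 0, 4, 4, 0, 6, 0, 0, 4, 0, 6⟩),
  (⟨0, 0, 8, 0, 0, 0, 0, 8, 8, 0, 0, 0, 0, 8, 0, 0⟩, ⟨6, 0, 9, 0, 0, 6, 0, 9, 9, 0, 6, 0, 0, 9, 0, 6⟩),
  (⟨0, 0, 12, 0, 0, 0, 0, 12, 1, 0, 0, 0, 0, 1, 0, 0⟩, ⟨6, 0, 7, 0, 0, 6, 0, 7, 6, 0, 6, 0, 0, 6, 0, 6⟩),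
  (⟨0, 1, 0, 1, 7, 0, 7, 0, 0, 12, 0, 1, 6, 0, 7, 0⟩, ⟨6, 0, 6, 12, 0, 6, 6, 6, 7, 1, 6, 0, 7, 7, 0, 6⟩),
  (⟨0, 1, 0, 5, 7, 0, 9, 0, 0, 5, 0, 1, 9, 0, 7, 0⟩, ⟨6, 0, 4, 8, 0, 6, 4, 4, 4, 8, 6, 0, 4, 4, 0, 6⟩),
  (⟨0, 1, 0, 8, 7, 0, 4, 0, 0, 8, 0, 1, 4, 0, 7, 0⟩, ⟨6, 0, 9, 5, 0, 6, 9, 9, 9, 5, 6, 0, 9, 9, 0, 6⟩),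
  (⟨0, 1, 0, 12, 7, 0, 6, 0, 0, 1, 0, 1, 7, 0, 7, 0⟩, ⟨6, 0, 7, 1, 0, 6, 7, 7, 6, 12, 6, 0, 6, 6, 0, 6⟩),
  (⟨0, 4, 0, 0, 2, 0, 0, 0, 0, 0, 0, 7, 0, 0, 10, 0⟩, ⟨2, 8, 0, 0, 4, 2, 0, 0, 0, 0, 10, 5, 0, 0, 9, 10⟩),
  (⟨0, 5, 0, 1, 9, 0, 7, 0, 0, 12, 0, 8, 6, 0, 4, 0⟩, ⟨6, 4, 0, 6, 2, 6, 3, 0, 0, 7, 6, 9, 10, 0, 11, 6⟩),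
  (⟨0, 5, 0, 5, 9, 0, 9, 0, 0, 5, 0, 8, 9, 0, 4, 0⟩, ⟨6, 4, 0, 4, 2, 6, 2, 0, 0, 4, 6, 9, 2, 0, 11, 6⟩),
  (⟨0, 5, 0, 8, 9, 0, 4, 0, 0, 8, 0, 8, 4, 0, 4, 0⟩, ⟨6, 4, 0, 9, 2, 6, 11, 0, 0, 9, 6, 9, 11, 0, 11, 6⟩),
  (⟨0, 5, 0, 12, 9, 0, 6, 0, 0, 1, 0, 8, 7, 0, 4, 0⟩, ⟨6, 4, 0, 7, 2, 6, 10, 0, 0, 6, 6, 9, 3, 0, 11, 6⟩),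
  (⟨0, 6, 0, 0, 3, 0, 0, 0, 0, 0, 0, 9, 0, 0, 11, 0⟩, ⟨10, 8, 0, 0, 4, 10, 0, 0, 0, 0, 2, 5, 0, 0, 9, 2⟩),
  (⟨0, 7, 0, 0, 10, 0, 0, 0, 0, 0, 0, 4, 0, 0, 2, 0⟩, ⟨10, 5, 0, 0, 9, 10, 0, 0, 0, 0, 2, 8, 0, 0, 4, 2⟩),
  (⟨0, 8, 0, 1, 4, 0, 7, 0, 0, 12, 0, 5, 6, 0, 9, 0⟩, ⟨6, 9, 0, 6, 11, 6, 3, 0, 0, 7, 6, 4, 10, 0, 2, 6⟩),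
  (⟨0, 8, 0, 5, 4, 0, 9, 0, 0, 5, 0, 5, 9, 0, 9, 0⟩, ⟨6, 9, 0, 4, 11, 6, 2, 0, 0, 4, 6, 4, 2, 0, 2, 6⟩),
  (⟨0, 8, 0, 8, 4, 0, 4, 0, 0, 8, 0, 5, 4, 0, 9, 0⟩, ⟨6, 9, 0, 9, 11, 6, 11, 0, 0, 9, 6, 4, 11, 0, 2, 6⟩),
  (⟨0, 8, 0, 12, 4, 0, 6, 0, 0, 1, 0, 5, 7, 0, 9, 0⟩, ⟨6, 9, 0, 7, 11, 6, 10, 0, 0, 6, 6, 4, 3, 0, 2, 6⟩),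
  (⟨0, 9, 0, 0, 11, 0, 0, 0, 0, 0, 0, 6, 0, 0, 3, 0⟩, ⟨2, 5, 0, 0, 9, 2, 0, 0, 0, 0, 10, 8, 0, 0, 4, 10⟩),
  (⟨0, 12, 0, 1, 6, 0, 7, 0, 0, 12, 0, 12, 6, 0, 6, 0⟩, ⟨6, 0, 7, 12, 0, 6, 6, 7, 6, 1, 6, 0, 7, 6, 0, 6⟩),
  (⟨0, 12, 0, 5, 6, 0, 9, 0, 0, 5, 0, 12, 9, 0, 6, 0⟩, ⟨6, 0, 9, 8, 0, 6, 4, 9, 9, 8, 6, 0, 4, 9, 0, 6⟩),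
  (⟨0, 12, 0, 8, 6, 0, 4, 0, 0, 8, 0, 12, 4, 0, 6, 0⟩, ⟨6, 0, 4, 5, 0, 6, 9, 4, 4, 5, 6, 0, 9, 4, 0, 6⟩),
  (⟨0, 12, 0, 12, 6, 0, 6, 0, 0, 1, 0, 12, 7, 0, 6, 0⟩, ⟨6, 0, 6, 1, 0, 6, 7, 6, 7, 12, 6, 0, 6, 7, 0, 6⟩),
  (⟨2, 0, 2, 0, 0, 2, 0, 2, 3, 0, 10, 0, 0, 3, 0, 10⟩, ⟨3, 0, 8, 0, 0, 3, 0, 8, 12, 0, 9, 0, 0, 12, 0, 9⟩),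
  (⟨2, 0, 3, 0, 0, 2, 0, 3, 2, 0, 10, 0, 0, 2, 0, 10⟩, ⟨3, 0, 12, 0, 0, 3, 0, 12, 8, 0, 9, 0, 0, 8, 0, 9⟩),
  (⟨2, 0, 10, 0, 0, 2, 0, 10, 11, 0, 10, 0, 0, 11, 0, 10⟩, ⟨3, 0, 1, 0, 0, 3, 0, 1, 5, 0, 9, 0, 0, 5, 0, 9⟩),
  (⟨2, 0, 11, 0, 0, 2, 0, 11, 10, 0, 10, 0, 0, 10, 0, 10⟩, ⟨3, 0, 5, 0, 0, 3, 0, 5, 1, 0, 9, 0, 0, 1, 0, 9⟩),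
  (⟨3, 0, 2, 0, 0, 3, 0, 2, 3, 0, 11, 0, 0, 3, 0, 11⟩, ⟨10, 0, 11, 0, 0, 10, 0, 11, 10, 0, 2, 0, 0, 10, 0, 2⟩),
  (⟨3, 0, 3, 0, 0, 3, 0, 3, 2, 0, 11, 0, 0, 2, 0, 11⟩, ⟨10, 0, 10, 0, 0, 10, 0, 10, 11, 0, 2, 0, 0, 11, 0, 2⟩),
  (⟨3, 0, 10, 0, 0, 3, 0, 10, 11, 0, 11, 0, 0, 11, 0, 11⟩, ⟨10, 0, 3, 0, 0, 10, 0, 3, 2, 0, 2, 0, 0, 2, 0, 2⟩),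
  (⟨3, 0, 11, 0, 0, 3, 0, 11, 10, 0, 11, 0, 0, 10, 0, 11⟩, ⟨10, 0, 2, 0, 0, 10, 0, 2, 3, 0, 2, 0, 0, 3, 0, 2⟩),
  (⟨5, 0, 0, 0, 0, 5, 0, 0, 0, 0, 8, 0, 0, 0, 0, 8⟩, ⟨10, 0, 0, 0, 0, 10, 0, 0, 0, 0, 2, 0, 0, 0, 0, 2⟩),
  (⟨8, 0, 0, 0, 0, 8, 0, 0, 0, 0, 5, 0, 0, 0, 0, 5⟩, ⟨2, 0, 0, 0, 0, 2, 0, 0, 0, 0, 10, 0, 0, 0, 0, 10⟩),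
  (⟨10, 0, 2, 0, 0, 10, 0, 2, 3, 0, 2, 0, 0, 3, 0, 2⟩, ⟨9, 0, 8, 0, 0, 9, 0, 8, 12, 0, 3, 0, 0, 12, 0, 3⟩),
  (⟨10, 0, 3, 0, 0, 10, 0, 3, 2, 0, 2, 0, 0, 2, 0, 2⟩, ⟨9, 0, 12, 0, 0, 9, 0, 12, 8, 0, 3, 0, 0, 8, 0, 3⟩),
  (⟨10, 0, 10, 0, 0, 10, 0, 10, 11, 0, 2, 0, 0, 11, 0, 2⟩, ⟨9, 0, 1, 0, 0, 9, 0, 1, 5, 0, 3, 0, 0, 5, 0, 3⟩),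
  (⟨10, 0, 11, 0, 0, 10, 0, 11, 10, 0, 2, 0, 0, 10, 0, 2⟩, ⟨9, 0, 5, 0, 0, 9, 0, 5, 1, 0, 3, 0, 0, 1, 0, 3⟩),
  (⟨11, 0, 2, 0, 0, 11, 0, 2, 3, 0, 3, 0, 0, 3, 0, 3⟩, ⟨2, 0, 11, 0, 0, 2, 0, 11, 10, 0, 10, 0, 0, 10, 0, 10⟩),
  (⟨11, 0, 3, 0, 0, 11, 0, 3, 2, 0, 3, 0, 0, 2, 0, 3⟩, ⟨2, 0, 10, 0, 0, 2, 0, 10, 11, 0, 10, 0, 0, 11, 0, 10⟩),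
  (⟨11, 0, 10, 0, 0, 11, 0, 10, 11, 0, 3, 0, 0, 11, 0, 3⟩, ⟨2, 0, 3, 0, 0, 2, 0, 3, 2, 0, 10, 0, 0, 2, 0, 10⟩),
  (⟨11, 0, 11, 0, 0, 11, 0, 11, 10, 0, 3, 0, 0, 10, 0, 3⟩, ⟨2, 0, 2, 0, 0, 2, 0, 2, 3, 0, 10, 0, 0, 3, 0, 10⟩),
  (⟨12, 0, 0, 0, 0, 12, 0, 0, 0, 0, 12, 0, 0, 0, 0, 12⟩, ⟨6, 0, 0, 0, 0, 6, 0, 0, 0, 0, 6, 0, 0, 0, 0, 6⟩)]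

def sM : M4 := ⟨0, 6, 0, 0, 3, 0, 0, 0, 0, 0, 0, 9, 0, 0, 11, 0⟩
def tM : M4 := ⟨3, 0, 3, 0, 0, 3, 0, 3, 2, 0, 11, 0, 0, 2, 0, 11⟩

set_option maxRecDepth 100000 in
theorem K_one : M4.one ∈ Klist := by decide +kernel

set_option maxRecDepth 100000 in
theorem K_mul : ∀ a ∈ Klist, ∀ b ∈ Klist, M4.mul a b ∈ Klist := by decide +kernel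

set_option maxRecDepth 100000 in
theorem K_inv : ∀ a ∈ Klist, ∃ b ∈ Klist, M4.mul a b = M4.one ∧ M4.mul b a = M4.one := by decide +kernel

set_option maxRecDepth 100000 in
theorem K_sq_mem : ∀ a ∈ Klist, ∃ q ∈ SqList, q.1 = a := by decide +kernel

set_option maxRecDepth 100000 in
theorem K_sq : ∀ q ∈ SqList, M4.mul q.1 q.1 = q.2.1 ∧ M4.mul q.2.1 q.2.1 = q.2.2 ∧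
    (M4.mul q.2.2 q.2.2 = M4.one ∨ M4.mul q.2.2 q.2.1 = M4.one) := by decide +kernel

set_option maxRecDepth 100000 in
theorem K_fpf_mem : ∀ a ∈ Klist, a = M4.one ∨ ∃ q ∈ FpfList, q.1 = a := by decide +kernel

set_option maxRecDepth 100000 in
theorem K_fpf : ∀ q ∈ FpfList, M4.mul q.2 (M4.subOne q.1) = M4.one := by decide +kernel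

set_option maxRecDepth 100000 in
theorem K_nodup : Klist.Nodup := by decide +kernel

theorem K_length : Klist.length = 48 := by decide

set_option maxRecDepth 100000 in
theorem sM_mem : sM ∈ Klist := by decide +kernel
set_option maxRecDepth 100000 in
theorem tM_mem : tM ∈ Klist := by decide +kernel

/-- order data for `sM` (order 8) -/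
theorem sM_ord : M4.mul (M4.mul sM sM) (M4.mul sM sM) ≠ M4.one ∧
    M4.mul (M4.mul (M4.mul sM sM) (M4.mul sM sM)) (M4.mul (M4.mul sM sM) (M4.mul sM sM)) = M4.one := by
  decide +kernel

/-- order data for `tM` (order 6) -/
theorem tM_ord : M4.mul tM tM ≠ M4.one ∧ M4.mul (M4.mul tM tM) tM ≠ M4.one ∧
    M4.mul (M4.mul (M4.mul tM tM) tM) (M4.mul (M4.mul tM tM) tM) = M4.one := by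
  decide +kernel

end Cfsg.Agent.Lib.Helper19.Frob13
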