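import Mathlib
import Cfsg.Agent.Lib.Helper19.Frob13

set_option autoImplicit false

/-!
Frobenius groups `K ⋊ C`, `K` a finite field (additive group), `C ≤ Kˣ` acting by multiplication.
Spectrum: `insert p (spectrum of C)`.  For `C = zpowers ζ`: spectrum of `C` = divisors of `orderOf ζ`.
-/

namespace Cfsg.Agent.Lib.Helper19.FieldFrob

open Cfsg.Agent.Lib.Helper19.Frob13

section
variable (K : Type*) [Field K]

/-- multiplication by a unit as an additive automorphism -/
def actEquiv (u : Kˣ) : K ≃+ K where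
  toFun v := (u : K) * v
  invFun v := ((u⁻¹ : Kˣ) : K) * v
  left_inv v := by
    show ((u⁻¹ : Kˣ) : K) * ((u : K) * v) = v
    rw [← mul_assoc, Units.inv_mul, one_mul]
  right_inv v := by
    show (u : K) * (((u⁻¹ : Kˣ) : K) * v) = v
    rw [← mul_assoc, Units.mul_inv, one_mul]
  map_add' v w := mul_add _ v w

/-- the action of `Kˣ` on `Multiplicative K` -/
def phi : Kˣ →* MulAut (Multiplicative K) where
  toFun u := AddEquiv.toMultiplicative (actEquiv K u)
  map_one' := by
    apply MulEquiv.ext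
    intro v
    show Multiplicative.ofAdd (((1 : Kˣ) : K) * Multiplicative.toAdd v) = v
    rw [Units.val_one, one_mul]
    rfl
  map_mul' a b := by
    apply MulEquiv.ext
    intro v
    show Multiplicative.ofAdd (((a * b : Kˣ) : K) * Multiplicative.toAdd v) =
      Multiplicative.ofAdd ((a : K) * ((b : K) * Multiplicative.toAdd v))
    rw [Units.val_mul, mul_assoc]

theorem phi_apply (u : Kˣ) (v : Multiplicative K) :
    phi K u v = Multiplicative.ofAdd ((u : K) * Multiplicative.toAdd v) := rfl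

variable {K}

/-- the action restricted to a subgroup `C ≤ Kˣ` -/
def phiC (C : Subgroup Kˣ) : ↥C →* MulAut (Multiplicative K) := (phi K).comp C.subtype

/-- the Frobenius group `K ⋊ C` -/
abbrev Fr (C : Subgroup Kˣ) : Type _ := Multiplicative K ⋊[phiC C] ↥C

theorem phiC_fpf (C : Subgroup Kˣ) (g : ↥C) (hg : g ≠ 1) (w : Multiplicative K)
    (hw : phiC C g w = w) : w = 1 := by
  have h1 : ((g : Kˣ) : K) * Multiplicative.toAdd w = Multiplicative.toAdd w := by
    have := congrArg Multiplicative.toAdd hw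
    exact this
  have h2 : (((g : Kˣ) : K) - 1) * Multiplicative.toAdd w = 0 := by
    rw [sub_mul, h1, one_mul, sub_self]
  rcases mul_eq_zero.1 h2 with h | h
  · exfalso
    apply hg
    apply Subtype.ext
    apply Units.ext
    rw [sub_eq_zero] at h
    simpa using h
  · exact congrArg Multiplicative.ofAdd h

theorem pow_char (p : ℕ) [CharP K p] (n : Multiplicative K) : n ^ p = 1 := by
  have : p • Multiplicative.toAdd n = 0 := by
    rw [nsmul_eq_mul, CharP.cast_eq_zero, zero_mul]
  exact congrArg Multiplicative.ofAdd this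

instance : Nontrivial (Multiplicative K) :=
  ⟨⟨Multiplicative.ofAdd 0, Multiplicative.ofAdd 1, fun h => zero_ne_one (α := K)
    (congrArg Multiplicative.toAdd h)⟩⟩

theorem range_orderOf_Fr [Finite K] (p : ℕ) (hp : p.Prime) [CharP K p] (C : Subgroup Kˣ) :
    Set.range (orderOf : Fr C → ℕ) = insert p (Set.range (orderOf : ↥C → ℕ)) :=
  range_orderOf_semidirect (phiC C) p hp (pow_char p) (phiC_fpf C)

theorem range_orderOf_zpowers {G : Type*} [Group G] (ζ : G) (hζ : 0 < orderOf ζ) :
    Set.range (orderOf : ↥(Subgroup.zpowers ζ) → ℕ) = {k | k ∣ orderOf ζ} := by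
  ext k
  constructor
  · rintro ⟨x, rfl⟩
    rw [← Subgroup.orderOf_coe]
    exact orderOf_dvd_of_mem_zpowers x.2
  · intro hk
    have hk : k ∣ orderOf ζ := hk
    obtain ⟨c, hc⟩ := hk
    have hc0 : c ≠ 0 := by
      rintro rfl
      rw [mul_zero] at hc
      omega
    refine ⟨⟨ζ ^ c, Subgroup.npow_mem_zpowers ζ c⟩, ?_⟩
    rw [← Subgroup.orderOf_coe]
    show orderOf (ζ ^ c) = k
    rw [orderOf_pow_of_dvd hc0 ⟨k, by rw [hc, mul_comm]⟩, hc]
    exact Nat.mul_div_cancel _ (Nat.pos_of_ne_zero hc0)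

theorem range_orderOf_Fr_zpowers [Finite K] (p : ℕ) (hp : p.Prime) [CharP K p] (ζ : Kˣ) :
    Set.range (orderOf : Fr (Subgroup.zpowers ζ) → ℕ) = insert p {k | k ∣ orderOf ζ} := by
  rw [range_orderOf_Fr p hp, range_orderOf_zpowers ζ (orderOf_pos ζ)]

instance (C : Subgroup Kˣ) [Finite K] : Finite (Fr C) :=
  Finite.of_equiv _ SemidirectProduct.equivProd.symm

theorem isSolvable_Fr (C : Subgroup Kˣ) : Group.IsSolvable (Fr C) :=
  isSolvable_semidirect _

/-- in a finite field, units of every order dividing `card K - 1` exist -/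
theorem exists_unit_orderOf [Finite K] (m : ℕ) (hm : m ∣ Nat.card K - 1) :
    ∃ ζ : Kˣ, orderOf ζ = m := by
  obtain ⟨g, hg⟩ := IsCyclic.exists_ofOrder_eq_natCard (α := Kˣ)
  rw [Nat.card_units] at hg
  have hN : 0 < Nat.card K - 1 := by
    have : 1 < Nat.card K := Finite.one_lt_card
    omega
  obtain ⟨c, hc⟩ := hm
  have hc0 : c ≠ 0 := by
    rintro rfl
    rw [mul_zero] at hc
    omega
  refine ⟨g ^ c, ?_⟩
  rw [orderOf_pow_of_dvd hc0 ⟨m, by rw [hg, hc, mul_comm]⟩, hg, hc]
  exact Nat.mul_div_cancel _ (Nat.pos_of_ne_zero hc0)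

end

end Cfsg.Agent.Lib.Helper19.FieldFrob
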