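import Mathlib

set_option autoImplicit false

namespace Cfsg.Agent.Lib.Helper19.Fix2

open MulAction Subgroup

/-- Fixity at most two, in elementary form. -/
def Fx2 (P : Type*) [Group P] (Ω : Type*) [MulAction P Ω] : Prop :=
  ∀ g : P, g ≠ 1 → ∀ a b c : Ω, g • a = a → g • b = b → g • c = c → a = b ∨ a = c ∨ b = c

theorem fx2_of_card {P : Type*} [Group P] {Ω : Type*} [Finite Ω] [MulAction P Ω]
    (h : ∀ g : P, g ≠ 1 → Nat.card (MulAction.fixedBy Ω g) ≤ 2) : Fx2 P Ω := by
  intro g hg a b c ha hb hc
  by_contra hcon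
  push Not at hcon
  obtain ⟨hab, hac, hbc⟩ := hcon
  have h1 := h g hg
  rw [Nat.card_coe_set_eq] at h1
  have hsub : ({a, b, c} : Set Ω) ⊆ MulAction.fixedBy Ω g := by
    intro x hx
    simp only [Set.mem_insert_iff, Set.mem_singleton_iff] at hx
    rcases hx with rfl | rfl | rfl
    · exact ha
    · exact hb
    · exact hc
  have h2 := Set.ncard_le_ncard hsub (Set.toFinite _)
  have h3 : ({a, b, c} : Set Ω).ncard = 3 := Set.ncard_eq_three.mpr ⟨a, b, c, hab, hac, hbc, rfl⟩
  omega

variable {P : Type*} [Group P] [Finite P] {Ω : Type*} [MulAction P Ω]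

/-- Local analysis at a point with nontrivial, proper stabilizer in a 2-group. -/
theorem fx2_local (hP : IsPGroup 2 P) (h2 : Fx2 P Ω) (ω : Ω)
    (hne : stabilizer P ω ≠ ⊥) (hnt : stabilizer P ω ≠ ⊤) :
    ∃ (t : P) (ω' : Ω), ω' ≠ ω ∧ t • ω = ω' ∧ t • ω' = ω ∧ stabilizer P ω' = stabilizer P ω ∧
      (∀ x ∈ stabilizer P ω, x ≠ 1 → ∀ δ : Ω, x • δ = δ → δ = ω ∨ δ = ω') := by
  have : Fact (Nat.Prime 2) := ⟨Nat.prime_two⟩
  have : Group.IsNilpotent P := hP.isNilpotent
  have hnc : NormalizerCondition P := Group.normalizerCondition_of_isNilpotent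
  have hlt : stabilizer P ω < normalizer (stabilizer P ω : Set P) := hnc _ (lt_top_iff_ne_top.mpr hnt)
  obtain ⟨t, htN, htV⟩ := SetLike.exists_of_lt hlt
  obtain ⟨x0, hx0m, hx0ne⟩ := (Subgroup.bot_or_exists_ne_one (stabilizer P ω)).resolve_left hne
  have htω : t • ω ≠ ω := fun h => htV (mem_stabilizer_iff.mpr h)
  -- V fixes t • ω
  have hVfix : ∀ v ∈ stabilizer P ω, v • (t • ω) = t • ω := by
    intro v hv
    have h1 : t⁻¹ * v * t⁻¹⁻¹ ∈ stabilizer P ω := by
      have := (Subgroup.mem_normalizer_iff.mp (Subgroup.inv_mem _ htN) v).mp hv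
      exact this
    rw [inv_inv, mem_stabilizer_iff, mul_smul, mul_smul] at h1
    have : t • (t⁻¹ • v • t • ω) = t • ω := by rw [h1]
    rwa [smul_inv_smul] at this
  have hfixpts : ∀ x ∈ stabilizer P ω, x ≠ 1 → ∀ δ : Ω, x • δ = δ → δ = ω ∨ δ = t • ω := by
    intro x hx hx1 δ hδ
    rcases h2 x hx1 ω (t • ω) δ (mem_stabilizer_iff.mp hx) (hVfix x hx) hδ with h | h | h
    · exact absurd h.symm htω
    · exact Or.inl h.symm
    · exact Or.inr h.symm
  have hstab : stabilizer P (t • ω) = stabilizer P ω := by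
    rw [stabilizer_smul_eq_stabilizer_map_conj]
    ext y
    rw [Subgroup.mem_map]
    constructor
    · rintro ⟨z, hz, rfl⟩
      exact (Subgroup.mem_normalizer_iff.mp htN z).mp hz
    · intro hy
      refine ⟨t⁻¹ * y * t, ?_, ?_⟩
      · have := (Subgroup.mem_normalizer_iff.mp (Subgroup.inv_mem _ htN) y).mp hy
        simpa using this
      · simp [MulAut.conj_apply, mul_assoc]
  have htt : t • (t • ω) = ω := by
    -- t • (t • ω) is fixed by V
    have h1 : x0 • (t • (t • ω)) = t • (t • ω) := by
      have hm : t⁻¹ * x0 * t⁻¹⁻¹ ∈ stabilizer P ω :=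
        (Subgroup.mem_normalizer_iff.mp (Subgroup.inv_mem _ htN) x0).mp hx0m
      have h3 := hVfix _ hm
      rw [inv_inv, mul_smul, mul_smul] at h3
      have : t • (t⁻¹ • x0 • t • t • ω) = t • (t • ω) := by rw [h3]
      rwa [smul_inv_smul] at this
    rcases hfixpts x0 hx0m hx0ne _ h1 with h | h
    · exact h
    · exfalso
      have : t ∈ stabilizer P (t • ω) := mem_stabilizer_iff.mpr h
      rw [hstab] at this
      exact htV this
  exact ⟨t, t • ω, htω, rfl, htt, hstab, hfixpts⟩


/-- The configuration produced by `fx2_local`. -/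
structure LocCfg (P : Type*) [Group P] (Ω : Type*) [MulAction P Ω] (ω : Ω) where
  t : P
  ω' : Ω
  hne : ω' ≠ ω
  ht : t • ω = ω'
  ht' : t • ω' = ω
  hstab : stabilizer P ω' = stabilizer P ω
  hfix : ∀ x ∈ stabilizer P ω, x ≠ 1 → ∀ δ : Ω, x • δ = δ → δ = ω ∨ δ = ω'
  x0 : P
  hx0 : x0 ∈ stabilizer P ω
  hx01 : x0 ≠ 1

theorem fx2_exists_locCfg (hP : IsPGroup 2 P) (h2 : Fx2 P Ω) (ω : Ω)
    (hne : stabilizer P ω ≠ ⊥) (hnt : stabilizer P ω ≠ ⊤) : Nonempty (LocCfg P Ω ω) := by
  obtain ⟨t, ω', h1, h2', h3, h4, h5⟩ := fx2_local hP h2 ω hne hnt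
  obtain ⟨x0, hx0m, hx0ne⟩ := (Subgroup.bot_or_exists_ne_one (stabilizer P ω)).resolve_left hne
  exact ⟨⟨t, ω', h1, h2', h3, h4, h5, x0, hx0m, hx0ne⟩⟩

namespace LocCfg

variable {ω : Ω} (c : LocCfg P Ω ω)
include c

omit [Finite P] in
theorem mem_normalizer_of_smul (s : P) (hs : s • ω = ω ∨ s • ω = c.ω') :
    s ∈ normalizer (stabilizer P ω : Set P) := by
  have h1 : stabilizer P (s • ω) = stabilizer P ω := by
    rcases hs with h | h
    · rw [h]
    · rw [h, c.hstab]
  rw [stabilizer_smul_eq_stabilizer_map_conj] at h1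
  rw [Subgroup.mem_normalizer_iff]
  intro x
  constructor
  · intro hx
    rw [← h1]
    exact Subgroup.mem_map.mpr ⟨x, hx, rfl⟩
  · intro hx
    rw [← h1] at hx
    obtain ⟨z, hz, hzx⟩ := Subgroup.mem_map.mp hx
    have : z = x := by
      have h2 : s * z * s⁻¹ = s * x * s⁻¹ := by simpa [MulAut.conj_apply] using hzx
      have h3 := mul_right_cancel h2
      exact mul_left_cancel h3
    rwa [← this]

omit [Finite P] in
theorem smul_of_conj_mem (s x : P) (hx : x ∈ stabilizer P ω) (hx1 : x ≠ 1)
    (hsx : s * x * s⁻¹ ∈ stabilizer P ω) : s • ω = ω ∨ s • ω = c.ω' := by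
  have h1 : s * x * s⁻¹ ≠ 1 := by
    intro h
    apply hx1
    have : s * x = s := by
      have := congrArg (· * s) h
      simpa using this
    exact mul_left_cancel (a := s) (by simpa using this)
  apply c.hfix _ hsx h1
  rw [mul_smul, mul_smul, inv_smul_smul, mem_stabilizer_iff.mp hx]

omit [Finite P] in
theorem smul_of_mem_normalizer (s : P) (hs : s ∈ normalizer (stabilizer P ω : Set P)) :
    s • ω = ω ∨ s • ω = c.ω' :=
  c.smul_of_conj_mem s c.x0 c.hx0 c.hx01 ((Subgroup.mem_normalizer_iff.mp hs c.x0).mp c.hx0)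

omit [Finite P] in
theorem t_mem_normalizer : c.t ∈ normalizer (stabilizer P ω : Set P) :=
  c.mem_normalizer_of_smul c.t (Or.inr c.ht)

omit [Finite P] in
theorem t_not_mem : c.t ∉ stabilizer P ω := by
  intro h
  exact c.hne (by rw [← c.ht, mem_stabilizer_iff.mp h])

omit [Finite P] in
theorem relIndex_normalizer :
    (stabilizer P ω).relIndex (normalizer (stabilizer P ω : Set P)) = 2 := by
  rw [Subgroup.relIndex_eq_two_iff]
  refine ⟨c.t, c.t_mem_normalizer, ?_⟩
  intro b hb
  rcases c.smul_of_mem_normalizer b hb with h | h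
  · -- b fixes ω
    have hb' : b ∈ stabilizer P ω := mem_stabilizer_iff.mpr h
    refine Or.inr ⟨hb', ?_⟩
    intro hbt
    have := (Subgroup.mul_mem_cancel_left _ hb').mp hbt
    exact c.t_not_mem this
  · -- b moves ω to ω'
    have hb' : b ∉ stabilizer P ω := by
      intro hh
      exact c.hne (by rw [← h, mem_stabilizer_iff.mp hh])
    refine Or.inl ⟨?_, hb'⟩
    -- b * t fixes ω: b • ω' = ω
    have hbω' : b • c.ω' = ω := by
      have hbN : b ∈ normalizer (stabilizer P c.ω' : Set P) := by rw [c.hstab]; exact hb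
      -- b • ω' is fixed by conj of x0
      have hx : b * c.x0 * b⁻¹ ∈ stabilizer P ω := (Subgroup.mem_normalizer_iff.mp hb c.x0).mp c.hx0
      have hx1 : b * c.x0 * b⁻¹ ≠ 1 := by
        intro hh
        apply c.hx01
        have : b * c.x0 = b := by
          have := congrArg (· * b) hh
          simpa using this
        exact mul_left_cancel (a := b) (by simpa using this)
      have hx0' : c.x0 ∈ stabilizer P c.ω' := by rw [c.hstab]; exact c.hx0
      have hfixed : (b * c.x0 * b⁻¹) • (b • c.ω') = b • c.ω' := by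
        rw [mul_smul, mul_smul, inv_smul_smul, mem_stabilizer_iff.mp hx0']
      rcases c.hfix _ hx hx1 _ hfixed with h3 | h3
      · exact h3
      · exfalso
        exact c.hne (smul_left_cancel b (h3.trans h.symm))
    rw [mem_stabilizer_iff, mul_smul, c.ht, hbω']

theorem normalizer_eq_top (hP : IsPGroup 2 P) (hcard : Nat.card (stabilizer P ω) ≠ 2) :
    normalizer (stabilizer P ω : Set P) = ⊤ := by
  have : Fact (Nat.Prime 2) := ⟨Nat.prime_two⟩
  have : Group.IsNilpotent P := hP.isNilpotent
  have hnc : NormalizerCondition P := Group.normalizerCondition_of_isNilpotent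
  by_contra hN
  set V := stabilizer P ω with hV
  set N := normalizer (V : Set P) with hNdef
  have hlt : N < normalizer (N : Set P) := hnc _ (lt_top_iff_ne_top.mpr hN)
  obtain ⟨r, hrN, hrnot⟩ := SetLike.exists_of_lt hlt
  have hVN : V ≤ N := Subgroup.le_normalizer
  set V' := V.map (MulAut.conj r).toMonoidHom with hV'
  have hV'N : V' ≤ N := by
    rintro y ⟨x, hx, rfl⟩
    exact (Subgroup.mem_normalizer_iff.mp hrN x).mp (hVN hx)
  have hinf : V ⊓ V' = ⊥ := by
    rw [eq_bot_iff]
    rintro y ⟨hy1, hy2⟩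
    rw [Subgroup.mem_bot]
    by_contra hy
    obtain ⟨x, hx, hxy⟩ := hy2
    have hxy' : r * x * r⁻¹ = y := by simpa [MulAut.conj_apply] using hxy
    have hx1 : x ≠ 1 := by
      rintro rfl
      apply hy
      rw [← hxy']
      simp
    have hmem : r * x * r⁻¹ ∈ stabilizer P ω := by rw [hxy']; exact hy1
    have := c.smul_of_conj_mem r x hx hx1 hmem
    exact hrnot (c.mem_normalizer_of_smul r this)
  have hcardV' : Nat.card V' = Nat.card V :=
    Subgroup.card_map_of_injective (MulAut.conj r).injective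
  have h1 : V.relIndex V' = Nat.card V' := by
    rw [← Subgroup.inf_relIndex_right, hinf, Subgroup.relIndex_bot_left]
  have h2 : V.relIndex V' ≤ V.relIndex N :=
    Subgroup.relIndex_le_of_le_right hV'N (by rw [c.relIndex_normalizer]; norm_num)
  rw [c.relIndex_normalizer, h1, hcardV'] at h2
  have h3 : 1 < Nat.card V := by
    rw [Subgroup.one_lt_card_iff_ne_bot]
    intro hb
    have := c.hx0
    rw [← hV, hb, Subgroup.mem_bot] at this
    exact c.hx01 this
  omega

theorem index_eq_two (hP : IsPGroup 2 P) (hcard : Nat.card (stabilizer P ω) ≠ 2) :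
    (stabilizer P ω).index = 2 := by
  have h := c.relIndex_normalizer
  rw [c.normalizer_eq_top hP hcard, Subgroup.relIndex_top_right] at h
  exact h

omit [Finite P] in
theorem card_centralizer (hcard : Nat.card (stabilizer P ω) = 2) (v : P) (hv : v ∈ stabilizer P ω)
    (hv1 : v ≠ 1) : Nat.card (centralizer ({v} : Set P)) = 4 := by
  set V := stabilizer P ω with hV
  -- elements of V are 1 or v
  have hV2 : ∀ x ∈ V, x = 1 ∨ x = v := by
    intro x hx
    by_contra hcon
    push Not at hcon
    have hfin : Finite V := Nat.finite_of_card_ne_zero (by rw [hcard]; norm_num)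
    have h3 : 3 ≤ Nat.card V := by
      have hinj : Function.Injective (fun i : Fin 3 => (![⟨1, V.one_mem⟩, ⟨v, hv⟩, ⟨x, hx⟩] i : V)) := by
        intro i j hij
        fin_cases i <;> fin_cases j <;> simp_all [Subtype.ext_iff]
      have := Nat.card_le_card_of_injective _ hinj
      simpa using this
    omega
  have hCN : centralizer ({v} : Set P) = normalizer (V : Set P) := by
    ext s
    rw [Subgroup.mem_centralizer_singleton_iff, Subgroup.mem_normalizer_iff]
    constructor
    · intro hs x
      constructor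
      · intro hx
        rcases hV2 x hx with h | h
        · rw [h]; simp
        · have : s * v * s⁻¹ = v := by rw [hs]; group
          rw [h, this]; exact hv
      · intro hx
        rcases hV2 _ hx with h | h
        · have : x = 1 := by
            have h' := congrArg (fun y => s⁻¹ * y * s) h
            simpa [mul_assoc] using h'
          rw [this]; exact V.one_mem
        · have : x = v := by
            have h' : s * x * s⁻¹ = s * v * s⁻¹ := by rw [h, hs]; group
            exact mul_left_cancel (mul_right_cancel h')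
          rw [this]; exact hv
    · intro hs
      have h1 := (hs v).mp hv
      rcases hV2 _ h1 with h | h
      · exfalso
        apply hv1
        have h' := congrArg (fun y => s⁻¹ * y * s) h
        simpa [mul_assoc] using h'
      · have : s * v = v * s := by
          have h' := congrArg (fun y => y * s) h
          simpa [mul_assoc] using h'
        exact this
  rw [hCN]
  have h1 := Subgroup.relIndex_mul_relIndex (H := (⊥ : Subgroup P)) (K := V) (L := normalizer (V : Set P))
    bot_le Subgroup.le_normalizer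
  rw [Subgroup.relIndex_bot_left, Subgroup.relIndex_bot_left, c.relIndex_normalizer, hcard] at h1
  omega

end LocCfg

end Cfsg.Agent.Lib.Helper19.Fix2
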