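import Mathlib
import Cfsg.Prelude.Def_Solvable
import Cfsg.Agent.Lib.Helper19.Fix2A
import Cfsg.Agent.Lib.Helper19.TransferTwo
import Cfsg.Agent.Lib.Helper9.Transfer

set_option autoImplicit false

namespace Cfsg.Agent.Lib.Helper19.Fix2

open MulAction Subgroup MonoidHom

variable {G : Type*} [Group G] [Finite G] {Ω : Type*} [MulAction G Ω]

/-- Data for the "index two, all other orbits regular" situation. -/
structure RegCfg (G : Type*) [Group G] (Ω : Type*) [MulAction G Ω] (S : Sylow 2 G) where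
  α : Ω
  β : Ω
  hαβ : α ≠ β
  t : G
  htS : t ∈ (S : Subgroup G)
  htα : t • α = β
  htβ : t • β = α
  hQ : ((stabilizer G α).subgroupOf (S : Subgroup G)).index = 2
  hβ : ∀ s ∈ (S : Subgroup G), s • β = β ↔ s • α = α
  u : G
  huS : u ∈ (S : Subgroup G)
  huα : u • α = α
  hu1 : u ≠ 1
  hreg : ∀ γ : Ω, γ ≠ α → γ ≠ β → ∀ s ∈ (S : Subgroup G), s • γ = γ → s = 1

namespace RegCfg

variable {S : Sylow 2 G} (c : RegCfg G Ω S)
include c

omit [Finite G] in
theorem fix_iff (s : G) (hs : s ∈ (S : Subgroup G)) :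
    s • c.α = c.α ↔ (s = 1 ∨ ∃ γ : Ω, s • γ = γ) := by
  constructor
  · intro h
    exact Or.inr ⟨c.α, h⟩
  · rintro (rfl | ⟨γ, hγ⟩)
    · simp
    · by_cases h1 : γ = c.α
      · rw [← h1]; exact hγ
      · by_cases h2 : γ = c.β
        · rw [h2] at hγ
          exact (c.hβ s hs).mp hγ
        · have := c.hreg γ h1 h2 s hs hγ
          rw [this]; simp

omit [Finite G] in
theorem stable (s x : G) (hs : s ∈ (S : Subgroup G)) (hx : x⁻¹ * s * x ∈ (S : Subgroup G)) :
    (x⁻¹ * s * x) • c.α = c.α ↔ s • c.α = c.α := by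
  rw [c.fix_iff _ hx, c.fix_iff _ hs]
  constructor
  · rintro (h | ⟨γ, hγ⟩)
    · left
      have h' := congrArg (fun y => x * y * x⁻¹) h
      simpa [mul_assoc] using h'
    · right
      refine ⟨x • γ, ?_⟩
      rw [mul_smul, mul_smul] at hγ
      have := congrArg (fun y => x • y) hγ
      simpa using this
  · rintro (h | ⟨γ, hγ⟩)
    · left
      rw [h]; simp
    · right
      refine ⟨x⁻¹ • γ, ?_⟩
      rw [mul_smul, mul_smul, smul_inv_smul, hγ]

/-- The sign hom on `S` with kernel the stabilizer of `α`. -/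
noncomputable def phi : ↥(S : Subgroup G) →* ℤˣ :=
  signHomOfIndexTwo (S : Subgroup G) ((stabilizer G c.α).subgroupOf (S : Subgroup G)) c.hQ

omit [Finite G] in
theorem phi_eq_one_iff (s : ↥(S : Subgroup G)) : c.phi s = 1 ↔ (s : G) • c.α = c.α := by
  unfold phi
  rw [signHomOfIndexTwo_apply, mem_subgroupOf, mem_stabilizer_iff]

omit [Finite G] in
theorem phi_eq_of_iff (a b : ↥(S : Subgroup G)) (h : (a : G) • c.α = c.α ↔ (b : G) • c.α = c.α) :
    c.phi a = c.phi b := by
  rcases Int.units_eq_one_or (c.phi a) with ha | ha <;> rcases Int.units_eq_one_or (c.phi b) with hb | hb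
  · rw [ha, hb]
  · exfalso
    have h1 := (c.phi_eq_one_iff a).mp ha
    have h2 := (c.phi_eq_one_iff b).mpr (h.mp h1)
    rw [hb] at h2
    exact absurd h2 (by decide)
  · exfalso
    have h1 := (c.phi_eq_one_iff b).mp hb
    have h2 := (c.phi_eq_one_iff a).mpr (h.mpr h1)
    rw [ha] at h2
    exact absurd h2 (by decide)
  · rw [ha, hb]

theorem transfer_eq (s : G) (hs : s ∈ (S : Subgroup G)) :
    transfer c.phi s = c.phi ⟨s, hs⟩ := by
  have : Fact (Nat.Prime 2) := ⟨Nat.prime_two⟩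
  have key : ∀ (k : ℕ) (g₀ : G) (h : g₀⁻¹ * s ^ k * g₀ ∈ (S : Subgroup G)),
      c.phi ⟨g₀⁻¹ * s ^ k * g₀, h⟩ = c.phi ⟨s, hs⟩ ^ k := by
    intro k g₀ h
    have hsk : s ^ k ∈ (S : Subgroup G) := Subgroup.pow_mem _ hs k
    have h1 : c.phi ⟨g₀⁻¹ * s ^ k * g₀, h⟩ = c.phi ⟨s ^ k, hsk⟩ :=
      c.phi_eq_of_iff _ _ (c.stable (s ^ k) g₀ hsk h)
    rw [h1, ← map_pow]
    rfl
  rw [Cfsg.Agent.Lib.Helper9.transfer_eq_pow_of_ctrl c.phi s hs key]
  have hodd : Odd (S : Subgroup G).index := by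
    have : ¬ 2 ∣ (S : Subgroup G).index := S.not_dvd_index
    exact Nat.odd_iff.mpr (by omega)
  rcases Int.units_eq_one_or (c.phi ⟨s, hs⟩) with h | h
  · rw [h, one_pow]
  · rw [h, Odd.neg_one_pow hodd]

theorem transfer_eq_one_of_fixed (y : G) (γ : Ω) (hy : y • γ = γ) : transfer c.phi y = 1 := by
  have : Fact (Nat.Prime 2) := ⟨Nat.prime_two⟩
  have hn : orderOf y ≠ 0 := (orderOf_pos y).ne'
  obtain ⟨a, m, hm, hnm⟩ := Nat.exists_eq_two_pow_mul_odd hn
  set y' := y ^ m with hy'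
  have hy'pow : y' ^ (2 ^ a) = 1 := by
    rw [hy', ← pow_mul, mul_comm, ← hnm, pow_orderOf_eq_one]
  have hpg : IsPGroup 2 (zpowers y') := by
    rw [IsPGroup.iff_orderOf]
    intro z
    obtain ⟨k, hk⟩ := (Nat.dvd_prime_pow Nat.prime_two).mp
      (orderOf_dvd_of_pow_eq_one (show z ^ (2 ^ a) = 1 by
        obtain ⟨z, hz⟩ := z
        obtain ⟨j, rfl⟩ := Subgroup.mem_zpowers_iff.mp hz
        apply Subtype.ext
        simp only [SubgroupClass.coe_pow, Subgroup.coe_one]
        rw [← zpow_natCast, ← zpow_mul, mul_comm, zpow_mul, zpow_natCast, hy'pow, one_zpow]))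
    exact ⟨k, hk.2⟩
  obtain ⟨R, hR⟩ := hpg.exists_le_sylow
  obtain ⟨g, hg⟩ := MulAction.exists_smul_eq G R S
  have hy'R : y' ∈ (R : Subgroup G) := hR (Subgroup.mem_zpowers y')
  have hs : g * y' * g⁻¹ ∈ (S : Subgroup G) := by
    rw [← hg, Sylow.smul_def, Sylow.pointwise_smul_def, Subgroup.mem_pointwise_smul_iff_inv_smul_mem]
    simpa [MulAut.smul_def, MulAut.conj_apply, mul_assoc] using hy'R
  have hfixs : (g * y' * g⁻¹) • (g • γ) = g • γ := by
    rw [mul_smul, mul_smul, inv_smul_smul]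
    have : y' ∈ stabilizer G γ := by
      rw [hy']
      exact Subgroup.pow_mem _ (mem_stabilizer_iff.mpr hy) m
    rw [mem_stabilizer_iff.mp this]
  have h1 : c.phi ⟨g * y' * g⁻¹, hs⟩ = 1 := by
    rw [c.phi_eq_one_iff]
    exact (c.fix_iff _ hs).mpr (Or.inr ⟨_, hfixs⟩)
  have h2 : transfer c.phi (g * y' * g⁻¹) = 1 := by rw [c.transfer_eq _ hs, h1]
  have h3 : transfer c.phi (g * y' * g⁻¹) = transfer c.phi y' := by
    rw [map_mul, map_mul, map_inv, mul_comm, ← mul_assoc, inv_mul_cancel, one_mul]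
  rw [h3, hy', map_pow] at h2
  rcases Int.units_eq_one_or (transfer c.phi y) with h | h
  · exact h
  · rw [h, Odd.neg_one_pow hm] at h2
    exact absurd h2 (by decide)


theorem transfer_t : transfer c.phi c.t = -1 := by
  rw [c.transfer_eq c.t c.htS]
  rcases Int.units_eq_one_or (c.phi ⟨c.t, c.htS⟩) with h | h
  · exfalso
    have := (c.phi_eq_one_iff _).mp h
    simp only [] at this
    rw [c.htα] at this
    exact c.hαβ this.symm
  · exact h

theorem exists_frobenius [FaithfulSMul G Ω] (htr : IsPretransitive G Ω) (h2 : Fx2 G Ω) :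
    ∃ N : Subgroup G, N.Normal ∧ N.index = 2 ∧ ∃ H : Subgroup ↥N, Cfsg.IsFrobeniusComplement H := by
  set V := transfer c.phi with hV
  have hVt : V c.t = -1 := c.transfer_t
  set Y : Subgroup G := stabilizer G c.α ⊓ stabilizer G c.β with hY
  have hYN : Y ≤ V.ker := by
    intro y hy
    rw [MonoidHom.mem_ker]
    exact c.transfer_eq_one_of_fixed y c.α (mem_stabilizer_iff.mp (Subgroup.mem_inf.mp hy).1)
  have huY : c.u ∈ Y := by
    refine Subgroup.mem_inf.mpr ⟨mem_stabilizer_iff.mpr c.huα, mem_stabilizer_iff.mpr ?_⟩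
    exact (c.hβ c.u c.huS).mpr c.huα
  have htN : c.t ∉ V.ker := by
    rw [MonoidHom.mem_ker, hVt]
    decide
  refine ⟨V.ker, MonoidHom.normal_ker _, ?_, Y.subgroupOf V.ker, ?_, ?_, ?_⟩
  · rw [Subgroup.index_ker]
    have hrange : V.range = ⊤ := by
      rw [eq_top_iff]
      intro w _
      rcases Int.units_eq_one_or w with rfl | rfl
      · exact one_mem _
      · exact ⟨c.t, hVt⟩
    rw [hrange, Subgroup.card_top]
    simp
  · -- nontrivial
    intro hbot
    have : (⟨c.u, hYN huY⟩ : ↥V.ker) ∈ Y.subgroupOf V.ker := by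
      rw [mem_subgroupOf]; exact huY
    rw [hbot, Subgroup.mem_bot] at this
    exact c.hu1 (congrArg Subtype.val this)
  · -- proper
    intro htop
    have hNY : ∀ n ∈ V.ker, n ∈ Y := by
      intro n hn
      have : (⟨n, hn⟩ : ↥V.ker) ∈ Y.subgroupOf V.ker := by rw [htop]; trivial
      rwa [mem_subgroupOf] at this
    have hu : c.u = 1 := by
      apply FaithfulSMul.eq_of_smul_eq_smul (α := Ω)
      intro ω
      obtain ⟨g, rfl⟩ := htr.exists_smul_eq c.α ω
      have hconj : g⁻¹ * c.u * g ∈ V.ker := by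
        have hn : (V.ker).Normal := MonoidHom.normal_ker _
        have := hn.conj_mem c.u (hYN huY) g⁻¹
        simpa using this
      have h1 := (Subgroup.mem_inf.mp (hNY _ hconj)).1
      rw [mem_stabilizer_iff, mul_smul, mul_smul] at h1
      rw [one_smul]
      have := congrArg (fun y => g • y) h1
      simpa using this
    exact c.hu1 hu
  · -- malnormal
    intro g hg
    rw [eq_bot_iff]
    intro x hx12
    obtain ⟨hx1, hx2⟩ := Subgroup.mem_inf.mp hx12
    rw [Subgroup.mem_bot]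
    by_contra hx
    have hxY : (x : G) ∈ Y := mem_subgroupOf.mp hx1
    rw [Subgroup.mem_pointwise_smul_iff_inv_smul_mem] at hx2
    have hx2' : ((g⁻¹ * x * g : ↥V.ker) : G) ∈ Y := by
      have := mem_subgroupOf.mp hx2
      simpa [MulAut.smul_def, MulAut.conj_apply] using this
    have hxG : (x : G) ≠ 1 := fun h => hx (Subtype.ext h)
    have hxα : (x : G) • c.α = c.α := mem_stabilizer_iff.mp (Subgroup.mem_inf.mp hxY).1
    have hxβ : (x : G) • c.β = c.β := mem_stabilizer_iff.mp (Subgroup.mem_inf.mp hxY).2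
    have hfix : ∀ δ : Ω, ((g⁻¹ * x * g : ↥V.ker) : G) • δ = δ → (x : G) • ((g : G) • δ) = (g : G) • δ := by
      intro δ hδ
      have h1 : ((g : G)⁻¹ * (x : G) * (g : G)) • δ = δ := by simpa using hδ
      rw [mul_smul, mul_smul] at h1
      have := congrArg (fun y => (g : G) • y) h1
      simpa using this
    have hgα := hfix c.α (mem_stabilizer_iff.mp (Subgroup.mem_inf.mp hx2').1)
    have hgβ := hfix c.β (mem_stabilizer_iff.mp (Subgroup.mem_inf.mp hx2').2)
    have hgα' : (g : G) • c.α = c.α ∨ (g : G) • c.α = c.β := by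
      rcases h2 _ hxG c.α c.β _ hxα hxβ hgα with h | h | h
      · exact absurd h c.hαβ
      · exact Or.inl h.symm
      · exact Or.inr h.symm
    have hgβ' : (g : G) • c.β = c.α ∨ (g : G) • c.β = c.β := by
      rcases h2 _ hxG c.α c.β _ hxα hxβ hgβ with h | h | h
      · exact absurd h c.hαβ
      · exact Or.inl h.symm
      · exact Or.inr h.symm
    have hinj : (g : G) • c.α ≠ (g : G) • c.β := fun h => c.hαβ (smul_left_cancel _ h)
    rcases hgα' with ha | ha
    · rcases hgβ' with hb | hb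
      · exact hinj (ha.trans hb.symm)
      · apply hg
        rw [mem_subgroupOf]
        exact Subgroup.mem_inf.mpr ⟨mem_stabilizer_iff.mpr ha, mem_stabilizer_iff.mpr hb⟩
    · rcases hgβ' with hb | hb
      · -- t⁻¹ g ∈ Y
        have htinvβ : c.t⁻¹ • c.β = c.α := by rw [← c.htα, inv_smul_smul]
        have htinvα : c.t⁻¹ • c.α = c.β := by rw [← c.htβ, inv_smul_smul]
        have hmem : c.t⁻¹ * (g : G) ∈ Y := by
          refine Subgroup.mem_inf.mpr ⟨mem_stabilizer_iff.mpr ?_, mem_stabilizer_iff.mpr ?_⟩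
          · rw [mul_smul, ha, htinvβ]
          · rw [mul_smul, hb, htinvα]
        have h1 : c.t⁻¹ * (g : G) ∈ V.ker := hYN hmem
        have h3 : c.t⁻¹ ∈ V.ker := (Subgroup.mul_mem_cancel_right _ g.2).mp h1
        exact htN ((Subgroup.inv_mem_iff _).mp h3)
      · exact hinj (ha.trans hb.symm)

end RegCfg

end Cfsg.Agent.Lib.Helper19.Fix2
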