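import Mathlib
import Cfsg.Prelude.Def_CaseTheorems
import Cfsg.Agent.Lib.Helper19.Fix2A

set_option autoImplicit false

namespace Cfsg.Agent.Lib.Helper19.Fix2

open MulAction Subgroup

/-- A group of order four with two distinct involutions is dihedral of order four. -/
theorem fx2_klein {P : Type*} [Group P] (h4 : Nat.card P = 4) (a b : P) (ha : a ≠ 1) (hb : b ≠ 1)
    (hab : a ≠ b) (ha2 : a ^ 2 = 1) (hb2 : b ^ 2 = 1) : Nonempty (P ≃* DihedralGroup 2) := by
  classical
  have : Fact (Nat.Prime 2) := ⟨Nat.prime_two⟩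
  have hfin : Finite P := Nat.finite_of_card_ne_zero (by rw [h4]; norm_num)
  have hcomm : ∀ x y : P, x * y = y * x := by
    have hc : IsMulCommutative P :=
      IsPGroup.isMulCommutative_of_card_eq_prime_sq (p := 2) (by rw [h4]; norm_num)
    exact fun x y => hc.is_comm.comm x y
  have hainv : a⁻¹ = a := by
    rw [inv_eq_iff_mul_eq_one, ← pow_two, ha2]
  have hne1 : a * b ≠ 1 := by
    intro h
    apply hab
    have : b = a⁻¹ := (eq_inv_of_mul_eq_one_right h)
    rw [this, hainv]
  have hne2 : a * b ≠ a := by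
    intro h
    apply hb
    exact mul_left_cancel (a := a) (by rw [h, mul_one])
  have hne3 : a * b ≠ b := by
    intro h
    apply ha
    exact mul_right_cancel (b := b) (by rw [h, one_mul])
  have hall : ∀ x : P, x = 1 ∨ x = a ∨ x = b ∨ x = a * b := by
    intro x
    by_contra hcon
    push Not at hcon
    obtain ⟨h1, h2, h3, h4'⟩ := hcon
    have _ : Fintype P := Fintype.ofFinite P
    have hnd : [1, a, b, a * b, x].Nodup := by
      simp only [List.nodup_cons, List.mem_cons, List.not_mem_nil, or_false, not_or, List.nodup_nil,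
        and_true, not_false_eq_true]
      exact ⟨⟨ha.symm, hb.symm, hne1.symm, h1.symm⟩, ⟨hab, hne2.symm, h2.symm⟩, ⟨hne3.symm, h3.symm⟩, h4'.symm⟩
    have := hnd.length_le_card
    rw [← Nat.card_eq_fintype_card, h4] at this
    simp at this
  have hsq : ∀ x : P, x ^ 2 = 1 := by
    intro x
    rcases hall x with rfl | rfl | rfl | rfl
    · simp
    · exact ha2
    · exact hb2
    · rw [(show Commute a b from hcomm a b).mul_pow, ha2, hb2, one_mul]
  have hnt : Nontrivial P := ⟨⟨a, 1, ha⟩⟩
  have hK : IsKleinFour P :=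
    { card_four := h4
      exponent_two := by
        rw [Monoid.exponent_eq_prime_iff Nat.prime_two]
        intro g hg
        exact orderOf_eq_prime (hsq g) hg }
  exact IsKleinFour.nonempty_mulEquiv

variable {P : Type*} [Group P] [Finite P] {Ω : Type*} [MulAction P Ω]

theorem fx2_pgroup_main (hP : IsPGroup 2 P) (h2 : Fx2 P Ω) (α : Ω)
    (hrec : ∀ x : P, orderOf x = 2 → Nat.card (centralizer ({x} : Set P)) = 4 →
      (∃ n : ℕ, Nonempty (P ≃* DihedralGroup n)) ∨ Cfsg.IsQuasiDihedral P ∨ Nat.card P = 4) :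
    stabilizer P α = ⊥ ∨ stabilizer P α = ⊤ ∨
    (((∃ n : ℕ, Nonempty (P ≃* DihedralGroup n)) ∨ Cfsg.IsQuasiDihedral P) ∧
      (Nat.card (stabilizer P α) = 2 ∨ (stabilizer P α).index = 2)) ∨
    ((stabilizer P α).index = 2 ∧ ∃ c : LocCfg P Ω α,
      ∀ γ : Ω, γ ≠ α → γ ≠ c.ω' → stabilizer P γ = ⊥) := by
  have : Fact (Nat.Prime 2) := ⟨Nat.prime_two⟩
  by_cases hbot : stabilizer P α = ⊥
  · exact Or.inl hbot
  by_cases htop : stabilizer P α = ⊤
  · exact Or.inr (Or.inl htop)
  right; right
  obtain ⟨c⟩ := fx2_exists_locCfg hP h2 α hbot htop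
  set V := stabilizer P α with hV
  -- involution facts when card = 2
  have hinv : ∀ (W : Subgroup P), Nat.card W = 2 → ∀ x ∈ W, x ≠ 1 → orderOf x = 2 := by
    intro W hW x hx hx1
    have h1 : (⟨x, hx⟩ : W) ^ 2 = 1 := by
      rw [← hW]; exact pow_card_eq_one'
    have h2' : x ^ 2 = 1 := by
      have := congrArg Subtype.val h1
      simpa using this
    exact orderOf_eq_prime h2' hx1
  -- the index-two analysis
  have hidx : V.index = 2 →
      (((∃ n : ℕ, Nonempty (P ≃* DihedralGroup n)) ∨ Cfsg.IsQuasiDihedral P) ∧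
        (Nat.card V = 2 ∨ V.index = 2)) ∨
      (V.index = 2 ∧ ∃ c : LocCfg P Ω α, ∀ γ : Ω, γ ≠ α → γ ≠ c.ω' → stabilizer P γ = ⊥) := by
    intro hi
    by_cases hreg : ∀ γ : Ω, γ ≠ α → γ ≠ c.ω' → stabilizer P γ = ⊥
    · exact Or.inr ⟨hi, c, hreg⟩
    · left
      push Not at hreg
      obtain ⟨γ, hγα, hγω, hW⟩ := hreg
      set W := stabilizer P γ with hWdef
      have hVW : V ⊓ W = ⊥ := by
        rw [eq_bot_iff]
        intro x hx
        obtain ⟨hx1, hx2⟩ := Subgroup.mem_inf.mp hx
        rw [Subgroup.mem_bot]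
        by_contra hx1'
        rcases c.hfix x hx1 hx1' γ (mem_stabilizer_iff.mp hx2) with h | h
        · exact hγα h
        · exact hγω h
      have h1 : V.relIndex W = Nat.card W := by
        rw [← Subgroup.inf_relIndex_right, hVW, Subgroup.relIndex_bot_left]
      have h2' : V.relIndex W ≤ V.relIndex ⊤ :=
        Subgroup.relIndex_le_of_le_right le_top (by rw [Subgroup.relIndex_top_right, hi]; norm_num)
      rw [Subgroup.relIndex_top_right, hi, h1] at h2'
      have h3 : 1 < Nat.card W := by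
        rw [Subgroup.one_lt_card_iff_ne_bot]; exact hW
      have hW2 : Nat.card W = 2 := by omega
      have hVcard : 1 < Nat.card V := by
        rw [Subgroup.one_lt_card_iff_ne_bot]; exact hbot
      have hPcard : Nat.card V * 2 = Nat.card P := by
        rw [← hi]; exact V.card_mul_index
      have hWtop : W ≠ ⊤ := by
        intro h
        rw [h, Subgroup.card_top] at hW2
        omega
      obtain ⟨c'⟩ := fx2_exists_locCfg hP h2 γ hW hWtop
      have hC := c'.card_centralizer hW2 c'.x0 c'.hx0 c'.hx01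
      have hord := hinv W hW2 c'.x0 c'.hx0 c'.hx01
      refine ⟨?_, Or.inr hi⟩
      rcases hrec c'.x0 hord hC with hD | hQD | h4
      · exact Or.inl hD
      · exact Or.inr hQD
      · left
        refine ⟨2, ?_⟩
        have hV2 : Nat.card V = 2 := by omega
        have hord0 := hinv V hV2 c.x0 c.hx0 c.hx01
        have hne : c.x0 ≠ c'.x0 := by
          intro h
          have hm : c.x0 ∈ V ⊓ W := Subgroup.mem_inf.mpr ⟨c.hx0, h ▸ c'.hx0⟩
          rw [hVW, Subgroup.mem_bot] at hm
          exact c.hx01 hm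
        exact fx2_klein h4 c.x0 c'.x0 c.hx01 c'.hx01 hne
          (by rw [← hord0, pow_orderOf_eq_one]) (by rw [← hord, pow_orderOf_eq_one])
  by_cases hc2 : Nat.card V = 2
  · have hC := c.card_centralizer hc2 c.x0 c.hx0 c.hx01
    have hord := hinv V hc2 c.x0 c.hx0 c.hx01
    rcases hrec c.x0 hord hC with hD | hQD | h4
    · exact Or.inl ⟨Or.inl hD, Or.inl hc2⟩
    · exact Or.inl ⟨Or.inr hQD, Or.inl hc2⟩
    · apply hidx
      have := V.card_mul_index
      rw [hc2, h4] at this
      omega
  · exact hidx (c.index_eq_two hP hc2)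

end Cfsg.Agent.Lib.Helper19.Fix2
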