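import Mathlib

set_option autoImplicit false

namespace Cfsg.Agent.Lib.Helper19.Frob7

structure M4 where
  (e11 e12 e13 e14 e21 e22 e23 e24 e31 e32 e33 e34 e41 e42 e43 e44 : ZMod 7)
deriving DecidableEq

def M4.mul (x y : M4) : M4 :=
  ⟨x.e11 * y.e11 + x.e12 * y.e21 + x.e13 * y.e31 + x.e14 * y.e41,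
   x.e11 * y.e12 + x.e12 * y.e22 + x.e13 * y.e32 + x.e14 * y.e42,
   x.e11 * y.e13 + x.e12 * y.e23 + x.e13 * y.e33 + x.e14 * y.e43,
   x.e11 * y.e14 + x.e12 * y.e24 + x.e13 * y.e34 + x.e14 * y.e44,
   x.e21 * y.e11 + x.e22 * y.e21 + x.e23 * y.e31 + x.e24 * y.e41,
   x.e21 * y.e12 + x.e22 * y.e22 + x.e23 * y.e32 + x.e24 * y.e42,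
   x.e21 * y.e13 + x.e22 * y.e23 + x.e23 * y.e33 + x.e24 * y.e43,
   x.e21 * y.e14 + x.e22 * y.e24 + x.e23 * y.e34 + x.e24 * y.e44,
   x.e31 * y.e11 + x.e32 * y.e21 + x.e33 * y.e31 + x.e34 * y.e41,
   x.e31 * y.e12 + x.e32 * y.e22 + x.e33 * y.e32 + x.e34 * y.e42,
   x.e31 * y.e13 + x.e32 * y.e23 + x.e33 * y.e33 + x.e34 * y.e43,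
   x.e31 * y.e14 + x.e32 * y.e24 + x.e33 * y.e34 + x.e34 * y.e44,
   x.e41 * y.e11 + x.e42 * y.e21 + x.e43 * y.e31 + x.e44 * y.e41,
   x.e41 * y.e12 + x.e42 * y.e22 + x.e43 * y.e32 + x.e44 * y.e42,
   x.e41 * y.e13 + x.e42 * y.e23 + x.e43 * y.e33 + x.e44 * y.e43,
   x.e41 * y.e14 + x.e42 * y.e24 + x.e43 * y.e34 + x.e44 * y.e44⟩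

def M4.one : M4 := ⟨1, 0, 0, 0, 0, 1, 0, 0, 0, 0, 1, 0, 0, 0, 0, 1⟩

def M4.subOne (x : M4) : M4 :=
  ⟨x.e11 - 1, x.e12, x.e13, x.e14, x.e21, x.e22 - 1, x.e23, x.e24, x.e31, x.e32, x.e33 - 1, x.e34, x.e41, x.e42, x.e43, x.e44 - 1⟩

def Klist : List M4 := [
  ⟨1, 0, 0, 0, 0, 1, 0, 0, 0, 0, 1, 0, 0, 0, 0, 1⟩,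
  ⟨0, 0, 0, 1, 0, 0, 6, 0, 0, 1, 0, 0, 6, 0, 0, 0⟩,
  ⟨0, 0, 0, 2, 0, 0, 5, 0, 0, 4, 0, 0, 3, 0, 0, 0⟩,
  ⟨0, 0, 0, 3, 0, 0, 4, 0, 0, 5, 0, 0, 2, 0, 0, 0⟩,
  ⟨0, 0, 0, 4, 0, 0, 3, 0, 0, 2, 0, 0, 5, 0, 0, 0⟩,
  ⟨0, 0, 0, 5, 0, 0, 2, 0, 0, 3, 0, 0, 4, 0, 0, 0⟩,
  ⟨0, 0, 0, 6, 0, 0, 1, 0, 0, 6, 0, 0, 1, 0, 0, 0⟩,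
  ⟨0, 0, 1, 0, 0, 0, 0, 1, 5, 4, 0, 0, 4, 2, 0, 0⟩,
  ⟨0, 0, 1, 4, 0, 0, 4, 6, 2, 1, 0, 0, 1, 5, 0, 0⟩,
  ⟨0, 0, 1, 5, 0, 0, 5, 6, 2, 0, 0, 0, 0, 2, 0, 0⟩,
  ⟨0, 0, 2, 0, 0, 0, 0, 2, 6, 2, 0, 0, 2, 1, 0, 0⟩,
  ⟨0, 0, 2, 1, 0, 0, 1, 5, 1, 4, 0, 0, 4, 6, 0, 0⟩,
  ⟨0, 0, 2, 3, 0, 0, 3, 5, 1, 0, 0, 0, 0, 1, 0, 0⟩,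
  ⟨0, 0, 3, 0, 0, 0, 0, 3, 4, 6, 0, 0, 6, 3, 0, 0⟩,
  ⟨0, 0, 3, 1, 0, 0, 1, 4, 3, 0, 0, 0, 0, 3, 0, 0⟩,
  ⟨0, 0, 3, 5, 0, 0, 5, 4, 3, 5, 0, 0, 5, 4, 0, 0⟩,
  ⟨0, 0, 4, 0, 0, 0, 0, 4, 3, 1, 0, 0, 1, 4, 0, 0⟩,
  ⟨0, 0, 4, 2, 0, 0, 2, 3, 4, 2, 0, 0, 2, 3, 0, 0⟩,
  ⟨0, 0, 4, 6, 0, 0, 6, 3, 4, 0, 0, 0, 0, 4, 0, 0⟩,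
  ⟨0, 0, 5, 0, 0, 0, 0, 5, 1, 5, 0, 0, 5, 6, 0, 0⟩,
  ⟨0, 0, 5, 4, 0, 0, 4, 2, 6, 0, 0, 0, 0, 6, 0, 0⟩,
  ⟨0, 0, 5, 6, 0, 0, 6, 2, 6, 3, 0, 0, 3, 1, 0, 0⟩,
  ⟨0, 0, 6, 0, 0, 0, 0, 6, 2, 3, 0, 0, 3, 5, 0, 0⟩,
  ⟨0, 0, 6, 2, 0, 0, 2, 1, 5, 0, 0, 0, 0, 5, 0, 0⟩,
  ⟨0, 0, 6, 3, 0, 0, 3, 1, 5, 6, 0, 0, 6, 2, 0, 0⟩,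
  ⟨0, 1, 0, 0, 6, 0, 0, 0, 0, 0, 3, 5, 0, 0, 5, 4⟩,
  ⟨0, 2, 0, 0, 5, 0, 0, 0, 0, 0, 5, 6, 0, 0, 6, 2⟩,
  ⟨0, 3, 0, 0, 4, 0, 0, 0, 0, 0, 1, 4, 0, 0, 4, 6⟩,
  ⟨0, 4, 0, 0, 3, 0, 0, 0, 0, 0, 6, 3, 0, 0, 3, 1⟩,
  ⟨0, 5, 0, 0, 2, 0, 0, 0, 0, 0, 2, 1, 0, 0, 1, 5⟩,
  ⟨0, 6, 0, 0, 1, 0, 0, 0, 0, 0, 4, 2, 0, 0, 2, 3⟩,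
  ⟨1, 4, 0, 0, 4, 6, 0, 0, 0, 0, 0, 4, 0, 0, 3, 0⟩,
  ⟨1, 5, 0, 0, 5, 6, 0, 0, 0, 0, 4, 6, 0, 0, 6, 3⟩,
  ⟨2, 0, 0, 0, 0, 2, 0, 0, 0, 0, 4, 0, 0, 0, 0, 4⟩,
  ⟨2, 1, 0, 0, 1, 5, 0, 0, 0, 0, 0, 2, 0, 0, 5, 0⟩,
  ⟨2, 3, 0, 0, 3, 5, 0, 0, 0, 0, 2, 3, 0, 0, 3, 5⟩,
  ⟨3, 0, 0, 0, 0, 3, 0, 0, 0, 0, 5, 0, 0, 0, 0, 5⟩,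
  ⟨3, 1, 0, 0, 1, 4, 0, 0, 0, 0, 6, 2, 0, 0, 2, 1⟩,
  ⟨3, 5, 0, 0, 5, 4, 0, 0, 0, 0, 0, 6, 0, 0, 1, 0⟩,
  ⟨4, 0, 0, 0, 0, 4, 0, 0, 0, 0, 2, 0, 0, 0, 0, 2⟩,
  ⟨4, 2, 0, 0, 2, 3, 0, 0, 0, 0, 0, 1, 0, 0, 6, 0⟩,
  ⟨4, 6, 0, 0, 6, 3, 0, 0, 0, 0, 1, 5, 0, 0, 5, 6⟩,
  ⟨5, 0, 0, 0, 0, 5, 0, 0, 0, 0, 3, 0, 0, 0, 0, 3⟩,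
  ⟨5, 4, 0, 0, 4, 2, 0, 0, 0, 0, 5, 4, 0, 0, 4, 2⟩,
  ⟨5, 6, 0, 0, 6, 2, 0, 0, 0, 0, 0, 5, 0, 0, 2, 0⟩,
  ⟨6, 0, 0, 0, 0, 6, 0, 0, 0, 0, 6, 0, 0, 0, 0, 6⟩,
  ⟨6, 2, 0, 0, 2, 1, 0, 0, 0, 0, 3, 1, 0, 0, 1, 4⟩,
  ⟨6, 3, 0, 0, 3, 1, 0, 0, 0, 0, 0, 3, 0, 0, 4, 0⟩]

def SqList : List (M4 × M4 × M4 × M4) := [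
  (⟨1, 0, 0, 0, 0, 1, 0, 0, 0, 0, 1, 0, 0, 0, 0, 1⟩, ⟨1, 0, 0, 0, 0, 1, 0, 0, 0, 0, 1, 0, 0, 0, 0, 1⟩, ⟨1, 0, 0, 0, 0, 1, 0, 0, 0, 0, 1, 0, 0, 0, 0, 1⟩, ⟨1, 0, 0, 0, 0, 1, 0, 0, 0, 0, 1, 0, 0, 0, 0, 1⟩),
  (⟨0, 0, 0, 1, 0, 0, 6, 0, 0, 1, 0, 0, 6, 0, 0, 0⟩, ⟨6, 0, 0, 0, 0, 6, 0, 0, 0, 0, 6, 0, 0, 0, 0, 6⟩, ⟨1, 0, 0, 0, 0, 1, 0, 0, 0, 0, 1, 0, 0, 0, 0, 1⟩, ⟨1, 0, 0, 0, 0, 1, 0, 0, 0, 0, 1, 0, 0, 0, 0, 1⟩),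
  (⟨0, 0, 0, 2, 0, 0, 5, 0, 0, 4, 0, 0, 3, 0, 0, 0⟩, ⟨6, 0, 0, 0, 0, 6, 0, 0, 0, 0, 6, 0, 0, 0, 0, 6⟩, ⟨1, 0, 0, 0, 0, 1, 0, 0, 0, 0, 1, 0, 0, 0, 0, 1⟩, ⟨1, 0, 0, 0, 0, 1, 0, 0, 0, 0, 1, 0, 0, 0, 0, 1⟩),
  (⟨0, 0, 0, 3, 0, 0, 4, 0, 0, 5, 0, 0, 2, 0, 0, 0⟩, ⟨6, 0, 0, 0, 0, 6, 0, 0, 0, 0, 6, 0, 0, 0, 0, 6⟩, ⟨1, 0, 0, 0, 0, 1, 0, 0, 0, 0, 1, 0, 0, 0, 0, 1⟩, ⟨1, 0, 0, 0, 0, 1, 0, 0, 0, 0, 1, 0, 0, 0, 0, 1⟩),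
  (⟨0, 0, 0, 4, 0, 0, 3, 0, 0, 2, 0, 0, 5, 0, 0, 0⟩, ⟨6, 0, 0, 0, 0, 6, 0, 0, 0, 0, 6, 0, 0, 0, 0, 6⟩, ⟨1, 0, 0, 0, 0, 1, 0, 0, 0, 0, 1, 0, 0, 0, 0, 1⟩, ⟨1, 0, 0, 0, 0, 1, 0, 0, 0, 0, 1, 0, 0, 0, 0, 1⟩),
  (⟨0, 0, 0, 5, 0, 0, 2, 0, 0, 3, 0, 0, 4, 0, 0, 0⟩, ⟨6, 0, 0, 0, 0, 6, 0, 0, 0, 0, 6, 0, 0, 0, 0, 6⟩, ⟨1, 0, 0, 0, 0, 1, 0, 0, 0, 0, 1, 0, 0, 0, 0, 1⟩, ⟨1, 0, 0, 0, 0, 1, 0, 0, 0, 0, 1, 0, 0, 0, 0, 1⟩),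
  (⟨0, 0, 0, 6, 0, 0, 1, 0, 0, 6, 0, 0, 1, 0, 0, 0⟩, ⟨6, 0, 0, 0, 0, 6, 0, 0, 0, 0, 6, 0, 0, 0, 0, 6⟩, ⟨1, 0, 0, 0, 0, 1, 0, 0, 0, 0, 1, 0, 0, 0, 0, 1⟩, ⟨1, 0, 0, 0, 0, 1, 0, 0, 0, 0, 1, 0, 0, 0, 0, 1⟩),
  (⟨0, 0, 1, 0, 0, 0, 0, 1, 5, 4, 0, 0, 4, 2, 0, 0⟩, ⟨5, 4, 0, 0, 4, 2, 0, 0, 0, 0, 5, 4, 0, 0, 4, 2⟩, ⟨6, 0, 0, 0, 0, 6, 0, 0, 0, 0, 6, 0, 0, 0, 0, 6⟩, ⟨1, 0, 0, 0, 0, 1, 0, 0, 0, 0, 1, 0, 0, 0, 0, 1⟩),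
  (⟨0, 0, 1, 4, 0, 0, 4, 6, 2, 1, 0, 0, 1, 5, 0, 0⟩, ⟨6, 0, 0, 0, 0, 6, 0, 0, 0, 0, 6, 0, 0, 0, 0, 6⟩, ⟨1, 0, 0, 0, 0, 1, 0, 0, 0, 0, 1, 0, 0, 0, 0, 1⟩, ⟨1, 0, 0, 0, 0, 1, 0, 0, 0, 0, 1, 0, 0, 0, 0, 1⟩),
  (⟨0, 0, 1, 5, 0, 0, 5, 6, 2, 0, 0, 0, 0, 2, 0, 0⟩, ⟨2, 3, 0, 0, 3, 5, 0, 0, 0, 0, 2, 3, 0, 0, 3, 5⟩, ⟨6, 0, 0, 0, 0, 6, 0, 0, 0, 0, 6, 0, 0, 0, 0, 6⟩, ⟨1, 0, 0, 0, 0, 1, 0, 0, 0, 0, 1, 0, 0, 0, 0, 1⟩),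
  (⟨0, 0, 2, 0, 0, 0, 0, 2, 6, 2, 0, 0, 2, 1, 0, 0⟩, ⟨5, 4, 0, 0, 4, 2, 0, 0, 0, 0, 5, 4, 0, 0, 4, 2⟩, ⟨6, 0, 0, 0, 0, 6, 0, 0, 0, 0, 6, 0, 0, 0, 0, 6⟩, ⟨1, 0, 0, 0, 0, 1, 0, 0, 0, 0, 1, 0, 0, 0, 0, 1⟩),
  (⟨0, 0, 2, 1, 0, 0, 1, 5, 1, 4, 0, 0, 4, 6, 0, 0⟩, ⟨6, 0, 0, 0, 0, 6, 0, 0, 0, 0, 6, 0, 0, 0, 0, 6⟩, ⟨1, 0, 0, 0, 0, 1, 0, 0, 0, 0, 1, 0, 0, 0, 0, 1⟩, ⟨1, 0, 0, 0, 0, 1, 0, 0, 0, 0, 1, 0, 0, 0, 0, 1⟩),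
  (⟨0, 0, 2, 3, 0, 0, 3, 5, 1, 0, 0, 0, 0, 1, 0, 0⟩, ⟨2, 3, 0, 0, 3, 5, 0, 0, 0, 0, 2, 3, 0, 0, 3, 5⟩, ⟨6, 0, 0, 0, 0, 6, 0, 0, 0, 0, 6, 0, 0, 0, 0, 6⟩, ⟨1, 0, 0, 0, 0, 1, 0, 0, 0, 0, 1, 0, 0, 0, 0, 1⟩),
  (⟨0, 0, 3, 0, 0, 0, 0, 3, 4, 6, 0, 0, 6, 3, 0, 0⟩, ⟨5, 4, 0, 0, 4, 2, 0, 0, 0, 0, 5, 4, 0, 0, 4, 2⟩, ⟨6, 0, 0, 0, 0, 6, 0, 0, 0, 0, 6, 0, 0, 0, 0, 6⟩, ⟨1, 0, 0, 0, 0, 1, 0, 0, 0, 0, 1, 0, 0, 0, 0, 1⟩),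
  (⟨0, 0, 3, 1, 0, 0, 1, 4, 3, 0, 0, 0, 0, 3, 0, 0⟩, ⟨2, 3, 0, 0, 3, 5, 0, 0, 0, 0, 2, 3, 0, 0, 3, 5⟩, ⟨6, 0, 0, 0, 0, 6, 0, 0, 0, 0, 6, 0, 0, 0, 0, 6⟩, ⟨1, 0, 0, 0, 0, 1, 0, 0, 0, 0, 1, 0, 0, 0, 0, 1⟩),
  (⟨0, 0, 3, 5, 0, 0, 5, 4, 3, 5, 0, 0, 5, 4, 0, 0⟩, ⟨6, 0, 0, 0, 0, 6, 0, 0, 0, 0, 6, 0, 0, 0, 0, 6⟩, ⟨1, 0, 0, 0, 0, 1, 0, 0, 0, 0, 1, 0, 0, 0, 0, 1⟩, ⟨1, 0, 0, 0, 0, 1, 0, 0, 0, 0, 1, 0, 0, 0, 0, 1⟩),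
  (⟨0, 0, 4, 0, 0, 0, 0, 4, 3, 1, 0, 0, 1, 4, 0, 0⟩, ⟨5, 4, 0, 0, 4, 2, 0, 0, 0, 0, 5, 4, 0, 0, 4, 2⟩, ⟨6, 0, 0, 0, 0, 6, 0, 0, 0, 0, 6, 0, 0, 0, 0, 6⟩, ⟨1, 0, 0, 0, 0, 1, 0, 0, 0, 0, 1, 0, 0, 0, 0, 1⟩),
  (⟨0, 0, 4, 2, 0, 0, 2, 3, 4, 2, 0, 0, 2, 3, 0, 0⟩, ⟨6, 0, 0, 0, 0, 6, 0, 0, 0, 0, 6, 0, 0, 0, 0, 6⟩, ⟨1, 0, 0, 0, 0, 1, 0, 0, 0, 0, 1, 0, 0, 0, 0, 1⟩, ⟨1, 0, 0, 0, 0, 1, 0, 0, 0, 0, 1, 0, 0, 0, 0, 1⟩),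
  (⟨0, 0, 4, 6, 0, 0, 6, 3, 4, 0, 0, 0, 0, 4, 0, 0⟩, ⟨2, 3, 0, 0, 3, 5, 0, 0, 0, 0, 2, 3, 0, 0, 3, 5⟩, ⟨6, 0, 0, 0, 0, 6, 0, 0, 0, 0, 6, 0, 0, 0, 0, 6⟩, ⟨1, 0, 0, 0, 0, 1, 0, 0, 0, 0, 1, 0, 0, 0, 0, 1⟩),
  (⟨0, 0, 5, 0, 0, 0, 0, 5, 1, 5, 0, 0, 5, 6, 0, 0⟩, ⟨5, 4, 0, 0, 4, 2, 0, 0, 0, 0, 5, 4, 0, 0, 4, 2⟩, ⟨6, 0, 0, 0, 0, 6, 0, 0, 0, 0, 6, 0, 0, 0, 0, 6⟩, ⟨1, 0, 0, 0, 0, 1, 0, 0, 0, 0, 1, 0, 0, 0, 0, 1⟩),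
  (⟨0, 0, 5, 4, 0, 0, 4, 2, 6, 0, 0, 0, 0, 6, 0, 0⟩, ⟨2, 3, 0, 0, 3, 5, 0, 0, 0, 0, 2, 3, 0, 0, 3, 5⟩, ⟨6, 0, 0, 0, 0, 6, 0, 0, 0, 0, 6, 0, 0, 0, 0, 6⟩, ⟨1, 0, 0, 0, 0, 1, 0, 0, 0, 0, 1, 0, 0, 0, 0, 1⟩),
  (⟨0, 0, 5, 6, 0, 0, 6, 2, 6, 3, 0, 0, 3, 1, 0, 0⟩, ⟨6, 0, 0, 0, 0, 6, 0, 0, 0, 0, 6, 0, 0, 0, 0, 6⟩, ⟨1, 0, 0, 0, 0, 1, 0, 0, 0, 0, 1, 0, 0, 0, 0, 1⟩, ⟨1, 0, 0, 0, 0, 1, 0, 0, 0, 0, 1, 0, 0, 0, 0, 1⟩),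
  (⟨0, 0, 6, 0, 0, 0, 0, 6, 2, 3, 0, 0, 3, 5, 0, 0⟩, ⟨5, 4, 0, 0, 4, 2, 0, 0, 0, 0, 5, 4, 0, 0, 4, 2⟩, ⟨6, 0, 0, 0, 0, 6, 0, 0, 0, 0, 6, 0, 0, 0, 0, 6⟩, ⟨1, 0, 0, 0, 0, 1, 0, 0, 0, 0, 1, 0, 0, 0, 0, 1⟩),
  (⟨0, 0, 6, 2, 0, 0, 2, 1, 5, 0, 0, 0, 0, 5, 0, 0⟩, ⟨2, 3, 0, 0, 3, 5, 0, 0, 0, 0, 2, 3, 0, 0, 3, 5⟩, ⟨6, 0, 0, 0, 0, 6, 0, 0, 0, 0, 6, 0, 0, 0, 0, 6⟩, ⟨1, 0, 0, 0, 0, 1, 0, 0, 0, 0, 1, 0, 0, 0, 0, 1⟩),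
  (⟨0, 0, 6, 3, 0, 0, 3, 1, 5, 6, 0, 0, 6, 2, 0, 0⟩, ⟨6, 0, 0, 0, 0, 6, 0, 0, 0, 0, 6, 0, 0, 0, 0, 6⟩, ⟨1, 0, 0, 0, 0, 1, 0, 0, 0, 0, 1, 0, 0, 0, 0, 1⟩, ⟨1, 0, 0, 0, 0, 1, 0, 0, 0, 0, 1, 0, 0, 0, 0, 1⟩),
  (⟨0, 1, 0, 0, 6, 0, 0, 0, 0, 0, 3, 5, 0, 0, 5, 4⟩, ⟨6, 0, 0, 0, 0, 6, 0, 0, 0, 0, 6, 0, 0, 0, 0, 6⟩, ⟨1, 0, 0, 0, 0, 1, 0, 0, 0, 0, 1, 0, 0, 0, 0, 1⟩, ⟨1, 0, 0, 0, 0, 1, 0, 0, 0, 0, 1, 0, 0, 0, 0, 1⟩),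
  (⟨0, 2, 0, 0, 5, 0, 0, 0, 0, 0, 5, 6, 0, 0, 6, 2⟩, ⟨3, 0, 0, 0, 0, 3, 0, 0, 0, 0, 5, 0, 0, 0, 0, 5⟩, ⟨2, 0, 0, 0, 0, 2, 0, 0, 0, 0, 4, 0, 0, 0, 0, 4⟩, ⟨4, 0, 0, 0, 0, 4, 0, 0, 0, 0, 2, 0, 0, 0, 0, 2⟩),
  (⟨0, 3, 0, 0, 4, 0, 0, 0, 0, 0, 1, 4, 0, 0, 4, 6⟩, ⟨5, 0, 0, 0, 0, 5, 0, 0, 0, 0, 3, 0, 0, 0, 0, 3⟩, ⟨4, 0, 0, 0, 0, 4, 0, 0, 0, 0, 2, 0, 0, 0, 0, 2⟩, ⟨2, 0, 0, 0, 0, 2, 0, 0, 0, 0, 4, 0, 0, 0, 0, 4⟩),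
  (⟨0, 4, 0, 0, 3, 0, 0, 0, 0, 0, 6, 3, 0, 0, 3, 1⟩, ⟨5, 0, 0, 0, 0, 5, 0, 0, 0, 0, 3, 0, 0, 0, 0, 3⟩, ⟨4, 0, 0, 0, 0, 4, 0, 0, 0, 0, 2, 0, 0, 0, 0, 2⟩, ⟨2, 0, 0, 0, 0, 2, 0, 0, 0, 0, 4, 0, 0, 0, 0, 4⟩),
  (⟨0, 5, 0, 0, 2, 0, 0, 0, 0, 0, 2, 1, 0, 0, 1, 5⟩, ⟨3, 0, 0, 0, 0, 3, 0, 0, 0, 0, 5, 0, 0, 0, 0, 5⟩, ⟨2, 0, 0, 0, 0, 2, 0, 0, 0, 0, 4, 0, 0, 0, 0, 4⟩, ⟨4, 0, 0, 0, 0, 4, 0, 0, 0, 0, 2, 0, 0, 0, 0, 2⟩),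
  (⟨0, 6, 0, 0, 1, 0, 0, 0, 0, 0, 4, 2, 0, 0, 2, 3⟩, ⟨6, 0, 0, 0, 0, 6, 0, 0, 0, 0, 6, 0, 0, 0, 0, 6⟩, ⟨1, 0, 0, 0, 0, 1, 0, 0, 0, 0, 1, 0, 0, 0, 0, 1⟩, ⟨1, 0, 0, 0, 0, 1, 0, 0, 0, 0, 1, 0, 0, 0, 0, 1⟩),
  (⟨1, 4, 0, 0, 4, 6, 0, 0, 0, 0, 0, 4, 0, 0, 3, 0⟩, ⟨3, 0, 0, 0, 0, 3, 0, 0, 0, 0, 5, 0, 0, 0, 0, 5⟩, ⟨2, 0, 0, 0, 0, 2, 0, 0, 0, 0, 4, 0, 0, 0, 0, 4⟩, ⟨4, 0, 0, 0, 0, 4, 0, 0, 0, 0, 2, 0, 0, 0, 0, 2⟩),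
  (⟨1, 5, 0, 0, 5, 6, 0, 0, 0, 0, 4, 6, 0, 0, 6, 3⟩, ⟨5, 0, 0, 0, 0, 5, 0, 0, 0, 0, 3, 0, 0, 0, 0, 3⟩, ⟨4, 0, 0, 0, 0, 4, 0, 0, 0, 0, 2, 0, 0, 0, 0, 2⟩, ⟨2, 0, 0, 0, 0, 2, 0, 0, 0, 0, 4, 0, 0, 0, 0, 4⟩),
  (⟨2, 0, 0, 0, 0, 2, 0, 0, 0, 0, 4, 0, 0, 0, 0, 4⟩, ⟨4, 0, 0, 0, 0, 4, 0, 0, 0, 0, 2, 0, 0, 0, 0, 2⟩, ⟨2, 0, 0, 0, 0, 2, 0, 0, 0, 0, 4, 0, 0, 0, 0, 4⟩, ⟨4, 0, 0, 0, 0, 4, 0, 0, 0, 0, 2, 0, 0, 0, 0, 2⟩),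
  (⟨2, 1, 0, 0, 1, 5, 0, 0, 0, 0, 0, 2, 0, 0, 5, 0⟩, ⟨5, 0, 0, 0, 0, 5, 0, 0, 0, 0, 3, 0, 0, 0, 0, 3⟩, ⟨4, 0, 0, 0, 0, 4, 0, 0, 0, 0, 2, 0, 0, 0, 0, 2⟩, ⟨2, 0, 0, 0, 0, 2, 0, 0, 0, 0, 4, 0, 0, 0, 0, 4⟩),
  (⟨2, 3, 0, 0, 3, 5, 0, 0, 0, 0, 2, 3, 0, 0, 3, 5⟩, ⟨6, 0, 0, 0, 0, 6, 0, 0, 0, 0, 6, 0, 0, 0, 0, 6⟩, ⟨1, 0, 0, 0, 0, 1, 0, 0, 0, 0, 1, 0, 0, 0, 0, 1⟩, ⟨1, 0, 0, 0, 0, 1, 0, 0, 0, 0, 1, 0, 0, 0, 0, 1⟩),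
  (⟨3, 0, 0, 0, 0, 3, 0, 0, 0, 0, 5, 0, 0, 0, 0, 5⟩, ⟨2, 0, 0, 0, 0, 2, 0, 0, 0, 0, 4, 0, 0, 0, 0, 4⟩, ⟨4, 0, 0, 0, 0, 4, 0, 0, 0, 0, 2, 0, 0, 0, 0, 2⟩, ⟨2, 0, 0, 0, 0, 2, 0, 0, 0, 0, 4, 0, 0, 0, 0, 4⟩),
  (⟨3, 1, 0, 0, 1, 4, 0, 0, 0, 0, 6, 2, 0, 0, 2, 1⟩, ⟨3, 0, 0, 0, 0, 3, 0, 0, 0, 0, 5, 0, 0, 0, 0, 5⟩, ⟨2, 0, 0, 0, 0, 2, 0, 0, 0, 0, 4, 0, 0, 0, 0, 4⟩, ⟨4, 0, 0, 0, 0, 4, 0, 0, 0, 0, 2, 0, 0, 0, 0, 2⟩),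
  (⟨3, 5, 0, 0, 5, 4, 0, 0, 0, 0, 0, 6, 0, 0, 1, 0⟩, ⟨6, 0, 0, 0, 0, 6, 0, 0, 0, 0, 6, 0, 0, 0, 0, 6⟩, ⟨1, 0, 0, 0, 0, 1, 0, 0, 0, 0, 1, 0, 0, 0, 0, 1⟩, ⟨1, 0, 0, 0, 0, 1, 0, 0, 0, 0, 1, 0, 0, 0, 0, 1⟩),
  (⟨4, 0, 0, 0, 0, 4, 0, 0, 0, 0, 2, 0, 0, 0, 0, 2⟩, ⟨2, 0, 0, 0, 0, 2, 0, 0, 0, 0, 4, 0, 0, 0, 0, 4⟩, ⟨4, 0, 0, 0, 0, 4, 0, 0, 0, 0, 2, 0, 0, 0, 0, 2⟩, ⟨2, 0, 0, 0, 0, 2, 0, 0, 0, 0, 4, 0, 0, 0, 0, 4⟩),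
  (⟨4, 2, 0, 0, 2, 3, 0, 0, 0, 0, 0, 1, 0, 0, 6, 0⟩, ⟨6, 0, 0, 0, 0, 6, 0, 0, 0, 0, 6, 0, 0, 0, 0, 6⟩, ⟨1, 0, 0, 0, 0, 1, 0, 0, 0, 0, 1, 0, 0, 0, 0, 1⟩, ⟨1, 0, 0, 0, 0, 1, 0, 0, 0, 0, 1, 0, 0, 0, 0, 1⟩),
  (⟨4, 6, 0, 0, 6, 3, 0, 0, 0, 0, 1, 5, 0, 0, 5, 6⟩, ⟨3, 0, 0, 0, 0, 3, 0, 0, 0, 0, 5, 0, 0, 0, 0, 5⟩, ⟨2, 0, 0, 0, 0, 2, 0, 0, 0, 0, 4, 0, 0, 0, 0, 4⟩, ⟨4, 0, 0, 0, 0, 4, 0, 0, 0, 0, 2, 0, 0, 0, 0, 2⟩),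
  (⟨5, 0, 0, 0, 0, 5, 0, 0, 0, 0, 3, 0, 0, 0, 0, 3⟩, ⟨4, 0, 0, 0, 0, 4, 0, 0, 0, 0, 2, 0, 0, 0, 0, 2⟩, ⟨2, 0, 0, 0, 0, 2, 0, 0, 0, 0, 4, 0, 0, 0, 0, 4⟩, ⟨4, 0, 0, 0, 0, 4, 0, 0, 0, 0, 2, 0, 0, 0, 0, 2⟩),
  (⟨5, 4, 0, 0, 4, 2, 0, 0, 0, 0, 5, 4, 0, 0, 4, 2⟩, ⟨6, 0, 0, 0, 0, 6, 0, 0, 0, 0, 6, 0, 0, 0, 0, 6⟩, ⟨1, 0, 0, 0, 0, 1, 0, 0, 0, 0, 1, 0, 0, 0, 0, 1⟩, ⟨1, 0, 0, 0, 0, 1, 0, 0, 0, 0, 1, 0, 0, 0, 0, 1⟩),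
  (⟨5, 6, 0, 0, 6, 2, 0, 0, 0, 0, 0, 5, 0, 0, 2, 0⟩, ⟨5, 0, 0, 0, 0, 5, 0, 0, 0, 0, 3, 0, 0, 0, 0, 3⟩, ⟨4, 0, 0, 0, 0, 4, 0, 0, 0, 0, 2, 0, 0, 0, 0, 2⟩, ⟨2, 0, 0, 0, 0, 2, 0, 0, 0, 0, 4, 0, 0, 0, 0, 4⟩),
  (⟨6, 0, 0, 0, 0, 6, 0, 0, 0, 0, 6, 0, 0, 0, 0, 6⟩, ⟨1, 0, 0, 0, 0, 1, 0, 0, 0, 0, 1, 0, 0, 0, 0, 1⟩, ⟨1, 0, 0, 0, 0, 1, 0, 0, 0, 0, 1, 0, 0, 0, 0, 1⟩, ⟨1, 0, 0, 0, 0, 1, 0, 0, 0, 0, 1, 0, 0, 0, 0, 1⟩),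
  (⟨6, 2, 0, 0, 2, 1, 0, 0, 0, 0, 3, 1, 0, 0, 1, 4⟩, ⟨5, 0, 0, 0, 0, 5, 0, 0, 0, 0, 3, 0, 0, 0, 0, 3⟩, ⟨4, 0, 0, 0, 0, 4, 0, 0, 0, 0, 2, 0, 0, 0, 0, 2⟩, ⟨2, 0, 0, 0, 0, 2, 0, 0, 0, 0, 4, 0, 0, 0, 0, 4⟩),
  (⟨6, 3, 0, 0, 3, 1, 0, 0, 0, 0, 0, 3, 0, 0, 4, 0⟩, ⟨3, 0, 0, 0, 0, 3, 0, 0, 0, 0, 5, 0, 0, 0, 0, 5⟩, ⟨2, 0, 0, 0, 0, 2, 0, 0, 0, 0, 4, 0, 0, 0, 0, 4⟩, ⟨4, 0, 0, 0, 0, 4, 0, 0, 0, 0, 2, 0, 0, 0, 0, 2⟩)]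

def FpfList : List (M4 × M4) := [
  (⟨0, 0, 0, 1, 0, 0, 6, 0, 0, 1, 0, 0, 6, 0, 0, 0⟩, ⟨3, 0, 0, 3, 0, 3, 4, 0, 0, 3, 3, 0, 4, 0, 0, 3⟩),
  (⟨0, 0, 0, 2, 0, 0, 5, 0, 0, 4, 0, 0, 3, 0, 0, 0⟩, ⟨3, 0, 0, 6, 0, 3, 1, 0, 0, 5, 3, 0, 2, 0, 0, 3⟩),
  (⟨0, 0, 0, 3, 0, 0, 4, 0, 0, 5, 0, 0, 2, 0, 0, 0⟩, ⟨3, 0, 0, 2, 0, 3, 5, 0, 0, 1, 3, 0, 6, 0, 0, 3⟩),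
  (⟨0, 0, 0, 4, 0, 0, 3, 0, 0, 2, 0, 0, 5, 0, 0, 0⟩, ⟨3, 0, 0, 5, 0, 3, 2, 0, 0, 6, 3, 0, 1, 0, 0, 3⟩),
  (⟨0, 0, 0, 5, 0, 0, 2, 0, 0, 3, 0, 0, 4, 0, 0, 0⟩, ⟨3, 0, 0, 1, 0, 3, 6, 0, 0, 2, 3, 0, 5, 0, 0, 3⟩),
  (⟨0, 0, 0, 6, 0, 0, 1, 0, 0, 6, 0, 0, 1, 0, 0, 0⟩, ⟨3, 0, 0, 4, 0, 3, 3, 0, 0, 4, 3, 0, 3, 0, 0, 3⟩),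
  (⟨0, 0, 1, 0, 0, 0, 0, 1, 5, 4, 0, 0, 4, 2, 0, 0⟩, ⟨4, 5, 4, 5, 5, 2, 5, 2, 5, 5, 4, 5, 5, 3, 5, 2⟩),
  (⟨0, 0, 1, 4, 0, 0, 4, 6, 2, 1, 0, 0, 1, 5, 0, 0⟩, ⟨3, 0, 3, 5, 0, 3, 5, 4, 6, 3, 3, 0, 3, 1, 0, 3⟩),
  (⟨0, 0, 1, 5, 0, 0, 5, 6, 2, 0, 0, 0, 0, 2, 0, 0⟩, ⟨2, 2, 5, 1, 2, 4, 1, 6, 4, 4, 2, 2, 4, 1, 2, 4⟩),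
  (⟨0, 0, 2, 0, 0, 0, 0, 2, 6, 2, 0, 0, 2, 1, 0, 0⟩, ⟨4, 5, 1, 3, 5, 2, 3, 4, 6, 6, 4, 5, 6, 5, 5, 2⟩),
  (⟨0, 0, 2, 1, 0, 0, 1, 5, 1, 4, 0, 0, 4, 6, 0, 0⟩, ⟨3, 0, 6, 3, 0, 3, 3, 1, 3, 5, 3, 0, 5, 4, 0, 3⟩),
  (⟨0, 0, 2, 3, 0, 0, 3, 5, 1, 0, 0, 0, 0, 1, 0, 0⟩, ⟨2, 2, 3, 2, 2, 4, 2, 5, 2, 2, 2, 2, 2, 4, 2, 4⟩),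
  (⟨0, 0, 3, 0, 0, 0, 0, 3, 4, 6, 0, 0, 6, 3, 0, 0⟩, ⟨4, 5, 5, 1, 5, 2, 1, 6, 4, 4, 4, 5, 4, 1, 5, 2⟩),
  (⟨0, 0, 3, 1, 0, 0, 1, 4, 3, 0, 0, 0, 0, 3, 0, 0⟩, ⟨2, 2, 1, 3, 2, 4, 3, 4, 6, 6, 2, 2, 6, 5, 2, 4⟩),
  (⟨0, 0, 3, 5, 0, 0, 5, 4, 3, 5, 0, 0, 5, 4, 0, 0⟩, ⟨3, 0, 2, 1, 0, 3, 1, 5, 2, 1, 3, 0, 1, 5, 0, 3⟩),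
  (⟨0, 0, 4, 0, 0, 0, 0, 4, 3, 1, 0, 0, 1, 4, 0, 0⟩, ⟨4, 5, 2, 6, 5, 2, 6, 1, 3, 3, 4, 5, 3, 6, 5, 2⟩),
  (⟨0, 0, 4, 2, 0, 0, 2, 3, 4, 2, 0, 0, 2, 3, 0, 0⟩, ⟨3, 0, 5, 6, 0, 3, 6, 2, 5, 6, 3, 0, 6, 2, 0, 3⟩),
  (⟨0, 0, 4, 6, 0, 0, 6, 3, 4, 0, 0, 0, 0, 4, 0, 0⟩, ⟨2, 2, 6, 4, 2, 4, 4, 3, 1, 1, 2, 2, 1, 2, 2, 4⟩),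
  (⟨0, 0, 5, 0, 0, 0, 0, 5, 1, 5, 0, 0, 5, 6, 0, 0⟩, ⟨4, 5, 6, 4, 5, 2, 4, 3, 1, 1, 4, 5, 1, 2, 5, 2⟩),
  (⟨0, 0, 5, 4, 0, 0, 4, 2, 6, 0, 0, 0, 0, 6, 0, 0⟩, ⟨2, 2, 4, 5, 2, 4, 5, 2, 5, 5, 2, 2, 5, 3, 2, 4⟩),
  (⟨0, 0, 5, 6, 0, 0, 6, 2, 6, 3, 0, 0, 3, 1, 0, 0⟩, ⟨3, 0, 1, 4, 0, 3, 4, 6, 4, 2, 3, 0, 2, 3, 0, 3⟩),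
  (⟨0, 0, 6, 0, 0, 0, 0, 6, 2, 3, 0, 0, 3, 5, 0, 0⟩, ⟨4, 5, 3, 2, 5, 2, 2, 5, 2, 2, 4, 5, 2, 4, 5, 2⟩),
  (⟨0, 0, 6, 2, 0, 0, 2, 1, 5, 0, 0, 0, 0, 5, 0, 0⟩, ⟨2, 2, 2, 6, 2, 4, 6, 1, 3, 3, 2, 2, 3, 6, 2, 4⟩),
  (⟨0, 0, 6, 3, 0, 0, 3, 1, 5, 6, 0, 0, 6, 2, 0, 0⟩, ⟨3, 0, 4, 2, 0, 3, 2, 3, 1, 4, 3, 0, 4, 6, 0, 3⟩),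
  (⟨0, 1, 0, 0, 6, 0, 0, 0, 0, 0, 3, 5, 0, 0, 5, 4⟩, ⟨3, 3, 0, 0, 4, 3, 0, 0, 0, 0, 5, 1, 0, 0, 1, 1⟩),
  (⟨0, 2, 0, 0, 5, 0, 0, 0, 0, 0, 5, 6, 0, 0, 6, 2⟩, ⟨4, 1, 0, 0, 6, 4, 0, 0, 0, 0, 5, 5, 0, 0, 5, 6⟩),
  (⟨0, 3, 0, 0, 4, 0, 0, 0, 0, 0, 1, 4, 0, 0, 4, 6⟩, ⟨2, 6, 0, 0, 1, 2, 0, 0, 0, 0, 1, 2, 0, 0, 2, 0⟩),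
  (⟨0, 4, 0, 0, 3, 0, 0, 0, 0, 0, 6, 3, 0, 0, 3, 1⟩, ⟨2, 1, 0, 0, 6, 2, 0, 0, 0, 0, 0, 5, 0, 0, 5, 1⟩),
  (⟨0, 5, 0, 0, 2, 0, 0, 0, 0, 0, 2, 1, 0, 0, 1, 5⟩, ⟨4, 6, 0, 0, 1, 4, 0, 0, 0, 0, 6, 2, 0, 0, 2, 5⟩),
  (⟨0, 6, 0, 0, 1, 0, 0, 0, 0, 0, 4, 2, 0, 0, 2, 3⟩, ⟨3, 4, 0, 0, 3, 3, 0, 0, 0, 0, 1, 6, 0, 0, 6, 5⟩),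
  (⟨1, 4, 0, 0, 4, 6, 0, 0, 0, 0, 0, 4, 0, 0, 3, 0⟩, ⟨1, 2, 0, 0, 2, 0, 0, 0, 0, 0, 2, 1, 0, 0, 6, 2⟩),
  (⟨1, 5, 0, 0, 5, 6, 0, 0, 0, 0, 4, 6, 0, 0, 6, 3⟩, ⟨4, 3, 0, 0, 3, 0, 0, 0, 0, 0, 6, 3, 0, 0, 3, 2⟩),
  (⟨2, 0, 0, 0, 0, 2, 0, 0, 0, 0, 4, 0, 0, 0, 0, 4⟩, ⟨1, 0, 0, 0, 0, 1, 0, 0, 0, 0, 5, 0, 0, 0, 0, 5⟩),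
  (⟨2, 1, 0, 0, 1, 5, 0, 0, 0, 0, 0, 2, 0, 0, 5, 0⟩, ⟨6, 2, 0, 0, 2, 5, 0, 0, 0, 0, 4, 1, 0, 0, 6, 4⟩),
  (⟨2, 3, 0, 0, 3, 5, 0, 0, 0, 0, 2, 3, 0, 0, 3, 5⟩, ⟨2, 2, 0, 0, 2, 4, 0, 0, 0, 0, 2, 2, 0, 0, 2, 4⟩),
  (⟨3, 0, 0, 0, 0, 3, 0, 0, 0, 0, 5, 0, 0, 0, 0, 5⟩, ⟨4, 0, 0, 0, 0, 4, 0, 0, 0, 0, 2, 0, 0, 0, 0, 2⟩),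
  (⟨3, 1, 0, 0, 1, 4, 0, 0, 0, 0, 6, 2, 0, 0, 2, 1⟩, ⟨2, 4, 0, 0, 4, 6, 0, 0, 0, 0, 0, 4, 0, 0, 4, 4⟩),
  (⟨3, 5, 0, 0, 5, 4, 0, 0, 0, 0, 0, 6, 0, 0, 1, 0⟩, ⟨5, 1, 0, 0, 1, 1, 0, 0, 0, 0, 3, 4, 0, 0, 3, 3⟩),
  (⟨4, 0, 0, 0, 0, 4, 0, 0, 0, 0, 2, 0, 0, 0, 0, 2⟩, ⟨5, 0, 0, 0, 0, 5, 0, 0, 0, 0, 1, 0, 0, 0, 0, 1⟩),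
  (⟨4, 2, 0, 0, 2, 3, 0, 0, 0, 0, 0, 1, 0, 0, 6, 0⟩, ⟨1, 6, 0, 0, 6, 5, 0, 0, 0, 0, 3, 3, 0, 0, 4, 3⟩),
  (⟨4, 6, 0, 0, 6, 3, 0, 0, 0, 0, 1, 5, 0, 0, 5, 6⟩, ⟨6, 3, 0, 0, 3, 2, 0, 0, 0, 0, 4, 3, 0, 0, 3, 0⟩),
  (⟨5, 0, 0, 0, 0, 5, 0, 0, 0, 0, 3, 0, 0, 0, 0, 3⟩, ⟨2, 0, 0, 0, 0, 2, 0, 0, 0, 0, 4, 0, 0, 0, 0, 4⟩),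
  (⟨5, 4, 0, 0, 4, 2, 0, 0, 0, 0, 5, 4, 0, 0, 4, 2⟩, ⟨4, 5, 0, 0, 5, 2, 0, 0, 0, 0, 4, 5, 0, 0, 5, 2⟩),
  (⟨5, 6, 0, 0, 6, 2, 0, 0, 0, 0, 0, 5, 0, 0, 2, 0⟩, ⟨5, 5, 0, 0, 5, 6, 0, 0, 0, 0, 4, 6, 0, 0, 1, 4⟩),
  (⟨6, 0, 0, 0, 0, 6, 0, 0, 0, 0, 6, 0, 0, 0, 0, 6⟩, ⟨3, 0, 0, 0, 0, 3, 0, 0, 0, 0, 3, 0, 0, 0, 0, 3⟩),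
  (⟨6, 2, 0, 0, 2, 1, 0, 0, 0, 0, 3, 1, 0, 0, 1, 4⟩, ⟨0, 4, 0, 0, 4, 4, 0, 0, 0, 0, 2, 4, 0, 0, 4, 6⟩),
  (⟨6, 3, 0, 0, 3, 1, 0, 0, 0, 0, 0, 3, 0, 0, 4, 0⟩, ⟨0, 5, 0, 0, 5, 1, 0, 0, 0, 0, 2, 6, 0, 0, 1, 2⟩)]

def sM : M4 := ⟨0, 0, 2, 3, 0, 0, 3, 5, 1, 0, 0, 0, 0, 1, 0, 0⟩
def tM : M4 := ⟨4, 6, 0, 0, 6, 3, 0, 0, 0, 0, 1, 5, 0, 0, 5, 6⟩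

set_option maxRecDepth 100000 in
theorem K_one : M4.one ∈ Klist := by decide +kernel

set_option maxRecDepth 100000 in
theorem K_mul : ∀ a ∈ Klist, ∀ b ∈ Klist, M4.mul a b ∈ Klist := by decide +kernel

set_option maxRecDepth 100000 in
theorem K_inv : ∀ a ∈ Klist, ∃ b ∈ Klist, M4.mul a b = M4.one ∧ M4.mul b a = M4.one := by decide +kernel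

set_option maxRecDepth 100000 in
theorem K_sq_mem : ∀ a ∈ Klist, ∃ q ∈ SqList, q.1 = a := by decide +kernel

set_option maxRecDepth 100000 in
theorem K_sq : ∀ q ∈ SqList, M4.mul q.1 q.1 = q.2.1 ∧ M4.mul q.2.1 q.2.1 = q.2.2.1 ∧
    M4.mul q.2.2.1 q.2.2.1 = q.2.2.2 ∧
    (q.2.2.2 = M4.one ∨ M4.mul q.2.2.2 q.2.2.1 = M4.one) := by decide +kernel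

set_option maxRecDepth 100000 in
theorem K_fpf_mem : ∀ a ∈ Klist, a = M4.one ∨ ∃ q ∈ FpfList, q.1 = a := by decide +kernel

set_option maxRecDepth 100000 in
theorem K_fpf : ∀ q ∈ FpfList, M4.mul q.2 (M4.subOne q.1) = M4.one := by decide +kernel

set_option maxRecDepth 100000 in
theorem K_nodup : Klist.Nodup := by decide +kernel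

theorem K_length : Klist.length = 48 := by decide

set_option maxRecDepth 100000 in
theorem sM_mem : sM ∈ Klist := by decide +kernel
set_option maxRecDepth 100000 in
theorem tM_mem : tM ∈ Klist := by decide +kernel

/-- order data for `sM` (order 8) -/
theorem sM_ord : M4.mul (M4.mul sM sM) (M4.mul sM sM) ≠ M4.one ∧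
    M4.mul (M4.mul (M4.mul sM sM) (M4.mul sM sM)) (M4.mul (M4.mul sM sM) (M4.mul sM sM)) = M4.one := by
  decide +kernel

/-- order data for `tM` (order 12): t^4 ≠ 1, t^6 ≠ 1, t^12 = 1 -/
theorem tM_ord : M4.mul (M4.mul tM tM) (M4.mul tM tM) ≠ M4.one ∧
    M4.mul (M4.mul (M4.mul tM tM) (M4.mul tM tM)) (M4.mul tM tM) ≠ M4.one ∧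
    M4.mul (M4.mul (M4.mul (M4.mul tM tM) (M4.mul tM tM)) (M4.mul tM tM))
      (M4.mul (M4.mul (M4.mul tM tM) (M4.mul tM tM)) (M4.mul tM tM)) = M4.one := by
  decide +kernel

end Cfsg.Agent.Lib.Helper19.Frob7
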