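import Mathlib
import Cfsg.Agent.Lib.Helper19.Frob7Data
import Cfsg.Agent.Lib.Helper19.Frob13
import Cfsg.Agent.S0144

set_option autoImplicit false

namespace Cfsg.Agent.Lib.Helper19.Frob7

open Matrix
open Cfsg.Agent.Lib.Helper19.Frob13 (range_orderOf_semidirect isSolvable_semidirect)

/-! ### The matrices -/

abbrev Mat4 := Matrix (Fin 4) (Fin 4) (ZMod 7)
abbrev V4 := Fin 4 → ZMod 7

def M4.toMat (x : M4) : Mat4 :=
  !![x.e11, x.e12, x.e13, x.e14; x.e21, x.e22, x.e23, x.e24;
     x.e31, x.e32, x.e33, x.e34; x.e41, x.e42, x.e43, x.e44]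

theorem toMat_mul (x y : M4) : (x.mul y).toMat = x.toMat * y.toMat := by
  ext i j
  fin_cases i <;> fin_cases j <;>
    simp [M4.toMat, M4.mul, Matrix.mul_apply, Fin.sum_univ_four]

theorem toMat_one : M4.one.toMat = 1 := by
  ext i j
  fin_cases i <;> fin_cases j <;> simp [M4.toMat, M4.one]

theorem toMat_subOne (x : M4) : x.subOne.toMat = x.toMat - 1 := by
  ext i j
  fin_cases i <;> fin_cases j <;> simp [M4.toMat, M4.subOne]

theorem toMat_injective : Function.Injective M4.toMat := by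
  intro x y h
  have e := fun i j => congrFun (congrFun h i) j
  cases x
  cases y
  simp only [M4.mk.injEq]
  exact ⟨e 0 0, e 0 1, e 0 2, e 0 3, e 1 0, e 1 1, e 1 2, e 1 3,
    e 2 0, e 2 1, e 2 2, e 2 3, e 3 0, e 3 1, e 3 2, e 3 3⟩

/-! ### The complement `K ≅ C₃ ⋊ Q₁₆` inside `GL₄(7)` -/

def K : Subgroup (GL (Fin 4) (ZMod 7)) where
  carrier := {u | ∃ a ∈ Klist, a.toMat = (u : Mat4)}
  mul_mem' := by
    rintro u v ⟨a, ha, hau⟩ ⟨b, hb, hbv⟩
    exact ⟨a.mul b, K_mul a ha b hb, by rw [toMat_mul, hau, hbv]; rfl⟩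
  one_mem' := ⟨M4.one, K_one, by rw [toMat_one]; rfl⟩
  inv_mem' := by
    rintro u ⟨a, ha, hau⟩
    obtain ⟨b, hb, hab, _⟩ := K_inv a ha
    refine ⟨b, hb, ?_⟩
    have h1 : (u : Mat4) * b.toMat = 1 := by rw [← hau, ← toMat_mul, hab, toMat_one]
    exact (Units.inv_eq_of_mul_eq_one_right h1).symm

theorem mem_K {u : GL (Fin 4) (ZMod 7)} : u ∈ K ↔ ∃ a ∈ Klist, a.toMat = (u : Mat4) := Iff.rfl

theorem pow8 (M : Mat4) : M ^ 8 = (M * M * (M * M)) * (M * M * (M * M)) := by
  simp only [pow_succ, pow_zero, one_mul, mul_assoc]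

theorem pow12 (M : Mat4) : M ^ 12 = (M * M * (M * M)) * (M * M * (M * M)) * (M * M * (M * M)) := by
  simp only [pow_succ, pow_zero, one_mul, mul_assoc]

theorem K_pow (u : GL (Fin 4) (ZMod 7)) (hu : u ∈ K) : u ^ 8 = 1 ∨ u ^ 12 = 1 := by
  obtain ⟨a, ha, hau⟩ := hu
  obtain ⟨q, hq, hqa⟩ := K_sq_mem a ha
  obtain ⟨h1, h2, h3, h4⟩ := K_sq q hq
  rw [hqa] at h1
  have e1 : (u : Mat4) * (u : Mat4) = q.2.1.toMat := by rw [← hau, ← toMat_mul, h1]
  have e2 : q.2.1.toMat * q.2.1.toMat = q.2.2.1.toMat := by rw [← toMat_mul, h2]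
  have e3 : q.2.2.1.toMat * q.2.2.1.toMat = q.2.2.2.toMat := by rw [← toMat_mul, h3]
  rcases h4 with h4 | h4
  · left
    apply Units.ext
    rw [Units.val_pow_eq_pow_val, pow8, e1, e2, e3, h4, toMat_one]
    rfl
  · right
    apply Units.ext
    rw [Units.val_pow_eq_pow_val, pow12, e1, e2, e3, ← toMat_mul, h4, toMat_one]
    rfl

theorem K_fpf' (u : GL (Fin 4) (ZMod 7)) (hu : u ∈ K) (hu1 : u ≠ 1) (w : V4)
    (hw : (u : Mat4) *ᵥ w = w) : w = 0 := by
  obtain ⟨a, ha, hau⟩ := hu
  rcases K_fpf_mem a ha with h | ⟨q, hq, hqa⟩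
  · exfalso
    apply hu1
    apply Units.ext
    rw [← hau, h, toMat_one]
    rfl
  · have h1 := K_fpf q hq
    rw [hqa] at h1
    have h2 : q.2.toMat * ((u : Mat4) - 1) = 1 := by
      rw [← hau, ← toMat_subOne, ← toMat_mul, h1, toMat_one]
    have h3 : ((u : Mat4) - 1) *ᵥ w = 0 := by
      rw [Matrix.sub_mulVec, hw, Matrix.one_mulVec, sub_self]
    calc w = (1 : Mat4) *ᵥ w := (Matrix.one_mulVec w).symm
      _ = (q.2.toMat * ((u : Mat4) - 1)) *ᵥ w := by rw [h2]
      _ = q.2.toMat *ᵥ (((u : Mat4) - 1) *ᵥ w) := (Matrix.mulVec_mulVec _ _ _).symm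
      _ = 0 := by rw [h3, Matrix.mulVec_zero]

/-! ### The action and the Frobenius group -/

def actEquiv (u : GL (Fin 4) (ZMod 7)) : V4 ≃+ V4 where
  toFun v := (u : Mat4) *ᵥ v
  invFun v := ((u⁻¹ : GL (Fin 4) (ZMod 7)) : Mat4) *ᵥ v
  left_inv v := by
    show ((u⁻¹ : GL (Fin 4) (ZMod 7)) : Mat4) *ᵥ ((u : Mat4) *ᵥ v) = v
    rw [Matrix.mulVec_mulVec, Units.inv_mul, Matrix.one_mulVec]
  right_inv v := by
    show (u : Mat4) *ᵥ (((u⁻¹ : GL (Fin 4) (ZMod 7)) : Mat4) *ᵥ v) = v
    rw [Matrix.mulVec_mulVec, Units.mul_inv, Matrix.one_mulVec]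
  map_add' v w := Matrix.mulVec_add _ v w

def phi : GL (Fin 4) (ZMod 7) →* MulAut (Multiplicative V4) where
  toFun u := AddEquiv.toMultiplicative (actEquiv u)
  map_one' := by
    apply MulEquiv.ext
    intro v
    show Multiplicative.ofAdd (((1 : GL (Fin 4) (ZMod 7)) : Mat4) *ᵥ Multiplicative.toAdd v) = v
    rw [Units.val_one, Matrix.one_mulVec]
    rfl
  map_mul' a b := by
    apply MulEquiv.ext
    intro v
    show Multiplicative.ofAdd (((a * b : GL (Fin 4) (ZMod 7)) : Mat4) *ᵥ Multiplicative.toAdd v) =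
      Multiplicative.ofAdd ((a : Mat4) *ᵥ ((b : Mat4) *ᵥ Multiplicative.toAdd v))
    rw [Units.val_mul, Matrix.mulVec_mulVec]

theorem phi_apply (u : GL (Fin 4) (ZMod 7)) (v : Multiplicative V4) :
    phi u v = Multiplicative.ofAdd ((u : Mat4) *ᵥ Multiplicative.toAdd v) := rfl

/-- the action restricted to `K` -/
def phiK : ↥K →* MulAut (Multiplicative V4) := phi.comp K.subtype

/-- the Frobenius group `7⁴ : (C₃ ⋊ Q₁₆)` -/
abbrev H7 : Type := Multiplicative V4 ⋊[phiK] ↥K

theorem V_pow (n : Multiplicative V4) : n ^ 7 = 1 := by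
  have h : Multiplicative.toAdd (n ^ 7) = 0 := by
    rw [toAdd_pow]
    funext i
    have : (7 : ZMod 7) = 0 := by decide
    simp [this]
  exact Multiplicative.toAdd.injective h

theorem phiK_fpf (g : ↥K) (hg : g ≠ 1) (w : Multiplicative V4) (hw : phiK g w = w) : w = 1 := by
  have h1 : ((g : GL (Fin 4) (ZMod 7)) : Mat4) *ᵥ Multiplicative.toAdd w = Multiplicative.toAdd w := by
    have := congrArg Multiplicative.toAdd hw
    exact this
  have hg' : (g : GL (Fin 4) (ZMod 7)) ≠ 1 := by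
    intro h
    apply hg
    exact Subtype.ext h
  have := K_fpf' g g.2 hg' _ h1
  exact Multiplicative.toAdd.injective this

instance : Nontrivial (Multiplicative V4) :=
  ⟨⟨Multiplicative.ofAdd (fun _ => 1), 1, by
    intro h
    have := congrFun (congrArg Multiplicative.toAdd h) 0
    revert this
    decide⟩⟩

theorem range_orderOf_H7 :
    Set.range (orderOf : H7 → ℕ) = insert 7 (Set.range (orderOf : ↥K → ℕ)) :=
  range_orderOf_semidirect phiK 7 (by norm_num) V_pow phiK_fpf

/-! ### Element orders of `K` -/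

theorem exists_unit (a : M4) (ha : a ∈ Klist) :
    ∃ u : GL (Fin 4) (ZMod 7), u ∈ K ∧ (u : Mat4) = a.toMat := by
  obtain ⟨b, _, hab, hba⟩ := K_inv a ha
  refine ⟨⟨a.toMat, b.toMat, by rw [← toMat_mul, hab, toMat_one],
    by rw [← toMat_mul, hba, toMat_one]⟩, ⟨a, ha, rfl⟩, rfl⟩

theorem pow4 (M : Mat4) : M ^ 4 = (M * M) * (M * M) := by
  simp only [pow_succ, pow_zero, one_mul, mul_assoc]

theorem pow2' (M : Mat4) : M ^ 2 = M * M := by
  simp only [pow_succ, pow_zero, one_mul]

theorem pow3' (M : Mat4) : M ^ 3 = M * M * M := by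
  simp only [pow_succ, pow_zero, one_mul]

theorem pow6' (M : Mat4) : M ^ 6 = (M * M * M) * (M * M * M) := by
  simp only [pow_succ, pow_zero, one_mul, mul_assoc]

theorem toMat_ne_one {a : M4} (h : a ≠ M4.one) : a.toMat ≠ 1 := by
  intro h1
  apply h
  apply toMat_injective
  rw [h1, toMat_one]

theorem exists_order8 : ∃ g : ↥K, orderOf g = 8 := by
  obtain ⟨u, huK, hu⟩ := exists_unit sM sM_mem
  refine ⟨⟨u, huK⟩, ?_⟩
  rw [← orderOf_injective K.subtype K.subtype_injective]
  show orderOf u = 8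
  have h8 : (8 : ℕ) = 2 ^ (2 + 1) := by norm_num
  rw [h8]
  apply orderOf_eq_prime_pow
  · intro h
    have h1 := congrArg Units.val h
    rw [Units.val_pow_eq_pow_val, Units.val_one, hu] at h1
    norm_num at h1
    rw [pow4, ← toMat_mul, ← toMat_mul] at h1
    exact toMat_ne_one sM_ord.1 h1
  · apply Units.ext
    rw [Units.val_pow_eq_pow_val, Units.val_one, hu]
    norm_num
    rw [pow8, ← toMat_mul, ← toMat_mul, ← toMat_mul, sM_ord.2, toMat_one]

theorem pow12' (M : Mat4) :
    M ^ 12 = ((M * M) * (M * M) * (M * M)) * ((M * M) * (M * M) * (M * M)) := by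
  simp only [pow_succ, pow_zero, one_mul, mul_assoc]

theorem pow6'' (M : Mat4) : M ^ 6 = (M * M) * (M * M) * (M * M) := by
  simp only [pow_succ, pow_zero, one_mul, mul_assoc]

theorem exists_order12 : ∃ g : ↥K, orderOf g = 12 := by
  obtain ⟨u, huK, hu⟩ := exists_unit tM tM_mem
  refine ⟨⟨u, huK⟩, ?_⟩
  rw [← orderOf_injective K.subtype K.subtype_injective]
  show orderOf u = 12
  apply orderOf_eq_of_pow_and_pow_div_prime (by norm_num)
  · apply Units.ext
    rw [Units.val_pow_eq_pow_val, Units.val_one, hu, pow12', ← toMat_mul, ← toMat_mul, ← toMat_mul,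
      ← toMat_mul, tM_ord.2.2, toMat_one]
  · intro p hp hp12
    have hp' : p = 2 ∨ p = 3 := by
      have h1 : p ∣ 2 * (2 * 3) := by norm_num; exact hp12
      rcases (Nat.Prime.dvd_mul hp).mp h1 with h | h
      · left; exact (Nat.prime_dvd_prime_iff_eq hp Nat.prime_two).mp h
      · rcases (Nat.Prime.dvd_mul hp).mp h with h | h
        · left; exact (Nat.prime_dvd_prime_iff_eq hp Nat.prime_two).mp h
        · right; exact (Nat.prime_dvd_prime_iff_eq hp Nat.prime_three).mp h
    rcases hp' with rfl | rfl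
    · intro h
      have h1 := congrArg Units.val h
      rw [Units.val_pow_eq_pow_val, Units.val_one, hu] at h1
      norm_num at h1
      rw [pow6'', ← toMat_mul, ← toMat_mul, ← toMat_mul] at h1
      exact toMat_ne_one tM_ord.2.1 h1
    · intro h
      have h1 := congrArg Units.val h
      rw [Units.val_pow_eq_pow_val, Units.val_one, hu] at h1
      norm_num at h1
      rw [pow4, ← toMat_mul, ← toMat_mul] at h1
      exact toMat_ne_one tM_ord.1 h1

theorem range_orderOf_K : Set.range (orderOf : ↥K → ℕ) = {1, 2, 3, 4, 6, 8, 12} := by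
  ext k
  constructor
  · rintro ⟨g, rfl⟩
    have hg : g ^ 8 = 1 ∨ g ^ 12 = 1 := by
      rcases K_pow g g.2 with h | h
      · left; exact Subtype.ext (by rw [Subgroup.coe_pow, h]; rfl)
      · right; exact Subtype.ext (by rw [Subgroup.coe_pow, h]; rfl)
    rcases hg with h | h
    · have h1 : orderOf g ∈ Nat.divisors 8 :=
        Nat.mem_divisors.mpr ⟨orderOf_dvd_of_pow_eq_one h, by norm_num⟩
      have h2 : Nat.divisors 8 = {1, 2, 4, 8} := by decide
      rw [h2] at h1
      simp only [Finset.mem_insert, Finset.mem_singleton] at h1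
      simp only [Set.mem_insert_iff, Set.mem_singleton_iff]
      omega
    · have h1 : orderOf g ∈ Nat.divisors 12 :=
        Nat.mem_divisors.mpr ⟨orderOf_dvd_of_pow_eq_one h, by norm_num⟩
      have h2 : Nat.divisors 12 = {1, 2, 3, 4, 6, 12} := by decide
      rw [h2] at h1
      simp only [Finset.mem_insert, Finset.mem_singleton] at h1
      simp only [Set.mem_insert_iff, Set.mem_singleton_iff]
      omega
  · obtain ⟨s, hs⟩ := exists_order8
    obtain ⟨t, ht⟩ := exists_order12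
    simp only [Set.mem_insert_iff, Set.mem_singleton_iff]
    rintro (rfl | rfl | rfl | rfl | rfl | rfl | rfl)
    · exact ⟨1, orderOf_one⟩
    · exact ⟨s ^ 4, by rw [orderOf_pow' s (by norm_num), hs]; norm_num⟩
    · exact ⟨t ^ 4, by rw [orderOf_pow' t (by norm_num), ht]; norm_num⟩
    · exact ⟨s ^ 2, by rw [orderOf_pow' s (by norm_num), hs]; norm_num⟩
    · exact ⟨t ^ 2, by rw [orderOf_pow' t (by norm_num), ht]; norm_num⟩
    · exact ⟨s, hs⟩
    · exact ⟨t, ht⟩

/-! ### Cardinality and solvability -/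

theorem card_K : Nat.card ↥K = 48 := by
  classical
  have hex : ∀ g : ↥K, ∃ a : M4, a ∈ Klist ∧ a.toMat = ((g : GL (Fin 4) (ZMod 7)) : Mat4) :=
    fun g => g.2
  let f : ↥K → {a : M4 // a ∈ Klist.toFinset} := fun g =>
    ⟨(hex g).choose, List.mem_toFinset.mpr (hex g).choose_spec.1⟩
  have hf : Function.Bijective f := by
    constructor
    · intro g g' h
      have h1 : (hex g).choose = (hex g').choose := congrArg Subtype.val h
      apply Subtype.ext
      apply Units.ext
      rw [← (hex g).choose_spec.2, ← (hex g').choose_spec.2, h1]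
    · rintro ⟨a, ha⟩
      obtain ⟨u, huK, hu⟩ := exists_unit a (List.mem_toFinset.mp ha)
      refine ⟨⟨u, huK⟩, ?_⟩
      apply Subtype.ext
      apply toMat_injective
      show ((hex ⟨u, huK⟩).choose).toMat = a.toMat
      rw [(hex ⟨u, huK⟩).choose_spec.2]
      exact hu
  rw [Nat.card_congr (Equiv.ofBijective f hf), Nat.card_eq_fintype_card, Fintype.card_coe,
    List.toFinset_card_of_nodup K_nodup, K_length]

instance : Finite ↥K := Nat.finite_of_card_ne_zero (by rw [card_K]; norm_num)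

theorem isSolvable_K : Group.IsSolvable ↥K :=
  Cfsg.Agent.S0144.result 2 3 4 1 Nat.prime_two Nat.prime_three (by rw [card_K]; norm_num)

instance : Finite H7 := Finite.of_equiv _ SemidirectProduct.equivProd.symm

theorem isSolvable_H7 : Group.IsSolvable H7 :=
  haveI := isSolvable_K
  isSolvable_semidirect phiK

theorem range_orderOf_H7' : Set.range (orderOf : H7 → ℕ) = {1, 2, 3, 4, 6, 7, 8, 12} := by
  rw [range_orderOf_H7, range_orderOf_K]
  ext k
  simp only [Set.mem_insert_iff, Set.mem_singleton_iff]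
  omega

theorem exists_solvable_7 : ∃ (H : Type) (_ : Group H) (_ : Fintype H), Group.IsSolvable H ∧
    Set.range (orderOf : H → ℕ) = {1, 2, 3, 4, 6, 7, 8, 12} :=
  ⟨H7, inferInstance, Fintype.ofFinite H7, isSolvable_H7, range_orderOf_H7'⟩

end Cfsg.Agent.Lib.Helper19.Frob7
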