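import Mathlib
import Cfsg.Agent.S0040
import Cfsg.Agent.Lib.helper23.QuatFrob
import Cfsg.Agent.Lib.Helper1.FpfAction
import Cfsg.Agent.Lib.Helper1.FrobCenter
import Cfsg.Agent.Lib.Helper1.FrobeniusThm

set_option autoImplicit false

/-!
# Basic facts on abstract Frobenius complements
-/

namespace Cfsg.Agent.Lib.Helper19.FrobCompl

/-- In a group isomorphic to a Frobenius complement, subgroups of order `pq` are cyclic and Sylow
subgroups are cyclic or generalized quaternion. -/
theorem facts {G : Type*} [Group G] [Finite G]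
    (hFC : ∃ (L : Type) (_ : Group L) (_ : Finite L) (H : Subgroup L),
      Cfsg.IsFrobeniusComplement H ∧ Nonempty (G ≃* H)) :
    (∀ (D : Subgroup G) (p q : ℕ), p.Prime → q.Prime → Nat.card D = p * q → IsCyclic D) ∧
    (∀ (p : ℕ) [Fact p.Prime] (P : Sylow p G), IsCyclic (P : Subgroup G) ∨
      ∃ n : ℕ, Nonempty ((P : Subgroup G) ≃* QuaternionGroup (2 ^ n))) := by
  obtain ⟨L, _, _, H, hF, ⟨e⟩⟩ := hFC
  obtain ⟨N, hN, hNn, hc⟩ := Cfsg.Agent.Lib.Helper1.frobenius_theorem H hF
  have hNbot : N ≠ ⊥ := by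
    intro h
    rw [h, Subgroup.isComplement'_bot_left] at hc
    exact hF.2.1 hc
  have hfpf := Cfsg.Agent.Lib.helper23.frobenius_fpf_centralizer H hF N hc.disjoint
  obtain ⟨V, hVc, hVbot, -, hHV, hfpfV⟩ :=
    Cfsg.Agent.Lib.Helper1.exists_fpf_abelian N H hc hNbot hF.1 hfpf
  constructor
  · intro D p q hp hq hcard
    set D' : Subgroup L := (D.map e.toMonoidHom).map H.subtype with hD'
    have hD'H : D' ≤ H := Subgroup.map_subtype_le _
    have hcard' : Nat.card D' = p * q := by
      rw [hD', Subgroup.card_map_of_injective H.subtype_injective,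
        Subgroup.card_map_of_injective e.injective, hcard]
    have hcyc : IsCyclic D' :=
      Cfsg.Agent.Lib.Helper1.isCyclic_of_fpf_pq D' V hVbot (hD'H.trans hHV)
        (fun a ha => hfpfV a (hD'H ha)) p q hp hq hcard'
    have e1 : D ≃* D.map e.toMonoidHom := D.equivMapOfInjective e.toMonoidHom e.injective
    have e2 : D.map e.toMonoidHom ≃* D' :=
      (D.map e.toMonoidHom).equivMapOfInjective H.subtype H.subtype_injective
    exact (MulEquiv.isCyclic (e1.trans e2)).mpr hcyc
  · intro p _ P
    have hes : Function.Surjective e.toMonoidHom := e.surjective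
    set P' : Sylow p H := P.mapSurjective hes with hP'
    have hcoe : (P' : Subgroup H) = (P : Subgroup G).map e.toMonoidHom := rfl
    have e1 : (P : Subgroup G) ≃* (P' : Subgroup H) :=
      ((P : Subgroup G).equivMapOfInjective e.toMonoidHom e.injective).trans
        (MulEquiv.subgroupCongr hcoe.symm)
    rcases Cfsg.Agent.S0040.result N H hc hNbot hfpf p P' with h | ⟨n, ⟨e2⟩⟩
    · left
      exact (MulEquiv.isCyclic e1).mpr h
    · right
      exact ⟨n, ⟨e1.trans e2⟩⟩

end Cfsg.Agent.Lib.Helper19.FrobCompl
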