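import Mathlib

set_option autoImplicit false

/-! Odd-order automorphisms of cyclic 2-groups and of generalized quaternion groups are trivial;
normal nonabelian subgroups of generalized quaternion groups are large. -/

namespace Cfsg.Agent.Lib.Helper19

/-- an element of odd multiplicative order in `ZMod (2^k)` is `1` -/
theorem zmod_two_pow_eq_one_of_odd_pow (k : ℕ) (r : ZMod (2 ^ k)) (m : ℕ) (hm : Odd m)
    (h : r ^ m = 1) : r = 1 := by
  rcases Nat.eq_zero_or_pos k with hk | hk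
  · subst hk
    have : Subsingleton (ZMod (2 ^ 0)) := by
      rw [pow_zero]; infer_instance
    exact Subsingleton.elim _ _
  have hm0 : m ≠ 0 := by rcases hm with ⟨t, rfl⟩; omega
  have hu : IsUnit r := IsUnit.of_pow_eq_one h hm0
  obtain ⟨u, rfl⟩ := hu
  have hum : u ^ m = 1 := by
    apply Units.ext
    rw [Units.val_pow_eq_pow_val, h, Units.val_one]
  have h1 : orderOf u ∣ m := orderOf_dvd_of_pow_eq_one hum
  have : NeZero (2 ^ k) := ⟨by positivity⟩
  have h2 : orderOf u ∣ 2 ^ (k - 1) := by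
    have := orderOf_dvd_card (x := u)
    rw [ZMod.card_units_eq_totient, Nat.totient_prime_pow Nat.prime_two hk] at this
    simpa using this
  have hcop : Nat.Coprime (2 ^ (k - 1)) m := by
    apply Nat.Coprime.pow_left
    exact Nat.coprime_two_left.mpr hm
  have h3 : orderOf u = 1 := Nat.eq_one_of_dvd_coprimes hcop h2 h1
  rw [orderOf_eq_one_iff] at h3
  rw [h3, Units.val_one]

variable {G : Type*} [Group G]

/-- An element of odd order normalizing a cyclic 2-group centralizes it. -/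
theorem conj_eq_of_odd_of_mem_zpowers (g c : G) (k : ℕ) (hc : orderOf c = 2 ^ k)
    (hmem : g * c * g⁻¹ ∈ Subgroup.zpowers c) (m : ℕ) (hm : Odd m)
    (hgm : g ^ m * c * (g ^ m)⁻¹ = c) : g * c * g⁻¹ = c := by
  have hfin : IsOfFinOrder c := by
    rw [← orderOf_pos_iff, hc]; positivity
  have hpow : g * c * g⁻¹ ∈ Submonoid.powers c := (hfin.mem_powers_iff_mem_zpowers).mpr hmem
  obtain ⟨r, hr⟩ := (Submonoid.mem_powers_iff _ _).mp hpow
  have hiter : ∀ j : ℕ, g ^ j * c * (g ^ j)⁻¹ = c ^ (r ^ j) := by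
    intro j
    induction j with
    | zero => simp
    | succ j ih =>
      calc g ^ (j + 1) * c * (g ^ (j + 1))⁻¹ = g * (g ^ j * c * (g ^ j)⁻¹) * g⁻¹ := by
            rw [pow_succ']; group
        _ = g * c ^ (r ^ j) * g⁻¹ := by rw [ih]
        _ = (g * c * g⁻¹) ^ (r ^ j) := by rw [conj_pow]
        _ = c ^ (r ^ (j + 1)) := by rw [← hr, ← pow_mul, pow_succ']
  have h1 : c ^ (r ^ m) = c ^ 1 := by rw [← hiter m, hgm, pow_one]
  have h2 : r ^ m ≡ 1 [MOD 2 ^ k] := by
    rw [← hc]; exact pow_eq_pow_iff_modEq.mp h1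
  have h3 : ((r : ℕ) : ZMod (2 ^ k)) ^ m = 1 := by
    have := (ZMod.natCast_eq_natCast_iff _ _ _).mpr h2
    push_cast at this
    exact this
  have h4 := zmod_two_pow_eq_one_of_odd_pow k (r : ZMod (2 ^ k)) m hm h3
  have h5 : r ≡ 1 [MOD 2 ^ k] := by
    apply (ZMod.natCast_eq_natCast_iff _ _ _).mp
    rw [h4, Nat.cast_one]
  rw [← hr]
  have : c ^ r = c ^ 1 := by
    apply pow_eq_pow_iff_modEq.mpr
    rw [hc]; exact h5
  rw [this, pow_one]


/-- An element of odd order normalizing a generalized quaternion group of order at least 16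
centralizes it. -/
theorem centralizes_genQuat_of_odd (Q : Subgroup G) (a y z : G) (k : ℕ) (hk : 3 ≤ k)
    (hao : orderOf a = 2 ^ k) (hyA : y ∉ Subgroup.zpowers a) (hinv : y * a * y⁻¹ = a⁻¹)
    (hyy : y * y = z) (hza : a ^ (2 ^ (k - 1)) = z) (haQ : a ∈ Q) (hyQ : y ∈ Q)
    (hcov : ∀ q ∈ Q, q ∈ Subgroup.zpowers a ∨ q * y⁻¹ ∈ Subgroup.zpowers a)
    (g : G) (hgQ : ∀ q ∈ Q, g * q * g⁻¹ ∈ Q) (m : ℕ) (hm : Odd m) (hgm : g ^ m = 1) :
    ∀ q ∈ Q, g * q * g⁻¹ = q := by
  have hzz : z * z = 1 := by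
    rw [← hza, ← pow_add]
    have : 2 ^ (k - 1) + 2 ^ (k - 1) = 2 ^ k := by
      have : k = (k - 1) + 1 := by omega
      conv_rhs => rw [this, pow_succ]
      ring
    rw [this, ← hao, pow_orderOf_eq_one]
  have hinvA : ∀ i : ℤ, y * a ^ i * y⁻¹ = (a ^ i)⁻¹ := by
    intro i
    rw [← conj_zpow, hinv, inv_zpow]
  have hout4 : ∀ q ∈ Q, q ∉ Subgroup.zpowers a → q ^ 4 = 1 := by
    intro q hq hqA
    rcases hcov q hq with h | h
    · exact absurd h hqA
    · obtain ⟨i, hi⟩ := Subgroup.mem_zpowers_iff.mp h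
      have hqq : q * q = z := by
        calc q * q = (q * y⁻¹) * (y * (q * y⁻¹) * y⁻¹) * (y * y) := by group
          _ = z := by rw [← hi, hinvA, mul_inv_cancel, one_mul, hyy]
      calc q ^ 4 = (q * q) * (q * q) := by
            rw [show (4 : ℕ) = 2 + 2 from rfl, pow_add, pow_two]
        _ = 1 := by rw [hqq, hzz]
  have ha4 : a ^ 4 ≠ 1 := by
    intro h
    have h1 := orderOf_dvd_of_pow_eq_one h
    rw [hao] at h1
    have h2 := Nat.le_of_dvd (by norm_num) h1
    have h3 : 2 ^ 3 ≤ 2 ^ k := Nat.pow_le_pow_right (by norm_num) hk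
    omega
  have hgaA : g * a * g⁻¹ ∈ Subgroup.zpowers a := by
    by_contra hnot
    have h1 := hout4 _ (hgQ a haQ) hnot
    rw [conj_pow] at h1
    apply ha4
    have : a ^ 4 = g⁻¹ * (g * a ^ 4 * g⁻¹) * g := by group
    rw [this, h1]; group
  have hga : g * a * g⁻¹ = a :=
    conj_eq_of_odd_of_mem_zpowers g a k hao hgaA m hm (by rw [hgm]; group)
  have hgai : ∀ i : ℤ, g * a ^ i * g⁻¹ = a ^ i := by
    intro i
    rw [← conj_zpow, hga]
  have hgyA : g * y * g⁻¹ ∉ Subgroup.zpowers a := by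
    intro h
    obtain ⟨i, hi⟩ := Subgroup.mem_zpowers_iff.mp h
    apply hyA
    have : y = g⁻¹ * (g * y * g⁻¹) * g := by group
    rw [this, ← hi]
    have h2 : g⁻¹ * a ^ i * g = a ^ i := by
      have := hgai i
      calc g⁻¹ * a ^ i * g = g⁻¹ * (g * a ^ i * g⁻¹) * g := by rw [this]
        _ = a ^ i := by group
    rw [h2]; exact Subgroup.zpow_mem_zpowers a i
  obtain ⟨i, hi⟩ : ∃ i : ℤ, g * y * g⁻¹ = a ^ i * y := by
    rcases hcov _ (hgQ y hyQ) with h | h
    · exact absurd h hgyA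
    · obtain ⟨i, hi⟩ := Subgroup.mem_zpowers_iff.mp h
      exact ⟨i, by rw [hi]; group⟩
  have hiter : ∀ j : ℕ, g ^ j * y * (g ^ j)⁻¹ = a ^ (i * j) * y := by
    intro j
    induction j with
    | zero => simp
    | succ j ih =>
      calc g ^ (j + 1) * y * (g ^ (j + 1))⁻¹ = g * (g ^ j * y * (g ^ j)⁻¹) * g⁻¹ := by
            rw [pow_succ']; group
        _ = g * (a ^ (i * j) * y) * g⁻¹ := by rw [ih]
        _ = (g * a ^ (i * j) * g⁻¹) * (g * y * g⁻¹) := by group
        _ = a ^ (i * j) * (a ^ i * y) := by rw [hgai, hi]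
        _ = a ^ (i * (j + 1 : ℕ)) * y := by
            rw [← mul_assoc, ← zpow_add]; congr 2; push_cast; ring
  have hai : a ^ i = 1 := by
    have h1 := hiter m
    rw [hgm] at h1
    have h2 : a ^ (i * m) = 1 := by
      have : y = a ^ (i * (m : ℤ)) * y := by rw [← h1]; group
      exact (mul_eq_right.mp this.symm)
    have h3 : ((orderOf a : ℕ) : ℤ) ∣ i * m := orderOf_dvd_iff_zpow_eq_one.mpr h2
    have h4 : ((orderOf a : ℕ) : ℤ) ∣ i := by
      apply Int.dvd_of_dvd_mul_left_of_gcd_one h3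
      rw [hao]
      have : Nat.Coprime (2 ^ k) m := Nat.Coprime.pow_left _ (Nat.coprime_two_left.mpr hm)
      rw [Int.gcd_natCast_natCast]
      exact this
    exact orderOf_dvd_iff_zpow_eq_one.mp h4
  have hgy : g * y * g⁻¹ = y := by rw [hi, hai, one_mul]
  intro q hq
  rcases hcov q hq with h | h
  · obtain ⟨l, rfl⟩ := Subgroup.mem_zpowers_iff.mp h
    exact hgai l
  · obtain ⟨l, hl⟩ := Subgroup.mem_zpowers_iff.mp h
    have hq' : q = a ^ l * y := by rw [hl]; group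
    rw [hq']
    calc g * (a ^ l * y) * g⁻¹ = (g * a ^ l * g⁻¹) * (g * y * g⁻¹) := by group
      _ = a ^ l * y := by rw [hgai, hgy]

/-- A nonabelian normal subgroup of a generalized quaternion group of order at least 32 has order
at least 16. -/
theorem card_ge_of_normal_nonabelian_genQuat [Finite G] (α Y : G) (N : ℕ) (hN : 4 ≤ N)
    (hαo : orderOf α = 2 ^ N) (hinv : Y * α * Y⁻¹ = α⁻¹)
    (hcov : ∀ t : G, t ∈ Subgroup.zpowers α ∨ t * Y⁻¹ ∈ Subgroup.zpowers α)
    (Q : Subgroup G) [hQn : Q.Normal] (hQ : ¬ ∀ u ∈ Q, ∀ v ∈ Q, u * v = v * u) :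
    16 ≤ Nat.card Q := by
  obtain ⟨y', hy'Q, hy'A⟩ : ∃ y' ∈ Q, y' ∉ Subgroup.zpowers α := by
    by_contra hcon
    push Not at hcon
    apply hQ
    intro u hu v hv
    obtain ⟨i, rfl⟩ := Subgroup.mem_zpowers_iff.mp (hcon u hu)
    obtain ⟨j, rfl⟩ := Subgroup.mem_zpowers_iff.mp (hcon v hv)
    exact ((Commute.refl α).zpow_zpow i j).eq
  obtain ⟨i, hi⟩ : ∃ i : ℤ, y' * Y⁻¹ = α ^ i := by
    rcases hcov y' with h | h
    · exact absurd h hy'A
    · obtain ⟨i, hi⟩ := Subgroup.mem_zpowers_iff.mp h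
      exact ⟨i, hi.symm⟩
  have hYα : Y * α⁻¹ = α * Y := by
    calc Y * α⁻¹ = (Y * α * Y⁻¹)⁻¹ * Y := by group
      _ = α * Y := by rw [hinv, inv_inv]
  have hα2 : α * α ∈ Q := by
    have h1 : α * y' * α⁻¹ ∈ Q := hQn.conj_mem y' hy'Q α
    have h2 : α * α = (α * y' * α⁻¹) * y'⁻¹ := by
      have hy' : y' = α ^ i * Y := by rw [← hi]; group
      rw [hy']
      have c : α ^ i * α = α * α ^ i := ((Commute.refl α).zpow_left i).eq
      symm
      calc (α * (α ^ i * Y) * α⁻¹) * (α ^ i * Y)⁻¹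
          = α * α ^ i * (Y * α * Y⁻¹)⁻¹ * (α ^ i)⁻¹ := by group
        _ = α * α ^ i * α * (α ^ i)⁻¹ := by rw [hinv, inv_inv]
        _ = α * (α ^ i * α) * (α ^ i)⁻¹ := by group
        _ = α * (α * α ^ i) * (α ^ i)⁻¹ := by rw [c]
        _ = α * α := by rw [mul_assoc α (α * α ^ i), mul_assoc α (α ^ i), mul_inv_cancel, mul_one]
    rw [h2]
    exact Q.mul_mem h1 (Q.inv_mem hy'Q)
  obtain ⟨N', rfl⟩ : ∃ N', N = N' + 1 := ⟨N - 1, by omega⟩
  have hord : orderOf (α * α) = 2 ^ N' := by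
    rw [← pow_two, orderOf_pow' α (by norm_num), hαo]
    have : Nat.gcd (2 ^ (N' + 1)) 2 = 2 := by
      apply Nat.gcd_eq_right
      exact dvd_pow_self 2 (by omega)
    rw [this, pow_succ]
    simp
  have hle : Subgroup.zpowers (α * α) ≤ Q := Subgroup.zpowers_le.mpr hα2
  have hcardz : Nat.card (Subgroup.zpowers (α * α)) = 2 ^ N' := by
    rw [Nat.card_zpowers, hord]
  have hdvd := Subgroup.card_dvd_of_le hle
  obtain ⟨j, hj⟩ := hdvd
  have hj1 : j ≠ 1 := by
    intro h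
    rw [h, mul_one] at hj
    have := Subgroup.eq_of_le_of_card_ge hle (le_of_eq hj)
    apply hy'A
    have h2 : y' ∈ Subgroup.zpowers (α * α) := by rw [this]; exact hy'Q
    have h3 : Subgroup.zpowers (α * α) ≤ Subgroup.zpowers α :=
      Subgroup.zpowers_le.mpr (Subgroup.mul_mem _ (Subgroup.mem_zpowers α) (Subgroup.mem_zpowers α))
    exact h3 h2
  have hj0 : j ≠ 0 := by
    intro h
    rw [h, mul_zero] at hj
    exact (Nat.card_pos (α := Q)).ne' hj
  have h8 : 2 ^ 3 ≤ 2 ^ N' := Nat.pow_le_pow_right (by norm_num) (by omega)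
  rw [hj, hcardz]
  have : 2 ≤ j := by omega
  nlinarith

end Cfsg.Agent.Lib.Helper19
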