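import Mathlib
import Cfsg.Agent.Lib.helper14.Quat
import Cfsg.Agent.Lib.Helper21.SL23Model
import Cfsg.Agent.Lib.Helper24.TwoInvol

set_option autoImplicit false

/-!
# A model of `GL(2,3)` as `Q₈ ⋊ D₃`

The action of `D₃ = S₃` on `Q₈` is given by explicit functions, the semidirect product is shown to be
isomorphic to `GL (Fin 2) (ZMod 3)` and a lifting criterion is given.
-/

namespace Cfsg.Agent.Lib.Helper19.GL23Model

open QuaternionGroup DihedralGroup Cfsg.Agent.Lib.Helper21 Cfsg.Agent.Lib.Helper24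
  Cfsg.Agent.Lib.helper14

/-- an involutive automorphism of `Q₈` inverting the rotation `q8rot` -/
def q8tau : QuaternionGroup 2 → QuaternionGroup 2
  | a i => a (-i)
  | xa i => xa (1 - i)

/-- the action of `D₃` on `Q₈` as a function -/
def d3act : DihedralGroup 3 → QuaternionGroup 2 → QuaternionGroup 2
  | r i, q => q8rot^[i.val] q
  | sr i, q => q8tau (q8rot^[i.val] q)

set_option maxRecDepth 100000 in
theorem d3act_mul : ∀ (d e : DihedralGroup 3) (q : QuaternionGroup 2),
    d3act (d * e) q = d3act d (d3act e q) := by decide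

theorem d3act_one : ∀ q : QuaternionGroup 2, d3act 1 q = q := by decide

set_option maxRecDepth 100000 in
theorem d3act_hom : ∀ (d : DihedralGroup 3) (q q' : QuaternionGroup 2),
    d3act d (q * q') = d3act d q * d3act d q' := by decide

/-- the automorphism of `Q₈` attached to an element of `D₃` -/
def d3aut (d : DihedralGroup 3) : MulAut (QuaternionGroup 2) where
  toFun := d3act d
  invFun := d3act d⁻¹
  left_inv q := by rw [← d3act_mul, inv_mul_cancel, d3act_one]
  right_inv q := by rw [← d3act_mul, mul_inv_cancel, d3act_one]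
  map_mul' := d3act_hom d

/-- the action homomorphism -/
def psi0 : DihedralGroup 3 →* MulAut (QuaternionGroup 2) where
  toFun := d3aut
  map_one' := by ext q; exact d3act_one q
  map_mul' d e := by ext q; exact d3act_mul d e q

theorem psi0_apply (d : DihedralGroup 3) (q : QuaternionGroup 2) : psi0 d q = d3act d q := rfl

/-- the model `Q₈ ⋊ D₃` of `GL(2,3)` -/
abbrev Model := QuaternionGroup 2 ⋊[psi0] DihedralGroup 3

theorem card_Model : Nat.card Model = 48 := by
  rw [SemidirectProduct.card, Nat.card_eq_fintype_card, Nat.card_eq_fintype_card,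
    QuaternionGroup.card, DihedralGroup.card]

set_option maxRecDepth 100000 in
theorem inner_trivial : ∀ (d : DihedralGroup 3) (q : QuaternionGroup 2),
    (∀ u, d3act d u = q * u * q⁻¹) → d = 1 := by decide

theorem d3_cases : ∀ d : DihedralGroup 3, d = 1 ∨ d = r 1 ∨ d = r 1 * r 1 ∨ d = sr 0 ∨
    d = sr 0 * r 1 ∨ d = sr 0 * (r 1 * r 1) := by decide

theorem psi0_r_one_ne : psi0 (r 1) ≠ 1 := by
  intro h
  have h1 : psi0 (r 1) (a 1) = a 1 := by rw [h]; rfl
  rw [psi0_apply] at h1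
  revert h1
  decide

/-- **Lifting criterion**: an injective hom from `Q₈` and a hom from `D₃` that are compatible with
the model action glue to an injective hom from the model. -/
theorem lift_of_compat {Y : Type*} [Group Y] (f₁ : QuaternionGroup 2 →* Y)
    (f₂ : DihedralGroup 3 →* Y) (hf₁ : Function.Injective f₁)
    (compat : ∀ d q, f₁ (d3act d q) = f₂ d * f₁ q * (f₂ d)⁻¹) :
    ∃ Φ : Model →* Y, Function.Injective Φ ∧ (∀ q, Φ (SemidirectProduct.inl q) = f₁ q) ∧
      (∀ d, Φ (SemidirectProduct.inr d) = f₂ d) := by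
  have hc : ∀ d, f₁.comp (psi0 d).toMonoidHom = (MulAut.conj (f₂ d)).toMonoidHom.comp f₁ := by
    intro d
    ext q
    exact compat d q
  refine ⟨SemidirectProduct.lift f₁ f₂ hc, ?_, fun q => SemidirectProduct.lift_inl _ _ _ q,
    fun d => SemidirectProduct.lift_inr _ _ _ d⟩
  rw [injective_iff_map_eq_one]
  intro x hx
  have hx' : f₁ x.left * f₂ x.right = 1 := hx
  have h2 : f₂ x.right = f₁ (x.left⁻¹) := by
    rw [map_inv]
    exact eq_inv_of_mul_eq_one_right hx'
  have hd : x.right = 1 := by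
    apply inner_trivial x.right (x.left⁻¹)
    intro u
    apply hf₁
    rw [compat, h2, map_mul, map_mul, map_inv f₁ (x.left⁻¹)]
  have hl : x.left = 1 := by
    rw [hd, map_one, mul_one] at hx'
    exact hf₁ (hx'.trans (map_one f₁).symm)
  ext
  · exact hl
  · exact hd

/-- compatibility can be checked on the generators `sr 0` and `r 1` of `D₃` -/
theorem compat_of_generators {Y : Type*} [Group Y] (f₁ : QuaternionGroup 2 →* Y)
    (f₂ : DihedralGroup 3 →* Y)
    (hs : ∀ q, f₁ (d3act (sr 0) q) = f₂ (sr 0) * f₁ q * (f₂ (sr 0))⁻¹)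
    (hr : ∀ q, f₁ (d3act (r 1) q) = f₂ (r 1) * f₁ q * (f₂ (r 1))⁻¹) :
    ∀ d q, f₁ (d3act d q) = f₂ d * f₁ q * (f₂ d)⁻¹ := by
  have hmul : ∀ d e : DihedralGroup 3, (∀ q, f₁ (d3act d q) = f₂ d * f₁ q * (f₂ d)⁻¹) →
      (∀ q, f₁ (d3act e q) = f₂ e * f₁ q * (f₂ e)⁻¹) →
      ∀ q, f₁ (d3act (d * e) q) = f₂ (d * e) * f₁ q * (f₂ (d * e))⁻¹ := by
    intro d e hd he q
    rw [d3act_mul, hd, he, map_mul]
    group
  have hone : ∀ q, f₁ (d3act 1 q) = f₂ 1 * f₁ q * (f₂ 1)⁻¹ := by
    intro q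
    rw [d3act_one, map_one]
    group
  intro d
  rcases d3_cases d with h | h | h | h | h | h <;> rw [h]
  · exact hone
  · exact hr
  · exact hmul _ _ hr hr
  · exact hs
  · exact hmul _ _ hs hr
  · exact hmul _ _ hs (hmul _ _ hr hr)

theorem tiPw_zero' {Y : Type*} [Group Y] (c : Y) (n : ℕ) (hc : c ^ n = 1) :
    tiPw c n hc 0 = 1 := by
  have h := tiPw_intCast c n hc 0
  rw [Int.cast_zero, zpow_zero] at h
  exact h

theorem tiPw_one' {Y : Type*} [Group Y] (c : Y) (n : ℕ) (hc : c ^ n = 1) :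
    tiPw c n hc 1 = c := by
  have h := tiPw_intCast c n hc 1
  rw [Int.cast_one, zpow_one] at h
  exact h

/-- **Lifting from relations.** -/
theorem lift_of_relations {Y : Type*} [Group Y] (i j x y : Y) (hi : orderOf i = 4)
    (hj : j * j = i ^ 2) (hji : j * i * j⁻¹ = i⁻¹) (hx : x * x = 1) (hy : y * y = 1)
    (hxy : (x * y) ^ 3 = 1)
    (hti : (x * y) * i * (x * y)⁻¹ = j) (htj : (x * y) * j * (x * y)⁻¹ = i * j)
    (hxi : x * i * x⁻¹ = i⁻¹) (hxj : x * j * x⁻¹ = (i * j)⁻¹) :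
    ∃ Φ : Model →* Y, Function.Injective Φ ∧ Φ (SemidirectProduct.inl (a 1)) = i ∧
      Φ (SemidirectProduct.inl (xa 0)) = j ∧ Φ (SemidirectProduct.inr (sr 0)) = x ∧
      Φ (SemidirectProduct.inr (r 1)) = x * y := by
  obtain ⟨f₁, hf₁inj, hf₁a, hf₁x⟩ := exists_quatHom 2 (by norm_num) i j (by rw [hi]) hj hji
  set f₂ : DihedralGroup 3 →* Y := tiHom hx hy 3 hxy with hf₂
  have hf₂s : f₂ (sr 0) = x := by
    rw [hf₂, tiHom_sr, tiPw_zero', mul_one]
  have hf₂r : f₂ (r 1) = x * y := by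
    rw [hf₂, tiHom_r, tiPw_one']
  have hs : ∀ q, f₁ (d3act (sr 0) q) = f₂ (sr 0) * f₁ q * (f₂ (sr 0))⁻¹ := by
    have heq : f₁.comp (psi0 (sr 0)).toMonoidHom =
        (MulAut.conj (f₂ (sr 0))).toMonoidHom.comp f₁ := by
      apply MonoidHom.eq_of_eqOn_dense (quaternionGroup_closure 2)
      intro q hq
      rcases hq with rfl | rfl
      · show f₁ (d3act (sr 0) (a 1)) = f₂ (sr 0) * f₁ (a 1) * (f₂ (sr 0))⁻¹
        have : d3act (sr 0) (a 1) = (a 1)⁻¹ := by decide
        rw [this, map_inv, hf₁a, hf₂s, hxi]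
      · show f₁ (d3act (sr 0) (xa 0)) = f₂ (sr 0) * f₁ (xa 0) * (f₂ (sr 0))⁻¹
        have : d3act (sr 0) (xa 0) = (a 1 * xa 0)⁻¹ := by decide
        rw [this, map_inv, map_mul, hf₁a, hf₁x, hf₂s, hxj]
    intro q
    exact DFunLike.congr_fun heq q
  have hr : ∀ q, f₁ (d3act (r 1) q) = f₂ (r 1) * f₁ q * (f₂ (r 1))⁻¹ := by
    have heq : f₁.comp (psi0 (r 1)).toMonoidHom =
        (MulAut.conj (f₂ (r 1))).toMonoidHom.comp f₁ := by
      apply MonoidHom.eq_of_eqOn_dense (quaternionGroup_closure 2)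
      intro q hq
      rcases hq with rfl | rfl
      · show f₁ (d3act (r 1) (a 1)) = f₂ (r 1) * f₁ (a 1) * (f₂ (r 1))⁻¹
        have : d3act (r 1) (a 1) = xa 0 := by decide
        rw [this, hf₁a, hf₁x, hf₂r, hti]
      · show f₁ (d3act (r 1) (xa 0)) = f₂ (r 1) * f₁ (xa 0) * (f₂ (r 1))⁻¹
        have : d3act (r 1) (xa 0) = a 1 * xa 0 := by decide
        rw [this, map_mul, hf₁a, hf₁x, hf₂r, htj]
    intro q
    exact DFunLike.congr_fun heq q
  obtain ⟨Φ, hΦ, hl, hrr⟩ := lift_of_compat f₁ f₂ hf₁inj (compat_of_generators f₁ f₂ hs hr)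
  exact ⟨Φ, hΦ, by rw [hl, hf₁a], by rw [hl, hf₁x], by rw [hrr, hf₂s], by rw [hrr, hf₂r]⟩

/-! ### The matrices -/

/-- `GL(2,3)` -/
abbrev GL23 := GL (Fin 2) (ZMod 3)

def glI : GL23 := ⟨!![0, 1; -1, 0], !![0, -1; 1, 0], by decide, by decide⟩
def glJ : GL23 := ⟨!![1, 1; 1, -1], !![-1, -1; -1, 1], by decide, by decide⟩
def glX : GL23 := ⟨!![0, 1; 1, 0], !![0, 1; 1, 0], by decide, by decide⟩
def glY : GL23 := ⟨!![-1, -1; 0, 1], !![-1, -1; 0, 1], by decide, by decide⟩

theorem card_GL23 : Nat.card GL23 = 48 := by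
  rw [Matrix.card_GL_field, ZMod.card]
  decide

theorem model_iso : Nonempty (Model ≃* GL23) := by
  have hi : orderOf glI = 4 := by
    have := orderOf_eq_prime_pow (x := glI) (p := 2) (n := 1) (by decide) (by decide)
    simpa using this
  obtain ⟨Φ, hinj, -⟩ := lift_of_relations glI glJ glX glY hi (by decide) (by decide) (by decide)
    (by decide) (by decide) (by decide) (by decide) (by decide) (by decide)
  have : Finite Model := Nat.finite_of_card_ne_zero (by rw [card_Model]; norm_num)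
  have hbij : Function.Bijective Φ := by
    rw [Nat.bijective_iff_injective_and_card]
    exact ⟨hinj, by rw [card_Model, card_GL23]⟩
  exact ⟨MulEquiv.ofBijective Φ hbij⟩

end Cfsg.Agent.Lib.Helper19.GL23Model
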