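import Mathlib
import Cfsg.Agent.Lib.Helper19.GL23Model

set_option autoImplicit false

/-!
# Conjugacy of faithful `S₃`-actions inside a copy of `S₄`
-/

namespace Cfsg.Agent.Lib.Helper19.GL23Conj

open Equiv DihedralGroup Cfsg.Agent.Lib.Helper19.GL23Model

set_option synthInstance.maxSize 2000 in
set_option synthInstance.maxHeartbeats 400000 in
set_option maxRecDepth 1000000 in
theorem s4_inverts : ∀ σ : Perm (Fin 4), σ * σ = 1 → σ ≠ 1 → (∀ ν : Perm (Fin 4), ν * ν ≠ σ) →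
    ∃ γ : Perm (Fin 4), γ * γ * γ = 1 ∧ γ ≠ 1 ∧ σ * γ * σ⁻¹ = γ⁻¹ := by decide

set_option synthInstance.maxSize 2000 in
set_option synthInstance.maxHeartbeats 400000 in
set_option maxRecDepth 1000000 in
theorem s4_conj : ∀ σ γ : Perm (Fin 4), σ * σ = 1 → γ * γ * γ = 1 → γ ≠ 1 → σ * γ * σ⁻¹ = γ⁻¹ →
    ∃ α : Perm (Fin 4), α * σ * α⁻¹ = swap 0 1 ∧ α * γ * α⁻¹ = swap 0 1 * swap 1 2 := by decide

/-- homs out of `D₃` are determined by the images of `sr 0` and `r 1` -/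
theorem d3_hom_ext {X : Type*} [Group X] (f g : DihedralGroup 3 →* X)
    (hs : f (sr 0) = g (sr 0)) (hr : f (r 1) = g (r 1)) : f = g := by
  ext d
  rcases d3_cases d with h | h | h | h | h | h <;> rw [h]
  · rw [map_one, map_one]
  · exact hr
  · rw [map_mul, map_mul, hr]
  · exact hs
  · rw [map_mul, map_mul, hr, hs]
  · rw [map_mul, map_mul, map_mul, map_mul, hr, hs]

theorem d3_rel1 : (sr 0 : DihedralGroup 3) * sr 0 = 1 := by decide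
theorem d3_rel2 : (r 1 : DihedralGroup 3) * r 1 * r 1 = 1 := by decide
theorem d3_rel3 : (sr 0 : DihedralGroup 3) * r 1 * (sr 0)⁻¹ = (r 1)⁻¹ := by decide

/-- the standard form of a faithful hom `D₃ → S₄` -/
theorem exists_std {X : Type*} [Group X] (φ : X ≃* Perm (Fin 4)) (ψ : DihedralGroup 3 →* X)
    (hψ : ψ (r 1) ≠ 1) :
    ∃ α : Perm (Fin 4), α * φ (ψ (sr 0)) * α⁻¹ = swap 0 1 ∧
      α * φ (ψ (r 1)) * α⁻¹ = swap 0 1 * swap 1 2 := by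
  apply s4_conj
  · rw [← map_mul, ← map_mul, d3_rel1, map_one, map_one]
  · rw [← map_mul, ← map_mul, ← map_mul, ← map_mul, d3_rel2, map_one, map_one]
  · intro h
    apply hψ
    apply φ.injective
    rw [h, map_one]
  · rw [← map_inv, ← map_inv, ← map_inv, ← map_mul, ← map_mul, ← map_mul, ← map_mul, d3_rel3,
      map_inv]

/-- two faithful homs from `D₃` to a copy of `S₄` are conjugate -/
theorem conj_d3 {X : Type*} [Group X] (φ : X ≃* Perm (Fin 4)) (ψ₁ ψ₂ : DihedralGroup 3 →* X)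
    (h₁ : ψ₁ (r 1) ≠ 1) (h₂ : ψ₂ (r 1) ≠ 1) :
    ∃ β : X, ∀ d, β * ψ₁ d * β⁻¹ = ψ₂ d := by
  obtain ⟨α₁, hs₁, hr₁⟩ := exists_std φ ψ₁ h₁
  obtain ⟨α₂, hs₂, hr₂⟩ := exists_std φ ψ₂ h₂
  refine ⟨φ.symm (α₂⁻¹ * α₁), ?_⟩
  have key : (MulAut.conj (φ.symm (α₂⁻¹ * α₁))).toMonoidHom.comp ψ₁ = ψ₂ := by
    apply d3_hom_ext
    · show φ.symm (α₂⁻¹ * α₁) * ψ₁ (sr 0) * (φ.symm (α₂⁻¹ * α₁))⁻¹ = ψ₂ (sr 0)
      apply φ.injective
      rw [map_mul, map_mul, map_inv, MulEquiv.apply_symm_apply]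
      have e1 : φ (ψ₁ (sr 0)) = α₁⁻¹ * swap 0 1 * α₁ := by rw [← hs₁]; group
      have e2 : φ (ψ₂ (sr 0)) = α₂⁻¹ * swap 0 1 * α₂ := by rw [← hs₂]; group
      rw [e1, e2]; group
    · show φ.symm (α₂⁻¹ * α₁) * ψ₁ (r 1) * (φ.symm (α₂⁻¹ * α₁))⁻¹ = ψ₂ (r 1)
      apply φ.injective
      rw [map_mul, map_mul, map_inv, MulEquiv.apply_symm_apply]
      have e1 : φ (ψ₁ (r 1)) = α₁⁻¹ * (swap 0 1 * swap 1 2) * α₁ := by rw [← hr₁]; group
      have e2 : φ (ψ₂ (r 1)) = α₂⁻¹ * (swap 0 1 * swap 1 2) * α₂ := by rw [← hr₂]; group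
      rw [e1, e2]; group
  intro d
  exact DFunLike.congr_fun key d

end Cfsg.Agent.Lib.Helper19.GL23Conj
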