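import Mathlib
import Cfsg.Agent.Lib.Helper19.GL23Conj
import Cfsg.Agent.S3742
import Cfsg.Agent.Lib.helper17.SD5
import Cfsg.Agent.Lib.Helper19.UniqueInvolution

set_option autoImplicit false

/-!
# Groups of order 48 with a normal self-centralizing `Q₈`

Such a group is `GL(2,3)` or the binary octahedral group.
-/

namespace Cfsg.Agent.Lib.Helper19.Ord48

open QuaternionGroup Equiv Cfsg.Agent.Lib.Helper19.GL23Model Cfsg.Agent.Lib.Helper19.GL23Conj

theorem q8_invol : ∀ w : QuaternionGroup 2, w * w = 1 → w = 1 ∨ w = a 2 := by decide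
theorem q8_a2_ne : (a 2 : QuaternionGroup 2) ≠ 1 := by decide
theorem q8_a2_sq : (a 2 : QuaternionGroup 2) * a 2 = 1 := by decide
theorem q8_noncomm : (a 1 : QuaternionGroup 2) * xa 0 ≠ xa 0 * a 1 := by decide
theorem q8_pow_eight : ∀ w : QuaternionGroup 2, w ^ 8 = 1 := by decide

theorem mem_zpowers_of_sq {G : Type*} [Group G] (z : G) (hz : z * z = 1) (w : G) :
    w ∈ Subgroup.zpowers z ↔ w = 1 ∨ w = z := by
  constructor
  · intro h
    obtain ⟨k, rfl⟩ := Subgroup.mem_zpowers_iff.mp h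
    rcases Int.even_or_odd k with ⟨c, hc⟩ | ⟨c, hc⟩
    · left
      rw [hc, ← two_mul, zpow_mul, zpow_two, hz, one_zpow]
    · right
      rw [hc, zpow_add, zpow_mul, zpow_two, hz, one_zpow, one_mul, zpow_one]
  · rintro (rfl | rfl)
    · exact Subgroup.one_mem _
    · exact Subgroup.mem_zpowers _

section
variable {G : Type*} [Group G] (P : Subgroup G) (eQ : P ≃* QuaternionGroup 2)

/-- the involution of `P ≅ Q₈` -/
noncomputable def zz : G := ((eQ.symm (a 2) : P) : G)

include eQ

theorem zz_mem : zz P eQ ∈ P := (eQ.symm (a 2)).2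

theorem zz_ne : zz P eQ ≠ 1 := by
  intro h
  have h1 : (eQ.symm (a 2) : P) = 1 := Subtype.ext h
  have h2 := congrArg eQ h1
  rw [MulEquiv.apply_symm_apply, map_one] at h2
  exact q8_a2_ne h2

theorem zz_sq : zz P eQ * zz P eQ = 1 := by
  have h1 : (eQ.symm (a 2) : P) * eQ.symm (a 2) = 1 := by
    rw [← map_mul, q8_a2_sq, map_one]
  exact congrArg Subtype.val h1

theorem invol_mem (u : G) (hu : u ∈ P) (h : u * u = 1) : u = 1 ∨ u = zz P eQ := by
  have h1 : eQ ⟨u, hu⟩ * eQ ⟨u, hu⟩ = 1 := by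
    rw [← map_mul]
    have : (⟨u, hu⟩ : P) * ⟨u, hu⟩ = 1 := Subtype.ext h
    rw [this, map_one]
  rcases q8_invol _ h1 with h2 | h2
  · left
    have : (⟨u, hu⟩ : P) = 1 := eQ.injective (by rw [h2, map_one])
    exact congrArg Subtype.val this
  · right
    have : (⟨u, hu⟩ : P) = eQ.symm (a 2) := by
      apply eQ.injective
      rw [h2, MulEquiv.apply_symm_apply]
    exact congrArg Subtype.val this

theorem pow_eight_mem (u : G) (hu : u ∈ P) : u ^ 8 = 1 := by
  have h1 : (⟨u, hu⟩ : P) ^ 8 = 1 := by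
    apply eQ.injective
    rw [map_pow, q8_pow_eight, map_one]
  exact congrArg Subtype.val h1

theorem card_P : Nat.card P = 8 := by
  rw [Nat.card_congr eQ.toEquiv, Nat.card_eq_fintype_card, QuaternionGroup.card]

theorem isPGroup_P : IsPGroup 2 P := IsPGroup.of_card (n := 3) (by rw [card_P P eQ]; norm_num)

variable [hPn : P.Normal]

theorem zz_conj (h : G) : h * zz P eQ * h⁻¹ = zz P eQ := by
  have hmem : h * zz P eQ * h⁻¹ ∈ P := hPn.conj_mem _ (zz_mem P eQ) h
  have hsq : (h * zz P eQ * h⁻¹) * (h * zz P eQ * h⁻¹) = 1 := by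
    have : (h * zz P eQ * h⁻¹) * (h * zz P eQ * h⁻¹) = h * (zz P eQ * zz P eQ) * h⁻¹ := by group
    rw [this, zz_sq]; group
  rcases invol_mem P eQ _ hmem hsq with h1 | h1
  · exfalso
    apply zz_ne P eQ
    have : zz P eQ = h⁻¹ * (h * zz P eQ * h⁻¹) * h := by group
    rw [this, h1]; group
  · exact h1

theorem zz_comm (h : G) : h * zz P eQ = zz P eQ * h := by
  have := zz_conj P eQ h
  calc h * zz P eQ = (h * zz P eQ * h⁻¹) * h := by group
    _ = zz P eQ * h := by rw [this]

theorem mem_centralizer_iff' (hC : Subgroup.centralizer (P : Set G) ≤ P) (w : G) :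
    w ∈ Subgroup.centralizer (P : Set G) ↔ w = 1 ∨ w = zz P eQ := by
  constructor
  · intro hw
    have hwP : w ∈ P := hC hw
    have hw' := Subgroup.mem_centralizer_iff.mp hw
    have h1 : eQ ⟨w, hwP⟩ * a 1 = a 1 * eQ ⟨w, hwP⟩ := by
      have e : (⟨w, hwP⟩ : P) * eQ.symm (a 1) = eQ.symm (a 1) * ⟨w, hwP⟩ := by
        apply Subtype.ext
        exact (hw' _ (eQ.symm (a 1)).2).symm
      have := congrArg eQ e
      rwa [map_mul, map_mul, MulEquiv.apply_symm_apply] at this
    have h2 : eQ ⟨w, hwP⟩ * xa 0 = xa 0 * eQ ⟨w, hwP⟩ := by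
      have e : (⟨w, hwP⟩ : P) * eQ.symm (xa 0) = eQ.symm (xa 0) * ⟨w, hwP⟩ := by
        apply Subtype.ext
        exact (hw' _ (eQ.symm (xa 0)).2).symm
      have := congrArg eQ e
      rwa [map_mul, map_mul, MulEquiv.apply_symm_apply] at this
    rcases Cfsg.Agent.Lib.helper17.SD.q8_center _ h1 h2 with h | h
    · left
      have : (⟨w, hwP⟩ : P) = 1 := eQ.injective (by rw [h, map_one])
      exact congrArg Subtype.val this
    · right
      have : (⟨w, hwP⟩ : P) = eQ.symm (a 2) := by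
        apply eQ.injective; rw [h, MulEquiv.apply_symm_apply]
      exact congrArg Subtype.val this
  · rintro (rfl | rfl)
    · exact Subgroup.one_mem _
    · rw [Subgroup.mem_centralizer_iff]
      intro q _
      exact zz_comm P eQ q

theorem centralizer_eq (hC : Subgroup.centralizer (P : Set G) ≤ P) :
    Subgroup.centralizer (P : Set G) = Subgroup.zpowers (zz P eQ) := by
  ext w
  rw [mem_centralizer_iff' P eQ hC, mem_zpowers_of_sq _ (zz_sq P eQ)]

theorem center_eq (hC : Subgroup.centralizer (P : Set G) ≤ P) :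
    Subgroup.center G = Subgroup.zpowers (zz P eQ) := by
  apply le_antisymm
  · rw [← centralizer_eq P eQ hC]
    exact Subgroup.center_le_centralizer _
  · rw [Subgroup.zpowers_le, Subgroup.mem_center_iff]
    intro g
    exact zz_comm P eQ g

omit hPn in
theorem orderOf_zz : orderOf (zz P eQ) = 2 := by
  have : Fact (Nat.Prime 2) := ⟨Nat.prime_two⟩
  exact orderOf_eq_prime (by rw [pow_two]; exact zz_sq P eQ) (zz_ne P eQ)

theorem card_center (hC : Subgroup.centralizer (P : Set G) ≤ P) :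
    Nat.card (Subgroup.center G) = 2 := by
  rw [center_eq P eQ hC, Nat.card_zpowers, orderOf_zz]

/-- the map to `S₄` induced by the conjugation action on `P ≅ Q₈` -/
noncomputable def toS4 (φ : MulAut (QuaternionGroup 2) ≃* Perm (Fin 4)) : G →* Perm (Fin 4) :=
  φ.toMonoidHom.comp ((MulAut.congr eQ).toMonoidHom.comp (MulAut.conjNormal (H := P)))

theorem toS4_ker (φ : MulAut (QuaternionGroup 2) ≃* Perm (Fin 4)) :
    (toS4 P eQ φ).ker = Subgroup.centralizer (P : Set G) := by
  ext h
  rw [MonoidHom.mem_ker, Subgroup.mem_centralizer_iff]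
  constructor
  · intro hh q hq
    have h1 : (MulAut.congr eQ) (MulAut.conjNormal (H := P) h) = 1 := by
      apply φ.injective
      rw [map_one]
      exact hh
    have h2 : MulAut.conjNormal (H := P) h = 1 := by
      apply (MulAut.congr eQ).injective
      rw [h1, map_one]
    have h3 : MulAut.conjNormal (H := P) h ⟨q, hq⟩ = ⟨q, hq⟩ := by rw [h2]; rfl
    have h4 := congrArg Subtype.val h3
    rw [MulAut.conjNormal_apply] at h4
    have h5 : h * q * h⁻¹ = q := h4
    calc q * h = (h * q * h⁻¹) * h := by rw [h5]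
      _ = h * q := by group
  · intro hh
    have h2 : MulAut.conjNormal (H := P) h = 1 := by
      ext q
      rw [MulAut.conjNormal_apply]
      show h * q * h⁻¹ = q
      have := hh q q.2
      rw [← this]; group
    show φ ((MulAut.congr eQ) (MulAut.conjNormal (H := P) h)) = 1
    rw [h2, map_one, map_one]

theorem toS4_surjective [Finite G] (hC : Subgroup.centralizer (P : Set G) ≤ P)
    (hcard : Nat.card G = 48) (φ : MulAut (QuaternionGroup 2) ≃* Perm (Fin 4)) :
    Function.Surjective (toS4 P eQ φ) := by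
  have hk : Nat.card (toS4 P eQ φ).ker = 2 := by
    rw [toS4_ker, centralizer_eq P eQ hC, Nat.card_zpowers, orderOf_zz]
  have h1 := Subgroup.card_eq_card_quotient_mul_card_subgroup (toS4 P eQ φ).ker
  rw [hk, hcard, Nat.card_congr (QuotientGroup.quotientKerEquivRange (toS4 P eQ φ)).toEquiv] at h1
  have h2 : Nat.card (toS4 P eQ φ).range = 24 := by omega
  have h3 : Nat.card (Perm (Fin 4)) = 24 := by
    rw [Nat.card_eq_fintype_card, Fintype.card_perm, Fintype.card_fin]; rfl
  rw [← MonoidHom.range_eq_top]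
  apply (Subgroup.card_eq_iff_eq_top _).mp
  rw [h2, h3]

theorem quotient_center_iso [Finite G] (hC : Subgroup.centralizer (P : Set G) ≤ P)
    (hcard : Nat.card G = 48) : Nonempty (G ⧸ Subgroup.center G ≃* Perm (Fin 4)) := by
  obtain ⟨φ⟩ := Cfsg.Agent.S3742.result
  have hk : Subgroup.center G = (toS4 P eQ φ).ker := by
    rw [toS4_ker, centralizer_eq P eQ hC, center_eq P eQ hC]
  exact ⟨(QuotientGroup.quotientMulEquivOfEq hk).trans
    (QuotientGroup.quotientKerEquivOfSurjective _ (toS4_surjective P eQ hC hcard φ))⟩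

theorem sylow_card [Finite G] (hcard : Nat.card G = 48) (S : Sylow 2 G) :
    Nat.card (S : Subgroup G) = 16 := by
  have : Fact (Nat.Prime 2) := ⟨Nat.prime_two⟩
  obtain ⟨k, hk⟩ := IsPGroup.iff_card.mp S.isPGroup'
  have h1 := (S : Subgroup G).card_mul_index
  rw [hcard, hk] at h1
  have h2 : ¬ 2 ∣ (S : Subgroup G).index := S.not_dvd_index
  have hk6 : k < 6 := by
    by_contra hge
    push Not at hge
    have h3 : 2 ^ 6 ≤ 2 ^ k := Nat.pow_le_pow_right (by norm_num) hge
    have hpos : 0 < (S : Subgroup G).index := Nat.pos_of_ne_zero Subgroup.index_ne_zero_of_finite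
    nlinarith
  rw [hk]
  interval_cases k <;> norm_num at h1 ⊢ <;> omega

/-- **Case B**: if all involutions lie in `P`, the Sylow 2-subgroups are generalized quaternion of
order 16. -/
theorem sylow_iso_of_caseB [Finite G] (hcard : Nat.card G = 48)
    (hB : ∀ t : G, t * t = 1 → t ∈ P) (S : Sylow 2 G) :
    Nonempty (↥(S : Subgroup G) ≃* QuaternionGroup 4) := by
  have : Fact (Nat.Prime 2) := ⟨Nat.prime_two⟩
  have hPS : P ≤ S := (isPGroup_P P eQ).le_sylow_of_normal S
  have hS16 := sylow_card P eQ hcard S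
  set z' : ↥(S : Subgroup G) := ⟨zz P eQ, hPS (zz_mem P eQ)⟩ with hz'
  have hz1 : z' ≠ 1 := by
    intro h
    exact zz_ne P eQ (congrArg Subtype.val h)
  have hz2 : z' * z' = 1 := Subtype.ext (zz_sq P eQ)
  have huniq : ∀ u : ↥(S : Subgroup G), u * u = 1 → u = 1 ∨ u = z' := by
    intro u hu
    have hu' : (u : G) * u = 1 := congrArg Subtype.val hu
    rcases invol_mem P eQ _ (hB _ hu') hu' with h | h
    · left; exact Subtype.ext h
    · right; exact Subtype.ext h
  have hnab : ¬ ∀ g h : ↥(S : Subgroup G), g * h = h * g := by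
    intro hcomm
    have h1 := hcomm ⟨eQ.symm (a 1), hPS (eQ.symm (a 1)).2⟩ ⟨eQ.symm (xa 0), hPS (eQ.symm (xa 0)).2⟩
    have h2 : ((eQ.symm (a 1) : P) : G) * (eQ.symm (xa 0) : P) =
        ((eQ.symm (xa 0) : P) : G) * (eQ.symm (a 1) : P) := congrArg Subtype.val h1
    have h3 : (eQ.symm (a 1) : P) * eQ.symm (xa 0) = eQ.symm (xa 0) * eQ.symm (a 1) :=
      Subtype.ext h2
    have h4 := congrArg eQ h3
    rw [map_mul, map_mul, MulEquiv.apply_symm_apply, MulEquiv.apply_symm_apply] at h4
    exact q8_noncomm h4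
  obtain ⟨n, -, a', y, hao, -, hinv, hyy, hza, -, hcardS⟩ :=
    quaternion_structure S.isPGroup' z' hz1 hz2 huniq hnab
  have hn3 : n = 3 := by
    rw [hS16] at hcardS
    have h16 : (2 : ℕ) ^ 4 = 2 ^ (n + 1) := by rw [← hcardS]; norm_num
    have := Nat.pow_right_injective (le_refl 2) h16
    omega
  subst hn3
  obtain ⟨ψ, hψ, -, -⟩ := Cfsg.Agent.Lib.helper14.exists_quatHom 4 (by norm_num) a' y
    (by rw [hao]; norm_num) (by rw [hyy, ← hza]; norm_num) hinv
  have hbij : Function.Bijective ψ := by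
    rw [Nat.bijective_iff_injective_and_card]
    refine ⟨hψ, ?_⟩
    rw [hS16, Nat.card_eq_fintype_card, QuaternionGroup.card]
  exact ⟨(MulEquiv.ofBijective ψ hbij).symm⟩

/-- **Case A**: if some involution lies outside `P`, the group is `GL(2,3)`. -/
theorem iso_gl23_of_caseA [Finite G] (hC : Subgroup.centralizer (P : Set G) ≤ P)
    (hcard : Nat.card G = 48) (t : G) (ht : t * t = 1) (htP : t ∉ P) :
    Nonempty (G ≃* GL (Fin 2) (ZMod 3)) := by
  obtain ⟨φ⟩ := Cfsg.Agent.S3742.result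
  set Φ := toS4 P eQ φ with hΦ
  have hΦs : Function.Surjective Φ := toS4_surjective P eQ hC hcard φ
  have hker : ∀ h, Φ h = 1 ↔ h = 1 ∨ h = zz P eQ := by
    intro h
    rw [← MonoidHom.mem_ker, hΦ, toS4_ker, mem_centralizer_iff' P eQ hC]
  have hzP := zz_mem P eQ
  have hzsq := zz_sq P eQ
  have hzne := zz_ne P eQ
  have hzc := zz_comm P eQ
  set z := zz P eQ with hz
  have hidx : P.index = 6 := by
    have := P.card_mul_index
    rw [card_P P eQ, hcard] at this
    omega
  have h6 : ∀ h : G, h ^ 6 ∈ P := fun h => by rw [← hidx]; exact Subgroup.pow_index_mem P h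
  have hσ1 : Φ t * Φ t = 1 := by rw [← map_mul, ht, map_one]
  have hσ2 : Φ t ≠ 1 := by
    intro h
    rcases (hker t).mp h with h | h
    · exact htP (h ▸ P.one_mem)
    · exact htP (h ▸ hzP)
  have hσ3 : ∀ ν : Perm (Fin 4), ν * ν ≠ Φ t := by
    intro ν hν
    obtain ⟨h, rfl⟩ := hΦs ν
    have h1 : Φ (h * h * t⁻¹) = 1 := by
      rw [map_mul, map_mul, hν, map_inv, mul_inv_cancel]
    have h2 : h * h = t ∨ h * h = z * t := by
      rcases (hker _).mp h1 with h2 | h2
      · left
        calc h * h = (h * h * t⁻¹) * t := by group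
          _ = t := by rw [h2, one_mul]
      · right
        calc h * h = (h * h * t⁻¹) * t := by group
          _ = z * t := by rw [h2]
    have h4 : h ^ 4 = 1 := by
      have e : h ^ 4 = (h * h) * (h * h) := by
        simp only [pow_succ, pow_zero, one_mul, mul_assoc]
      rw [e]
      rcases h2 with h2 | h2
      · rw [h2, ht]
      · rw [h2]
        calc z * t * (z * t) = z * (t * z) * t := by group
          _ = z * (z * t) * t := by rw [hzc t]
          _ = (z * z) * (t * t) := by group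
          _ = 1 := by rw [hzsq, ht, one_mul]
    have h5 : h * h ∈ P := by
      have e : h * h = h ^ 6 * (h ^ 4)⁻¹ := by
        rw [show 6 = 2 + 4 by norm_num, pow_add, mul_inv_cancel_right, pow_two]
      rw [e, h4, inv_one, mul_one]
      exact h6 h
    rcases h2 with h2 | h2
    · exact htP (h2 ▸ h5)
    · apply htP
      have e : t = z⁻¹ * (h * h) := by rw [h2]; group
      rw [e]
      exact P.mul_mem (P.inv_mem hzP) h5
  obtain ⟨γ, hγ3, hγ1, hγinv⟩ := s4_inverts (Φ t) hσ1 hσ2 hσ3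
  obtain ⟨g, hg3, hgγ⟩ : ∃ g : G, g ^ 3 = 1 ∧ Φ g = γ := by
    obtain ⟨h, hh⟩ := hΦs γ
    have h1 : Φ (h ^ 3) = 1 := by
      rw [map_pow, hh, pow_succ, pow_two]
      exact hγ3
    rcases (hker _).mp h1 with h2 | h2
    · exact ⟨h, h2, hh⟩
    · refine ⟨h * z, ?_, ?_⟩
      · have hc : Commute h z := hzc h
        rw [hc.mul_pow, h2]
        calc z * z ^ 3 = (z * z) * (z * z) := by
              simp only [pow_succ, pow_zero, one_mul, mul_assoc]
          _ = 1 := by rw [hzsq, one_mul]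
      · rw [map_mul, hh, (hker z).mpr (Or.inr rfl), mul_one]
  have hinv : t * g * t⁻¹ = g⁻¹ := by
    have h1 : Φ (t * g * t⁻¹ * g) = 1 := by
      rw [map_mul, map_mul, map_mul, map_inv, hgγ, hγinv, inv_mul_cancel]
    rcases (hker _).mp h1 with h2 | h2
    · calc t * g * t⁻¹ = (t * g * t⁻¹ * g) * g⁻¹ := by group
        _ = g⁻¹ := by rw [h2, one_mul]
    · exfalso
      have h3 : t * g * t⁻¹ = z * g⁻¹ := by
        calc t * g * t⁻¹ = (t * g * t⁻¹ * g) * g⁻¹ := by group
          _ = z * g⁻¹ := by rw [h2]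
      have h4 : (t * g * t⁻¹) ^ 3 = 1 := by
        have e : (t * g * t⁻¹) ^ 3 = t * g ^ 3 * t⁻¹ := by
          simp only [pow_succ, pow_zero, one_mul, mul_assoc, inv_mul_cancel_left]
        rw [e, hg3]; group
      rw [h3] at h4
      have hc : Commute z g⁻¹ := (hzc g⁻¹).symm
      rw [hc.mul_pow, inv_pow, hg3, inv_one, mul_one] at h4
      apply hzne
      calc z = z ^ 3 * (z * z)⁻¹ := by
            rw [show 3 = 1 + 2 by norm_num, pow_add, pow_two, mul_inv_cancel_right, pow_one]
        _ = 1 := by rw [h4, hzsq]; group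
  -- the two involutions
  have hy : (t * g) * (t * g) = 1 := by
    calc (t * g) * (t * g) = (t * g * t⁻¹) * (t * t) * g := by group
      _ = 1 := by rw [hinv, ht]; group
  have hxy' : t * (t * g) = g := by rw [← mul_assoc, ht, one_mul]
  have hxy : (t * (t * g)) ^ 3 = 1 := by rw [hxy', hg3]
  set f₂ : DihedralGroup 3 →* G := Cfsg.Agent.Lib.Helper24.tiHom ht hy 3 hxy with hf₂
  have hf₂r : f₂ (DihedralGroup.r 1) = g := by
    rw [hf₂, Cfsg.Agent.Lib.Helper24.tiHom_r, tiPw_one', hxy']
  set ψ' : DihedralGroup 3 →* MulAut (QuaternionGroup 2) :=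
    (MulAut.congr eQ).toMonoidHom.comp ((MulAut.conjNormal (H := P)).comp f₂) with hψ'
  have hψ'1 : ψ' (DihedralGroup.r 1) ≠ 1 := by
    intro h
    apply hγ1
    rw [← hgγ, ← hf₂r]
    show φ (ψ' (DihedralGroup.r 1)) = 1
    rw [h, map_one]
  obtain ⟨β, hβ⟩ := conj_d3 φ ψ' psi0 hψ'1 psi0_r_one_ne
  set eQ' : P ≃* QuaternionGroup 2 := eQ.trans β with heQ'
  set f₁ : QuaternionGroup 2 →* G := P.subtype.comp eQ'.symm.toMonoidHom with hf₁
  have hf₁inj : Function.Injective f₁ := by
    intro u v huv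
    have : eQ'.symm u = eQ'.symm v := Subtype.ext huv
    exact eQ'.symm.injective this
  have compat : ∀ d q, f₁ (d3act d q) = f₂ d * f₁ q * (f₂ d)⁻¹ := by
    intro d q
    have h1 : d3act d q = (β * ψ' d * β⁻¹) q := by rw [hβ d]; rfl
    rw [h1]
    show ((eQ'.symm ((β * ψ' d * β⁻¹) q) : P) : G) = f₂ d * ((eQ'.symm q : P) : G) * (f₂ d)⁻¹
    have h2 : eQ'.symm ((β * ψ' d * β⁻¹) q) =
        MulAut.conjNormal (H := P) (f₂ d) (eQ'.symm q) := by
      apply eQ'.injective
      rw [MulEquiv.apply_symm_apply]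
      show β (ψ' d (β⁻¹ q)) = β (eQ (MulAut.conjNormal (H := P) (f₂ d) (eQ'.symm q)))
      congr 1
    rw [h2, MulAut.conjNormal_apply]
  obtain ⟨Ψ, hΨ, -, -⟩ := lift_of_compat f₁ f₂ hf₁inj compat
  have : Finite Model := Nat.finite_of_card_ne_zero (by rw [card_Model]; norm_num)
  have hbij : Function.Bijective Ψ := by
    rw [Nat.bijective_iff_injective_and_card]
    exact ⟨hΨ, by rw [card_Model, hcard]⟩
  obtain ⟨e⟩ := model_iso
  exact ⟨(MulEquiv.ofBijective Ψ hbij).symm.trans e⟩

end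

end Cfsg.Agent.Lib.Helper19.Ord48
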