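import Mathlib
import Cfsg.Agent.Lib.Helper19.Ord48
import Cfsg.Agent.Lib.Helper19.GenQuat
import Cfsg.Agent.Lib.helper17.SD5
import Cfsg.Agent.Lib.Helper1.CFitting
import Cfsg.Agent.Lib.Helper1.Cores
import Cfsg.Agent.Lib.Helper9.Rank

set_option autoImplicit false

/-!
# Solvable groups with `O(G) = 1` whose Sylow 2-intersections have rank at most one
-/

namespace Cfsg.Agent.Lib.Helper19.RankOneCore

open QuaternionGroup Equiv Cfsg.Agent.Lib.Helper19 Cfsg.Agent.Lib.Helper1 Cfsg.Agent.Lib.Helper9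
  Cfsg.Agent.Lib.Helper19.Ord48

/-- a nontrivial finite 2-group of 2-rank at most one has a unique involution -/
theorem exists_unique_invol_of_rank_one {X : Type*} [Group X] [Finite X] [Nontrivial X]
    (hX : IsPGroup 2 X) (hr : Cfsg.PRankLE 2 1 X) :
    ∃ z : X, z ≠ 1 ∧ z * z = 1 ∧ ∀ u : X, u * u = 1 → u = 1 ∨ u = z := by
  classical
  have : Fact (Nat.Prime 2) := ⟨Nat.prime_two⟩
  have hcn : Nontrivial (Subgroup.center X) := hX.center_nontrivial
  have h2 : 2 ∣ Nat.card (Subgroup.center X) := by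
    obtain ⟨j, hj⟩ := IsPGroup.iff_card.mp (hX.to_subgroup (Subgroup.center X))
    rw [hj]
    rcases Nat.eq_zero_or_pos j with h0 | h0
    · rw [h0, pow_zero] at hj
      have := Finite.one_lt_card (α := Subgroup.center X)
      omega
    · exact dvd_pow_self 2 h0.ne'
  obtain ⟨z₀, hz₀⟩ := exists_prime_orderOf_dvd_card' (G := Subgroup.center X) 2 h2
  have hz2 : (z₀ : X) * z₀ = 1 := by
    have : z₀ ^ 2 = 1 := by rw [← hz₀, pow_orderOf_eq_one]
    rw [pow_two] at this
    exact congrArg Subtype.val this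
  have hz1 : (z₀ : X) ≠ 1 := by
    intro h
    have : z₀ = 1 := Subtype.ext h
    rw [this, orderOf_one] at hz₀
    omega
  have hzc : ∀ x : X, x * z₀ = z₀ * x := fun x => Subgroup.mem_center_iff.mp z₀.2 x
  refine ⟨z₀, hz1, hz2, ?_⟩
  intro u hu
  by_contra hcon
  push Not at hcon
  obtain ⟨hu1, huz⟩ := hcon
  set A : Subgroup X := Subgroup.closure {(z₀ : X), u} with hA
  have hAc : IsMulCommutative A := by
    apply Subgroup.isMulCommutative_closure
    intro x hx y hy
    rcases hx with rfl | hx <;> rcases hy with rfl | hy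
    · rfl
    · rw [Set.mem_singleton_iff] at hy; subst hy; exact (hzc y).symm
    · rw [Set.mem_singleton_iff] at hx; subst hx; exact hzc x
    · rw [Set.mem_singleton_iff] at hx hy; subst hx; subst hy; rfl
  have hAe : ∀ x ∈ A, x ^ 2 = 1 := by
    intro x hx
    induction hx using Subgroup.closure_induction with
    | mem x hx =>
      rcases hx with rfl | hx
      · rw [pow_two]; exact hz2
      · rw [Set.mem_singleton_iff] at hx; subst hx; rw [pow_two]; exact hu
    | one => exact one_pow 2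
    | mul x y hx hy ihx ihy =>
      have hc : Commute x y := by
        have := hAc.is_comm.comm ⟨x, hx⟩ ⟨y, hy⟩
        exact congrArg Subtype.val this
      rw [hc.mul_pow, ihx, ihy, one_mul]
    | inv x _ ihx => rw [inv_pow, ihx, inv_one]
  have hcard := hr A hAc hAe
  have hsub : ({1, (z₀ : X), u} : Set X) ⊆ (A : Set X) := by
    intro x hx
    rcases hx with rfl | rfl | hx
    · exact A.one_mem
    · exact Subgroup.subset_closure (Set.mem_insert _ _)
    · rw [Set.mem_singleton_iff] at hx; subst hx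
      exact Subgroup.subset_closure (Set.mem_insert_of_mem _ rfl)
  have h3 : ({1, (z₀ : X), u} : Set X).ncard = 3 :=
    Set.ncard_eq_three.mpr ⟨1, z₀, u, hz1.symm, hu1.symm, fun h => huz h.symm, rfl⟩
  have h4 := Set.ncard_le_ncard hsub (Set.toFinite _)
  rw [h3, ← Nat.card_coe_set_eq] at h4
  have h5 : Nat.card A = Nat.card ((A : Set X)) := rfl
  omega

/-- the structure of `O₂(G)` and the order of `G` -/
theorem q8_core {G : Type*} [Group G] [Finite G] (hsol : Group.IsSolvable G)
    (hO : Cfsg.oddCore G = ⊥)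
    (hI : ∀ S T : Sylow 2 G, S ≠ T → Cfsg.PRankLE 2 1 ↥((S : Subgroup G) ⊓ (T : Subgroup G)))
    (hN : ¬ ∃ S : Sylow 2 G, (S : Subgroup G).Normal) :
    Nonempty (↥(Cfsg.pCore 2 G) ≃* QuaternionGroup 2) ∧ Nat.card G = 48 := by
  classical
  have : Fact (Nat.Prime 2) := ⟨Nat.prime_two⟩
  have := hsol
  have hQn : (Cfsg.pCore 2 G).Normal := Cfsg.Agent.Lib.Helper1.pCore_normal (G := G) 2
  have hQp : IsPGroup 2 ↥(Cfsg.pCore 2 G) :=
    Cfsg.Agent.Lib.Helper1.pCore_isPGroup (G := G) 2
  have hCQ : Subgroup.centralizer (Cfsg.pCore 2 G : Set G) ≤ Cfsg.pCore 2 G :=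
    Cfsg.Agent.Lib.Helper1.centralizer_pCore_le 2 hO
  obtain ⟨S, T, hST⟩ : ∃ S T : Sylow 2 G, S ≠ T := by
    by_contra hcon
    push Not at hcon
    have : Subsingleton (Sylow 2 G) := ⟨hcon⟩
    obtain ⟨S⟩ := (inferInstance : Nonempty (Sylow 2 G))
    exact hN ⟨S, Sylow.normal_of_subsingleton S⟩
  have hQS : Cfsg.pCore 2 G ≤ (S : Subgroup G) := Cfsg.Agent.Lib.Helper1.pCore_le_sylow 2 S
  have hQST : Cfsg.pCore 2 G ≤ (S : Subgroup G) ⊓ (T : Subgroup G) :=
    le_inf hQS (Cfsg.Agent.Lib.Helper1.pCore_le_sylow 2 T)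
  have hrank : Cfsg.PRankLE 2 1 ↥(Cfsg.pCore 2 G) := pRankLE_of_le hQST (hI S T hST)
  have hQneS : Cfsg.pCore 2 G ≠ (S : Subgroup G) := by
    intro h
    exact hN ⟨S, h ▸ hQn⟩
  generalize Cfsg.pCore 2 G = Q at hQn hQp hCQ hQS hrank hQneS
  -- an element of odd prime order
  have hSne : (S : Subgroup G) ≠ ⊤ := by
    intro h
    apply hN ⟨S, ?_⟩
    rw [h]; infer_instance
  have hidx1 : (S : Subgroup G).index ≠ 1 := fun h => hSne (Subgroup.index_eq_one.mp h)
  obtain ⟨r, hr, hrdvd⟩ := Nat.exists_prime_and_dvd hidx1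
  have hr2 : r ≠ 2 := by
    rintro rfl
    exact S.not_dvd_index hrdvd
  have hfr : Fact r.Prime := ⟨hr⟩
  obtain ⟨g, hg⟩ := exists_prime_orderOf_dvd_card' r
    (hrdvd.trans (Subgroup.index_dvd_card (S : Subgroup G)))
  have hodd : (orderOf g).Coprime 2 := by
    rw [hg]; exact (Nat.coprime_primes hr Nat.prime_two).mpr hr2
  have hroddN : Odd r := hr.odd_of_ne_two hr2
  have hgr : g ^ r = 1 := by rw [← hg]; exact pow_orderOf_eq_one g
  have hgQ : g ∈ Subgroup.normalizer (Q : Set G) := by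
    rw [Subgroup.normalizer_eq_top_iff.mpr hQn]; exact Subgroup.mem_top _
  have hodd_in_Q : ∀ h : G, (orderOf h).Coprime 2 → h ∈ Q → h = 1 := by
    intro h hc hh
    obtain ⟨j, hj⟩ := hQp ⟨h, hh⟩
    have hj' : h ^ 2 ^ j = 1 := by
      have := congrArg Subtype.val hj
      simpa using this
    have h1 := orderOf_dvd_of_pow_eq_one hj'
    have h2 : (orderOf h).Coprime (2 ^ j) := Nat.Coprime.pow_right j hc
    have h3 : orderOf h = 1 := Nat.Coprime.eq_one_of_dvd h2 h1
    exact orderOf_eq_one_iff.mp h3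
  have hgC : g ∉ Subgroup.centralizer (Q : Set G) := by
    intro h
    have h1 := hodd_in_Q g hodd (hCQ h)
    rw [h1, orderOf_one] at hg
    exact hr.one_lt.ne hg
  have hcent_of_conj : (∀ q ∈ Q, g * q * g⁻¹ = q) → False := by
    intro h
    apply hgC
    rw [Subgroup.mem_centralizer_iff]
    intro q hq
    have := h q hq
    calc q * g = (g * q * g⁻¹) * g := by rw [this]
      _ = g * q := by group
  have hQnt : Nontrivial ↥Q := by
    rw [Subgroup.nontrivial_iff_ne_bot]
    intro h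
    apply hcent_of_conj
    intro q hq
    rw [h, Subgroup.mem_bot] at hq
    rw [hq]; group
  obtain ⟨z, hz1, hz2, huniq⟩ := exists_unique_invol_of_rank_one hQp hrank
  by_cases hQab : ∀ u v : ↥Q, u * v = v * u
  · -- cyclic case
    exfalso
    obtain ⟨c', -, hc'⟩ := cyclic_of_comm_unique_involution hQp z huniq ⊤
      (fun u _ v _ => hQab u v)
    have hQc : ∀ q ∈ Q, q ∈ Subgroup.zpowers (c' : G) := by
      intro q hq
      have h1 : (⟨q, hq⟩ : ↥Q) ∈ (⊤ : Subgroup ↥Q) := Subgroup.mem_top _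
      rw [hc'] at h1
      obtain ⟨i, hi⟩ := Subgroup.mem_zpowers_iff.mp h1
      rw [Subgroup.mem_zpowers_iff]
      refine ⟨i, ?_⟩
      have := congrArg Subtype.val hi
      simpa using this
    obtain ⟨k, hk⟩ := (IsPGroup.iff_orderOf.mp hQp) c'
    have hk' : orderOf (c' : G) = 2 ^ k := by rw [Subgroup.orderOf_coe]; exact hk
    have h1 : g * (c' : G) * g⁻¹ = (c' : G) :=
      conj_eq_of_odd_of_mem_zpowers g _ k hk' (hQc _ (hQn.conj_mem _ c'.2 g)) r hroddN
        (by rw [hgr]; group)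
    apply hcent_of_conj
    intro q hq
    obtain ⟨i, rfl⟩ := Subgroup.mem_zpowers_iff.mp (hQc q hq)
    rw [← conj_zpow, h1]
  · obtain ⟨n, hn2, a', y', hao, hyA, hinv, hyy, hza, hcov, hQc⟩ :=
      quaternion_structure hQp z hz1 hz2 huniq hQab
    have hmemz : ∀ q : ↥Q, q ∈ Subgroup.zpowers a' ↔ (q : G) ∈ Subgroup.zpowers (a' : G) := by
      intro q
      rw [Subgroup.mem_zpowers_iff, Subgroup.mem_zpowers_iff]
      constructor
      · rintro ⟨i, hi⟩
        exact ⟨i, by rw [← hi]; simp⟩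
      · rintro ⟨i, hi⟩
        exact ⟨i, Subtype.ext (by rw [← hi]; simp)⟩
    by_cases hn3 : 3 ≤ n
    · exfalso
      apply hcent_of_conj
      apply centralizes_genQuat_of_odd Q (a' : G) (y' : G) (z : G) n hn3
        (by rw [Subgroup.orderOf_coe]; exact hao)
        (fun h => hyA ((hmemz y').mpr h))
        (by have := congrArg Subtype.val hinv; simpa using this)
        (congrArg Subtype.val hyy)
        (by have := congrArg Subtype.val hza; simpa using this)
        a'.2 y'.2 ?_ g (fun q hq => hQn.conj_mem q hq g) r hroddN hgr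
      intro q hq
      rcases hcov ⟨q, hq⟩ with h | h
      · left; exact (hmemz _).mp h
      · right
        have := (hmemz _).mp h
        simpa using this
    · have hn : n = 2 := by omega
      subst hn
      have hQ8 : Nat.card ↥Q = 8 := by rw [hQc]; norm_num
      obtain ⟨ψ, hψ, -, -⟩ := Cfsg.Agent.Lib.helper14.exists_quatHom 2 (by norm_num) a' y'
        (by rw [hao]; norm_num) (by rw [hyy, ← hza]; norm_num) hinv
      have hbij : Function.Bijective ψ := by
        rw [Nat.bijective_iff_injective_and_card]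
        refine ⟨hψ, ?_⟩
        rw [hQ8, Nat.card_eq_fintype_card, QuaternionGroup.card]
      set eQ : ↥Q ≃* QuaternionGroup 2 := (MulEquiv.ofBijective ψ hbij).symm with heQ
      refine ⟨⟨eQ⟩, ?_⟩
      have h48 := Cfsg.Agent.Lib.helper17.SD.card_le_48 Q hQn eQ hCQ
      have hg3 : g ^ 3 = 1 := by
        apply hodd_in_Q
        · exact Nat.Coprime.coprime_dvd_left (orderOf_pow_dvd 3) hodd
        · exact hCQ (Cfsg.Agent.Lib.helper17.SD.pow_three_mem_centralizer Q eQ g hgQ hodd)
      have h3 : 3 ∣ Nat.card G := by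
        have h1 := orderOf_dvd_of_pow_eq_one hg3
        rw [hg] at h1
        have hr3 : r = 3 := (Nat.prime_dvd_prime_iff_eq hr Nat.prime_three).mp h1
        rw [← hr3, ← hg]
        exact orderOf_dvd_natCard g
      have h16 : 16 ∣ Nat.card G := by
        obtain ⟨k, hk⟩ := IsPGroup.iff_card.mp S.isPGroup'
        have hlt : 8 < 2 ^ k := by
          by_contra hle
          push Not at hle
          apply hQneS
          apply Subgroup.eq_of_le_of_card_ge hQS
          rw [hQ8, hk]; exact hle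
        have hk4 : 4 ≤ k := by
          by_contra hlt4
          push Not at hlt4
          have : 2 ^ k ≤ 2 ^ 3 := Nat.pow_le_pow_right (by norm_num) (by omega)
          omega
        have h1 : 2 ^ 4 ∣ 2 ^ k := pow_dvd_pow 2 hk4
        have h2 : 2 ^ k ∣ Nat.card G := by rw [← hk]; exact Subgroup.card_subgroup_dvd_card _
        exact (by norm_num : (16 : ℕ) = 2 ^ 4) ▸ h1.trans h2
      have h48' : 48 ∣ Nat.card G := by
        have := Nat.Coprime.mul_dvd_of_dvd_of_dvd (by norm_num : Nat.Coprime 16 3) h16 h3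
        exact this
      have hpos : 0 < Nat.card G := Nat.card_pos
      have := Nat.le_of_dvd hpos h48'
      omega

/-- the classification for groups with trivial odd core -/
theorem core_free_main {G : Type*} [Group G] [Finite G] (hsol : Group.IsSolvable G)
    (hO : Cfsg.oddCore G = ⊥)
    (hI : ∀ S T : Sylow 2 G, S ≠ T → Cfsg.PRankLE 2 1 ↥((S : Subgroup G) ⊓ (T : Subgroup G))) :
    (∃ P : Sylow 2 G, (P : Subgroup G).Normal) ∨ Nonempty (G ≃* GL (Fin 2) (ZMod 3)) ∨
    (Nat.card G = 48 ∧ Nat.card ↥(Subgroup.center G) = 2 ∧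
      Nonempty (G ⧸ Subgroup.center G ≃* Equiv.Perm (Fin 4)) ∧
      ∀ P : Sylow 2 G, Nonempty (↥(P : Subgroup G) ≃* QuaternionGroup 4)) := by
  have : Fact (Nat.Prime 2) := ⟨Nat.prime_two⟩
  have := hsol
  by_cases hN : ∃ S : Sylow 2 G, (S : Subgroup G).Normal
  · left; exact hN
  · right
    obtain ⟨⟨eQ⟩, hcard⟩ := q8_core hsol hO hI hN
    have hQn : (Cfsg.pCore 2 G).Normal := Cfsg.Agent.Lib.Helper1.pCore_normal (G := G) 2
    have hCQ : Subgroup.centralizer (Cfsg.pCore 2 G : Set G) ≤ Cfsg.pCore 2 G :=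
      Cfsg.Agent.Lib.Helper1.centralizer_pCore_le 2 hO
    by_cases hA : ∃ t : G, t * t = 1 ∧ t ∉ Cfsg.pCore 2 G
    · left
      obtain ⟨t, ht, htP⟩ := hA
      exact iso_gl23_of_caseA _ eQ hCQ hcard t ht htP
    · right
      push Not at hA
      exact ⟨hcard, card_center _ eQ hCQ, quotient_center_iso _ eQ hCQ hcard,
        sylow_iso_of_caseB _ eQ hcard hA⟩

end Cfsg.Agent.Lib.Helper19.RankOneCore
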