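import Mathlib

set_option autoImplicit false

/-!
# The metacyclic presentation `⟨x, y | xⁿ, yᵐ, x⁻¹ y x = yʳ⟩`

The presented group has at most `n * m` elements; a group of order `n * m` generated by two elements
satisfying the relations is isomorphic to it.
-/

namespace Cfsg.Agent.Lib.Helper19.MetaPres

/-- the relators -/
abbrev relsM (n m r : ℕ) : Set (FreeGroup (Fin 2)) :=
  {FreeGroup.of (0 : Fin 2) ^ n, FreeGroup.of (1 : Fin 2) ^ m,
    (FreeGroup.of (0 : Fin 2))⁻¹ * FreeGroup.of 1 * FreeGroup.of 0 * (FreeGroup.of (1 : Fin 2) ^ r)⁻¹}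

/-- the presented group -/
abbrev PM (n m r : ℕ) := PresentedGroup (relsM n m r)

variable (n m r : ℕ)

def X : PM n m r := PresentedGroup.of 0
def Y : PM n m r := PresentedGroup.of 1

theorem X_pow : X n m r ^ n = 1 := by
  have h : (FreeGroup.of (0 : Fin 2) ^ n : FreeGroup (Fin 2)) ∈ relsM n m r := by simp [relsM]
  have := PresentedGroup.one_of_mem h
  rw [map_pow] at this
  exact this

theorem Y_pow : Y n m r ^ m = 1 := by
  have h : (FreeGroup.of (1 : Fin 2) ^ m : FreeGroup (Fin 2)) ∈ relsM n m r := by simp [relsM]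
  have := PresentedGroup.one_of_mem h
  rw [map_pow] at this
  exact this

theorem conj_XY : (X n m r)⁻¹ * Y n m r * X n m r = Y n m r ^ r := by
  have h : ((FreeGroup.of (0 : Fin 2))⁻¹ * FreeGroup.of 1 * FreeGroup.of 0 *
      (FreeGroup.of (1 : Fin 2) ^ r)⁻¹ : FreeGroup (Fin 2)) ∈ relsM n m r := by simp [relsM]
  have h1 := PresentedGroup.one_of_mem h
  rw [map_mul, map_mul, map_mul, map_inv, map_inv, map_pow] at h1
  have h2 : (X n m r)⁻¹ * Y n m r * X n m r * (Y n m r ^ r)⁻¹ = 1 := h1
  exact mul_inv_eq_one.mp h2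

/-- every element is `X ^ i * Y ^ j` -/
theorem normal_form (hn : 0 < n) (hm : 0 < m) (p : PM n m r) :
    ∃ i j : ℕ, p = X n m r ^ i * Y n m r ^ j := by
  have hY : ∀ q : PM n m r, (∃ i j : ℕ, q = X n m r ^ i * Y n m r ^ j) →
      ∃ i j : ℕ, q * Y n m r = X n m r ^ i * Y n m r ^ j := by
    rintro q ⟨i, j, rfl⟩
    exact ⟨i, j + 1, by rw [pow_succ, mul_assoc]⟩
  have hX : ∀ q : PM n m r, (∃ i j : ℕ, q = X n m r ^ i * Y n m r ^ j) →
      ∃ i j : ℕ, q * X n m r = X n m r ^ i * Y n m r ^ j := by
    rintro q ⟨i, j, rfl⟩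
    refine ⟨i + 1, r * j, ?_⟩
    have h1 : (X n m r)⁻¹ * Y n m r ^ j * X n m r = (Y n m r ^ r) ^ j := by
      have := conj_pow (a := (X n m r)⁻¹) (b := Y n m r) (i := j)
      rw [inv_inv] at this
      rw [← this, conj_XY]
    calc X n m r ^ i * Y n m r ^ j * X n m r
        = X n m r ^ i * X n m r * ((X n m r)⁻¹ * Y n m r ^ j * X n m r) := by group
      _ = X n m r ^ (i + 1) * Y n m r ^ (r * j) := by rw [h1, ← pow_succ, ← pow_mul]
  have hYk : ∀ k : ℕ, ∀ q : PM n m r, (∃ i j : ℕ, q = X n m r ^ i * Y n m r ^ j) →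
      ∃ i j : ℕ, q * Y n m r ^ k = X n m r ^ i * Y n m r ^ j := by
    intro k
    induction k with
    | zero => intro q hq; rw [pow_zero, mul_one]; exact hq
    | succ k ih =>
      intro q hq
      rw [pow_succ, ← mul_assoc]
      exact hY _ (ih q hq)
  have hXk : ∀ k : ℕ, ∀ q : PM n m r, (∃ i j : ℕ, q = X n m r ^ i * Y n m r ^ j) →
      ∃ i j : ℕ, q * X n m r ^ k = X n m r ^ i * Y n m r ^ j := by
    intro k
    induction k with
    | zero => intro q hq; rw [pow_zero, mul_one]; exact hq
    | succ k ih =>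
      intro q hq
      rw [pow_succ, ← mul_assoc]
      exact hX _ (ih q hq)
  have hXinv : (X n m r)⁻¹ = X n m r ^ (n - 1) := by
    have h := X_pow n m r
    have h' : X n m r ^ (n - 1) * X n m r = 1 := by
      rw [← pow_succ, Nat.sub_add_cancel hn]; exact h
    exact inv_eq_of_mul_eq_one_left h'
  have hYinv : (Y n m r)⁻¹ = Y n m r ^ (m - 1) := by
    have h := Y_pow n m r
    have h' : Y n m r ^ (m - 1) * Y n m r = 1 := by
      rw [← pow_succ, Nat.sub_add_cancel hm]; exact h
    exact inv_eq_of_mul_eq_one_left h'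
  have key : ∀ p q : PM n m r, (∃ i j : ℕ, q = X n m r ^ i * Y n m r ^ j) →
      ∃ i j : ℕ, q * p = X n m r ^ i * Y n m r ^ j := by
    intro p
    induction p using PresentedGroup.induction_on with
    | H z =>
      induction z using FreeGroup.induction_on with
      | C1 => intro q hq; rw [map_one, mul_one]; exact hq
      | of i =>
        intro q hq
        fin_cases i
        · exact hX q hq
        · exact hY q hq
      | inv_of i _ =>
        intro q hq
        fin_cases i
        · have : (PresentedGroup.mk (relsM n m r)) (FreeGroup.of (0 : Fin 2))⁻¹ = (X n m r)⁻¹ := by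
            rw [map_inv]; rfl
          show ∃ i j : ℕ, q * (PresentedGroup.mk (relsM n m r)) (FreeGroup.of (0 : Fin 2))⁻¹ = _
          rw [this, hXinv]
          exact hXk _ q hq
        · have : (PresentedGroup.mk (relsM n m r)) (FreeGroup.of (1 : Fin 2))⁻¹ = (Y n m r)⁻¹ := by
            rw [map_inv]; rfl
          show ∃ i j : ℕ, q * (PresentedGroup.mk (relsM n m r)) (FreeGroup.of (1 : Fin 2))⁻¹ = _
          rw [this, hYinv]
          exact hYk _ q hq
      | mul a b ha hb =>
        intro q hq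
        rw [map_mul, ← mul_assoc]
        exact hb _ (ha _ hq)
  have := key p 1 ⟨0, 0, by simp⟩
  rwa [one_mul] at this

/-- the enumeration map -/
def enum (x : Fin n × Fin m) : PM n m r := X n m r ^ (x.1 : ℕ) * Y n m r ^ (x.2 : ℕ)

theorem enum_surjective (hn : 0 < n) (hm : 0 < m) : Function.Surjective (enum n m r) := by
  intro p
  obtain ⟨i, j, rfl⟩ := normal_form n m r hn hm p
  refine ⟨(⟨i % n, Nat.mod_lt _ hn⟩, ⟨j % m, Nat.mod_lt _ hm⟩), ?_⟩
  show X n m r ^ (i % n) * Y n m r ^ (j % m) = _
  rw [← pow_eq_pow_mod i (X_pow n m r), ← pow_eq_pow_mod j (Y_pow n m r)]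

theorem finite_PM (hn : 0 < n) (hm : 0 < m) : Finite (PM n m r) :=
  Finite.of_surjective (enum n m r) (enum_surjective n m r hn hm)

theorem card_le (hn : 0 < n) (hm : 0 < m) : Nat.card (PM n m r) ≤ n * m := by
  have := Nat.card_le_card_of_surjective (enum n m r) (enum_surjective n m r hn hm)
  simpa using this

/-- a group of order `n * m` generated by `x, y` with the relations is the presented group -/
theorem iso_of_relations {Γ : Type*} [Group Γ] [Finite Γ] (x y : Γ) (hn : 0 < n) (hm : 0 < m)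
    (hx : x ^ n = 1) (hy : y ^ m = 1) (hconj : x⁻¹ * y * x = y ^ r)
    (hgen : Subgroup.closure {x, y} = ⊤) (hcard : Nat.card Γ = n * m) :
    Nonempty (Γ ≃* PM n m r) := by
  have hrel : ∀ w ∈ relsM n m r, FreeGroup.lift ![x, y] w = 1 := by
    intro w hw
    rcases hw with rfl | rfl | hw
    · simp [hx]
    · simp [hy]
    · rw [Set.mem_singleton_iff] at hw
      subst hw
      simp [hconj]
  set F : PM n m r →* Γ := PresentedGroup.toGroup hrel with hF
  have hFx : F (X n m r) = x := by
    show PresentedGroup.toGroup hrel (PresentedGroup.of 0) = x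
    rw [PresentedGroup.toGroup.of]; rfl
  have hFy : F (Y n m r) = y := by
    show PresentedGroup.toGroup hrel (PresentedGroup.of 1) = y
    rw [PresentedGroup.toGroup.of]; rfl
  have hsurj : Function.Surjective F := by
    rw [← MonoidHom.range_eq_top, eq_top_iff, ← hgen, Subgroup.closure_le]
    intro g hg
    rcases hg with rfl | hg
    · exact ⟨X n m r, hFx⟩
    · rw [Set.mem_singleton_iff] at hg
      subst hg
      exact ⟨Y n m r, hFy⟩
  have := finite_PM n m r hn hm
  have h1 := card_le n m r hn hm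
  have h2 := Nat.card_le_card_of_surjective F hsurj
  have hbij : Function.Bijective F := by
    rw [Nat.bijective_iff_surjective_and_card]
    exact ⟨hsurj, by omega⟩
  exact ⟨(MulEquiv.ofBijective F hbij).symm⟩

end Cfsg.Agent.Lib.Helper19.MetaPres
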