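import Mathlib
import Cfsg.Agent.S3379
import Cfsg.Agent.Lib.Helper19.MetaPres
import Cfsg.Agent.Lib.Helper1.FrobCenter

set_option autoImplicit false

/-!
# Z-groups in which subgroups of order `pq` are cyclic: the metacyclic presentation
-/

namespace Cfsg.Agent.Lib.Helper19.ZGroupPres

open Finset Cfsg.Agent.Lib.Helper19.MetaPres

theorem geom_modEq (q s : ℕ) (hs : s ≡ 1 [MOD q]) (k : ℕ) : ∑ i ∈ range k, s ^ i ≡ k [MOD q] := by
  induction k with
  | zero => simp; rfl
  | succ k ih =>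
    rw [sum_range_succ]
    have h1 : s ^ k ≡ 1 [MOD q] := by
      have := hs.pow k
      rwa [one_pow] at this
    exact ih.add h1

/-- if `s ^ p ≡ 1 (mod m)` with `p ∤ m` prime and `s ≡ 1` modulo every prime divisor of `m`, then
`s ≡ 1 (mod m)` -/
theorem modEq_one_of_pow (m s p : ℕ) (hp : p.Prime) (hpm : ¬ p ∣ m)
    (hs : ∀ q : ℕ, q.Prime → q ∣ m → s ≡ 1 [MOD q]) (hsp : s ^ p ≡ 1 [MOD m]) :
    s ≡ 1 [MOD m] := by
  have hcop : Nat.Coprime m (∑ i ∈ range p, s ^ i) := by
    by_contra hnc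
    obtain ⟨q, hq, hqm, hqS⟩ := Nat.Prime.not_coprime_iff_dvd.mp hnc
    have h1 := geom_modEq q s (hs q hq hqm) p
    have h2 : q ∣ p := by
      have h3 : (∑ i ∈ range p, s ^ i) % q = 0 := Nat.mod_eq_zero_of_dvd hqS
      have h4 : p % q = 0 := by rw [← h1, h3]
      exact Nat.dvd_of_mod_eq_zero h4
    have h5 : q = p := (Nat.prime_dvd_prime_iff_eq hq hp).mp h2
    exact hpm (h5 ▸ hqm)
  have h1 : (m : ℤ) ∣ (1 : ℤ) - (s : ℤ) ^ p := by
    have := (Nat.modEq_iff_dvd).mp hsp
    simpa using this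
  have h2 : ((∑ i ∈ range p, (s : ℤ) ^ i)) * ((s : ℤ) - 1) = (s : ℤ) ^ p - 1 := geom_sum_mul _ _
  have h3 : (m : ℤ) ∣ ((s : ℤ) - 1) * (∑ i ∈ range p, (s : ℤ) ^ i) := by
    rw [mul_comm, h2]
    have : (s : ℤ) ^ p - 1 = -((1 : ℤ) - (s : ℤ) ^ p) := by ring
    rw [this]
    exact (dvd_neg).mpr h1
  have hcopZ : IsCoprime (m : ℤ) (∑ i ∈ range p, (s : ℤ) ^ i) := by
    have : (∑ i ∈ range p, (s : ℤ) ^ i) = ((∑ i ∈ range p, s ^ i : ℕ) : ℤ) := by push_cast; rfl
    rw [this]
    exact Nat.isCoprime_iff_coprime.mpr hcop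
  have h4 : (m : ℤ) ∣ (s : ℤ) - 1 := hcopZ.dvd_of_dvd_mul_right h3
  apply (Nat.modEq_iff_dvd).mpr
  have : ((1 : ℕ) : ℤ) - (s : ℤ) = -((s : ℤ) - 1) := by push_cast; ring
  rw [this]
  exact (dvd_neg).mpr h4

/-- arithmetic: if `o ∣ n / p` for all primes `p ∣ n` then `o ∣ n / rad n` -/
theorem dvd_div_rad (n o : ℕ) (hn : 0 < n) (ho : o ∣ n)
    (h : ∀ p ∈ n.primeFactors, o ∣ n / p) : o ∣ n / ∏ p ∈ n.primeFactors, p := by
  obtain ⟨t, ht⟩ := ho
  have ho0 : 0 < o := by
    rcases Nat.eq_zero_or_pos o with h0 | h0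
    · rw [h0, zero_mul] at ht; omega
    · exact h0
  have hpt : ∀ p ∈ n.primeFactors, p ∣ t := by
    intro p hp
    have hpp := Nat.prime_of_mem_primeFactors hp
    have hpn := Nat.dvd_of_mem_primeFactors hp
    obtain ⟨c, hc⟩ := h p hp
    have h1 : n = p * (n / p) := (Nat.mul_div_cancel' hpn).symm
    rw [hc] at h1
    have h2 : o * t = o * (p * c) := by rw [← ht, h1]; ring
    have h3 : t = p * c := Nat.eq_of_mul_eq_mul_left ho0 h2
    exact ⟨c, h3⟩
  have hrad : ∏ p ∈ n.primeFactors, p ∣ t := by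
    apply Finset.prod_primes_dvd
    · intro p hp
      exact Nat.prime_iff.mp (Nat.prime_of_mem_primeFactors hp)
    · exact hpt
  obtain ⟨w, hw⟩ := hrad
  have hradpos : 0 < ∏ p ∈ n.primeFactors, p := by
    apply Finset.prod_pos
    intro p hp
    exact (Nat.prime_of_mem_primeFactors hp).pos
  refine ⟨w, ?_⟩
  apply Nat.div_eq_of_eq_mul_right hradpos
  generalize (∏ p ∈ n.primeFactors, p) = R at hw ⊢
  rw [ht, hw]; ring

theorem commute_of_isCyclic {A : Type*} [Group A] [IsCyclic A] (a b : A) : a * b = b * a := by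
  obtain ⟨g, hg⟩ := IsCyclic.exists_generator (α := A)
  obtain ⟨i, rfl⟩ := Subgroup.mem_zpowers_iff.mp (hg a)
  obtain ⟨j, rfl⟩ := Subgroup.mem_zpowers_iff.mp (hg b)
  rw [← zpow_add, ← zpow_add, add_comm]

/-- **The metacyclic presentation of a Z-group whose subgroups of order `pq` are cyclic.** -/
theorem zgroup_presentation {Γ : Type*} [Group Γ] [Finite Γ]
    (hZ : ∀ (p : ℕ) [Fact p.Prime] (P : Sylow p Γ), IsCyclic (P : Subgroup Γ))
    (hF1 : ∀ (D : Subgroup Γ) (p q : ℕ), p.Prime → q.Prime → Nat.card D = p * q → IsCyclic D) :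
    ∃ n m r : ℕ, 0 < n ∧ 0 < m ∧ Nat.Coprime (r - 1) m ∧ Nat.Coprime n m ∧ 1 ≤ r ∧
      r ^ (n / ∏ p ∈ n.primeFactors, p) % m = 1 % m ∧ Nonempty (Γ ≃* PM n m r) := by
  classical
  obtain ⟨x, y, n, m, r, hcl, hxn, hym, hconj, hc1, hc2, hr1, hrn⟩ := Cfsg.Agent.S3379.result hZ
  have hn : 0 < n := hxn ▸ orderOf_pos x
  have hm : 0 < m := hym ▸ orderOf_pos y
  have hxpow : x ^ n = 1 := hxn ▸ pow_orderOf_eq_one x
  have hypow : y ^ m = 1 := hym ▸ pow_orderOf_eq_one y
  -- `⟨y⟩` is normal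
  have hYn : (Subgroup.zpowers y).Normal := by
    rw [← Subgroup.normalizer_eq_top_iff, eq_top_iff, ← hcl, Subgroup.closure_le]
    intro g hg
    rcases hg with rfl | hg
    · have hxinv : g⁻¹ ∈ Subgroup.normalizer ((Subgroup.zpowers y : Subgroup Γ) : Set Γ) := by
        apply Subgroup.mem_normalizer_fintype
        intro k hk
        obtain ⟨j, rfl⟩ := Subgroup.mem_zpowers_iff.mp hk
        have h1 : g⁻¹ * y ^ j * g⁻¹⁻¹ = (g⁻¹ * y * g) ^ j := by
          have := conj_zpow (a := g⁻¹) (b := y) (i := j)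
          rw [inv_inv] at this ⊢
          exact this.symm
        rw [h1, hconj]
        exact Subgroup.zpow_mem _ (Subgroup.pow_mem _ (Subgroup.mem_zpowers y) r) j
      have := Subgroup.inv_mem _ hxinv
      rwa [inv_inv] at this
    · rw [Set.mem_singleton_iff] at hg
      subst hg
      exact Subgroup.le_normalizer (Subgroup.mem_zpowers g)
  have hcard : Nat.card Γ = n * m := by
    have hcop : (Nat.card (Subgroup.zpowers y)).Coprime (Nat.card (Subgroup.zpowers x)) := by
      rw [Nat.card_zpowers, Nat.card_zpowers, hxn, hym]; exact hc2.symm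
    have h1 := Cfsg.Agent.Lib.Helper1.card_sup_of_normal_coprime (Subgroup.zpowers y)
      (Subgroup.zpowers x) hcop
    have htop : Subgroup.zpowers y ⊔ Subgroup.zpowers x = ⊤ := by
      rw [eq_top_iff, ← hcl, Subgroup.closure_le]
      intro g hg
      rcases hg with rfl | hg
      · exact (le_sup_right : Subgroup.zpowers g ≤ _) (Subgroup.mem_zpowers g)
      · rw [Set.mem_singleton_iff] at hg
        subst hg
        exact (le_sup_left : Subgroup.zpowers g ≤ _) (Subgroup.mem_zpowers g)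
    rw [htop, Subgroup.card_top, Nat.card_zpowers, Nat.card_zpowers, hxn, hym] at h1
    rw [h1, mul_comm]
  -- elements of prime order in `⟨x⟩` centralize `y`
  have hcomm : ∀ p ∈ n.primeFactors, r ^ (n / p) ≡ 1 [MOD m] := by
    intro p hp
    have hpp := Nat.prime_of_mem_primeFactors hp
    have hpn := Nat.dvd_of_mem_primeFactors hp
    have hpm : ¬ p ∣ m := by
      intro h
      have := Nat.eq_one_of_dvd_coprimes hc2 hpn h
      exact hpp.one_lt.ne' this
    set j := n / p with hj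
    set s := r ^ j with hs
    set u := x ^ j with hu
    have hjpos : j ≠ 0 := by
      rw [hj]
      exact (Nat.div_pos (Nat.le_of_dvd hn hpn) hpp.pos).ne'
    have hjn : j ∣ orderOf x := by rw [hxn, hj]; exact Nat.div_dvd_of_dvd hpn
    have huord : orderOf u = p := by
      rw [hu, orderOf_pow_of_dvd hjpos hjn, hxn, hj, Nat.div_div_self hpn hn.ne']
    have hup : u ^ p = 1 := by rw [← huord]; exact pow_orderOf_eq_one u
    have huy : u⁻¹ * y * u = y ^ s := Cfsg.Agent.S3379.conj_pow_iter x y r hconj j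
    have hsp : s ^ p ≡ 1 [MOD m] := by
      have h1 := Cfsg.Agent.S3379.conj_pow_iter u y s huy p
      rw [hup, inv_one, one_mul, mul_one] at h1
      have h2 : y ^ (s ^ p) = y ^ 1 := by rw [← h1, pow_one]
      rw [← hym]
      exact pow_eq_pow_iff_modEq.mp h2
    apply modEq_one_of_pow m s p hpp hpm _ hsp
    intro q hq hqm
    set k := m / q with hk
    set v := y ^ k with hv
    have hkpos : k ≠ 0 := by
      rw [hk]
      exact (Nat.div_pos (Nat.le_of_dvd hm hqm) hq.pos).ne'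
    have hkm : k ∣ orderOf y := by rw [hym, hk]; exact Nat.div_dvd_of_dvd hqm
    have hvord : orderOf v = q := by
      rw [hv, orderOf_pow_of_dvd hkpos hkm, hym, hk, Nat.div_div_self hqm hm.ne']
    have huv : u⁻¹ * v * u = v ^ s := by
      have h1 : u⁻¹ * y ^ k * u = (u⁻¹ * y * u) ^ k := by
        have := conj_pow (a := u⁻¹) (b := y) (i := k)
        rw [inv_inv] at this
        exact this.symm
      rw [hv, h1, huy, ← pow_mul, ← pow_mul, mul_comm]
    have hVn : (Subgroup.zpowers v).Normal := by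
      constructor
      intro a ha g
      obtain ⟨i, rfl⟩ := Subgroup.mem_zpowers_iff.mp ha
      have h1 : g * y * g⁻¹ ∈ Subgroup.zpowers y := hYn.conj_mem y (Subgroup.mem_zpowers y) g
      obtain ⟨t, ht⟩ := Subgroup.mem_zpowers_iff.mp h1
      have h2 : g * v * g⁻¹ = v ^ t := by
        rw [hv, ← conj_pow, ← ht, ← zpow_natCast, ← zpow_natCast, ← zpow_mul, ← zpow_mul, mul_comm]
      rw [← conj_zpow, h2]
      exact Subgroup.zpow_mem _ (Subgroup.zpow_mem _ (Subgroup.mem_zpowers v) t) i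
    have hqp : q ≠ p := by
      rintro rfl
      exact hpm hqm
    have hcop : (Nat.card (Subgroup.zpowers v)).Coprime (Nat.card (Subgroup.zpowers u)) := by
      rw [Nat.card_zpowers, Nat.card_zpowers, huord, hvord]
      exact (Nat.coprime_primes hq hpp).mpr hqp
    have hDcard := Cfsg.Agent.Lib.Helper1.card_sup_of_normal_coprime (Subgroup.zpowers v)
      (Subgroup.zpowers u) hcop
    rw [Nat.card_zpowers, Nat.card_zpowers, huord, hvord] at hDcard
    have hDc := hF1 _ q p hq hpp hDcard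
    have huD : u ∈ Subgroup.zpowers v ⊔ Subgroup.zpowers u :=
      (le_sup_right : Subgroup.zpowers u ≤ _) (Subgroup.mem_zpowers u)
    have hvD : v ∈ Subgroup.zpowers v ⊔ Subgroup.zpowers u :=
      (le_sup_left : Subgroup.zpowers v ≤ _) (Subgroup.mem_zpowers v)
    have hcm : v * u = u * v := by
      have := commute_of_isCyclic (A := ↥(Subgroup.zpowers v ⊔ Subgroup.zpowers u))
        ⟨v, hvD⟩ ⟨u, huD⟩
      exact congrArg Subtype.val this
    have h3 : v ^ s = v ^ 1 := by
      rw [← huv, pow_one, mul_assoc, hcm, ← mul_assoc, inv_mul_cancel, one_mul]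
    rw [← hvord]
    exact pow_eq_pow_iff_modEq.mp h3
  -- the order of `r` modulo `m`
  have hrcop : Nat.Coprime r m := by
    have h1 : (r ^ n).Coprime m := by
      have h2 : r ^ n ≡ 1 [MOD m] := hrn
      have h3 := h2.gcd_eq
      rw [Nat.gcd_one_left] at h3
      exact h3
    exact Nat.Coprime.coprime_dvd_left (dvd_pow_self r hn.ne') h1
  have hunit : ∀ k : ℕ, (ZMod.unitOfCoprime r hrcop) ^ k = 1 ↔ r ^ k ≡ 1 [MOD m] := by
    intro k
    rw [← Units.val_inj, Units.val_pow_eq_pow_val, ZMod.coe_unitOfCoprime, Units.val_one,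
      ← ZMod.natCast_eq_natCast_iff]
    push_cast
    rfl
  have hfinal : r ^ (n / ∏ p ∈ n.primeFactors, p) ≡ 1 [MOD m] := by
    rw [← hunit]
    apply orderOf_dvd_iff_pow_eq_one.mp
    apply dvd_div_rad n _ hn
    · apply orderOf_dvd_iff_pow_eq_one.mpr
      rw [hunit]; exact hrn
    · intro p hp
      apply orderOf_dvd_iff_pow_eq_one.mpr
      rw [hunit]; exact hcomm p hp
  exact ⟨n, m, r, hn, hm, hc1, hc2, hr1, hfinal,
    iso_of_relations n m r x y hn hm hxpow hypow hconj hcl hcard⟩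

end Cfsg.Agent.Lib.Helper19.ZGroupPres
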