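import Mathlib
import Cfsg.Agent.Lib.Helper19.FrobCompl
import Cfsg.Agent.Lib.Helper19.ZGroupPres
import Cfsg.Agent.Lib.Helper19.Ord48
import Cfsg.Agent.Lib.Helper19.GenQuat
import Cfsg.Agent.Lib.Helper19.RankOneCore
import Cfsg.Agent.Lib.Helper21.QuatSylow
import Cfsg.Agent.Lib.Helper1.PLength
import Cfsg.Agent.Lib.Helper1.Fitting

set_option autoImplicit false

/-!
# Solvable Frobenius complements
-/

namespace Cfsg.Agent.Lib.Helper19.FrobComplSolv

open QuaternionGroup Equiv Cfsg.Agent.Lib.Helper19 Cfsg.Agent.Lib.Helper1 Cfsg.Agent.Lib.Helper9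
  Cfsg.Agent.Lib.Helper19.Ord48 Cfsg.Agent.Lib.Helper19.RankOneCore

/-- a generalized quaternion group has 2-rank one -/
theorem prankLE_quat (N : ℕ) [NeZero N] : Cfsg.PRankLE 2 1 (QuaternionGroup N) := by
  intro A _ hA
  have hsub : (A : Set (QuaternionGroup N)) ⊆ {1, a (N : ZMod (2 * N))} := by
    intro u hu
    have h2 := hA u hu
    rw [pow_two] at h2
    rcases Cfsg.Agent.Lib.Helper21.quat_unique_invol u h2 with h | h
    · left; exact h
    · right; exact h
  calc Nat.card A = (A : Set (QuaternionGroup N)).ncard := (Nat.card_coe_set_eq _)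
    _ ≤ ({1, a (N : ZMod (2 * N))} : Set (QuaternionGroup N)).ncard :=
        Set.ncard_le_ncard hsub (Set.toFinite _)
    _ ≤ 2 := by
        refine (Set.ncard_insert_le _ _).trans ?_
        rw [Set.ncard_singleton]
    _ = 2 ^ 1 := by norm_num

/-- an embedding of the group of order two into `S₄` -/
def c2hom : Multiplicative (ZMod 2) →* Perm (Fin 4) where
  toFun x := if x = 1 then 1 else swap 0 1
  map_one' := by decide
  map_mul' := by decide

theorem c2hom_injective : Function.Injective c2hom := by decide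

/-- a solvable group with `O(G) = 1` which is not a 2-group and whose `O₂(G)` has 2-rank one has
`O₂(G) ≅ Q₈` -/
theorem q8_iso_of_rank {G : Type*} [Group G] [Finite G] (hsol : Group.IsSolvable G)
    (hO : Cfsg.oddCore G = ⊥) (hrank : Cfsg.PRankLE 2 1 ↥(Cfsg.pCore 2 G))
    (hnot2 : ¬ IsPGroup 2 G) :
    Nonempty (↥(Cfsg.pCore 2 G) ≃* QuaternionGroup 2) := by
  classical
  have : Fact (Nat.Prime 2) := ⟨Nat.prime_two⟩
  have := hsol
  have hQn : (Cfsg.pCore 2 G).Normal := Cfsg.Agent.Lib.Helper1.pCore_normal (G := G) 2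
  have hQp : IsPGroup 2 ↥(Cfsg.pCore 2 G) :=
    Cfsg.Agent.Lib.Helper1.pCore_isPGroup (G := G) 2
  have hCQ : Subgroup.centralizer (Cfsg.pCore 2 G : Set G) ≤ Cfsg.pCore 2 G :=
    Cfsg.Agent.Lib.Helper1.centralizer_pCore_le 2 hO
  obtain ⟨S⟩ := (inferInstance : Nonempty (Sylow 2 G))
  generalize Cfsg.pCore 2 G = Q at hQn hQp hCQ hrank
  have hSne : (S : Subgroup G) ≠ ⊤ := by
    intro h
    apply hnot2
    have h1 : IsPGroup 2 ↥(⊤ : Subgroup G) := h ▸ S.isPGroup'
    exact h1.of_equiv Subgroup.topEquiv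
  have hidx1 : (S : Subgroup G).index ≠ 1 := fun h => hSne (Subgroup.index_eq_one.mp h)
  obtain ⟨r, hr, hrdvd⟩ := Nat.exists_prime_and_dvd hidx1
  have hr2 : r ≠ 2 := by
    rintro rfl
    exact S.not_dvd_index hrdvd
  have hfr : Fact r.Prime := ⟨hr⟩
  obtain ⟨g, hg⟩ := exists_prime_orderOf_dvd_card' r
    (hrdvd.trans (Subgroup.index_dvd_card (S : Subgroup G)))
  have hodd : (orderOf g).Coprime 2 := by
    rw [hg]; exact (Nat.coprime_primes hr Nat.prime_two).mpr hr2
  have hroddN : Odd r := hr.odd_of_ne_two hr2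
  have hgr : g ^ r = 1 := by rw [← hg]; exact pow_orderOf_eq_one g
  have hodd_in_Q : ∀ h : G, (orderOf h).Coprime 2 → h ∈ Q → h = 1 := by
    intro h hc hh
    obtain ⟨j, hj⟩ := hQp ⟨h, hh⟩
    have hj' : h ^ 2 ^ j = 1 := by
      have := congrArg Subtype.val hj
      simpa using this
    have h1 := orderOf_dvd_of_pow_eq_one hj'
    have h2 : (orderOf h).Coprime (2 ^ j) := Nat.Coprime.pow_right j hc
    have h3 : orderOf h = 1 := Nat.Coprime.eq_one_of_dvd h2 h1
    exact orderOf_eq_one_iff.mp h3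
  have hgC : g ∉ Subgroup.centralizer (Q : Set G) := by
    intro h
    have h1 := hodd_in_Q g hodd (hCQ h)
    rw [h1, orderOf_one] at hg
    exact hr.one_lt.ne hg
  have hcent_of_conj : (∀ q ∈ Q, g * q * g⁻¹ = q) → False := by
    intro h
    apply hgC
    rw [Subgroup.mem_centralizer_iff]
    intro q hq
    have := h q hq
    calc q * g = (g * q * g⁻¹) * g := by rw [this]
      _ = g * q := by group
  have hQnt : Nontrivial ↥Q := by
    rw [Subgroup.nontrivial_iff_ne_bot]
    intro h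
    apply hcent_of_conj
    intro q hq
    rw [h, Subgroup.mem_bot] at hq
    rw [hq]; group
  obtain ⟨z, hz1, hz2, huniq⟩ := exists_unique_invol_of_rank_one hQp hrank
  by_cases hQab : ∀ u v : ↥Q, u * v = v * u
  · exfalso
    obtain ⟨c', -, hc'⟩ := cyclic_of_comm_unique_involution hQp z huniq ⊤
      (fun u _ v _ => hQab u v)
    have hQc : ∀ q ∈ Q, q ∈ Subgroup.zpowers (c' : G) := by
      intro q hq
      have h1 : (⟨q, hq⟩ : ↥Q) ∈ (⊤ : Subgroup ↥Q) := Subgroup.mem_top _
      rw [hc'] at h1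
      obtain ⟨i, hi⟩ := Subgroup.mem_zpowers_iff.mp h1
      rw [Subgroup.mem_zpowers_iff]
      refine ⟨i, ?_⟩
      have := congrArg Subtype.val hi
      simpa using this
    obtain ⟨k, hk⟩ := (IsPGroup.iff_orderOf.mp hQp) c'
    have hk' : orderOf (c' : G) = 2 ^ k := by rw [Subgroup.orderOf_coe]; exact hk
    have h1 : g * (c' : G) * g⁻¹ = (c' : G) :=
      conj_eq_of_odd_of_mem_zpowers g _ k hk' (hQc _ (hQn.conj_mem _ c'.2 g)) r hroddN
        (by rw [hgr]; group)
    apply hcent_of_conj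
    intro q hq
    obtain ⟨i, rfl⟩ := Subgroup.mem_zpowers_iff.mp (hQc q hq)
    rw [← conj_zpow, h1]
  · obtain ⟨n, hn2, a', y', hao, hyA, hinv, hyy, hza, hcov, hQc⟩ :=
      quaternion_structure hQp z hz1 hz2 huniq hQab
    have hmemz : ∀ q : ↥Q, q ∈ Subgroup.zpowers a' ↔ (q : G) ∈ Subgroup.zpowers (a' : G) := by
      intro q
      rw [Subgroup.mem_zpowers_iff, Subgroup.mem_zpowers_iff]
      constructor
      · rintro ⟨i, hi⟩
        exact ⟨i, by rw [← hi]; simp⟩
      · rintro ⟨i, hi⟩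
        exact ⟨i, Subtype.ext (by rw [← hi]; simp)⟩
    by_cases hn3 : 3 ≤ n
    · exfalso
      apply hcent_of_conj
      apply centralizes_genQuat_of_odd Q (a' : G) (y' : G) (z : G) n hn3
        (by rw [Subgroup.orderOf_coe]; exact hao)
        (fun h => hyA ((hmemz y').mpr h))
        (by have := congrArg Subtype.val hinv; simpa using this)
        (congrArg Subtype.val hyy)
        (by have := congrArg Subtype.val hza; simpa using this)
        a'.2 y'.2 ?_ g (fun q hq => hQn.conj_mem q hq g) r hroddN hgr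
      intro q hq
      rcases hcov ⟨q, hq⟩ with h | h
      · left; exact (hmemz _).mp h
      · right
        have := (hmemz _).mp h
        simpa using this
    · have hn : n = 2 := by omega
      subst hn
      have hQ8 : Nat.card ↥Q = 8 := by rw [hQc]; norm_num
      obtain ⟨ψ, hψ, -, -⟩ := Cfsg.Agent.Lib.helper14.exists_quatHom 2 (by norm_num) a' y'
        (by rw [hao]; norm_num) (by rw [hyy, ← hza]; norm_num) hinv
      have hbij : Function.Bijective ψ := by
        rw [Nat.bijective_iff_injective_and_card]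
        refine ⟨hψ, ?_⟩
        rw [hQ8, Nat.card_eq_fintype_card, QuaternionGroup.card]
      exact ⟨(MulEquiv.ofBijective ψ hbij).symm⟩

/-- elements of 2-power order and odd order at the same time are trivial -/
theorem eq_one_of_mem_of_two_group {G : Type*} [Group G] [Finite G] (K S : Subgroup G)
    (hK : (Nat.card K).Coprime 2) (hS : IsPGroup 2 S) (w : G) (hwS : w ∈ S) (hwK : w ∈ K) :
    w = 1 := by
  obtain ⟨j, hj⟩ := hS ⟨w, hwS⟩
  have h2 : orderOf w ∣ 2 ^ j := by
    apply orderOf_dvd_of_pow_eq_one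
    have := congrArg Subtype.val hj
    simpa using this
  have h3 : orderOf w ∣ Nat.card K := by
    have := orderOf_dvd_natCard (⟨w, hwK⟩ : ↥K)
    rwa [← Subgroup.orderOf_coe] at this
  have h4 : (orderOf w).Coprime (orderOf w) :=
    Nat.Coprime.coprime_dvd_left h3 (Nat.Coprime.coprime_dvd_right h2 (Nat.Coprime.pow_right j hK))
  have h5 : orderOf w = 1 := (Nat.coprime_self _).mp h4
  exact orderOf_eq_one_iff.mp h5

/-- 2-subgroups of the kernel of a composite `G → G/K → S₄` with `K` of odd order and the second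
kernel cyclic are cyclic -/
theorem isCyclic_two_subgroup_of_ker {G : Type*} [Group G] [Finite G] (K : Subgroup G) [K.Normal]
    (hK : (Nat.card K).Coprime 2) (fbar : G ⧸ K →* Perm (Fin 4)) (hcyc : IsCyclic fbar.ker)
    (S : Subgroup G) (hS : IsPGroup 2 S) (hSk : S ≤ (fbar.comp (QuotientGroup.mk' K)).ker) :
    IsCyclic S := by
  have hmem : ∀ w : ↥S, QuotientGroup.mk' K (w : G) ∈ fbar.ker := by
    intro w
    have := hSk w.2
    rw [MonoidHom.mem_ker, MonoidHom.comp_apply] at this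
    exact MonoidHom.mem_ker.mpr this
  set g : ↥S →* ↥fbar.ker :=
    ((QuotientGroup.mk' K).comp S.subtype).codRestrict fbar.ker hmem with hg
  have hginj : Function.Injective g := by
    rw [injective_iff_map_eq_one]
    intro w hw
    have h1 : QuotientGroup.mk' K (w : G) = 1 := congrArg Subtype.val hw
    have h2 : (w : G) ∈ K := (QuotientGroup.eq_one_iff _).mp h1
    exact Subtype.ext (eq_one_of_mem_of_two_group K S hK hS w w.2 h2)
  exact isCyclic_of_injective g hginj

/-- the homomorphism to `S₄` whose kernel has cyclic 2-subgroups -/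
theorem exists_hom {G : Type*} [Group G] [Finite G] (hsol : Group.IsSolvable G)
    (hF2 : ∀ (p : ℕ) [Fact p.Prime] (P : Sylow p G), IsCyclic (P : Subgroup G) ∨
      ∃ n : ℕ, Nonempty ((P : Subgroup G) ≃* QuaternionGroup (2 ^ n))) :
    ∃ f : G →* Perm (Fin 4), ∀ S : Subgroup G, S ≤ f.ker → IsPGroup 2 S → IsCyclic S := by
  classical
  have : Fact (Nat.Prime 2) := ⟨Nat.prime_two⟩
  have := hsol
  by_cases hall : ∀ T : Sylow 2 G, IsCyclic (T : Subgroup G)
  · refine ⟨1, ?_⟩
    intro S _ hS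
    obtain ⟨T, hT⟩ := hS.exists_le_sylow
    have := hall T
    exact Subgroup.isCyclic_of_le hT
  · push Not at hall
    obtain ⟨T, hT⟩ := hall
    rcases hF2 2 T with h | ⟨n, ⟨eT⟩⟩
    · exact absurd h hT
    have hNZ : NeZero (2 ^ n) := ⟨by positivity⟩
    have hKodd : (Nat.card ↥(Cfsg.oddCore G)).Coprime 2 :=
      Cfsg.Agent.Lib.Helper1.pPrimeCore_card_coprime (G := G) 2
    set π : G →* G ⧸ Cfsg.oddCore G := QuotientGroup.mk' (Cfsg.oddCore G) with hπ
    have hπs : Function.Surjective π := QuotientGroup.mk'_surjective _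
    set g : ↥(T : Subgroup G) →* G ⧸ Cfsg.oddCore G := π.comp (T : Subgroup G).subtype with hg
    have hginj : Function.Injective g := by
      rw [injective_iff_map_eq_one]
      intro w hw
      have h2 : (w : G) ∈ Cfsg.oddCore G := (QuotientGroup.eq_one_iff _).mp hw
      exact Subtype.ext (eq_one_of_mem_of_two_group _ _ hKodd T.isPGroup' w w.2 h2)
    set Tbar : Sylow 2 (G ⧸ Cfsg.oddCore G) := T.mapSurjective hπs with hTbar
    have hTbarcoe : (Tbar : Subgroup (G ⧸ Cfsg.oddCore G)) = (T : Subgroup G).map π := rfl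
    by_cases h2 : IsPGroup 2 (G ⧸ Cfsg.oddCore G)
    · -- the quotient is a 2-group
      have htop : (⊤ : Subgroup (G ⧸ Cfsg.oddCore G)) = (Tbar : Subgroup (G ⧸ Cfsg.oddCore G)) :=
        Tbar.is_maximal' (h2.to_subgroup ⊤) le_top
      have hgsurj : Function.Surjective g := by
        intro x
        have hx : x ∈ (Tbar : Subgroup (G ⧸ Cfsg.oddCore G)) := htop ▸ Subgroup.mem_top x
        rw [hTbarcoe] at hx
        obtain ⟨t, ht, rfl⟩ := hx
        exact ⟨⟨t, ht⟩, rfl⟩
      set ebar : G ⧸ Cfsg.oddCore G ≃* QuaternionGroup (2 ^ n) :=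
        (MulEquiv.ofBijective g ⟨hginj, hgsurj⟩).symm.trans eT with hebar
      set fbar : G ⧸ Cfsg.oddCore G →* Perm (Fin 4) :=
        c2hom.comp ((Cfsg.Agent.Lib.Helper21.quatSign (2 ^ n)).comp ebar.toMonoidHom) with hfbar
      have hmem : ∀ w : ↥fbar.ker, ebar (w : G ⧸ Cfsg.oddCore G) ∈
          Subgroup.zpowers (a 1 : QuaternionGroup (2 ^ n)) := by
        intro w
        have h1 : fbar (w : G ⧸ Cfsg.oddCore G) = 1 := MonoidHom.mem_ker.mp w.2
        have h3 : Cfsg.Agent.Lib.Helper21.quatSign (2 ^ n) (ebar (w : G ⧸ Cfsg.oddCore G)) = 1 := by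
          apply c2hom_injective
          rw [map_one]
          exact h1
        rw [Cfsg.Agent.Lib.Helper21.quat_mem_zpowers_iff]
        rcases hq : ebar (w : G ⧸ Cfsg.oddCore G) with i | i
        · exact ⟨i, rfl⟩
        · rw [hq, Cfsg.Agent.Lib.Helper21.quatSign_xa] at h3
          exact absurd h3 Cfsg.Agent.Lib.Helper21.zmod2_ofAdd_one_ne
      set k : ↥fbar.ker →* ↥(Subgroup.zpowers (a 1 : QuaternionGroup (2 ^ n))) :=
        (ebar.toMonoidHom.comp fbar.ker.subtype).codRestrict _ hmem with hk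
      have hkinj : Function.Injective k := by
        intro u v huv
        have h1 : ebar (u : G ⧸ Cfsg.oddCore G) = ebar (v : G ⧸ Cfsg.oddCore G) :=
          congrArg Subtype.val huv
        exact Subtype.ext (ebar.injective h1)
      have hcyc : IsCyclic fbar.ker := isCyclic_of_injective k hkinj
      exact ⟨fbar.comp π, fun S hSk hS =>
        isCyclic_two_subgroup_of_ker _ hKodd fbar hcyc S hS hSk⟩
    · -- the quotient is not a 2-group
      have hsolq : Group.IsSolvable (G ⧸ Cfsg.oddCore G) := inferInstance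
      have hOq : Cfsg.oddCore (G ⧸ Cfsg.oddCore G) = ⊥ :=
        Cfsg.Agent.Lib.Helper1.pPrimeCore_quotient_eq_bot (G := G) 2
      have hrankT : Cfsg.PRankLE 2 1 ↥(T : Subgroup G) :=
        pRankLE_of_injective eT.toMonoidHom eT.injective (prankLE_quat (2 ^ n))
      have hmap : (⊤ : Subgroup ↥(T : Subgroup G)).map g = (T : Subgroup G).map π := by
        ext x
        constructor
        · rintro ⟨w, -, rfl⟩
          exact ⟨w, w.2, rfl⟩
        · rintro ⟨w, hw, rfl⟩
          exact ⟨⟨w, hw⟩, Subgroup.mem_top _, rfl⟩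
      have hrankTbar : Cfsg.PRankLE 2 1 ↥(Tbar : Subgroup (G ⧸ Cfsg.oddCore G)) := by
        rw [hTbarcoe, ← hmap]
        apply (pRankLE_map_iff g hginj ⊤).mpr
        exact pRankLE_of_injective
          (Subgroup.topEquiv : ↥(⊤ : Subgroup ↥(T : Subgroup G)) ≃* ↥(T : Subgroup G)).toMonoidHom
          (Subgroup.topEquiv : ↥(⊤ : Subgroup ↥(T : Subgroup G)) ≃* ↥(T : Subgroup G)).injective
          hrankT
      have hrank : Cfsg.PRankLE 2 1 ↥(Cfsg.pCore 2 (G ⧸ Cfsg.oddCore G)) :=
        pRankLE_of_le (Cfsg.Agent.Lib.Helper1.pCore_le_sylow 2 Tbar) hrankTbar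
      obtain ⟨eQ⟩ := q8_iso_of_rank hsolq hOq hrank h2
      have hCQ : Subgroup.centralizer (Cfsg.pCore 2 (G ⧸ Cfsg.oddCore G) : Set _) ≤
          Cfsg.pCore 2 (G ⧸ Cfsg.oddCore G) :=
        Cfsg.Agent.Lib.Helper1.centralizer_pCore_le 2 hOq
      have hQn : (Cfsg.pCore 2 (G ⧸ Cfsg.oddCore G)).Normal :=
        Cfsg.Agent.Lib.Helper1.pCore_normal (G := G ⧸ Cfsg.oddCore G) 2
      obtain ⟨φ⟩ := Cfsg.Agent.S3742.result
      set fbar : G ⧸ Cfsg.oddCore G →* Perm (Fin 4) :=
        toS4 (Cfsg.pCore 2 (G ⧸ Cfsg.oddCore G)) eQ φ with hfbar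
      have hcyc : IsCyclic fbar.ker := by
        rw [hfbar, toS4_ker, centralizer_eq _ eQ hCQ]
        exact Subgroup.isCyclic_zpowers _
      exact ⟨fbar.comp π, fun S hSk hS =>
        isCyclic_two_subgroup_of_ker _ hKodd fbar hcyc S hS hSk⟩

/-- **Solvable Frobenius complements.** -/
theorem main {G : Type*} [Group G] [Finite G] (hsol : Group.IsSolvable G)
    (hFC : ∃ (L : Type) (_ : Group L) (_ : Finite L) (H : Subgroup L),
      Cfsg.IsFrobeniusComplement H ∧ Nonempty (G ≃* H)) :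
    ∃ G₀ : Subgroup G, G₀.Normal ∧ (∃ f : G →* Perm (Fin 4), f.ker = G₀) ∧
      (∀ (p : ℕ) [Fact p.Prime] (P : Sylow p G₀), IsCyclic P) ∧
      ∃ n m r : ℕ, 0 < n ∧ 0 < m ∧ Nat.Coprime (r - 1) m ∧ Nat.Coprime n m ∧ 1 ≤ r ∧
        r ^ (n / ∏ p ∈ n.primeFactors, p) % m = 1 % m ∧
        Nonempty (G₀ ≃* Cfsg.Agent.Lib.Helper19.MetaPres.PM n m r) := by
  classical
  obtain ⟨hF1, hF2⟩ := Cfsg.Agent.Lib.Helper19.FrobCompl.facts hFC
  obtain ⟨f, hf⟩ := exists_hom hsol hF2
  have hSyl : ∀ (p : ℕ) [Fact p.Prime] (P : Sylow p ↥f.ker), IsCyclic ↥(P : Subgroup ↥f.ker) := by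
    intro p hp P
    apply Cfsg.Agent.Lib.Helper1.isCyclic_of_map_subtype f.ker (P : Subgroup ↥f.ker)
    have hSp : IsPGroup p ↥((P : Subgroup ↥f.ker).map f.ker.subtype) := P.2.map _
    have hSk : (P : Subgroup ↥f.ker).map f.ker.subtype ≤ f.ker := Subgroup.map_subtype_le _
    by_cases hp2 : p = 2
    · subst hp2
      exact hf _ hSk hSp
    · obtain ⟨Q, hQ⟩ := hSp.exists_le_sylow
      rcases hF2 p Q with h | ⟨n, ⟨e⟩⟩
      · exact Subgroup.isCyclic_of_le hQ
      · exfalso
        have hNZ : NeZero (2 ^ n) := ⟨by positivity⟩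
        obtain ⟨k, hk⟩ := IsPGroup.iff_card.mp Q.isPGroup'
        rw [Nat.card_congr e.toEquiv, Nat.card_eq_fintype_card, QuaternionGroup.card] at hk
        have h2 : 2 ∣ p ^ k := by
          rw [← hk]
          exact Dvd.dvd.mul_right (by norm_num) _
        have h3 : 2 ∣ p := Nat.Prime.dvd_of_dvd_pow Nat.prime_two h2
        exact hp2 ((Nat.prime_dvd_prime_iff_eq Nat.prime_two hp.out).mp h3).symm
  have hF1' : ∀ (D : Subgroup ↥f.ker) (p q : ℕ), p.Prime → q.Prime → Nat.card D = p * q →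
      IsCyclic D := by
    intro D p q hp hq hcard
    apply Cfsg.Agent.Lib.Helper1.isCyclic_of_map_subtype f.ker D
    apply hF1 _ p q hp hq
    rw [Subgroup.card_map_of_injective f.ker.subtype_injective, hcard]
  exact ⟨f.ker, MonoidHom.normal_ker f, ⟨f, rfl⟩, hSyl,
    Cfsg.Agent.Lib.Helper19.ZGroupPres.zgroup_presentation hSyl hF1'⟩

end Cfsg.Agent.Lib.Helper19.FrobComplSolv
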