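import Mathlib
import Cfsg.Agent.Lib.Helper19.FrobSpec

set_option autoImplicit false

/-!
# Frobenius-type families from subgroups of unit groups
-/

namespace Cfsg.Agent.Lib.Helper19.FrobSpec

theorem frob_family_units (R : Type) [Ring R] [Fintype R] [Nontrivial R] (r : ℕ) (hr : r.Prime)
    (hchar : ∀ x : R, r • x = 0) (G : Subgroup Rˣ)
    (hG : ∀ g ∈ G, g ≠ 1 → ∀ x : R, ((g : Rˣ) : R) * x = x → x = 0) (N : ℕ) :
    ∃ (H : Type) (_ : Group H) (_ : Fintype H), N < Fintype.card H ∧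
      Set.range (orderOf : H → ℕ) = Set.range (orderOf : G → ℕ) ∪ {r} := by
  classical
  let _ : Fintype G := Fintype.ofFinite G
  refine frob_family G R r hr hchar ⟨1, one_ne_zero⟩ ?_ N
  intro g hg x hx
  refine hG g g.2 ?_ x hx
  intro h
  apply hg
  exact Subtype.ext h

theorem range_orderOf_zpowers {G : Type*} [Group G] (γ : G) (h : 0 < orderOf γ) :
    Set.range (orderOf : Subgroup.zpowers γ → ℕ) = {d | d ∣ orderOf γ} := by
  ext d
  simp only [Set.mem_range, Set.mem_ofPred_eq]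
  constructor
  · rintro ⟨⟨x, hx⟩, rfl⟩
    rw [Subgroup.orderOf_mk]
    exact orderOf_dvd_of_mem_zpowers hx
  · rintro ⟨e, he⟩
    refine ⟨⟨γ ^ e, Subgroup.npow_mem_zpowers γ e⟩, ?_⟩
    rw [Subgroup.orderOf_mk]
    have he0 : e ≠ 0 := by rintro rfl; rw [mul_zero] at he; omega
    rw [orderOf_pow' γ he0, he, Nat.gcd_eq_right (Dvd.intro_left d rfl)]
    exact Nat.mul_div_cancel _ (Nat.pos_of_ne_zero he0)

/-- a cyclic subgroup of the multiplicative group of a finite field acts without fixed points -/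
theorem frob_family_field (K : Type) [Field K] [Fintype K] (r : ℕ) (hr : r.Prime) [CharP K r]
    (γ : Kˣ) (N : ℕ) :
    ∃ (H : Type) (_ : Group H) (_ : Fintype H), N < Fintype.card H ∧
      Set.range (orderOf : H → ℕ) = {d | d ∣ orderOf γ} ∪ {r} := by
  classical
  have hpos : 0 < orderOf γ := orderOf_pos γ
  rw [← range_orderOf_zpowers γ hpos]
  apply frob_family_units K r hr
  · intro x
    rw [nsmul_eq_mul, CharP.cast_eq_zero K r, zero_mul]
  · intro g _ hg1 x hx
    have h1 : ((g : K) - 1) * x = 0 := by rw [sub_mul, hx, one_mul, sub_self]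
    rcases mul_eq_zero.mp h1 with h | h
    · exfalso
      apply hg1
      apply Units.ext
      rw [Units.val_one]
      exact sub_eq_zero.mp h
    · exact h

theorem orderOf_neg_one_zmod_three : orderOf (-1 : (ZMod 3)ˣ) = 2 := by
  rw [orderOf_eq_prime_iff]
  decide

/-- the spectrum of `PGL₂(2) = S₃` -/
theorem family_two (N : ℕ) :
    ∃ (H : Type) (_ : Group H) (_ : Fintype H), N < Fintype.card H ∧
      Set.range (orderOf : H → ℕ) = {n | n ∣ 2 - 1 ∨ n ∣ 2 + 1 ∨ n = 2} := by
  obtain ⟨H, hG, hF, hcard, hspec⟩ := frob_family_field (ZMod 3) 3 Nat.prime_three (-1 : (ZMod 3)ˣ) N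
  refine ⟨H, hG, hF, hcard, ?_⟩
  rw [hspec]
  rw [orderOf_neg_one_zmod_three]
  ext n
  simp only [Set.mem_union, Set.mem_ofPred_eq, Set.mem_singleton_iff]
  have h2 : n ∣ 2 ↔ n = 1 ∨ n = 2 := Nat.dvd_prime Nat.prime_two
  have h3 : n ∣ 3 ↔ n = 1 ∨ n = 3 := Nat.dvd_prime Nat.prime_three
  have h1 : n ∣ 1 ↔ n = 1 := Nat.dvd_one
  rw [h2]
  norm_num
  rw [h3]
  tauto

/-- the spectrum of `PGL₂(3) = S₄` -/
theorem family_three (N : ℕ) :
    ∃ (H : Type) (_ : Group H) (_ : Fintype H), N < Fintype.card H ∧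
      Set.range (orderOf : H → ℕ) = {n | n ∣ 3 - 1 ∨ n ∣ 3 + 1 ∨ n = 3} := by
  classical
  let K := GaloisField 3 2
  let _ : Fintype K := Fintype.ofFinite K
  have hcardK : Fintype.card K = 9 := by
    rw [← Nat.card_eq_fintype_card]
    have := GaloisField.card 3 2 (by norm_num)
    rw [this]; norm_num
  obtain ⟨θ, hθ⟩ := IsCyclic.exists_generator (α := Kˣ)
  have hordθ : orderOf θ = 8 := by
    rw [orderOf_eq_card_of_forall_mem_zpowers hθ, Nat.card_eq_fintype_card, Fintype.card_units, hcardK]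
  have hord : orderOf (θ ^ 2) = 4 := by
    rw [orderOf_pow' θ (by norm_num), hordθ]
    norm_num
  obtain ⟨H, hG, hF, hcard, hspec⟩ := frob_family_field K 3 Nat.prime_three (θ ^ 2) N
  refine ⟨H, hG, hF, hcard, ?_⟩
  rw [hspec, hord]
  ext n
  simp only [Set.mem_union, Set.mem_ofPred_eq, Set.mem_singleton_iff]
  constructor
  · rintro (h | h)
    · right; left; exact h
    · right; right; exact h
  · rintro (h | h | h)
    · left; exact dvd_trans h (by norm_num)
    · left; exact h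
    · right; exact h

end Cfsg.Agent.Lib.Helper19.FrobSpec
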