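import Mathlib
import Cfsg.Agent.Lib.Helper19.FrobInst

set_option autoImplicit false

/-!
# A Frobenius complement of order 40 in `GL₄(3)` and the spectrum of `PGL₂(9)`
-/

namespace Cfsg.Agent.Lib.Helper19.FrobNine

open Matrix Cfsg.Agent.Lib.Helper19.FrobSpec

/-- the matrix ring -/
abbrev R9 := Matrix (Fin 4) (Fin 4) (ZMod 3)

/-- an element of order five -/
def Lm : R9 := !![0, 0, 0, 2; 1, 0, 0, 2; 0, 1, 0, 2; 0, 0, 1, 2]

/-- an element of order eight -/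
def Tm : R9 := !![0, 2, 1, 1; 1, 1, 1, 0; 0, 2, 2, 2; 2, 2, 1, 0]

set_option maxRecDepth 100000 in
theorem L5 : Lm ^ 5 = 1 := by decide

set_option maxRecDepth 100000 in
theorem T8 : Tm ^ 8 = 1 := by decide

set_option maxRecDepth 100000 in
theorem TL : Tm * Lm = Lm ^ 3 * Tm := by decide

set_option maxRecDepth 100000 in
theorem T4_ne : Tm ^ 4 ≠ 1 := by decide

set_option maxRecDepth 100000 in
theorem LT4_pow5 : (Lm * Tm ^ 4) ^ 5 ≠ 1 := by decide

set_option maxRecDepth 100000 in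
theorem LT4_pow2 : (Lm * Tm ^ 4) ^ 2 ≠ 1 := by decide

set_option maxRecDepth 100000 in
theorem LT4_pow10 : (Lm * Tm ^ 4) ^ 10 = 1 := by decide

set_option maxRecDepth 1000000 in
theorem fpf_chk : ∀ a : Fin 5, ∀ b : Fin 8, Lm ^ a.val * Tm ^ b.val ≠ 1 →
    (Lm ^ a.val * Tm ^ b.val - 1).det ≠ 0 := by decide

set_option maxRecDepth 1000000 in
theorem ord_chk : ∀ a : Fin 5, ∀ b : Fin 8,
    (Lm ^ a.val * Tm ^ b.val) ^ 8 = 1 ∨ (Lm ^ a.val * Tm ^ b.val) ^ 10 = 1 := by decide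

end Cfsg.Agent.Lib.Helper19.FrobNine
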