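import Mathlib
import Cfsg.Agent.Lib.Helper19.FrobNine

set_option autoImplicit false

/-!
# The spectrum of `PGL₂(9)` is realised by arbitrarily large Frobenius groups
-/

namespace Cfsg.Agent.Lib.Helper19.FrobNine

open Matrix Cfsg.Agent.Lib.Helper19.FrobSpec

/-- `Lm` as a unit -/
def Lu : R9ˣ :=
  ⟨Lm, Lm ^ 4, by rw [← pow_succ', L5], by rw [← pow_succ, L5]⟩

/-- `Tm` as a unit -/
def Tu : R9ˣ :=
  ⟨Tm, Tm ^ 7, by rw [← pow_succ', T8], by rw [← pow_succ, T8]⟩

@[simp] theorem Lu_val : (Lu : R9) = Lm := rfl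
@[simp] theorem Tu_val : (Tu : R9) = Tm := rfl

theorem Lu_pow5 : Lu ^ 5 = 1 := by
  apply Units.ext
  rw [Units.val_pow_eq_pow_val, Lu_val, L5, Units.val_one]

theorem Tu_pow8 : Tu ^ 8 = 1 := by
  apply Units.ext
  rw [Units.val_pow_eq_pow_val, Tu_val, T8, Units.val_one]

theorem Tu_mul_Lu : Tu * Lu = Lu ^ 3 * Tu := by
  apply Units.ext
  rw [Units.val_mul, Units.val_mul, Units.val_pow_eq_pow_val, Lu_val, Tu_val, TL]

theorem Tu_mul_Lu_pow (c : ℕ) : Tu * Lu ^ c = Lu ^ (3 * c) * Tu := by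
  induction c with
  | zero => simp
  | succ c ih =>
    rw [pow_succ, ← mul_assoc, ih, mul_assoc, Tu_mul_Lu, ← mul_assoc, ← pow_add]
    congr 2

theorem Tu_pow_mul_Lu_pow (b c : ℕ) : Tu ^ b * Lu ^ c = Lu ^ (3 ^ b * c) * Tu ^ b := by
  induction b generalizing c with
  | zero => simp
  | succ b ih =>
    rw [pow_succ, mul_assoc, Tu_mul_Lu_pow, ← mul_assoc, ih, mul_assoc]
    congr 2
    ring

/-- the Frobenius complement of order 40 -/
def S40 : Subgroup R9ˣ :=
  { carrier := {g | ∃ a b : ℕ, g = Lu ^ a * Tu ^ b}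
    one_mem' := ⟨0, 0, by simp⟩
    mul_mem' := by
      rintro _ _ ⟨a, b, rfl⟩ ⟨c, d, rfl⟩
      refine ⟨a + 3 ^ b * c, b + d, ?_⟩
      rw [mul_assoc, ← mul_assoc (Tu ^ b), Tu_pow_mul_Lu_pow, mul_assoc, ← pow_add, ← mul_assoc,
        ← pow_add]
    inv_mem' := by
      rintro _ ⟨a, b, rfl⟩
      have hL : (Lu ^ a)⁻¹ = Lu ^ (4 * a) := by
        apply inv_eq_of_mul_eq_one_right
        rw [← pow_add, show a + 4 * a = 5 * a by ring, pow_mul, Lu_pow5, one_pow]
      have hT : (Tu ^ b)⁻¹ = Tu ^ (7 * b) := by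
        apply inv_eq_of_mul_eq_one_right
        rw [← pow_add, show b + 7 * b = 8 * b by ring, pow_mul, Tu_pow8, one_pow]
      refine ⟨3 ^ (7 * b) * (4 * a), 7 * b, ?_⟩
      rw [_root_.mul_inv_rev, hL, hT, Tu_pow_mul_Lu_pow] }

theorem mem_S40 (g : R9ˣ) : g ∈ S40 ↔ ∃ a b : ℕ, g = Lu ^ a * Tu ^ b := Iff.rfl

theorem S40_form (g : R9ˣ) (hg : g ∈ S40) :
    ∃ a : Fin 5, ∃ b : Fin 8, (g : R9) = Lm ^ a.val * Tm ^ b.val := by
  obtain ⟨a, b, rfl⟩ := hg
  refine ⟨⟨a % 5, Nat.mod_lt _ (by norm_num)⟩, ⟨b % 8, Nat.mod_lt _ (by norm_num)⟩, ?_⟩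
  rw [Units.val_mul, Units.val_pow_eq_pow_val, Units.val_pow_eq_pow_val, Lu_val, Tu_val,
    pow_eq_pow_mod a L5, pow_eq_pow_mod b T8]

theorem three_nsmul_R9 (x : R9) : 3 • x = 0 := by
  ext i j
  rw [Matrix.smul_apply, Matrix.zero_apply]
  generalize x i j = y
  revert y
  decide

/-- elements of `S40` other than `1` have no nonzero fixed vectors -/
theorem S40_fpf (g : R9ˣ) (hg : g ∈ S40) (hg1 : g ≠ 1) (x : R9) (hx : (g : R9) * x = x) : x = 0 := by
  obtain ⟨a, b, hab⟩ := S40_form g hg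
  have hne : Lm ^ a.val * Tm ^ b.val ≠ 1 := by
    intro h
    apply hg1
    apply Units.ext
    rw [hab, h, Units.val_one]
  have hdet := fpf_chk a b hne
  have hunit : IsUnit (Lm ^ a.val * Tm ^ b.val - 1) :=
    (Matrix.isUnit_iff_isUnit_det _).mpr (IsUnit.mk0 _ hdet)
  have h0 : (Lm ^ a.val * Tm ^ b.val - 1) * x = 0 := by
    rw [sub_mul, ← hab, hx, one_mul, sub_self]
  exact (hunit.mul_right_eq_zero).mp h0

theorem Tu_mem : Tu ∈ S40 := ⟨0, 1, by simp⟩

theorem LT4_mem : Lu * Tu ^ 4 ∈ S40 := ⟨1, 4, by simp⟩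

theorem orderOf_Tu : orderOf Tu = 8 := by
  have h := orderOf_eq_prime_pow (x := Tu) (p := 2) (n := 2) ?_ ?_
  · rw [h]; norm_num
  · intro h
    apply T4_ne
    have := congrArg (fun u : R9ˣ => (u : R9)) h
    simpa using this
  · exact Tu_pow8

theorem orderOf_LT4 : orderOf (Lu * Tu ^ 4) = 10 := by
  apply orderOf_eq_of_pow_and_pow_div_prime (by norm_num)
  · apply Units.ext
    rw [Units.val_pow_eq_pow_val, Units.val_mul, Units.val_pow_eq_pow_val, Lu_val, Tu_val, LT4_pow10,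
      Units.val_one]
  · intro q hq hd
    have hle : q ≤ 10 := Nat.le_of_dvd (by norm_num) hd
    have hq2 : q = 2 ∨ q = 5 := by
      interval_cases q <;> first | (left; rfl) | (right; rfl) | (exfalso; revert hq; norm_num; done) | (exfalso; revert hd; norm_num)
    rcases hq2 with rfl | rfl
    · intro h
      apply LT4_pow5
      have := congrArg (fun u : R9ˣ => (u : R9)) h
      simpa using this
    · intro h
      apply LT4_pow2
      have := congrArg (fun u : R9ˣ => (u : R9)) h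
      simpa using this

theorem range_orderOf_S40 : Set.range (orderOf : S40 → ℕ) = {n | n ∣ 8 ∨ n ∣ 10} := by
  ext n
  simp only [Set.mem_range, Set.mem_ofPred_eq]
  constructor
  · rintro ⟨⟨g, hg⟩, rfl⟩
    rw [Subgroup.orderOf_mk]
    obtain ⟨a, b, hab⟩ := S40_form g hg
    rcases ord_chk a b with h | h
    · left
      apply orderOf_dvd_of_pow_eq_one
      apply Units.ext
      rw [Units.val_pow_eq_pow_val, hab, h, Units.val_one]
    · right
      apply orderOf_dvd_of_pow_eq_one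
      apply Units.ext
      rw [Units.val_pow_eq_pow_val, hab, h, Units.val_one]
  · rintro (h | h)
    · obtain ⟨e, he⟩ := h
      have he0 : e ≠ 0 := by rintro rfl; simp at he
      refine ⟨⟨Tu, Tu_mem⟩ ^ e, ?_⟩
      rw [orderOf_pow' _ he0, Subgroup.orderOf_mk, orderOf_Tu, he,
        Nat.gcd_eq_right (Dvd.intro_left n rfl)]
      exact Nat.mul_div_cancel _ (Nat.pos_of_ne_zero he0)
    · obtain ⟨e, he⟩ := h
      have he0 : e ≠ 0 := by rintro rfl; simp at he
      refine ⟨⟨Lu * Tu ^ 4, LT4_mem⟩ ^ e, ?_⟩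
      rw [orderOf_pow' _ he0, Subgroup.orderOf_mk, orderOf_LT4, he,
        Nat.gcd_eq_right (Dvd.intro_left n rfl)]
      exact Nat.mul_div_cancel _ (Nat.pos_of_ne_zero he0)

/-- the spectrum of `PGL₂(9)` -/
theorem family_nine (N : ℕ) :
    ∃ (H : Type) (_ : Group H) (_ : Fintype H), N < Fintype.card H ∧
      Set.range (orderOf : H → ℕ) = {n | n ∣ 9 - 1 ∨ n ∣ 9 + 1 ∨ n = 3} := by
  obtain ⟨H, hG, hF, hcard, hspec⟩ := frob_family_units R9 3 Nat.prime_three three_nsmul_R9 S40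
    S40_fpf N
  refine ⟨H, hG, hF, hcard, ?_⟩
  rw [hspec, range_orderOf_S40]
  ext n
  simp only [Set.mem_union, Set.mem_ofPred_eq, Set.mem_singleton_iff]
  norm_num
  tauto

end Cfsg.Agent.Lib.Helper19.FrobNine
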