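import Mathlib
import Cfsg.Agent.Lib.Helper19.G2V.Defs

/-!
# Project G2V (S2461), row F2 (`Qcol`, `Qcol11`), verbatim.

The rows `e₀ e₁ e₂ e₃ e₅` of `x_r(t)`, `r = 6, 8, 9, 10, 11`, are `e_k + c t e₀`; so the column `e₀` of a
product collapses.
-/

set_option autoImplicit false

namespace Cfsg.Agent.Lib.Helper19.G2V

open Cfsg.Lie Cfsg.Lie.ChevalleyDatum Matrix
open Cfsg.Agent.Lib.helper8

universe u

variable {F : Type u} [Field F]

theorem g2vf2_idx_cases (P : chevG2.Idx → Prop) (h0 : P (hI 0)) (h1 : P (hI 1))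
    (e0 : P (eI 0)) (e1 : P (eI 1)) (e2 : P (eI 2)) (e3 : P (eI 3)) (e4 : P (eI 4))
    (e5 : P (eI 5)) (e6 : P (eI 6)) (e7 : P (eI 7)) (e8 : P (eI 8)) (e9 : P (eI 9))
    (e10 : P (eI 10)) (e11 : P (eI 11)) : ∀ x, P x := by
  rintro (⟨i, hi⟩ | ⟨r, hr⟩)
  · have hi' : i < 2 := hi
    interval_cases i
    · exact h0
    · exact h1
  · have hr' : r < 12 := hr
    interval_cases r
    · exact e0
    · exact e1
    · exact e2
    · exact e3
    · exact e4
    · exact e5
    · exact e6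
    · exact e7
    · exact e8
    · exact e9
    · exact e10
    · exact e11

set_option maxHeartbeats 4000000 in
theorem g2vf2_row_6_0 (t : F) (j : chevG2.Idx) :
    chevG2.x F 6 t (eI 0) j = (if j = eI 0 then 1 else 0) + (if j = eI 0 then 0 else 0) := by
  revert j
  apply g2vf2_idx_cases
  all_goals
    unfold ChevalleyDatum.x
    rw [dif_pos (by decide)]
    simp only [ChevalleyDatum.xMat, Matrix.of_apply, eI, hI]
    simp [chainCoeff, chevG2, chevG2Chain, chevG2Chain6, chevG2NegIdx, chevG2Coroot, chevG2CartanSR,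
      Fin.ext_iff]

set_option maxHeartbeats 4000000 in
theorem g2vf2_row_6_1 (t : F) (j : chevG2.Idx) :
    chevG2.x F 6 t (eI 1) j = (if j = eI 1 then 1 else 0) + (if j = eI 0 then -t else 0) := by
  revert j
  apply g2vf2_idx_cases
  all_goals
    unfold ChevalleyDatum.x
    rw [dif_pos (by decide)]
    simp only [ChevalleyDatum.xMat, Matrix.of_apply, eI, hI]
    simp [chainCoeff, chevG2, chevG2Chain, chevG2Chain6, chevG2NegIdx, chevG2Coroot, chevG2CartanSR,
      Fin.ext_iff]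

set_option maxHeartbeats 4000000 in
theorem g2vf2_row_6_2 (t : F) (j : chevG2.Idx) :
    chevG2.x F 6 t (eI 2) j = (if j = eI 2 then 1 else 0) + (if j = eI 0 then 0 else 0) := by
  revert j
  apply g2vf2_idx_cases
  all_goals
    unfold ChevalleyDatum.x
    rw [dif_pos (by decide)]
    simp only [ChevalleyDatum.xMat, Matrix.of_apply, eI, hI]
    simp [chainCoeff, chevG2, chevG2Chain, chevG2Chain6, chevG2NegIdx, chevG2Coroot, chevG2CartanSR,
      Fin.ext_iff]

set_option maxHeartbeats 4000000 in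
theorem g2vf2_row_6_3 (t : F) (j : chevG2.Idx) :
    chevG2.x F 6 t (eI 3) j = (if j = eI 3 then 1 else 0) + (if j = eI 0 then 0 else 0) := by
  revert j
  apply g2vf2_idx_cases
  all_goals
    unfold ChevalleyDatum.x
    rw [dif_pos (by decide)]
    simp only [ChevalleyDatum.xMat, Matrix.of_apply, eI, hI]
    simp [chainCoeff, chevG2, chevG2Chain, chevG2Chain6, chevG2NegIdx, chevG2Coroot, chevG2CartanSR,
      Fin.ext_iff]

set_option maxHeartbeats 4000000 in
theorem g2vf2_row_6_5 (t : F) (j : chevG2.Idx) :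
    chevG2.x F 6 t (eI 5) j = (if j = eI 5 then 1 else 0) + (if j = eI 0 then 0 else 0) := by
  revert j
  apply g2vf2_idx_cases
  all_goals
    unfold ChevalleyDatum.x
    rw [dif_pos (by decide)]
    simp only [ChevalleyDatum.xMat, Matrix.of_apply, eI, hI]
    simp [chainCoeff, chevG2, chevG2Chain, chevG2Chain6, chevG2NegIdx, chevG2Coroot, chevG2CartanSR,
      Fin.ext_iff]

set_option maxHeartbeats 4000000 in
theorem g2vf2_row_8_0 (t : F) (j : chevG2.Idx) :
    chevG2.x F 8 t (eI 0) j = (if j = eI 0 then 1 else 0) + (if j = eI 0 then 0 else 0) := by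
  revert j
  apply g2vf2_idx_cases
  all_goals
    unfold ChevalleyDatum.x
    rw [dif_pos (by decide)]
    simp only [ChevalleyDatum.xMat, Matrix.of_apply, eI, hI]
    simp [chainCoeff, chevG2, chevG2Chain, chevG2Chain8, chevG2NegIdx, chevG2Coroot, chevG2CartanSR,
      Fin.ext_iff]

set_option maxHeartbeats 4000000 in
theorem g2vf2_row_8_1 (t : F) (j : chevG2.Idx) :
    chevG2.x F 8 t (eI 1) j = (if j = eI 1 then 1 else 0) + (if j = eI 0 then 0 else 0) := by
  revert j
  apply g2vf2_idx_cases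
  all_goals
    unfold ChevalleyDatum.x
    rw [dif_pos (by decide)]
    simp only [ChevalleyDatum.xMat, Matrix.of_apply, eI, hI]
    simp [chainCoeff, chevG2, chevG2Chain, chevG2Chain8, chevG2NegIdx, chevG2Coroot, chevG2CartanSR,
      Fin.ext_iff]

set_option maxHeartbeats 4000000 in
theorem g2vf2_row_8_2 (t : F) (j : chevG2.Idx) :
    chevG2.x F 8 t (eI 2) j = (if j = eI 2 then 1 else 0) + (if j = eI 0 then -t else 0) := by
  revert j
  apply g2vf2_idx_cases
  all_goals
    unfold ChevalleyDatum.x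
    rw [dif_pos (by decide)]
    simp only [ChevalleyDatum.xMat, Matrix.of_apply, eI, hI]
    simp [chainCoeff, chevG2, chevG2Chain, chevG2Chain8, chevG2NegIdx, chevG2Coroot, chevG2CartanSR,
      Fin.ext_iff]

set_option maxHeartbeats 4000000 in
theorem g2vf2_row_8_3 (t : F) (j : chevG2.Idx) :
    chevG2.x F 8 t (eI 3) j = (if j = eI 3 then 1 else 0) + (if j = eI 0 then 0 else 0) := by
  revert j
  apply g2vf2_idx_cases
  all_goals
    unfold ChevalleyDatum.x
    rw [dif_pos (by decide)]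
    simp only [ChevalleyDatum.xMat, Matrix.of_apply, eI, hI]
    simp [chainCoeff, chevG2, chevG2Chain, chevG2Chain8, chevG2NegIdx, chevG2Coroot, chevG2CartanSR,
      Fin.ext_iff]

set_option maxHeartbeats 4000000 in
theorem g2vf2_row_8_5 (t : F) (j : chevG2.Idx) :
    chevG2.x F 8 t (eI 5) j = (if j = eI 5 then 1 else 0) + (if j = eI 0 then 0 else 0) := by
  revert j
  apply g2vf2_idx_cases
  all_goals
    unfold ChevalleyDatum.x
    rw [dif_pos (by decide)]
    simp only [ChevalleyDatum.xMat, Matrix.of_apply, eI, hI]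
    simp [chainCoeff, chevG2, chevG2Chain, chevG2Chain8, chevG2NegIdx, chevG2Coroot, chevG2CartanSR,
      Fin.ext_iff]

set_option maxHeartbeats 4000000 in
theorem g2vf2_row_9_0 (t : F) (j : chevG2.Idx) :
    chevG2.x F 9 t (eI 0) j = (if j = eI 0 then 1 else 0) + (if j = eI 0 then 0 else 0) := by
  revert j
  apply g2vf2_idx_cases
  all_goals
    unfold ChevalleyDatum.x
    rw [dif_pos (by decide)]
    simp only [ChevalleyDatum.xMat, Matrix.of_apply, eI, hI]
    simp [chainCoeff, chevG2, chevG2Chain, chevG2Chain9, chevG2NegIdx, chevG2Coroot, chevG2CartanSR,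
      Fin.ext_iff]

set_option maxHeartbeats 4000000 in
theorem g2vf2_row_9_1 (t : F) (j : chevG2.Idx) :
    chevG2.x F 9 t (eI 1) j = (if j = eI 1 then 1 else 0) + (if j = eI 0 then 0 else 0) := by
  revert j
  apply g2vf2_idx_cases
  all_goals
    unfold ChevalleyDatum.x
    rw [dif_pos (by decide)]
    simp only [ChevalleyDatum.xMat, Matrix.of_apply, eI, hI]
    simp [chainCoeff, chevG2, chevG2Chain, chevG2Chain9, chevG2NegIdx, chevG2Coroot, chevG2CartanSR,
      Fin.ext_iff]

set_option maxHeartbeats 4000000 in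
theorem g2vf2_row_9_2 (t : F) (j : chevG2.Idx) :
    chevG2.x F 9 t (eI 2) j = (if j = eI 2 then 1 else 0) + (if j = eI 0 then 0 else 0) := by
  revert j
  apply g2vf2_idx_cases
  all_goals
    unfold ChevalleyDatum.x
    rw [dif_pos (by decide)]
    simp only [ChevalleyDatum.xMat, Matrix.of_apply, eI, hI]
    simp [chainCoeff, chevG2, chevG2Chain, chevG2Chain9, chevG2NegIdx, chevG2Coroot, chevG2CartanSR,
      Fin.ext_iff]

set_option maxHeartbeats 4000000 in
theorem g2vf2_row_9_3 (t : F) (j : chevG2.Idx) :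
    chevG2.x F 9 t (eI 3) j = (if j = eI 3 then 1 else 0) + (if j = eI 0 then t else 0) := by
  revert j
  apply g2vf2_idx_cases
  all_goals
    unfold ChevalleyDatum.x
    rw [dif_pos (by decide)]
    simp only [ChevalleyDatum.xMat, Matrix.of_apply, eI, hI]
    simp [chainCoeff, chevG2, chevG2Chain, chevG2Chain9, chevG2NegIdx, chevG2Coroot, chevG2CartanSR,
      Fin.ext_iff]

set_option maxHeartbeats 4000000 in
theorem g2vf2_row_9_5 (t : F) (j : chevG2.Idx) :
    chevG2.x F 9 t (eI 5) j = (if j = eI 5 then 1 else 0) + (if j = eI 0 then 0 else 0) := by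
  revert j
  apply g2vf2_idx_cases
  all_goals
    unfold ChevalleyDatum.x
    rw [dif_pos (by decide)]
    simp only [ChevalleyDatum.xMat, Matrix.of_apply, eI, hI]
    simp [chainCoeff, chevG2, chevG2Chain, chevG2Chain9, chevG2NegIdx, chevG2Coroot, chevG2CartanSR,
      Fin.ext_iff]

set_option maxHeartbeats 4000000 in
theorem g2vf2_row_10_0 (t : F) (j : chevG2.Idx) :
    chevG2.x F 10 t (eI 0) j = (if j = eI 0 then 1 else 0) + (if j = eI 0 then 0 else 0) := by
  revert j
  apply g2vf2_idx_cases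
  all_goals
    unfold ChevalleyDatum.x
    rw [dif_pos (by decide)]
    simp only [ChevalleyDatum.xMat, Matrix.of_apply, eI, hI]
    simp [chainCoeff, chevG2, chevG2Chain, chevG2Chain10, chevG2NegIdx, chevG2Coroot, chevG2CartanSR,
      Fin.ext_iff]

set_option maxHeartbeats 4000000 in
theorem g2vf2_row_10_1 (t : F) (j : chevG2.Idx) :
    chevG2.x F 10 t (eI 1) j = (if j = eI 1 then 1 else 0) + (if j = eI 0 then 0 else 0) := by
  revert j
  apply g2vf2_idx_cases
  all_goals
    unfold ChevalleyDatum.x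
    rw [dif_pos (by decide)]
    simp only [ChevalleyDatum.xMat, Matrix.of_apply, eI, hI]
    simp [chainCoeff, chevG2, chevG2Chain, chevG2Chain10, chevG2NegIdx, chevG2Coroot, chevG2CartanSR,
      Fin.ext_iff]

set_option maxHeartbeats 4000000 in
theorem g2vf2_row_10_2 (t : F) (j : chevG2.Idx) :
    chevG2.x F 10 t (eI 2) j = (if j = eI 2 then 1 else 0) + (if j = eI 0 then 0 else 0) := by
  revert j
  apply g2vf2_idx_cases
  all_goals
    unfold ChevalleyDatum.x
    rw [dif_pos (by decide)]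
    simp only [ChevalleyDatum.xMat, Matrix.of_apply, eI, hI]
    simp [chainCoeff, chevG2, chevG2Chain, chevG2Chain10, chevG2NegIdx, chevG2Coroot, chevG2CartanSR,
      Fin.ext_iff]

set_option maxHeartbeats 4000000 in
theorem g2vf2_row_10_3 (t : F) (j : chevG2.Idx) :
    chevG2.x F 10 t (eI 3) j = (if j = eI 3 then 1 else 0) + (if j = eI 0 then 0 else 0) := by
  revert j
  apply g2vf2_idx_cases
  all_goals
    unfold ChevalleyDatum.x
    rw [dif_pos (by decide)]
    simp only [ChevalleyDatum.xMat, Matrix.of_apply, eI, hI]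
    simp [chainCoeff, chevG2, chevG2Chain, chevG2Chain10, chevG2NegIdx, chevG2Coroot, chevG2CartanSR,
      Fin.ext_iff]

set_option maxHeartbeats 4000000 in
theorem g2vf2_row_10_5 (t : F) (j : chevG2.Idx) :
    chevG2.x F 10 t (eI 5) j = (if j = eI 5 then 1 else 0) + (if j = eI 0 then t else 0) := by
  revert j
  apply g2vf2_idx_cases
  all_goals
    unfold ChevalleyDatum.x
    rw [dif_pos (by decide)]
    simp only [ChevalleyDatum.xMat, Matrix.of_apply, eI, hI]
    simp [chainCoeff, chevG2, chevG2Chain, chevG2Chain10, chevG2NegIdx, chevG2Coroot, chevG2CartanSR,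
      Fin.ext_iff]

set_option maxHeartbeats 4000000 in
theorem g2vf2_row_11_0 (t : F) (j : chevG2.Idx) :
    chevG2.x F 11 t (eI 0) j = (if j = eI 0 then 1 else 0) + (if j = eI 0 then 0 else 0) := by
  revert j
  apply g2vf2_idx_cases
  all_goals
    unfold ChevalleyDatum.x
    rw [dif_pos (by decide)]
    simp only [ChevalleyDatum.xMat, Matrix.of_apply, eI, hI]
    simp [chainCoeff, chevG2, chevG2Chain, chevG2Chain11, chevG2NegIdx, chevG2Coroot, chevG2CartanSR,
      Fin.ext_iff]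

set_option maxHeartbeats 4000000 in
theorem g2vf2_row_11_1 (t : F) (j : chevG2.Idx) :
    chevG2.x F 11 t (eI 1) j = (if j = eI 1 then 1 else 0) + (if j = eI 0 then 0 else 0) := by
  revert j
  apply g2vf2_idx_cases
  all_goals
    unfold ChevalleyDatum.x
    rw [dif_pos (by decide)]
    simp only [ChevalleyDatum.xMat, Matrix.of_apply, eI, hI]
    simp [chainCoeff, chevG2, chevG2Chain, chevG2Chain11, chevG2NegIdx, chevG2Coroot, chevG2CartanSR,
      Fin.ext_iff]

set_option maxHeartbeats 4000000 in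
theorem g2vf2_row_11_2 (t : F) (j : chevG2.Idx) :
    chevG2.x F 11 t (eI 2) j = (if j = eI 2 then 1 else 0) + (if j = eI 0 then 0 else 0) := by
  revert j
  apply g2vf2_idx_cases
  all_goals
    unfold ChevalleyDatum.x
    rw [dif_pos (by decide)]
    simp only [ChevalleyDatum.xMat, Matrix.of_apply, eI, hI]
    simp [chainCoeff, chevG2, chevG2Chain, chevG2Chain11, chevG2NegIdx, chevG2Coroot, chevG2CartanSR,
      Fin.ext_iff]

set_option maxHeartbeats 4000000 in
theorem g2vf2_row_11_3 (t : F) (j : chevG2.Idx) :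
    chevG2.x F 11 t (eI 3) j = (if j = eI 3 then 1 else 0) + (if j = eI 0 then 0 else 0) := by
  revert j
  apply g2vf2_idx_cases
  all_goals
    unfold ChevalleyDatum.x
    rw [dif_pos (by decide)]
    simp only [ChevalleyDatum.xMat, Matrix.of_apply, eI, hI]
    simp [chainCoeff, chevG2, chevG2Chain, chevG2Chain11, chevG2NegIdx, chevG2Coroot, chevG2CartanSR,
      Fin.ext_iff]

set_option maxHeartbeats 4000000 in
theorem g2vf2_row_11_5 (t : F) (j : chevG2.Idx) :
    chevG2.x F 11 t (eI 5) j = (if j = eI 5 then 1 else 0) + (if j = eI 0 then 0 else 0) := by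
  revert j
  apply g2vf2_idx_cases
  all_goals
    unfold ChevalleyDatum.x
    rw [dif_pos (by decide)]
    simp only [ChevalleyDatum.xMat, Matrix.of_apply, eI, hI]
    simp [chainCoeff, chevG2, chevG2Chain, chevG2Chain11, chevG2NegIdx, chevG2Coroot, chevG2CartanSR,
      Fin.ext_iff]

/-- a row of the shape `e_k + c e₀` picks two entries of the column `e₀` of a product -/
theorem g2vf2_step (A W : Matrix chevG2.Idx chevG2.Idx F) (k : chevG2.Idx) (c : F)
    (hA : ∀ j, A k j = (if j = k then 1 else 0) + (if j = eI 0 then c else 0)) :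
    (A * W) k (eI 0) = W k (eI 0) + c * W (eI 0) (eI 0) := by
  rw [Matrix.mul_apply]
  simp only [hA, add_mul, ite_mul, one_mul, zero_mul, Finset.sum_add_distrib, Finset.sum_ite_eq',
    Finset.mem_univ, if_true]

theorem g2vf2_X_val (r : ℕ) (t : F) :
    ((X r t : GG F) : Matrix chevG2.Idx chevG2.Idx F) = chevG2.x F r t := rfl

/-- **F2**, first part. -/
theorem Qcol (t1 t2 t3 t4 t5 : F) :
    let u : GG F := X 6 t1 * X 8 t2 * X 9 t3 * X 10 t4 * X 11 t5
    (u : Matrix chevG2.Idx chevG2.Idx F) (eI 0) (eI 0) = 1 ∧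
    (u : Matrix chevG2.Idx chevG2.Idx F) (eI 1) (eI 0) = -t1 ∧
    (u : Matrix chevG2.Idx chevG2.Idx F) (eI 2) (eI 0) = -t2 ∧
    (u : Matrix chevG2.Idx chevG2.Idx F) (eI 3) (eI 0) = t3 ∧
    (u : Matrix chevG2.Idx chevG2.Idx F) (eI 5) (eI 0) = t4 := by
  intro u
  have hu : (u : Matrix chevG2.Idx chevG2.Idx F) =
      chevG2.x F 6 t1 * (chevG2.x F 8 t2 * (chevG2.x F 9 t3 * (chevG2.x F 10 t4 *
        chevG2.x F 11 t5))) := by
    show ((X 6 t1 * X 8 t2 * X 9 t3 * X 10 t4 * X 11 t5 : GG F) :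
      Matrix chevG2.Idx chevG2.Idx F) = _
    simp only [Units.val_mul, g2vf2_X_val, Matrix.mul_assoc]
  have n01 : (eI 0 : chevG2.Idx) ≠ eI 1 := by decide
  have n02 : (eI 0 : chevG2.Idx) ≠ eI 2 := by decide
  have n03 : (eI 0 : chevG2.Idx) ≠ eI 3 := by decide
  have n05 : (eI 0 : chevG2.Idx) ≠ eI 5 := by decide
  rw [hu]
  refine ⟨?_, ?_, ?_, ?_, ?_⟩
  · rw [g2vf2_step _ _ _ _ (g2vf2_row_6_0 t1), g2vf2_step _ _ _ _ (g2vf2_row_8_0 t2),
      g2vf2_step _ _ _ _ (g2vf2_row_9_0 t3), g2vf2_step _ _ _ _ (g2vf2_row_10_0 t4),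
      g2vf2_row_11_0]
    simp
  · rw [g2vf2_step _ _ _ _ (g2vf2_row_6_1 t1), g2vf2_step _ _ _ _ (g2vf2_row_8_1 t2),
      g2vf2_step _ _ _ _ (g2vf2_row_9_1 t3), g2vf2_step _ _ _ _ (g2vf2_row_10_1 t4),
      g2vf2_row_11_1,
      g2vf2_step _ _ _ _ (g2vf2_row_8_0 t2),
      g2vf2_step _ _ _ _ (g2vf2_row_9_0 t3), g2vf2_step _ _ _ _ (g2vf2_row_10_0 t4),
      g2vf2_row_11_0]
    simp [n01]
  · rw [g2vf2_step _ _ _ _ (g2vf2_row_6_2 t1), g2vf2_step _ _ _ _ (g2vf2_row_8_2 t2),
      g2vf2_step _ _ _ _ (g2vf2_row_9_2 t3), g2vf2_step _ _ _ _ (g2vf2_row_10_2 t4),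
      g2vf2_row_11_2,
      g2vf2_step _ _ _ _ (g2vf2_row_8_0 t2),
      g2vf2_step _ _ _ _ (g2vf2_row_9_0 t3), g2vf2_step _ _ _ _ (g2vf2_row_10_0 t4),
      g2vf2_row_11_0]
    simp [n02]
  · rw [g2vf2_step _ _ _ _ (g2vf2_row_6_3 t1), g2vf2_step _ _ _ _ (g2vf2_row_8_3 t2),
      g2vf2_step _ _ _ _ (g2vf2_row_9_3 t3), g2vf2_step _ _ _ _ (g2vf2_row_10_3 t4),
      g2vf2_row_11_3,
      g2vf2_step _ _ _ _ (g2vf2_row_8_0 t2),
      g2vf2_step _ _ _ _ (g2vf2_row_9_0 t3), g2vf2_step _ _ _ _ (g2vf2_row_10_0 t4),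
      g2vf2_row_11_0]
    simp [n03]
  · rw [g2vf2_step _ _ _ _ (g2vf2_row_6_5 t1), g2vf2_step _ _ _ _ (g2vf2_row_8_5 t2),
      g2vf2_step _ _ _ _ (g2vf2_row_9_5 t3), g2vf2_step _ _ _ _ (g2vf2_row_10_5 t4),
      g2vf2_row_11_5,
      g2vf2_step _ _ _ _ (g2vf2_row_8_0 t2),
      g2vf2_step _ _ _ _ (g2vf2_row_9_0 t3), g2vf2_step _ _ _ _ (g2vf2_row_10_0 t4),
      g2vf2_row_11_0]
    simp [n05]

set_option maxHeartbeats 4000000 in
/-- **F2**, second part. -/
theorem Qcol11 (t : F) (i : chevG2.Idx) :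
    ((X 11 t : GG F) : Matrix chevG2.Idx chevG2.Idx F) i (eI 0) =
      if i = hI 0 then t else if i = hI 1 then 2 * t else if i = eI 0 then 1
      else if i = eI 11 then -t ^ 2 else 0 := by
  rw [g2vf2_X_val]
  revert i
  apply g2vf2_idx_cases
  all_goals
    unfold ChevalleyDatum.x
    rw [dif_pos (by decide)]
    simp only [ChevalleyDatum.xMat, Matrix.of_apply, eI, hI]
    simp [chainCoeff, chevG2, chevG2Chain, chevG2Chain11, chevG2NegIdx, chevG2Coroot, chevG2CartanSR,
      Fin.ext_iff]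

end Cfsg.Agent.Lib.Helper19.G2V
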