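import Mathlib
import Cfsg.Agent.Lib.Helper19.G2V.Defs
import Cfsg.Agent.Lib.Helper5.G2VQ1

/-!
# Project G2V (S2461), row F3 (`fpf_cmp`) as a core: the statements of the rows F1 (`xG_val`) and F2
(`Qcol`, `Qcol11`) are hypotheses (Q1 `Qp_form` is cited).
-/

set_option autoImplicit false

namespace Cfsg.Agent.Lib.Helper19.G2V

open Cfsg.Lie Cfsg.Lie.ChevalleyDatum Matrix
open Cfsg.Agent.Lib.helper8
open Cfsg.Agent.Lib.helper23.P4V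

universe u

variable {F : Type u} [Field F]

theorem g2vf3_sum14 (f : chevG2.Idx → F) :
    ∑ j, f j = f (hI 0) + f (hI 1) + f (eI 0) + f (eI 1) + f (eI 2) + f (eI 3) + f (eI 4) +
      f (eI 5) + f (eI 6) + f (eI 7) + f (eI 8) + f (eI 9) + f (eI 10) + f (eI 11) := by
  rw [Fintype.sum_sum_type]
  have e1 : ∑ i : Fin chevG2.rank, f (Sum.inl i) = f (hI 0) + f (hI 1) := by
    show ∑ i : Fin 2, f (Sum.inl i) = _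
    rw [Fin.sum_univ_two]
    rfl
  have e2 : ∑ i : Fin chevG2.nroots, f (Sum.inr i) = f (eI 0) + f (eI 1) + f (eI 2) +
      f (eI 3) + f (eI 4) + f (eI 5) + f (eI 6) + f (eI 7) + f (eI 8) + f (eI 9) + f (eI 10) +
      f (eI 11) := by
    show ∑ i : Fin 12, f (Sum.inr i) = _
    simp only [Fin.sum_univ_succ, Fin.sum_univ_zero, add_zero]
    simp only [add_assoc]
    rfl
  rw [e1, e2]
  simp only [add_assoc]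

theorem g2vf3_X_zero (r : ℕ) : X r (0 : F) = 1 := by
  apply Units.ext
  exact hB.zero F r

/-! entries of `xM` (all by `rfl`) -/

theorem g2vf3_M_h0_h0 (τ ν : F) : xM τ ν (hI 0) (hI 0) = -1 := rfl
theorem g2vf3_M_h0_h1 (τ ν : F) : xM τ ν (hI 0) (hI 1) = 1 := rfl
theorem g2vf3_M_h0_e0 (τ ν : F) : xM τ ν (hI 0) (eI 0) = 0 := rfl
theorem g2vf3_M_h0_e1 (τ ν : F) : xM τ ν (hI 0) (eI 1) = 0 := rfl
theorem g2vf3_M_h0_e2 (τ ν : F) : xM τ ν (hI 0) (eI 2) = 0 := rfl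
theorem g2vf3_M_h0_e3 (τ ν : F) : xM τ ν (hI 0) (eI 3) = 0 := rfl
theorem g2vf3_M_h0_e4 (τ ν : F) : xM τ ν (hI 0) (eI 4) = -τ := rfl
theorem g2vf3_M_h0_e5 (τ ν : F) : xM τ ν (hI 0) (eI 5) = 0 := rfl
theorem g2vf3_M_h0_e6 (τ ν : F) : xM τ ν (hI 0) (eI 6) = 0 := rfl
theorem g2vf3_M_h0_e7 (τ ν : F) : xM τ ν (hI 0) (eI 7) = 0 := rfl
theorem g2vf3_M_h0_e8 (τ ν : F) : xM τ ν (hI 0) (eI 8) = 0 := rfl
theorem g2vf3_M_h0_e9 (τ ν : F) : xM τ ν (hI 0) (eI 9) = 0 := rfl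
theorem g2vf3_M_h0_e10 (τ ν : F) : xM τ ν (hI 0) (eI 10) = 0 := rfl
theorem g2vf3_M_h0_e11 (τ ν : F) : xM τ ν (hI 0) (eI 11) = 0 := rfl
theorem g2vf3_M_e1_h0 (τ ν : F) : xM τ ν (eI 1) (hI 0) = 0 := rfl
theorem g2vf3_M_e1_h1 (τ ν : F) : xM τ ν (eI 1) (hI 1) = 0 := rfl
theorem g2vf3_M_e1_e0 (τ ν : F) : xM τ ν (eI 1) (eI 0) = 0 := rfl
theorem g2vf3_M_e1_e1 (τ ν : F) : xM τ ν (eI 1) (eI 1) = τ ^ 3 / ν ^ 2 := rfl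
theorem g2vf3_M_e1_e2 (τ ν : F) : xM τ ν (eI 1) (eI 2) = -3 * τ ^ 2 / ν ^ 2 := rfl
theorem g2vf3_M_e1_e3 (τ ν : F) : xM τ ν (eI 1) (eI 3) = -3 * τ / ν ^ 2 := rfl
theorem g2vf3_M_e1_e4 (τ ν : F) : xM τ ν (eI 1) (eI 4) = 0 := rfl
theorem g2vf3_M_e1_e5 (τ ν : F) : xM τ ν (eI 1) (eI 5) = -1 / ν ^ 2 := rfl
theorem g2vf3_M_e1_e6 (τ ν : F) : xM τ ν (eI 1) (eI 6) = 0 := rfl
theorem g2vf3_M_e1_e7 (τ ν : F) : xM τ ν (eI 1) (eI 7) = 0 := rfl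
theorem g2vf3_M_e1_e8 (τ ν : F) : xM τ ν (eI 1) (eI 8) = 0 := rfl
theorem g2vf3_M_e1_e9 (τ ν : F) : xM τ ν (eI 1) (eI 9) = 0 := rfl
theorem g2vf3_M_e1_e10 (τ ν : F) : xM τ ν (eI 1) (eI 10) = 0 := rfl
theorem g2vf3_M_e1_e11 (τ ν : F) : xM τ ν (eI 1) (eI 11) = 0 := rfl
theorem g2vf3_M_e2_h0 (τ ν : F) : xM τ ν (eI 2) (hI 0) = 0 := rfl
theorem g2vf3_M_e2_h1 (τ ν : F) : xM τ ν (eI 2) (hI 1) = 0 := rfl
theorem g2vf3_M_e2_e0 (τ ν : F) : xM τ ν (eI 2) (eI 0) = 0 := rfl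
theorem g2vf3_M_e2_e1 (τ ν : F) : xM τ ν (eI 2) (eI 1) = τ ^ 2 / ν := rfl
theorem g2vf3_M_e2_e2 (τ ν : F) : xM τ ν (eI 2) (eI 2) = -2 * τ / ν := rfl
theorem g2vf3_M_e2_e3 (τ ν : F) : xM τ ν (eI 2) (eI 3) = -1 / ν := rfl
theorem g2vf3_M_e2_e4 (τ ν : F) : xM τ ν (eI 2) (eI 4) = 0 := rfl
theorem g2vf3_M_e2_e5 (τ ν : F) : xM τ ν (eI 2) (eI 5) = 0 := rfl
theorem g2vf3_M_e2_e6 (τ ν : F) : xM τ ν (eI 2) (eI 6) = 0 := rfl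
theorem g2vf3_M_e2_e7 (τ ν : F) : xM τ ν (eI 2) (eI 7) = 0 := rfl
theorem g2vf3_M_e2_e8 (τ ν : F) : xM τ ν (eI 2) (eI 8) = 0 := rfl
theorem g2vf3_M_e2_e9 (τ ν : F) : xM τ ν (eI 2) (eI 9) = 0 := rfl
theorem g2vf3_M_e2_e10 (τ ν : F) : xM τ ν (eI 2) (eI 10) = 0 := rfl
theorem g2vf3_M_e2_e11 (τ ν : F) : xM τ ν (eI 2) (eI 11) = 0 := rfl
theorem g2vf3_M_e3_h0 (τ ν : F) : xM τ ν (eI 3) (hI 0) = 0 := rfl
theorem g2vf3_M_e3_h1 (τ ν : F) : xM τ ν (eI 3) (hI 1) = 0 := rfl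
theorem g2vf3_M_e3_e0 (τ ν : F) : xM τ ν (eI 3) (eI 0) = 0 := rfl
theorem g2vf3_M_e3_e1 (τ ν : F) : xM τ ν (eI 3) (eI 1) = -τ := rfl
theorem g2vf3_M_e3_e2 (τ ν : F) : xM τ ν (eI 3) (eI 2) = 1 := rfl
theorem g2vf3_M_e3_e3 (τ ν : F) : xM τ ν (eI 3) (eI 3) = 0 := rfl
theorem g2vf3_M_e3_e4 (τ ν : F) : xM τ ν (eI 3) (eI 4) = 0 := rfl
theorem g2vf3_M_e3_e5 (τ ν : F) : xM τ ν (eI 3) (eI 5) = 0 := rfl
theorem g2vf3_M_e3_e6 (τ ν : F) : xM τ ν (eI 3) (eI 6) = 0 := rfl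
theorem g2vf3_M_e3_e7 (τ ν : F) : xM τ ν (eI 3) (eI 7) = 0 := rfl
theorem g2vf3_M_e3_e8 (τ ν : F) : xM τ ν (eI 3) (eI 8) = 0 := rfl
theorem g2vf3_M_e3_e9 (τ ν : F) : xM τ ν (eI 3) (eI 9) = 0 := rfl
theorem g2vf3_M_e3_e10 (τ ν : F) : xM τ ν (eI 3) (eI 10) = 0 := rfl
theorem g2vf3_M_e3_e11 (τ ν : F) : xM τ ν (eI 3) (eI 11) = 0 := rfl
theorem g2vf3_M_e5_h0 (τ ν : F) : xM τ ν (eI 5) (hI 0) = 0 := rfl
theorem g2vf3_M_e5_h1 (τ ν : F) : xM τ ν (eI 5) (hI 1) = 0 := rfl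
theorem g2vf3_M_e5_e0 (τ ν : F) : xM τ ν (eI 5) (eI 0) = 0 := rfl
theorem g2vf3_M_e5_e1 (τ ν : F) : xM τ ν (eI 5) (eI 1) = ν := rfl
theorem g2vf3_M_e5_e2 (τ ν : F) : xM τ ν (eI 5) (eI 2) = 0 := rfl
theorem g2vf3_M_e5_e3 (τ ν : F) : xM τ ν (eI 5) (eI 3) = 0 := rfl
theorem g2vf3_M_e5_e4 (τ ν : F) : xM τ ν (eI 5) (eI 4) = 0 := rfl
theorem g2vf3_M_e5_e5 (τ ν : F) : xM τ ν (eI 5) (eI 5) = 0 := rfl
theorem g2vf3_M_e5_e6 (τ ν : F) : xM τ ν (eI 5) (eI 6) = 0 := rfl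
theorem g2vf3_M_e5_e7 (τ ν : F) : xM τ ν (eI 5) (eI 7) = 0 := rfl
theorem g2vf3_M_e5_e8 (τ ν : F) : xM τ ν (eI 5) (eI 8) = 0 := rfl
theorem g2vf3_M_e5_e9 (τ ν : F) : xM τ ν (eI 5) (eI 9) = 0 := rfl
theorem g2vf3_M_e5_e10 (τ ν : F) : xM τ ν (eI 5) (eI 10) = 0 := rfl
theorem g2vf3_M_e5_e11 (τ ν : F) : xM τ ν (eI 5) (eI 11) = 0 := rfl
theorem g2vf3_M_h1_e0 (τ ν : F) : xM τ ν (hI 1) (eI 0) = 0 := rfl
theorem g2vf3_M_e0_e0 (τ ν : F) : xM τ ν (eI 0) (eI 0) = 1 / ν := rfl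
theorem g2vf3_M_e4_e0 (τ ν : F) : xM τ ν (eI 4) (eI 0) = 0 := rfl
theorem g2vf3_M_e6_e0 (τ ν : F) : xM τ ν (eI 6) (eI 0) = 0 := rfl
theorem g2vf3_M_e7_e0 (τ ν : F) : xM τ ν (eI 7) (eI 0) = 0 := rfl
theorem g2vf3_M_e8_e0 (τ ν : F) : xM τ ν (eI 8) (eI 0) = 0 := rfl
theorem g2vf3_M_e9_e0 (τ ν : F) : xM τ ν (eI 9) (eI 0) = 0 := rfl
theorem g2vf3_M_e10_e0 (τ ν : F) : xM τ ν (eI 10) (eI 0) = 0 := rfl
theorem g2vf3_M_e11_e0 (τ ν : F) : xM τ ν (eI 11) (eI 0) = 0 := rfl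

/-- the linear algebra: the `ν⁻¹`-eigenspace of the degree `-1` block is trivial -/
theorem g2vf3_lin (τ ν : F) (hG : Good' τ ν) (w1 w2 w3 w5 : F)
    (h5 : w5 * (1 / ν) = ν * w1)
    (h3 : w3 * (1 / ν) = -τ * w1 + w2)
    (h2 : w2 * (1 / ν) = τ ^ 2 / ν * w1 + -2 * τ / ν * w2 + -1 / ν * w3)
    (h1 : w1 * (1 / ν) = τ ^ 3 / ν ^ 2 * w1 + -3 * τ ^ 2 / ν ^ 2 * w2 + -3 * τ / ν ^ 2 * w3 +
      -1 / ν ^ 2 * w5) :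
    w1 = 0 ∧ w2 = 0 ∧ w3 = 0 ∧ w5 = 0 := by
  have hν : ν ≠ 0 := hG.1.nu_ne_zero
  have hcub := hG.2
  have h1t : 1 - τ + ν ≠ 0 := by
    have := hG.1.2.2 1
    intro h
    apply this
    rw [← h]
    ring
  have e5 : w5 = ν ^ 2 * w1 := by
    field_simp at h5
    rw [h5]
  have e3 : w3 = ν * (w2 - τ * w1) := by
    field_simp at h3
    rw [h3]
    ring
  have eA : (1 + 2 * τ + ν) * w2 = τ * (τ + ν) * w1 := by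
    field_simp at h2
    rw [e3] at h2
    linear_combination h2
  have eB : (τ ^ 3 + 3 * τ ^ 2 * ν - ν ^ 2 - ν) * w1 = 3 * (τ * (τ + ν)) * w2 := by
    field_simp at h1
    rw [e3, e5] at h1
    linear_combination -h1
  have hdet : (1 - τ + ν) * (ν ^ 2 + ν - τ ^ 3 + 3 * τ * ν) ≠ 0 := mul_ne_zero h1t hcub
  have z1 : w1 = 0 := by
    have : (1 - τ + ν) * (ν ^ 2 + ν - τ ^ 3 + 3 * τ * ν) * w1 = 0 := by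
      linear_combination (-(1 + 2 * τ + ν)) * eB + (-(3 * (τ * (τ + ν)))) * eA
    rcases mul_eq_zero.mp this with h | h
    · exact absurd h hdet
    · exact h
  have z2 : w2 = 0 := by
    have : (1 - τ + ν) * (ν ^ 2 + ν - τ ^ 3 + 3 * τ * ν) * w2 = 0 := by
      linear_combination (-(τ * (τ + ν))) * eB + (-(τ ^ 3 + 3 * τ ^ 2 * ν - ν ^ 2 - ν)) * eA
    rcases mul_eq_zero.mp this with h | h
    · exact absurd h hdet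
    · exact h
  refine ⟨z1, z2, ?_, ?_⟩
  · rw [e3, z1, z2]
    ring
  · rw [e5, z1]
    ring

/-- **F3**, core. -/
theorem fpf_cmp_core
    (hF1 : ∀ (τ ν : F) (hν : ν ≠ 0),
      ((xG τ ν hν : GG F) : Matrix chevG2.Idx chevG2.Idx F) = xM τ ν)
    (hF2 : ∀ t1 t2 t3 t4 t5 : F,
      let u : GG F := X 6 t1 * X 8 t2 * X 9 t3 * X 10 t4 * X 11 t5
      (u : Matrix chevG2.Idx chevG2.Idx F) (eI 0) (eI 0) = 1 ∧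
      (u : Matrix chevG2.Idx chevG2.Idx F) (eI 1) (eI 0) = -t1 ∧
      (u : Matrix chevG2.Idx chevG2.Idx F) (eI 2) (eI 0) = -t2 ∧
      (u : Matrix chevG2.Idx chevG2.Idx F) (eI 3) (eI 0) = t3 ∧
      (u : Matrix chevG2.Idx chevG2.Idx F) (eI 5) (eI 0) = t4)
    (hF2b : ∀ (t : F) (i : chevG2.Idx),
      ((X 11 t : GG F) : Matrix chevG2.Idx chevG2.Idx F) i (eI 0) =
        if i = hI 0 then t else if i = hI 1 then 2 * t else if i = eI 0 then 1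
        else if i = eI 11 then -t ^ 2 else 0)
    (τ ν : F) (hG : Good' τ ν) (u : GG F) (hu : u ∈ Qp F)
    (hc : u * xG τ ν hG.1.nu_ne_zero = xG τ ν hG.1.nu_ne_zero * u) : u = 1 := by
  have hν : ν ≠ 0 := hG.1.nu_ne_zero
  obtain ⟨t1, t2, t3, t4, t5, rfl⟩ := Qp_form u hu
  obtain ⟨-, q1, q2, q3, q5⟩ := hF2 t1 t2 t3 t4 t5
  -- the matrix equation
  set U : Matrix chevG2.Idx chevG2.Idx F :=
    ((X 6 t1 * X 8 t2 * X 9 t3 * X 10 t4 * X 11 t5 : GG F) : Matrix chevG2.Idx chevG2.Idx F) with hU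
  have hmat : U * xM τ ν = xM τ ν * U := by
    rw [hU, ← hF1 τ ν hν, ← Units.val_mul, ← Units.val_mul, hc]
  have ent : ∀ i : chevG2.Idx, (U * xM τ ν) i (eI 0) = (xM τ ν * U) i (eI 0) := by
    intro i
    rw [hmat]
  have lhs : ∀ i : chevG2.Idx, (U * xM τ ν) i (eI 0) = U i (eI 0) * (1 / ν) := by
    intro i
    rw [Matrix.mul_apply, g2vf3_sum14]
    simp only [g2vf3_M_h0_e0, g2vf3_M_h1_e0, g2vf3_M_e0_e0, g2vf3_M_e1_e0, g2vf3_M_e2_e0, g2vf3_M_e3_e0, g2vf3_M_e4_e0, g2vf3_M_e5_e0, g2vf3_M_e6_e0, g2vf3_M_e7_e0, g2vf3_M_e8_e0, g2vf3_M_e9_e0, g2vf3_M_e10_e0, g2vf3_M_e11_e0]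
    ring
  have r5 : (xM τ ν * U) (eI 5) (eI 0) = ν * U (eI 1) (eI 0) := by
    rw [Matrix.mul_apply, g2vf3_sum14]
    simp only [g2vf3_M_e5_h0, g2vf3_M_e5_h1, g2vf3_M_e5_e0, g2vf3_M_e5_e1, g2vf3_M_e5_e2, g2vf3_M_e5_e3, g2vf3_M_e5_e4, g2vf3_M_e5_e5, g2vf3_M_e5_e6, g2vf3_M_e5_e7, g2vf3_M_e5_e8, g2vf3_M_e5_e9, g2vf3_M_e5_e10, g2vf3_M_e5_e11]
    ring
  have r3 : (xM τ ν * U) (eI 3) (eI 0) = -τ * U (eI 1) (eI 0) + U (eI 2) (eI 0) := by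
    rw [Matrix.mul_apply, g2vf3_sum14]
    simp only [g2vf3_M_e3_h0, g2vf3_M_e3_h1, g2vf3_M_e3_e0, g2vf3_M_e3_e1, g2vf3_M_e3_e2, g2vf3_M_e3_e3, g2vf3_M_e3_e4, g2vf3_M_e3_e5, g2vf3_M_e3_e6, g2vf3_M_e3_e7, g2vf3_M_e3_e8, g2vf3_M_e3_e9, g2vf3_M_e3_e10, g2vf3_M_e3_e11]
    ring
  have r2 : (xM τ ν * U) (eI 2) (eI 0) = τ ^ 2 / ν * U (eI 1) (eI 0) +
      -2 * τ / ν * U (eI 2) (eI 0) + -1 / ν * U (eI 3) (eI 0) := by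
    rw [Matrix.mul_apply, g2vf3_sum14]
    simp only [g2vf3_M_e2_h0, g2vf3_M_e2_h1, g2vf3_M_e2_e0, g2vf3_M_e2_e1, g2vf3_M_e2_e2, g2vf3_M_e2_e3, g2vf3_M_e2_e4, g2vf3_M_e2_e5, g2vf3_M_e2_e6, g2vf3_M_e2_e7, g2vf3_M_e2_e8, g2vf3_M_e2_e9, g2vf3_M_e2_e10, g2vf3_M_e2_e11]
    ring
  have r1 : (xM τ ν * U) (eI 1) (eI 0) = τ ^ 3 / ν ^ 2 * U (eI 1) (eI 0) +
      -3 * τ ^ 2 / ν ^ 2 * U (eI 2) (eI 0) + -3 * τ / ν ^ 2 * U (eI 3) (eI 0) +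
      -1 / ν ^ 2 * U (eI 5) (eI 0) := by
    rw [Matrix.mul_apply, g2vf3_sum14]
    simp only [g2vf3_M_e1_h0, g2vf3_M_e1_h1, g2vf3_M_e1_e0, g2vf3_M_e1_e1, g2vf3_M_e1_e2, g2vf3_M_e1_e3, g2vf3_M_e1_e4, g2vf3_M_e1_e5, g2vf3_M_e1_e6, g2vf3_M_e1_e7, g2vf3_M_e1_e8, g2vf3_M_e1_e9, g2vf3_M_e1_e10, g2vf3_M_e1_e11]
    ring
  have k5 := ent (eI 5)
  have k3 := ent (eI 3)
  have k2 := ent (eI 2)
  have k1 := ent (eI 1)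
  rw [lhs, r5] at k5
  rw [lhs, r3] at k3
  rw [lhs, r2] at k2
  rw [lhs, r1] at k1
  obtain ⟨z1, z2, z3, z5⟩ := g2vf3_lin τ ν hG _ _ _ _ k5 k3 k2 k1
  rw [q1] at z1
  rw [q2] at z2
  rw [q3] at z3
  rw [q5] at z5
  have t1z : t1 = 0 := neg_eq_zero.mp z1
  have t2z : t2 = 0 := neg_eq_zero.mp z2
  -- now `u = X 11 t5`
  have hu11 : (X 6 t1 * X 8 t2 * X 9 t3 * X 10 t4 * X 11 t5 : GG F) = X 11 t5 := by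
    rw [t1z, t2z, z3, z5, g2vf3_X_zero, g2vf3_X_zero, g2vf3_X_zero, g2vf3_X_zero]
    simp only [one_mul]
  have hU11 : U = ((X 11 t5 : GG F) : Matrix chevG2.Idx chevG2.Idx F) := by
    rw [hU, hu11]
  have r0 : (xM τ ν * U) (hI 0) (eI 0) = -U (hI 0) (eI 0) + U (hI 1) (eI 0) +
      -τ * U (eI 4) (eI 0) := by
    rw [Matrix.mul_apply, g2vf3_sum14]
    simp only [g2vf3_M_h0_h0, g2vf3_M_h0_h1, g2vf3_M_h0_e0, g2vf3_M_h0_e1, g2vf3_M_h0_e2, g2vf3_M_h0_e3, g2vf3_M_h0_e4, g2vf3_M_h0_e5, g2vf3_M_h0_e6, g2vf3_M_h0_e7, g2vf3_M_h0_e8, g2vf3_M_h0_e9, g2vf3_M_h0_e10, g2vf3_M_h0_e11]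
    ring
  have k0 := ent (hI 0)
  rw [lhs, r0, hU11, hF2b, hF2b, hF2b] at k0
  have c1 : (hI 1 : chevG2.Idx) ≠ hI 0 := by decide
  have c2 : (eI 4 : chevG2.Idx) ≠ hI 0 := by decide
  have c3 : (eI 4 : chevG2.Idx) ≠ hI 1 := by decide
  have c4 : (eI 4 : chevG2.Idx) ≠ eI 0 := by decide
  have c5 : (eI 4 : chevG2.Idx) ≠ eI 11 := by decide
  rw [if_pos rfl, if_neg c1, if_pos rfl, if_neg c2, if_neg c3, if_neg c4, if_neg c5] at k0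
  have t5z : t5 = 0 := by
    have h1 : ν ≠ 1 := hG.1.2.1
    have h : t5 * (1 - ν) = 0 := by
      field_simp at k0
      linear_combination k0
    rcases mul_eq_zero.mp h with h | h
    · exact h
    · exfalso
      apply h1
      linear_combination -h
  rw [hu11, t5z, g2vf3_X_zero]

end Cfsg.Agent.Lib.Helper19.G2V
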