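import Mathlib
import Cfsg.Agent.Lib.Helper19.G2V.Defs
import Cfsg.Agent.Lib.Helper25.G2VI3
import Cfsg.Agent.Lib.Helper11.G2TB3

/-!
# Project G2V (S2461), row I5 (`Lv_le_iota`) as a core: the statements of row I2 (`iota_mul`, `iota_one`,
`iota_inv`) are hypotheses (I3 and `T_form` are cited).
-/

set_option autoImplicit false

namespace Cfsg.Agent.Lib.Helper19.G2V

open Cfsg.Lie Cfsg.Lie.ChevalleyDatum Matrix
open Cfsg.Agent.Lib.helper8
open Cfsg.Agent.Lib.helper23.P4V

universe u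

variable {F : Type u} [Field F]

/-- a root of the subsystem `{0}` is `a` or `-a` -/
theorem g2vi5_roots (r : ℕ) (hr : chevG2.InRootSub ({0} : Set ℕ) r) : r = 7 ∨ r = 4 := by
  obtain ⟨hlt, h⟩ := hr
  have h1 := h 1 (by decide) (by simp)
  have hlt' : r < 12 := hlt
  interval_cases r
  all_goals first | (right; rfl) | (left; rfl) | (exfalso; revert h1; decide)

/-- **I5**, core. -/
theorem Lv_le_iota_core
    (hmul : ∀ A B : GL (Fin 2) F, iota (A * B) = iota A * iota B)
    (hone : iota (1 : GL (Fin 2) F) = 1)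
    (hinv : ∀ A : GL (Fin 2) F, iota A⁻¹ = (iota A)⁻¹)
    (g : GG F) (hg : g ∈ Lv F) : ∃ A : GL (Fin 2) F, g = iota A := by
  let R : Subgroup (GG F) :=
    { carrier := {g | ∃ A : GL (Fin 2) F, g = iota A}
      mul_mem' := by
        rintro a b ⟨A, rfl⟩ ⟨B, rfl⟩
        exact ⟨A * B, (hmul A B).symm⟩
      one_mem' := ⟨1, hone.symm⟩
      inv_mem' := by
        rintro a ⟨A, rfl⟩
        exact ⟨A⁻¹, (hinv A).symm⟩ }
  have hle : Lv F ≤ R := by
    unfold Lv ChevalleyDatum.leviSubgroup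
    apply sup_le
    · intro h hh
      obtain ⟨c0, c1, hc0, hc1, e⟩ := (Cfsg.Agent.Lib.helper14.G2T.T_form (E := F)).1 h hh
      have hd0 : (!![c0, 0; 0, c0⁻¹] : M2 F).det ≠ 0 := by
        rw [Matrix.det_fin_two_of]
        simp [hc0]
      have hd1 : (!![1, 0; 0, c1] : M2 F).det ≠ 0 := by
        rw [Matrix.det_fin_two_of]
        simp [hc1]
      have e0 : iota (mk2 _ hd0) = ha c0 := iota_ha _ c0 hc0 rfl
      have e1 : iota (mk2 _ hd1) = hb c1 := iota_dg _ c1 rfl
      refine ⟨mk2 _ hd0 * mk2 _ hd1, ?_⟩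
      rw [hmul, e0, e1]
      apply Units.ext
      rw [e, Units.val_mul]
      rfl
    · rw [Subgroup.closure_le]
      rintro h ⟨r, t, hr, e⟩
      have hd7 : (!![1, t; 0, 1] : M2 F).det ≠ 0 := by
        rw [Matrix.det_fin_two_of]
        simp
      have hd4 : (!![1, 0; t, 1] : M2 F).det ≠ 0 := by
        rw [Matrix.det_fin_two_of]
        simp
      rcases g2vi5_roots r hr with rfl | rfl
      · refine ⟨mk2 _ hd7, ?_⟩
        rw [iota_upper _ t rfl]
        apply Units.ext
        rw [e]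
        rfl
      · refine ⟨mk2 _ hd4, ?_⟩
        rw [iota_lower _ t rfl]
        apply Units.ext
        rw [e]
        rfl
  exact hle hg

end Cfsg.Agent.Lib.Helper19.G2V
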