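import Mathlib
import Cfsg.Agent.Lib.Helper19.G2V.Defs
import Cfsg.Agent.Lib.Helper19.G2VComm
import Cfsg.Agent.Lib.helper8.ChevOrd

/-!
# Project G2V (S2461), row J4W (`ident_j4w`), verbatim.
-/

set_option autoImplicit false

namespace Cfsg.Agent.Lib.Helper19.G2V

open Cfsg.Lie Cfsg.Lie.ChevalleyDatum Matrix
open Cfsg.Agent.Lib.helper8

universe u

variable {F : Type u} [Field F]

theorem g2vj4w_add (r : ℕ) (hr : r < 12) (a b : F) : X r a * X r b = X r (a + b) :=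
  h8xU_add chevG2 hB r hr a b

theorem g2vj4w_add' (r : ℕ) (hr : r < 12) (a b : F) (z : GG F) :
    X r a * (X r b * z) = X r (a + b) * z := by
  rw [← mul_assoc, g2vj4w_add r hr]

/-- `X r t ∈ Qp` for the five roots of `Qp` (statement of row M2, first part) -/
theorem g2vj4w_X_mem_Qp (r : ℕ) (hr : r ∈ [6, 8, 9, 10, 11]) (t : F) : X r t ∈ Qp F := by
  unfold Qp ChevalleyDatum.unipotentRadical
  apply Subgroup.subset_closure
  refine ⟨r, t, ?_, ?_, rfl⟩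
  · simp only [List.mem_cons, List.mem_nil_iff, or_false] at hr
    rcases hr with rfl | rfl | rfl | rfl | rfl <;> decide
  · simp only [List.mem_cons, List.mem_nil_iff, or_false] at hr
    unfold ChevalleyDatum.InRootSub
    rcases hr with rfl | rfl | rfl | rfl | rfl
    all_goals
      intro h
      have := h.2 1 (by decide) (by simp)
      revert this
      decide

/-- **J4W**. -/
theorem ident_j4w (r s3 s5 : F) :
    ∃ uW ∈ Qp F, X 9 s3 * X 11 s5 * X 3 r =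
      X 5 (-3 * r ^ 2 * s3 + r ^ 3 * s5) * X 3 r * X 7 (-2 * r * s3 + r ^ 2 * s5) * uW := by
  -- tail forms of the commutation rules
  have c5_3 : ∀ (t u : F) (z : GG F), X 3 u * (X 5 t * z) = X 5 t * (X 3 u * z) := by
    intro t u z
    rw [← mul_assoc, g2vc_c_5_3, mul_assoc]
  have c5_7 : ∀ (t u : F) (z : GG F), X 7 u * (X 5 t * z) = X 5 t * (X 7 u * z) := by
    intro t u z
    rw [← mul_assoc, g2vc_c_5_7, mul_assoc]
  have c5_9 : ∀ (t u : F) (z : GG F), X 9 u * (X 5 t * z) = X 5 t * (X 9 u * z) := by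
    intro t u z
    rw [← mul_assoc, g2vc_c_5_9, mul_assoc]
  have c5_10 : ∀ (t u : F) (z : GG F), X 10 u * (X 5 t * z) = X 5 t * (X 10 u * z) := by
    intro t u z
    rw [← mul_assoc, g2vc_c_5_10, mul_assoc]
  have c5_11 : ∀ (t u : F) (z : GG F),
      X 11 u * (X 5 t * z) = X 5 t * (X 11 u * (X 10 (-(t * u)) * z)) := by
    intro t u z
    rw [← mul_assoc, g2vc_c_5_11, mul_assoc, mul_assoc]
  have c7_9 : ∀ (t u : F) (z : GG F),
      X 9 u * (X 7 t * z) = X 7 t * (X 9 u * (X 10 (-(3 * t * u)) * z)) := by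
    intro t u z
    rw [← mul_assoc, g2vc_c_7_9, mul_assoc, mul_assoc]
  have c7_10 : ∀ (t u : F) (z : GG F), X 10 u * (X 7 t * z) = X 7 t * (X 10 u * z) := by
    intro t u z
    rw [← mul_assoc, g2vc_c_7_10, mul_assoc]
  have c7_11 : ∀ (t u : F) (z : GG F), X 11 u * (X 7 t * z) = X 7 t * (X 11 u * z) := by
    intro t u z
    rw [← mul_assoc, g2vc_c_7_11, mul_assoc]
  have c3_9 : ∀ (t u : F) (z : GG F), X 9 u * (X 3 t * z) =
      X 3 t * (X 9 u * (X 7 (-(2 * t * u)) * (X 5 (-(3 * t ^ 2 * u)) * (X 10 (-(3 * t * u ^ 2)) * z)))) := by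
    intro t u z
    rw [← mul_assoc, g2vc_c_3_9]
    simp only [mul_assoc]
  -- the computation
  obtain ⟨w, hw⟩ : ∃ w, X 9 s3 * X 11 s5 * X 3 r = w := ⟨_, rfl⟩
  have hw0 := hw
  rw [mul_assoc, g2vc_c_3_11] at hw
  simp only [mul_assoc] at hw
  rw [c3_9] at hw
  -- push `X 5` to the left
  rw [c5_7, c5_9, c5_3] at hw
  rw [c5_7 (r ^ 3 * s5), c5_9 (r ^ 3 * s5), c5_11 (r ^ 3 * s5), c5_10 (r ^ 3 * s5),
    c5_7 (r ^ 3 * s5), c5_9 (r ^ 3 * s5), c5_3 (r ^ 3 * s5), g2vj4w_add' 5 (by decide)] at hw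
  -- push `X 7` to the left
  rw [c7_9 (-(2 * r * s3))] at hw
  rw [c7_9 (r ^ 2 * s5), c7_10 (r ^ 2 * s5), c7_11 (r ^ 2 * s5), c7_10 (r ^ 2 * s5),
    c7_10 (r ^ 2 * s5), c7_9 (r ^ 2 * s5)] at hw
  rw [g2vj4w_add' 7 (by decide)] at hw
  have m9 : ∀ t : F, X 9 t ∈ Qp F := fun t => g2vj4w_X_mem_Qp 9 (by simp) t
  have m10 : ∀ t : F, X 10 t ∈ Qp F := fun t => g2vj4w_X_mem_Qp 10 (by simp) t
  have m11 : ∀ t : F, X 11 t ∈ Qp F := fun t => g2vj4w_X_mem_Qp 11 (by simp) t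
  refine ⟨X 9 s3 * (X 10 (-(3 * (r ^ 2 * s5) * s3)) * (X 10 (-(3 * -(2 * r * s3) * s3)) * (X 10 (-(3 * r * s3 ^ 2)) * (X 11 s5 * (X 10 (-(r ^ 3 * s5 * s5)) * (X 9 (-(r * s5)) * (X 10 (-(3 * (r ^ 2 * s5) * -(r * s5))) * (X 10 (-(r ^ 3 * s5 ^ 2)))))))))), ?_, ?_⟩
  · exact Subgroup.mul_mem _ (m9 _) (Subgroup.mul_mem _ (m10 _) (Subgroup.mul_mem _ (m10 _)
      (Subgroup.mul_mem _ (m10 _) (Subgroup.mul_mem _ (m11 _) (Subgroup.mul_mem _ (m10 _)
        (Subgroup.mul_mem _ (m9 _) (Subgroup.mul_mem _ (m10 _) (m10 _))))))))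
  · rw [hw0, ← hw]
    have e1 : (-3 * r ^ 2 * s3 + r ^ 3 * s5 : F) = -(3 * r ^ 2 * s3) + r ^ 3 * s5 := by ring
    have e2 : (-2 * r * s3 + r ^ 2 * s5 : F) = -(2 * r * s3) + r ^ 2 * s5 := by ring
    rw [e1, e2]
    simp only [mul_assoc]

end Cfsg.Agent.Lib.Helper19.G2V
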