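import Mathlib
import Cfsg.Agent.Lib.Helper19.G2V.Defs

/-!
# Project G2V (S2461): the rank one identity `X 6 s * X 5 r = X 5 (r/D) * hb D * X 6 (s/D)`, `D = 1 + s r`.
-/

set_option autoImplicit false

namespace Cfsg.Agent.Lib.Helper19.G2V

open Cfsg.Lie Cfsg.Lie.ChevalleyDatum Matrix
open Cfsg.Agent.Lib.helper8

universe u

variable {F : Type u} [Field F]

theorem g2vr1_hb_eq (c : F) :
    hb c = X 6 c * X 5 (-c⁻¹) * X 6 c * (X 6 (-1) * X 5 (-(-1 : F)⁻¹) * X 6 (-1)) := by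
  unfold hb h8hU ChevalleyDatum.hWord ChevalleyDatum.nWord h8wordU
  have : chevG2.neg 6 = 5 := by decide
  rw [this]
  simp only [List.cons_append, List.nil_append, List.map_cons, List.map_nil, List.prod_cons,
    List.prod_nil, mul_one]
  simp only [mul_assoc]
  rfl

/-- upper unitriangular element of `SL₂` -/
def g2vr1_U (a : F) : Matrix.SpecialLinearGroup (Fin 2) F :=
  ⟨!![1, a; 0, 1], by rw [Matrix.det_fin_two_of]; ring⟩

/-- lower unitriangular element of `SL₂` -/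
def g2vr1_L (a : F) : Matrix.SpecialLinearGroup (Fin 2) F :=
  ⟨!![1, 0; a, 1], by rw [Matrix.det_fin_two_of]; ring⟩

theorem g2vr1_U_val (a : F) : ((g2vr1_U a : Matrix.SpecialLinearGroup (Fin 2) F) :
    Matrix (Fin 2) (Fin 2) F) = !![1, a; 0, 1] := rfl

theorem g2vr1_L_val (a : F) : ((g2vr1_L a : Matrix.SpecialLinearGroup (Fin 2) F) :
    Matrix (Fin 2) (Fin 2) F) = !![1, 0; a, 1] := rfl

theorem g2vr1_n2 (c : F) (hc : c ≠ 0) :
    (!![1, c; 0, 1] * !![1, 0; -c⁻¹, 1] * !![1, c; 0, 1] : Matrix (Fin 2) (Fin 2) F) =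
      !![0, c; -c⁻¹, 0] := by
  simp only [Matrix.mul_fin_two]
  rw [← Matrix.ext_iff]
  intro i j
  fin_cases i <;> fin_cases j
  all_goals simp only [Fin.zero_eta, Fin.mk_one, Matrix.of_apply, Matrix.cons_val',
    Matrix.cons_val_zero, Matrix.cons_val_one, Matrix.cons_val_fin_one, Fin.isValue]
  all_goals (field_simp; try ring)

theorem g2vr1_mat (s r : F) (hD : 1 + s * r ≠ 0) :
    (!![1, s; 0, 1] * !![1, 0; r, 1] : Matrix (Fin 2) (Fin 2) F) =
      !![1, 0; r / (1 + s * r), 1] *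
        (!![1, 1 + s * r; 0, 1] * !![1, 0; -(1 + s * r)⁻¹, 1] * !![1, 1 + s * r; 0, 1] *
          (!![1, -1; 0, 1] * !![1, 0; -(-1 : F)⁻¹, 1] * !![1, -1; 0, 1])) *
        !![1, s / (1 + s * r); 0, 1] := by
  rw [g2vr1_n2 _ hD, g2vr1_n2 (-1 : F) (by norm_num)]
  have hD' : 1 + r * s ≠ 0 := by rwa [mul_comm r s]
  simp only [Matrix.mul_fin_two]
  rw [← Matrix.ext_iff]
  intro i j
  fin_cases i <;> fin_cases j
  all_goals simp only [Fin.zero_eta, Fin.mk_one, Matrix.of_apply, Matrix.cons_val',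
    Matrix.cons_val_zero, Matrix.cons_val_one, Matrix.cons_val_fin_one, Fin.isValue]
  all_goals (field_simp; try ring)

/-- the rank one identity for the root `b` -/
theorem g2vr1_rank1 (s r : F) (hD : 1 + s * r ≠ 0) :
    X 6 s * X 5 r = X 5 (r / (1 + s * r)) * hb (1 + s * r) * X 6 (s / (1 + s * r)) := by
  obtain ⟨φ, _, hφ⟩ := Cfsg.Agent.S1030.result (F := F) chevG2 (by simp) 6 (by decide)
  have hneg : chevG2.neg 6 = 5 := by decide
  have hU : ∀ a : F, φ (g2vr1_U a) = X 6 a := by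
    intro a
    apply Units.ext
    exact (hφ (g2vr1_U a) a).1 rfl
  have hL : ∀ a : F, φ (g2vr1_L a) = X 5 a := by
    intro a
    apply Units.ext
    have := (hφ (g2vr1_L a) a).2 rfl
    rw [hneg] at this
    exact this
  rw [g2vr1_hb_eq, ← hU, ← hL, ← hL, ← hU (1 + s * r), ← hL (-(1 + s * r)⁻¹), ← hU (-1),
    ← hL (-(-1 : F)⁻¹), ← hU (s / (1 + s * r))]
  simp only [← map_mul]
  congr 1
  apply Subtype.ext
  simp only [Matrix.SpecialLinearGroup.coe_mul, g2vr1_U_val, g2vr1_L_val]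
  exact g2vr1_mat s r hD

end Cfsg.Agent.Lib.Helper19.G2V
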