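import Mathlib
import Cfsg.Agent.Lib.Helper19.G2V.Defs
import Cfsg.Agent.Lib.Helper19.G2VComm
import Cfsg.Agent.Lib.Helper19.G2VRank1
import Cfsg.Agent.Lib.Helper19.G2VJ4W

/-!
# Project G2V (S2461), row J4 (`ident_j4`) as a core: the statements of the rows I2, I3 (three of four),
N5, N6, Q2 (second part) are hypotheses.
-/

set_option autoImplicit false

namespace Cfsg.Agent.Lib.Helper19.G2V

open Cfsg.Lie Cfsg.Lie.ChevalleyDatum Matrix
open Cfsg.Agent.Lib.helper8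
open Cfsg.Agent.Lib.helper23.P4V

universe u

variable {F : Type u} [Field F]

/-- moving `X 6 u` across `X 3 t` and the terms it creates -/
theorem g2vj4_36 (t u : F) :
    X 6 u * X 3 t = X 3 t * X 4 (-(t * u)) *
      (X 2 (-(t ^ 2 * u)) * X 0 (-(t ^ 3 * u)) * X 1 (-(-(t ^ 3 * u) * u) + t ^ 3 * u ^ 2)) * X 6 u := by
  have t46 : ∀ (a : F) (z : GG F), X 6 u * (X 4 a * z) = X 4 a * (X 6 u * z) := by
    intro a z
    rw [← mul_assoc, g2vc_c_4_6, mul_assoc]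
  have t26 : ∀ (a : F) (z : GG F), X 6 u * (X 2 a * z) = X 2 a * (X 6 u * z) := by
    intro a z
    rw [← mul_assoc, g2vc_c_2_6, mul_assoc]
  have t06 : ∀ (a : F) (z : GG F), X 6 u * (X 0 a * z) = X 0 a * (X 6 u * (X 1 (-(a * u)) * z)) := by
    intro a z
    rw [← mul_assoc, g2vc_c_0_6, mul_assoc, mul_assoc]
  have t16 : ∀ (a : F) (z : GG F), X 6 u * (X 1 a * z) = X 1 a * (X 6 u * z) := by
    intro a z
    rw [← mul_assoc, g2vc_c_1_6, mul_assoc]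
  rw [g2vc_c_3_6]
  simp only [mul_assoc]
  rw [t46, t26, t06, t16, g2vc_c_1_6, g2vj4w_add' 1 (by decide)]

theorem g2vj4_mk2_val (A : M2 F) (h : A.det ≠ 0) : ((mk2 A h : GL (Fin 2) F) : M2 F) = A := rfl

/-- **J4**, core. -/
theorem ident_j4_core
    (hI2 : ∀ A B : GL (Fin 2) F, iota (A * B) = iota A * iota B)
    (hup : ∀ (A : GL (Fin 2) F) (t : F), (A : M2 F) = !![1, t; 0, 1] → iota A = X 7 t)
    (hlo : ∀ (A : GL (Fin 2) F) (t : F), (A : M2 F) = !![1, 0; t, 1] → iota A = X 4 t)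
    (hdg : ∀ (A : GL (Fin 2) F) (c : F), (A : M2 F) = !![1, 0; 0, c] → iota A = hb c)
    (hN5 : ∀ r : ℕ, r ∈ [5, 3, 2, 1, 0] → ∀ t : F, X r t ∈ Qm F)
    (hN6 : ∀ (A : GL (Fin 2) F) (v : GG F), v ∈ Qm F → iota A * v * (iota A)⁻¹ ∈ Qm F)
    (hQ2 : ∀ (A : GL (Fin 2) F) (w : GG F), w ∈ Qp F → (iota A)⁻¹ * w * iota A ∈ Qp F)
    (r s1 s3 s5 : F) (B : GL (Fin 2) F)
    (hB : (B : M2 F) = !![1, -2 * r * s3 + r ^ 2 * s5; -(r * s1), 1 - r ^ 2 * s1 * s3]) :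
    ∃ v' ∈ Qm F, ∃ u' ∈ Qp F, X 6 s1 * X 9 s3 * X 11 s5 * X 3 r = v' * iota B * u' := by
  obtain ⟨uW, huW, hW⟩ := ident_j4w r s3 s5
  set ρ1 : F := -3 * r ^ 2 * s3 + r ^ 3 * s5 with hρ1
  set β : F := -2 * r * s3 + r ^ 2 * s5 with hβ
  -- the determinant of `B`
  have hdetB : (B : M2 F).det = 1 + s1 * ρ1 := by
    rw [hB, Matrix.det_fin_two_of, hρ1]
    ring
  have hD : 1 + s1 * ρ1 ≠ 0 := by
    rw [← hdetB]
    have := B.isUnit.map (Matrix.detMonoidHom (n := Fin 2) (R := F))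
    exact this.ne_zero
  set D : F := 1 + s1 * ρ1 with hDdef
  set u1 : F := s1 / D with hu1
  set a : F := -(r * u1) with ha
  -- the three Levi factors
  have hdD : (!![1, 0; 0, D] : M2 F).det ≠ 0 := by
    rw [Matrix.det_fin_two_of]
    simpa using hD
  have hda : (!![1, 0; a, 1] : M2 F).det ≠ 0 := by
    rw [Matrix.det_fin_two_of]
    simp
  have hdβ : (!![1, β; 0, 1] : M2 F).det ≠ 0 := by
    rw [Matrix.det_fin_two_of]
    simp
  have e1 : iota (mk2 _ hdD) = hb D := hdg _ D rfl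
  have e2 : iota (mk2 _ hda) = X 4 a := hlo _ a rfl
  have e3 : iota (mk2 _ hdβ) = X 7 β := hup _ β rfl
  have hBprod : B = mk2 _ hdD * mk2 _ hda * mk2 _ hdβ := by
    apply Units.ext
    rw [hB]
    show _ = (!![1, 0; 0, D] : M2 F) * !![1, 0; a, 1] * !![1, β; 0, 1]
    simp only [Matrix.mul_fin_two]
    rw [← Matrix.ext_iff]
    intro i j
    fin_cases i <;> fin_cases j
    all_goals simp only [Fin.zero_eta, Fin.mk_one, Matrix.of_apply, Matrix.cons_val',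
      Matrix.cons_val_zero, Matrix.cons_val_one, Matrix.cons_val_fin_one, Fin.isValue]
    · ring
    · ring
    · rw [ha, hu1]
      field_simp
      ring
    · rw [ha, hu1]
      field_simp
      rw [hDdef, hρ1, hβ]
      ring
  have hiB : iota B = hb D * X 4 a * X 7 β := by
    rw [hBprod, hI2, hI2, e1, e2, e3]
  -- the chain
  have hchain : X 6 s1 * X 9 s3 * X 11 s5 * X 3 r =
      X 5 (ρ1 / D) * hb D * (X 3 r * X 4 a *
        (X 2 (-(r ^ 2 * u1)) * X 0 (-(r ^ 3 * u1)) * X 1 (-(-(r ^ 3 * u1) * u1) + r ^ 3 * u1 ^ 2)) *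
          X 6 u1) * X 7 β * uW := by
    calc X 6 s1 * X 9 s3 * X 11 s5 * X 3 r
        = X 6 s1 * (X 9 s3 * X 11 s5 * X 3 r) := by simp only [mul_assoc]
      _ = X 6 s1 * (X 5 ρ1 * X 3 r * X 7 β * uW) := by rw [hW]
      _ = (X 6 s1 * X 5 ρ1) * X 3 r * X 7 β * uW := by simp only [mul_assoc]
      _ = (X 5 (ρ1 / D) * hb D * X 6 u1) * X 3 r * X 7 β * uW := by
          rw [g2vr1_rank1 s1 ρ1 hD]
      _ = X 5 (ρ1 / D) * hb D * (X 6 u1 * X 3 r) * X 7 β * uW := by simp only [mul_assoc]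
      _ = _ := by rw [g2vj4_36 r u1]
  -- memberships
  set q : GG F := X 2 (-(r ^ 2 * u1)) * X 0 (-(r ^ 3 * u1)) *
    X 1 (-(-(r ^ 3 * u1) * u1) + r ^ 3 * u1 ^ 2) with hq
  have hqm : q ∈ Qm F :=
    Subgroup.mul_mem _ (Subgroup.mul_mem _ (hN5 2 (by simp) _) (hN5 0 (by simp) _))
      (hN5 1 (by simp) _)
  have hv1 : hb D * X 3 r * (hb D)⁻¹ ∈ Qm F := by
    rw [← e1]
    exact hN6 _ _ (hN5 3 (by simp) _)
  have hv2 : (hb D * X 4 a) * q * (hb D * X 4 a)⁻¹ ∈ Qm F := by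
    rw [← e1, ← e2, ← hI2]
    exact hN6 _ _ hqm
  have hu2 : (X 7 β)⁻¹ * X 6 u1 * X 7 β ∈ Qp F := by
    rw [← e3]
    exact hQ2 _ _ (g2vj4w_X_mem_Qp 6 (by simp) _)
  refine ⟨X 5 (ρ1 / D) * (hb D * X 3 r * (hb D)⁻¹) * ((hb D * X 4 a) * q * (hb D * X 4 a)⁻¹),
    Subgroup.mul_mem _ (Subgroup.mul_mem _ (hN5 5 (by simp) _) hv1) hv2,
    (X 7 β)⁻¹ * X 6 u1 * X 7 β * uW, Subgroup.mul_mem _ hu2 huW, ?_⟩
  rw [hchain, hiB]
  group

end Cfsg.Agent.Lib.Helper19.G2V
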