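import Mathlib
import Cfsg.Agent.Lib.Helper19.G2VJ4core
import Cfsg.Agent.Lib.Helper27.G2VI2
import Cfsg.Agent.Lib.Helper25.G2VI3
import Cfsg.Agent.Lib.Helper11.G2VN5
import Cfsg.Agent.Lib.Helper10.G2VN6
import Cfsg.Agent.Lib.Helper5.G2VQ2

/-!
# Project G2V (S2461), row J4 (`ident_j4`), verbatim: `ident_j4_core` on the landed rows I2 I3 N5 N6 Q2.
-/

set_option autoImplicit false

namespace Cfsg.Agent.Lib.Helper19.G2V

open Cfsg.Lie Cfsg.Lie.ChevalleyDatum Matrix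
open Cfsg.Agent.Lib.helper8
open Cfsg.Agent.Lib.helper23.P4V

universe u

variable {F : Type u} [Field F]

/-- **J4**. -/
theorem ident_j4 (r s1 s3 s5 : F) (B : GL (Fin 2) F)
    (hB : (B : M2 F) = !![1, -2 * r * s3 + r ^ 2 * s5; -(r * s1), 1 - r ^ 2 * s1 * s3]) :
    ∃ v' ∈ Qm F, ∃ u' ∈ Qp F, X 6 s1 * X 9 s3 * X 11 s5 * X 3 r = v' * iota B * u' :=
  ident_j4_core iota_mul iota_upper iota_lower iota_dg X_mem_Qm iota_norm_Qm iota_norm_Qp'
    r s1 s3 s5 B hB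

end Cfsg.Agent.Lib.Helper19.G2V
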