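import Mathlib
import Cfsg.Agent.Lib.Helper19.G2V.Defs
import Cfsg.Agent.Lib.Helper21.G2VG

/-!
# Project G2V (S2461), row MAIN as a core: the statements of the rows EX, I6, OR, E5, C2, C4, C6 are
hypotheses.
-/

set_option autoImplicit false

namespace Cfsg.Agent.Lib.Helper19.G2V

open Cfsg.Lie Cfsg.Lie.ChevalleyDatum Matrix
open Cfsg.Agent.Lib.helper8
open Cfsg.Agent.Lib.helper23.P4V

universe u

variable {F : Type u} [Field F]

theorem g2vmain_hF [Fintype F] (h3 : 3 ≤ Fintype.card F) : ∃ a : F, a ≠ 0 ∧ a ≠ 1 := by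
  classical
  by_contra hcon
  have hcon' : ∀ a : F, a ≠ 0 → a = 1 := by
    intro a ha
    by_contra h1
    exact hcon ⟨a, ha, h1⟩
  have hsub : (Finset.univ : Finset F) ⊆ {0, 1} := by
    intro a _
    by_cases h0 : a = 0
    · simp [h0]
    · simp [hcon' a h0]
  have hcard := Finset.card_le_card hsub
  rw [Finset.card_univ] at hcard
  have h2 : ({0, 1} : Finset F).card ≤ 2 := Finset.card_le_two
  omega

/-- **MAIN**, core. -/
theorem g2vmain_core [Fintype F] (p : ℕ) [Fact p.Prime] [CharP F p] (h3 : 3 ≤ Fintype.card F)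
    (hEX : ∃ τ ν : F, Good' τ ν)
    (hI6 : ∀ A : GL (Fin 2) F, iota A ∈ Gp F)
    (hOR : ∀ (τ ν : F) (hG : Good τ ν), ¬ p ∣ orderOf (xG τ ν hG.nu_ne_zero))
    (hE5 : (∃ a : F, a ≠ 0 ∧ a ≠ 1) → ∀ g : GG F, g ∈ Gp F → g ≠ 1 →
      ∃ y ∈ Gp F, ∃ j ∈ [5, 3, 0], ∃ r : F, r ≠ 0 ∧ ∃ A : GL (Fin 2) F, ∃ u ∈ Qp F,
        y * g * y⁻¹ = X j r * iota A * u)
    (hC2 : ∀ (τ ν : F) (hG : Good' τ ν) (r : F), r ≠ 0 → ∀ (A : GL (Fin 2) F) (u : GG F), u ∈ Qp F →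
      CovG (xG τ ν hG.1.nu_ne_zero) (X 5 r * iota A * u))
    (hC4 : ∀ (τ ν : F) (hG : Good' τ ν) (r : F), r ≠ 0 → ∀ (A : GL (Fin 2) F) (u : GG F), u ∈ Qp F →
      CovG (xG τ ν hG.1.nu_ne_zero) (X 3 r * iota A * u))
    (hC6 : ∀ (τ ν : F) (hG : Good' τ ν) (r : F), r ≠ 0 → ∀ (A : GL (Fin 2) F) (u : GG F), u ∈ Qp F →
      CovG (xG τ ν hG.1.nu_ne_zero) (X 0 r * iota A * u)) :
    ∃ x : chevG2.group F, ¬ p ∣ orderOf x ∧ ∀ g : chevG2.group F, g ≠ 1 →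
      ∃ u v : chevG2.group F, g = (u * x * u⁻¹) * (v * x * v⁻¹) := by
  obtain ⟨τ, ν, hG⟩ := hEX
  have hF := g2vmain_hF (F := F) h3
  have hxm : xG τ ν hG.1.nu_ne_zero ∈ chevG2.group F := hI6 _
  refine ⟨⟨xG τ ν hG.1.nu_ne_zero, hxm⟩, ?_, ?_⟩
  · have ho : orderOf (⟨xG τ ν hG.1.nu_ne_zero, hxm⟩ : chevG2.group F) =
        orderOf (xG τ ν hG.1.nu_ne_zero) := by
      rw [← Subgroup.orderOf_coe]
    rw [ho]
    exact hOR τ ν hG.1
  · intro g hg1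
    have hg1' : (g : GG F) ≠ 1 := by
      intro h
      apply hg1
      exact Subtype.ext h
    obtain ⟨y, hy, j, hj, r, hr, A, u, hu, e⟩ := hE5 hF (g : GG F) g.2 hg1'
    have hcov : CovG (xG τ ν hG.1.nu_ne_zero) (X j r * iota A * u) := by
      simp only [List.mem_cons, List.mem_nil_iff, or_false] at hj
      rcases hj with rfl | rfl | rfl
      · exact hC2 τ ν hG r hr A u hu
      · exact hC4 τ ν hG r hr A u hu
      · exact hC6 τ ν hG r hr A u hu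
    rw [← e] at hcov
    obtain ⟨c, hc, d, hd, e2⟩ := CovG.of_conj y hy hcov
    refine ⟨⟨c, hc⟩, ⟨d, hd⟩, ?_⟩
    apply Subtype.ext
    rw [e2]
    rfl

end Cfsg.Agent.Lib.Helper19.G2V
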