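import Mathlib
import Cfsg.Agent.Lib.Helper19.G2VMaincore
import Cfsg.Agent.Lib.Helper11.G2VEX
import Cfsg.Agent.Lib.Helper11.G2VOR
import Cfsg.Agent.Lib.Helper20.G2VI6
import Cfsg.Agent.Lib.Helper20.G2VI7
import Cfsg.Agent.Lib.Helper27.G2VI2
import Cfsg.Agent.Lib.Helper13.G2VE3pre
import Cfsg.Agent.Lib.Helper13.G2VE3core
import Cfsg.Agent.Lib.helper3.G2VE1
import Cfsg.Agent.Lib.Helper28.G2VE2A
import Cfsg.Agent.Lib.Helper28.G2VE2B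
import Cfsg.Agent.Lib.Helper28.G2VE2C
import Cfsg.Agent.Lib.Helper5.G2VM2
import Cfsg.Agent.Lib.Helper5.G2VQ2
import Cfsg.Agent.Lib.Helper5.G2VQ3core
import Cfsg.Agent.Lib.helper8.G2VI5
import Cfsg.Agent.Lib.Helper22.G2VE5core
import Cfsg.Agent.Lib.helper8.G2VF3
import Cfsg.Agent.Lib.Helper10.G2VF4core
import Cfsg.Agent.Lib.Helper10.G2VF5core
import Cfsg.Agent.Lib.Helper10.G2VN7core
import Cfsg.Agent.Lib.Helper25.G2VN3
import Cfsg.Agent.Lib.Helper21.G2VCBcore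
import Cfsg.Agent.Lib.Helper21.G2VC2core
import Cfsg.Agent.Lib.Helper26.G2VC4core
import Cfsg.Agent.Lib.Helper12.G2VC6core
import Cfsg.Agent.Lib.helper7.G2VL2
import Cfsg.Agent.Lib.Lead.G2VL4
import Cfsg.Agent.Lib.Lead.G2VL6
import Cfsg.Agent.Lib.helper2.G2VJ2
import Cfsg.Agent.Lib.Helper19.G2VJ4
import Cfsg.Agent.Lib.Helper22.G2VJ6
import Cfsg.Agent.Lib.Helper21.G2VM1

/-!
# Project G2V (S2461), row MAIN: the assembly of all rows (the cores of the assembly rows F4 F5 N7 CB C2 C4 C6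
Q3 E3 E5 are instantiated here under own names, so this file does not wait for their verbatim wrappers).
-/

set_option autoImplicit false

namespace Cfsg.Agent.Lib.Helper19.G2V

open Cfsg.Lie Cfsg.Lie.ChevalleyDatum Matrix
open Cfsg.Agent.Lib.helper8
open Cfsg.Agent.Lib.helper23.P4V

universe u

variable {F : Type u} [Field F]

/-- F4 -/
theorem g2vmain_fpf (τ ν : F) (hG : Good' τ ν) (A : GL (Fin 2) F) (htr : (A : M2 F).trace = τ)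
    (hdet : (A : M2 F).det = ν) (u : GG F) (hu : u ∈ Qp F) (hc : u * iota A = iota A * u) : u = 1 :=
  g2vf4_core iota_mul iota_inv iota_norm_Qp' τ ν hG (fun u hu hc => fpf_cmp τ ν hG u hu hc)
    A htr hdet u hu hc

/-- F5 -/
theorem g2vmain_absorb [Fintype F] (τ ν : F) (hG : Good' τ ν) (A : GL (Fin 2) F)
    (htr : (A : M2 F).trace = τ) (hdet : (A : M2 F).det = ν) (u : GG F) (hu : u ∈ Qp F) :
    CjG (iota A) (iota A * u) :=
  g2vf5_core iota_norm_Qp' Qp_le_Pp Pp_le_Gp τ ν hG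
    (fun A htr hdet u hu hc => g2vmain_fpf τ ν hG A htr hdet u hu hc) A htr hdet u hu

/-- N7 -/
theorem g2vmain_absorb_m [Fintype F] (τ ν : F) (hG : Good' τ ν) (A : GL (Fin 2) F)
    (htr : (A : M2 F).trace = τ) (hdet : (A : M2 F).det = ν) (v : GG F) (hv : v ∈ Qm F) :
    CjG (iota A) (v * iota A) :=
  g2vn7_core nrho_iota iota_norm_Qp'
    (fun τ ν hG A htr hdet u hu => g2vmain_absorb τ ν hG A htr hdet u hu) τ ν hG A htr hdet v hv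

/-- CB -/
theorem g2vmain_cov_big [Fintype F] (τ ν : F) (hG : Good' τ ν) (v' : GG F) (hv : v' ∈ Qm F)
    (u' : GG F) (hu : u' ∈ Qp F) (M : GL (Fin 2) F) (hM : InSig ν (M : M2 F)) :
    CovG (xG τ ν hG.1.nu_ne_zero) (v' * iota M * u') :=
  g2vcb_core iota_mul iota_inv iota_mem_Gp τ ν hG
    (fun A htr hdet u hu => g2vmain_absorb τ ν hG A htr hdet u hu)
    (fun A htr hdet v hv => g2vmain_absorb_m τ ν hG A htr hdet v hv) v' hv u' hu M hM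

/-- C2 -/
theorem g2vmain_cov_j2 [Fintype F] (h3 : 3 ≤ Fintype.card F) (τ ν : F) (hG : Good' τ ν) (r : F)
    (hr : r ≠ 0) (A : GL (Fin 2) F) (u : GG F) (hu : u ∈ Qp F) :
    CovG (xG τ ν hG.1.nu_ne_zero) (X 5 r * iota A * u) :=
  g2vc2_core (fun ν hν A hA => cover2 h3 ν hν A hA) ident_j2 iota_mul iota_norm_Qp' X_mem_Gp
    X_mem_Qp τ ν hG (fun v' hv u' hu M hM => g2vmain_cov_big τ ν hG v' hv u' hu M hM) r hr A u hu

/-- C4 -/
theorem g2vmain_cov_j4 [Fintype F] (h3 : 3 ≤ Fintype.card F) (τ ν : F) (hG : Good' τ ν) (r : F)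
    (hr : r ≠ 0) (A : GL (Fin 2) F) (u : GG F) (hu : u ∈ Qp F) :
    CovG (xG τ ν hG.1.nu_ne_zero) (X 3 r * iota A * u) :=
  g2vc4_core τ ν hG (fun ν hν A hA => cover4 h3 ν hν A hA) ident_j4
    (fun v' hv u' hu M hM => g2vmain_cov_big τ ν hG v' hv u' hu M hM) iota_mul iota_norm_Qp'
    X_mem_Qp r hr A u hu

/-- C6 -/
theorem g2vmain_cov_j6 [Fintype F] (h3 : 3 ≤ Fintype.card F) (τ ν : F) (hG : Good' τ ν) (r : F)
    (hr : r ≠ 0) (A : GL (Fin 2) F) (u : GG F) (hu : u ∈ Qp F) :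
    CovG (xG τ ν hG.1.nu_ne_zero) (X 0 r * iota A * u) :=
  g2vc6_core τ ν hG (fun A hA => cover6 h3 ν hG.1.nu_ne_zero A hA) iota_conj_X0 ident_j6
    (fun v' hv u' hu M hM => g2vmain_cov_big τ ν hG v' hv u' hu M hM) iota_mul iota_inv
    iota_norm_Qp iota_norm_Qp' X_mem_Qp iota_mem_Gp (le_trans Qp_le_Pp Pp_le_Gp) r hr A u hu

/-- Q3 -/
theorem g2vmain_Pp_dec (g : GG F) (hg : g ∈ Pp F) : ∃ A : GL (Fin 2) F, ∃ u ∈ Qp F, g = iota A * u :=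
  g2vq3_core Lv_le_iota g hg

/-- E3 -/
theorem g2vmain_bruhat_P (g : GG F) (hg : g ∈ Gp F) :
    g ∈ Pp F ∨ ∃ j ∈ [5, 3, 0], ∃ r : F, r ≠ 0 ∧ ∃ p ∈ Pp F, ∃ p' ∈ Pp F, g = p * X j r * p' :=
  g2ve3_core g2ve3_bruhat N_words nb_eq nbab_form nbabab_form g2ve3_na_mem_Pp
    (Qp_le_Pp (X_mem_Qp 6 (by simp) 1)) g hg

/-- E5 -/
theorem g2vmain_reduce (hF : ∃ a : F, a ≠ 0 ∧ a ≠ 1) (g : GG F) (hg : g ∈ Gp F) (h1 : g ≠ 1) :
    ∃ y ∈ Gp F, ∃ j ∈ [5, 3, 0], ∃ r : F, r ≠ 0 ∧ ∃ A : GL (Fin 2) F, ∃ u ∈ Qp F,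
      y * g * y⁻¹ = X j r * iota A * u :=
  g2ve5_core g2vmain_bruhat_P g2vmain_Pp_dec hF g hg h1

/-- **MAIN**. -/
theorem main [Fintype F] (p : ℕ) [Fact p.Prime] [CharP F p] (h3 : 3 ≤ Fintype.card F) :
    ∃ x : chevG2.group F, ¬ p ∣ orderOf x ∧ ∀ g : chevG2.group F, g ≠ 1 →
      ∃ u v : chevG2.group F, g = (u * x * u⁻¹) * (v * x * v⁻¹) :=
  g2vmain_core p h3 (exists_good' h3) iota_mem_Gp (fun τ ν hG => order_xG p τ ν hG)
    g2vmain_reduce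
    (fun τ ν hG r hr A u hu => g2vmain_cov_j2 h3 τ ν hG r hr A u hu)
    (fun τ ν hG r hr A u hu => g2vmain_cov_j4 h3 τ ν hG r hr A u hu)
    (fun τ ν hG r hr A u hu => g2vmain_cov_j6 h3 τ ν hG r hr A u hu)

end Cfsg.Agent.Lib.Helper19.G2V
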