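import Mathlib

set_option autoImplicit false

/-! Generalized dihedral groups. -/

namespace Cfsg.Agent.Lib.Helper19

/-- the generalized dihedral group of an additive commutative group -/
@[ext] structure GDih (A : Type*) where
  /-- translation part -/
  a : A
  /-- reflection part -/
  s : Bool

namespace GDih

variable {A : Type*} [AddCommGroup A]

/-- the sign action -/
def act (i : Bool) (b : A) : A := if i then -b else b

instance : Mul (GDih A) := ⟨fun x y => ⟨x.a + act x.s y.a, xor x.s y.s⟩⟩
instance : One (GDih A) := ⟨⟨(0 : A), false⟩⟩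
instance : Inv (GDih A) := ⟨fun x => ⟨if x.s then x.a else -x.a, x.s⟩⟩

theorem mul_def (x y : GDih A) : x * y = ⟨x.a + act x.s y.a, xor x.s y.s⟩ := rfl
theorem one_def : (1 : GDih A) = ⟨(0 : A), false⟩ := rfl
theorem inv_def (x : GDih A) : x⁻¹ = ⟨if x.s then x.a else -x.a, x.s⟩ := rfl

instance : Group (GDih A) :=
  Group.ofLeftAxioms
    (by
      rintro ⟨a, i⟩ ⟨b, j⟩ ⟨c, k⟩
      cases i <;> cases j <;> cases k <;> simp [mul_def, act] <;> abel)
    (by
      rintro ⟨a, i⟩
      cases i <;> simp [mul_def, one_def, act])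
    (by
      rintro ⟨a, i⟩
      cases i <;> simp [mul_def, one_def, inv_def, act])

/-- the underlying pair -/
def equivProd : GDih A ≃ A × Bool where
  toFun x := (x.a, x.s)
  invFun p := ⟨p.1, p.2⟩
  left_inv := fun _ => rfl
  right_inv := fun _ => rfl

instance [Fintype A] : Fintype (GDih A) := Fintype.ofEquiv _ equivProd.symm

/-- the rotations -/
def rot : Multiplicative A →* GDih A where
  toFun a := ⟨Multiplicative.toAdd a, false⟩
  map_one' := rfl
  map_mul' := by
    intro a b
    simp [mul_def, act]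

theorem rot_injective : Function.Injective (rot : Multiplicative A →* GDih A) := by
  intro a b h
  have := congrArg GDih.a h
  exact this

theorem orderOf_rot (a : A) : orderOf (⟨a, false⟩ : GDih A) = addOrderOf a := by
  have h := orderOf_injective (rot : Multiplicative A →* GDih A) rot_injective
    (Multiplicative.ofAdd a)
  rw [orderOf_ofAdd_eq_addOrderOf] at h
  exact h

theorem orderOf_refl (a : A) : orderOf (⟨a, true⟩ : GDih A) = 2 := by
  have : Fact (Nat.Prime 2) := ⟨Nat.prime_two⟩
  apply orderOf_eq_prime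
  · rw [pow_two]
    simp [mul_def, one_def, act]
  · intro h
    have := congrArg GDih.s h
    simp [one_def] at this

/-- element orders when `A` has prime exponent -/
theorem orderOf_mem {p : ℕ} (hp : p.Prime) (hA : ∀ a : A, p • a = 0) (g : GDih A) :
    orderOf g = 1 ∨ orderOf g = 2 ∨ orderOf g = p := by
  obtain ⟨a, i⟩ := g
  cases i
  · rw [orderOf_rot]
    have := addOrderOf_dvd_of_nsmul_eq_zero (hA a)
    rcases (Nat.dvd_prime hp).mp this with h | h
    · exact Or.inl h
    · exact Or.inr (Or.inr h)
  · exact Or.inr (Or.inl (orderOf_refl a))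

theorem exists_orderOf {p : ℕ} (hp : p.Prime) (hA : ∀ a : A, p • a = 0) (a₀ : A) (ha₀ : a₀ ≠ 0)
    (k : ℕ) (hk : k = 1 ∨ k = 2 ∨ k = p) : ∃ g : GDih A, orderOf g = k := by
  rcases hk with rfl | rfl | rfl
  · exact ⟨1, orderOf_one⟩
  · exact ⟨⟨0, true⟩, orderOf_refl 0⟩
  · refine ⟨⟨a₀, false⟩, ?_⟩
    rw [orderOf_rot]
    have := addOrderOf_dvd_of_nsmul_eq_zero (hA a₀)
    rcases (Nat.dvd_prime hp).mp this with h | h
    · exact absurd (AddMonoid.addOrderOf_eq_one_iff.mp h) ha₀
    · exact h

end GDih

end Cfsg.Agent.Lib.Helper19
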