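import Mathlib

set_option autoImplicit false

/-!
Elementary counting facts about an extraspecial group of order 32 (stated for a group `P` of order 32 whose
commutators all lie in `{1, z}` and whose centre is `{1, z}`), in the presence of a nontrivial
automorphism of order 5: the group has exactly 12 solutions of `q ^ 2 = 1` and two commuting
noncentral involutions differ by a central element.
-/

namespace Cfsg.Agent.Lib.Helper19.HJExtra

open Finset

variable {P : Type*} [Group P]

/-- The hypotheses: `z` is a central involution, all commutators lie in `{1, z}` and the centre is `{1, z}`. -/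
structure Ex32 (z : P) : Prop where
  z1 : z ≠ 1
  z2 : z * z = 1
  zc : ∀ a : P, a * z = z * a
  comm : ∀ a b : P, a * b * a⁻¹ * b⁻¹ = 1 ∨ a * b * a⁻¹ * b⁻¹ = z
  cen : ∀ a : P, (∀ b : P, a * b = b * a) → a = 1 ∨ a = z

/-- the commutator -/
def cm (a b : P) : P := a * b * a⁻¹ * b⁻¹

variable {z : P}

theorem cm_cases (h : Ex32 z) (a b : P) : cm a b = 1 ∨ cm a b = z := h.comm a b

theorem cm_central (h : Ex32 z) (a b d : P) : cm a b * d = d * cm a b := by
  rcases cm_cases h a b with h1 | h1
  · rw [h1]; simp
  · rw [h1]; exact (h.zc d).symm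

theorem cm_sq (h : Ex32 z) (a b : P) : cm a b * cm a b = 1 := by
  rcases cm_cases h a b with h1 | h1
  · rw [h1]; simp
  · rw [h1]; exact h.z2

theorem cm_inv (h : Ex32 z) (a b : P) : (cm a b)⁻¹ = cm a b := by
  have := cm_sq h a b
  exact inv_eq_of_mul_eq_one_left this

theorem swap_eq (a b : P) : a * b = cm a b * (b * a) := by
  unfold cm; group

theorem cm_symm (h : Ex32 z) (a b : P) : cm a b = cm b a := by
  have : cm b a = (cm a b)⁻¹ := by unfold cm; group
  rw [this, cm_inv h]

theorem cm_self (a : P) : cm a a = 1 := by unfold cm; group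

theorem cm_one_right (a : P) : cm a 1 = 1 := by unfold cm; group

theorem cm_one_left (a : P) : cm 1 a = 1 := by unfold cm; group

theorem cm_eq_one_iff (a b : P) : cm a b = 1 ↔ a * b = b * a := by
  unfold cm
  constructor
  · intro h1
    have : a * b = (a * b * a⁻¹ * b⁻¹) * (b * a) := by group
    rw [this, h1, one_mul]
  · intro h1
    have : a * b * a⁻¹ * b⁻¹ = (a * b) * (b * a)⁻¹ := by group
    rw [this, h1]; group

theorem cm_mul_left (h : Ex32 z) (a b d : P) : cm (a * b) d = cm a d * cm b d := by
  have h1 : cm (a * b) d = a * cm b d * a⁻¹ * cm a d := by unfold cm; group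
  have h2 : a * cm b d = cm b d * a := (cm_central h b d a).symm
  rw [h1, h2, mul_assoc (cm b d), mul_inv_cancel, mul_one]
  exact cm_central h b d _

theorem cm_mul_right (h : Ex32 z) (a b d : P) : cm a (b * d) = cm a b * cm a d := by
  rw [cm_symm h a (b * d), cm_mul_left h, cm_symm h b a, cm_symm h d a]

theorem cm_z_left (h : Ex32 z) (a : P) : cm z a = 1 := by
  rw [cm_eq_one_iff]; exact (h.zc a).symm

theorem cm_z_right (h : Ex32 z) (a : P) : cm a z = 1 := by
  rw [cm_eq_one_iff]; exact h.zc a

theorem sq_central (h : Ex32 z) (a b : P) : (a * a) * b = b * (a * a) := by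
  have h1 : a * b = cm a b * (b * a) := swap_eq a b
  calc a * a * b = a * (a * b) := by group
    _ = a * (cm a b * (b * a)) := by rw [← h1]
    _ = cm a b * (a * b) * a := by rw [← mul_assoc a, ← cm_central h a b a]; group
    _ = cm a b * (cm a b * (b * a)) * a := by rw [← h1]
    _ = (cm a b * cm a b) * (b * (a * a)) := by group
    _ = b * (a * a) := by rw [cm_sq h, one_mul]

theorem sq_cases (h : Ex32 z) (a : P) : a * a = 1 ∨ a * a = z :=
  h.cen (a * a) (sq_central h a)

theorem mul_sq (h : Ex32 z) (a b : P) : (a * b) * (a * b) = (a * a) * (b * b) * cm b a := by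
  have h1 : b * a = cm b a * (a * b) := swap_eq b a
  calc a * b * (a * b) = a * (b * a) * b := by group
    _ = a * (cm b a * (a * b)) * b := by rw [← h1]
    _ = (cm b a * a) * (a * b) * b := by rw [cm_central h b a a]; group
    _ = cm b a * ((a * a) * (b * b)) := by group
    _ = (a * a) * (b * b) * cm b a := by rw [cm_central h b a]


section counting

variable [Fintype P] [DecidableEq P]

theorem exists_cm_eq_z (h : Ex32 z) (a : P) (ha1 : a ≠ 1) (haz : a ≠ z) : ∃ b : P, cm a b = z := by
  by_contra hcon
  push Not at hcon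
  have : ∀ b : P, a * b = b * a := by
    intro b
    rw [← cm_eq_one_iff]
    rcases cm_cases h a b with h1 | h1
    · exact h1
    · exact absurd h1 (hcon b)
  rcases h.cen a this with h1 | h1
  · exact ha1 h1
  · exact haz h1

theorem card_cm_filter (h : Ex32 z) (hcard : Fintype.card P = 32) (a : P) (ha1 : a ≠ 1) (haz : a ≠ z) :
    (univ.filter (fun b : P => cm a b = 1)).card = 16 ∧
    (univ.filter (fun b : P => cm a b = z)).card = 16 := by
  obtain ⟨b₀, hb₀⟩ := exists_cm_eq_z h a ha1 haz
  have hb₀' : cm a b₀⁻¹ = z := by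
    have h1 : cm a (b₀ * b₀⁻¹) = cm a b₀ * cm a b₀⁻¹ := cm_mul_right h a b₀ b₀⁻¹
    rw [mul_inv_cancel, cm_one_right, hb₀] at h1
    have h2 : z * z = z * cm a b₀⁻¹ := by rw [h.z2]; exact h1
    exact (mul_left_cancel h2).symm
  have heq : (univ.filter (fun b : P => cm a b = 1)).card = (univ.filter (fun b : P => cm a b = z)).card := by
    apply Finset.card_nbij' (fun b => b * b₀) (fun b => b * b₀⁻¹)
    · intro b hb
      simp only [coe_filter, mem_univ, true_and, Set.mem_ofPred_eq] at hb ⊢
      rw [cm_mul_right h, hb, hb₀, one_mul]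
    · intro b hb
      simp only [coe_filter, mem_univ, true_and, Set.mem_ofPred_eq] at hb ⊢
      rw [cm_mul_right h, hb, hb₀', h.z2]
    · intro b _; simp
    · intro b _; simp
  have hsum : (univ.filter (fun b : P => cm a b = 1)).card + (univ.filter (fun b : P => cm a b = z)).card = 32 := by
    rw [← Finset.card_union_of_disjoint, ← hcard, ← Finset.card_univ]
    · congr 1
      ext b
      simp only [mem_union, mem_filter, mem_univ, true_and, iff_true]
      exact cm_cases h a b
    · rw [Finset.disjoint_filter]
      intro b _ h1 h2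
      exact h.z1 (h2.symm.trans h1)
  omega


/-- for fixed `c`, the number of `a` with `a² = (ac)²` -/
theorem card_sq_eq (h : Ex32 z) (hcard : Fintype.card P = 32) (c : P) :
    (univ.filter (fun a : P => a * a = (a * c) * (a * c))).card = if c = 1 ∨ c = z then 32 else 16 := by
  have key : ∀ a : P, a * a = (a * c) * (a * c) ↔ cm c a = c * c := by
    intro a
    rw [mul_sq h a c]
    constructor
    · intro h1
      have h2 : (a * a) * 1 = (a * a) * ((c * c) * cm c a) := by rw [mul_one, ← mul_assoc]; exact h1
      have h3 := mul_left_cancel h2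
      -- 1 = c*c * cm c a
      rcases sq_cases h c with h4 | h4
      · rw [h4, one_mul] at h3; rw [h4, ← h3]
      · rw [h4] at h3 ⊢
        have h5 : z * z = z * cm c a := by rw [h.z2]; exact h3
        exact (mul_left_cancel h5).symm
    · intro h1
      rw [h1, mul_assoc]
      rcases sq_cases h c with h4 | h4
      · rw [h4]; simp
      · rw [h4, h.z2, mul_one]
  simp_rw [key]
  split_ifs with hc
  · have : ∀ a : P, cm c a = c * c := by
      intro a
      rcases hc with hc | hc
      · rw [hc, cm_one_left]; simp
      · rw [hc, cm_z_left h, h.z2]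
    rw [Finset.filter_true_of_mem (fun a _ => this a), Finset.card_univ, hcard]
  · push Not at hc
    have h16 := card_cm_filter h hcard c hc.1 hc.2
    rcases sq_cases h c with h4 | h4
    · rw [h4]; exact h16.1
    · rw [h4]; exact h16.2

/-- the number of solutions of `q² = 1` is 12 or 20 -/
theorem card_sq_one (h : Ex32 z) (hcard : Fintype.card P = 32) :
    (univ.filter (fun q : P => q * q = 1)).card = 12 ∨ (univ.filter (fun q : P => q * q = 1)).card = 20 := by
  set S1 := univ.filter (fun q : P => q * q = 1) with hS1
  set Sz := univ.filter (fun q : P => q * q = z) with hSz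
  have hsum : S1.card + Sz.card = 32 := by
    rw [← Finset.card_union_of_disjoint, ← hcard, ← Finset.card_univ]
    · congr 1
      ext b
      simp only [hS1, hSz, mem_union, mem_filter, mem_univ, true_and, iff_true]
      exact sq_cases h b
    · rw [Finset.disjoint_filter]
      intro b _ h1 h2
      exact h.z1 (h2.symm.trans h1)
  -- count pairs with equal squares
  have hM1 : ((univ : Finset (P × P)).filter (fun p => p.1 * p.1 = p.2 * p.2)).card
      = S1.card * S1.card + Sz.card * Sz.card := by
    have : (univ : Finset (P × P)).filter (fun p => p.1 * p.1 = p.2 * p.2) = (S1 ×ˢ S1) ∪ (Sz ×ˢ Sz) := by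
      ext ⟨a, b⟩
      simp only [hS1, hSz, mem_union, mem_filter, mem_univ, true_and, mem_product]
      constructor
      · intro h1
        rcases sq_cases h a with h2 | h2
        · left; exact ⟨h2, by rw [← h1, h2]⟩
        · right; exact ⟨h2, by rw [← h1, h2]⟩
      · rintro (⟨h1, h2⟩ | ⟨h1, h2⟩)
        · rw [h1, h2]
        · rw [h1, h2]
    rw [this, Finset.card_union_of_disjoint, Finset.card_product, Finset.card_product]
    rw [Finset.disjoint_left]
    rintro ⟨a, b⟩ h1 h2
    simp only [hS1, hSz, mem_filter, mem_univ, true_and, mem_product] at h1 h2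
    exact h.z1 (h2.1.symm.trans h1.1)
  have hM2 : ((univ : Finset (P × P)).filter (fun p => p.1 * p.1 = p.2 * p.2)).card
      = ((univ : Finset (P × P)).filter (fun p => p.1 * p.1 = (p.1 * p.2) * (p.1 * p.2))).card := by
    symm
    apply Finset.card_nbij' (fun p => (p.1, p.1 * p.2)) (fun p => (p.1, p.1⁻¹ * p.2))
    · rintro ⟨a, c⟩ hp
      simp only [coe_filter, mem_univ, true_and, Set.mem_ofPred_eq] at hp ⊢
      exact hp
    · rintro ⟨a, b⟩ hp
      simp only [coe_filter, mem_univ, true_and, Set.mem_ofPred_eq] at hp ⊢
      rw [mul_inv_cancel_left]; exact hp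
    · rintro ⟨a, c⟩ _; simp
    · rintro ⟨a, b⟩ _; simp
  have hM3 : ((univ : Finset (P × P)).filter (fun p => p.1 * p.1 = (p.1 * p.2) * (p.1 * p.2))).card = 544 := by
    have h1 : ((univ : Finset (P × P)).filter (fun p => p.1 * p.1 = (p.1 * p.2) * (p.1 * p.2))).card
        = ∑ c : P, (univ.filter (fun a : P => a * a = (a * c) * (a * c))).card := by
      rw [Finset.card_filter, ← Finset.univ_product_univ, Finset.sum_product_right]
      apply Finset.sum_congr rfl
      intro c _
      rw [Finset.card_filter]
    rw [h1]
    simp_rw [card_sq_eq h hcard]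
    have h2 : ∀ c : P, (if c = 1 ∨ c = z then 32 else 16) = 16 + (if c = 1 ∨ c = z then 16 else 0) := by
      intro c; split_ifs <;> rfl
    simp_rw [h2]
    rw [Finset.sum_add_distrib, Finset.sum_const, Finset.card_univ, hcard, ← Finset.sum_filter, Finset.sum_const]
    have h3 : (univ.filter (fun c : P => c = 1 ∨ c = z)) = {1, z} := by
      ext c; simp
    rw [h3, Finset.card_pair (Ne.symm h.z1)]
    rfl
  have hfin : S1.card * S1.card + Sz.card * Sz.card = 544 := by rw [← hM1, hM2, hM3]
  have ht : Sz.card = 32 - S1.card := by omega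
  have hle : S1.card ≤ 32 := by omega
  rw [ht] at hfin
  clear_value S1
  generalize S1.card = s at *
  interval_cases s <;> simp_all


/-- for a noncentral involution `x`, exactly 8 of the 16 elements not commuting with `x` square to 1 -/
theorem card_sq_one_split (h : Ex32 z) (hcard : Fintype.card P = 32) (x : P) (hx2 : x * x = 1)
    (hx1 : x ≠ 1) (hxz : x ≠ z) :
    (univ.filter (fun q : P => q * q = 1)).card
      = 8 + (univ.filter (fun q : P => q * q = 1 ∧ cm x q = 1)).card := by
  have h16 := (card_cm_filter h hcard x hx1 hxz).2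
  have hsplit : (univ.filter (fun q : P => q * q = 1)).card
      = (univ.filter (fun q : P => q * q = 1 ∧ cm x q = z)).card
        + (univ.filter (fun q : P => q * q = 1 ∧ cm x q = 1)).card := by
    rw [← Finset.card_union_of_disjoint]
    · congr 1
      ext q
      simp only [mem_union, mem_filter, mem_univ, true_and]
      constructor
      · intro h1
        rcases cm_cases h x q with h2 | h2
        · right; exact ⟨h1, h2⟩
        · left; exact ⟨h1, h2⟩
      · rintro (h1 | h1) <;> exact h1.1
    · rw [Finset.disjoint_filter]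
      intro b _ h1 h2
      exact h.z1 (h1.2.symm.trans h2.2)
  have hD : (univ.filter (fun q : P => cm x q = z)).card
      = (univ.filter (fun q : P => q * q = 1 ∧ cm x q = z)).card
        + (univ.filter (fun q : P => q * q = z ∧ cm x q = z)).card := by
    rw [← Finset.card_union_of_disjoint]
    · congr 1
      ext q
      simp only [mem_union, mem_filter, mem_univ, true_and]
      constructor
      · intro h1
        rcases sq_cases h q with h2 | h2
        · left; exact ⟨h2, h1⟩
        · right; exact ⟨h2, h1⟩
      · rintro (h1 | h1) <;> exact h1.2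
    · rw [Finset.disjoint_filter]
      intro b _ h1 h2
      exact h.z1 (h2.1.symm.trans h1.1)
  have heq : (univ.filter (fun q : P => q * q = 1 ∧ cm x q = z)).card
      = (univ.filter (fun q : P => q * q = z ∧ cm x q = z)).card := by
    apply Finset.card_nbij' (fun q => q * x) (fun q => q * x)
    · intro q hq
      simp only [coe_filter, mem_univ, true_and, Set.mem_ofPred_eq] at hq ⊢
      refine ⟨?_, ?_⟩
      · rw [mul_sq h, hq.1, hx2, hq.2]; simp
      · rw [cm_mul_right h, hq.2, cm_self, mul_one]
    · intro q hq
      simp only [coe_filter, mem_univ, true_and, Set.mem_ofPred_eq] at hq ⊢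
      refine ⟨?_, ?_⟩
      · rw [mul_sq h, hq.1, hx2, hq.2, mul_one, h.z2]
      · rw [cm_mul_right h, hq.2, cm_self, mul_one]
    · intro q _
      show q * x * x = q
      rw [mul_assoc, hx2, mul_one]
    · intro q _
      show q * x * x = q
      rw [mul_assoc, hx2, mul_one]
  omega

/-- if there are 12 solutions of `q² = 1`, two commuting noncentral involutions differ by a central element -/
theorem commuting_involutions (h : Ex32 z) (hcard : Fintype.card P = 32)
    (h12 : (univ.filter (fun q : P => q * q = 1)).card = 12)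
    (x x' : P) (hx2 : x * x = 1) (hx1 : x ≠ 1) (hxz : x ≠ z) (hx'2 : x' * x' = 1)
    (hcomm : x * x' = x' * x) : x' = 1 ∨ x' = z ∨ x' = x ∨ x' = x * z := by
  by_contra hcon
  push Not at hcon
  have h1 := card_sq_one_split h hcard x hx2 hx1 hxz
  rw [h12] at h1
  have h2 : ({1, z, x, x * z, x'} : Finset P) ⊆ univ.filter (fun q : P => q * q = 1 ∧ cm x q = 1) := by
    intro q hq
    simp only [mem_insert, mem_singleton] at hq
    simp only [mem_filter, mem_univ, true_and]
    rcases hq with rfl | rfl | rfl | rfl | rfl
    · exact ⟨by simp, cm_one_right _⟩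
    · exact ⟨h.z2, cm_z_right h _⟩
    · exact ⟨hx2, cm_self _⟩
    · refine ⟨?_, ?_⟩
      · rw [mul_sq h, hx2, h.z2, cm_z_left h]; simp
      · rw [cm_mul_right h, cm_self, cm_z_right h, mul_one]
    · exact ⟨hx'2, (cm_eq_one_iff _ _).2 hcomm⟩
  have h3 := Finset.card_le_card h2
  have h4 : ({1, z, x, x * z, x'} : Finset P).card = 5 := by
    have hxz1 : x * z ≠ 1 := by
      intro h5
      have : x * z = x * x := by rw [h5, hx2]
      exact hxz (mul_left_cancel this).symm
    have hxzz : x * z ≠ z := by
      intro h5
      have : x * z = 1 * z := by rw [h5, one_mul]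
      exact hx1 (mul_right_cancel this)
    have hxzx : x * z ≠ x := by
      intro h5
      have : x * z = x * 1 := by rw [h5, mul_one]
      exact h.z1 (mul_left_cancel this)
    rw [Finset.card_insert_of_notMem, Finset.card_insert_of_notMem, Finset.card_insert_of_notMem,
      Finset.card_insert_of_notMem, Finset.card_singleton]
    · simp only [mem_singleton]; exact Ne.symm hcon.2.2.2
    · simp only [mem_insert, mem_singleton, not_or]
      exact ⟨hxzx.symm, Ne.symm hcon.2.2.1⟩
    · simp only [mem_insert, mem_singleton, not_or]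
      exact ⟨Ne.symm hxz, Ne.symm hxzz, Ne.symm hcon.2.1⟩
    · simp only [mem_insert, mem_singleton, not_or]
      exact ⟨Ne.symm h.z1, Ne.symm hx1, Ne.symm hxz1, Ne.symm hcon.1⟩
  omega


omit [Fintype P] [DecidableEq P] in
theorem aut_fix_z (h : Ex32 z) (σ : MulAut P) : σ z = z := by
  have h1 : ∀ b : P, σ z * b = b * σ z := by
    intro b
    have : σ z * σ (σ⁻¹ b) = σ (σ⁻¹ b) * σ z := by
      rw [← map_mul, ← map_mul, h.zc]
    simpa using this
  rcases h.cen (σ z) h1 with h2 | h2
  · exfalso
    apply h.z1
    have : σ z = σ 1 := by rw [h2, map_one]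
    exact σ.injective this
  · exact h2

/-- a nontrivial automorphism of order 5 has fixed points exactly `{1, z}` -/
theorem aut_fixed_points (h : Ex32 z) (hcard : Fintype.card P = 32) (σ : MulAut P) (h5 : σ ^ 5 = 1)
    (hne : σ ≠ 1) : ∀ q : P, σ q = q → q = 1 ∨ q = z := by
  classical
  -- the fixed subgroup
  let F : Subgroup P :=
    { carrier := {q | σ q = q}
      mul_mem' := by
        intro a b ha hb
        simp only [Set.mem_ofPred_eq] at ha hb ⊢
        rw [map_mul, ha, hb]
      one_mem' := by simp
      inv_mem' := by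
        intro a ha
        simp only [Set.mem_ofPred_eq] at ha ⊢
        rw [map_inv, ha] }
  have hFmem : ∀ q : P, q ∈ F ↔ σ q = q := fun q => Iff.rfl
  have hdvd : Nat.card F ∣ 32 := by
    have := Subgroup.card_subgroup_dvd_card F
    rwa [Nat.card_eq_fintype_card (α := P), hcard] at this
  -- congruence
  have hperm : (MulAut.toPerm P σ) ^ 5 ^ 1 = 1 := by
    rw [pow_one, ← map_pow, h5, map_one]
  have : Fact (Nat.Prime 5) := ⟨by norm_num⟩
  have hmod := Equiv.Perm.card_compl_support_modEq (p := 5) (n := 1) hperm
  rw [hcard] at hmod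
  have hFcard : Nat.card F = (Equiv.Perm.support (MulAut.toPerm P σ))ᶜ.card := by
    rw [Nat.card_eq_fintype_card, ← Fintype.card_coe]
    apply Fintype.card_congr
    refine Equiv.subtypeEquivRight ?_
    intro q
    rw [hFmem, Finset.mem_compl, Equiv.Perm.notMem_support]
    rfl
  rw [← hFcard] at hmod
  have hF2 : Nat.card F = 2 := by
    have hle : Nat.card F ≤ 32 := Nat.le_of_dvd (by norm_num) hdvd
    have hne32 : Nat.card F ≠ 32 := by
      intro h32
      apply hne
      have htop : F = ⊤ := by
        apply Subgroup.eq_top_of_card_eq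
        rw [h32, Nat.card_eq_fintype_card, hcard]
      ext q
      have : q ∈ F := by rw [htop]; exact Subgroup.mem_top q
      simpa using (hFmem q).1 this
    unfold Nat.ModEq at hmod
    generalize Nat.card F = n at *
    interval_cases n <;> omega
  intro q hq
  have hqF : q ∈ F := (hFmem q).2 hq
  have h1F : (1 : P) ∈ F := F.one_mem
  have hzF : z ∈ F := (hFmem z).2 (aut_fix_z h σ)
  by_contra hcon
  push Not at hcon
  have h3 : ({⟨1, h1F⟩, ⟨z, hzF⟩, ⟨q, hqF⟩} : Finset F).card = 3 := by
    rw [Finset.card_insert_of_notMem, Finset.card_insert_of_notMem, Finset.card_singleton]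
    · simp only [mem_singleton, Subtype.mk.injEq]; exact Ne.symm hcon.2
    · simp only [mem_insert, mem_singleton, Subtype.mk.injEq, not_or]
      exact ⟨Ne.symm h.z1, Ne.symm hcon.1⟩
  have h4 := Finset.card_le_univ ({⟨1, h1F⟩, ⟨z, hzF⟩, ⟨q, hqF⟩} : Finset F)
  rw [h3, ← Nat.card_eq_fintype_card, hF2] at h4
  omega

/-- with a nontrivial automorphism of order 5 there are exactly 12 solutions of `q² = 1` -/
theorem card_sq_one_eq (h : Ex32 z) (hcard : Fintype.card P = 32) (σ : MulAut P) (h5 : σ ^ 5 = 1)
    (hne : σ ≠ 1) : (univ.filter (fun q : P => q * q = 1)).card = 12 := by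
  classical
  have hfix := aut_fixed_points h hcard σ h5 hne
  have hinv : ∀ x : P, (MulAut.toPerm P σ x) * (MulAut.toPerm P σ x) = 1 ↔ x * x = 1 := by
    intro x
    show σ x * σ x = 1 ↔ x * x = 1
    rw [← map_mul]
    constructor
    · intro h1
      have : σ (x * x) = σ 1 := by rw [h1, map_one]
      exact σ.injective this
    · intro h1; rw [h1, map_one]
  let τ : Equiv.Perm {x : P // x * x = 1} := (MulAut.toPerm P σ).subtypePerm hinv
  have hτ : τ ^ 5 ^ 1 = 1 := by
    rw [pow_one]
    ext x
    have h6 : (τ ^ 5) x = ⟨((MulAut.toPerm P σ) ^ 5) x.1, by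
        rw [← map_pow, h5, map_one]; exact x.2⟩ := by
      show (((MulAut.toPerm P σ).subtypePerm hinv) ^ 5) x = _
      rw [Equiv.Perm.subtypePerm_pow]
      rfl
    rw [h6]
    simp only [Equiv.Perm.coe_one, id_eq]
    rw [← map_pow, h5, map_one]
    rfl
  have : Fact (Nat.Prime 5) := ⟨by norm_num⟩
  have hmod := Equiv.Perm.card_compl_support_modEq (p := 5) (n := 1) hτ
  have hc1 : Fintype.card {x : P // x * x = 1} = (univ.filter (fun q : P => q * q = 1)).card := by
    rw [Fintype.card_subtype]
  have hc2 : (Equiv.Perm.support τ)ᶜ = {⟨1, by simp⟩, ⟨z, h.z2⟩} := by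
    ext x
    rw [Finset.mem_compl, Equiv.Perm.notMem_support]
    simp only [mem_insert, mem_singleton]
    constructor
    · intro h1
      have h2 : σ x.1 = x.1 := by
        have := congrArg Subtype.val h1
        exact this
      rcases hfix x.1 h2 with h3 | h3
      · left; exact Subtype.ext h3
      · right; exact Subtype.ext h3
    · rintro (h1 | h1)
      · rw [h1]; apply Subtype.ext
        show σ 1 = 1
        exact map_one σ
      · rw [h1]; apply Subtype.ext
        show σ z = z
        exact aut_fix_z h σ
  rw [hc2, hc1, Finset.card_pair] at hmod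
  · rcases card_sq_one h hcard with h12 | h20
    · exact h12
    · rw [h20] at hmod
      unfold Nat.ModEq at hmod
      omega
  · intro h1
    have := congrArg Subtype.val h1
    exact h.z1 this.symm

end counting

end Cfsg.Agent.Lib.Helper19.HJExtra
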