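import Mathlib
import Cfsg.Agent.Lib.Helper19.HJExtra

set_option autoImplicit false

/-!
Counting in a group `H = K ⋉ Q` with `Q` extraspecial of order 32, self-centralizing, `K ≅ A₅`, in which
every involution outside `Q` has an elementary abelian centralizer meeting `Q` in at least 4 elements
(the centralizer of a 2-central involution in the Hall–Janko group).
-/

namespace Cfsg.Agent.Lib.Helper19.HJCz

open Finset
open Cfsg.Agent.Lib.Helper19.HJExtra

variable {H : Type*} [Group H]

structure HJData (Q K : Subgroup H) (z : H) : Prop where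
  normal : Q.Normal
  z1 : z ≠ 1
  z2 : z * z = 1
  zQ : z ∈ Q
  zc : ∀ h : H, h * z = z * h
  card : Nat.card Q = 32
  comm : ∀ a ∈ Q, ∀ b ∈ Q, a * b * a⁻¹ * b⁻¹ = 1 ∨ a * b * a⁻¹ * b⁻¹ = z
  cen : ∀ a ∈ Q, (∀ b ∈ Q, a * b = b * a) → a = 1 ∨ a = z
  self : ∀ h : H, (∀ q ∈ Q, h * q = q * h) → h ∈ Q
  disj : ∀ k ∈ K, k ∈ Q → k = 1
  prod : ∀ h : H, ∃ k ∈ K, ∃ q ∈ Q, h = k * q
  iso : Nonempty (K ≃* alternatingGroup (Fin 5))
  out : ∀ y : H, y * y = 1 → y ∉ Q → (∀ c : H, c * y = y * c → c * c = 1) ∧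
    ∃ x₀ : H, x₀ ∈ Q ∧ x₀ ≠ 1 ∧ x₀ ≠ z ∧ x₀ * y = y * x₀

variable {Q K : Subgroup H} {z : H}

theorem ex32 (d : HJData Q K z) : Ex32 (⟨z, d.zQ⟩ : ↥Q) where
  z1 := by
    intro h
    exact d.z1 (congrArg Subtype.val h)
  z2 := Subtype.ext d.z2
  zc := fun a => Subtype.ext (d.zc a.1)
  comm := by
    intro a b
    rcases d.comm a.1 a.2 b.1 b.2 with h | h
    · left; exact Subtype.ext h
    · right; exact Subtype.ext h
  cen := by
    intro a ha
    have : ∀ b ∈ Q, a.1 * b = b * a.1 := by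
      intro b hb
      exact congrArg Subtype.val (ha ⟨b, hb⟩)
    rcases d.cen a.1 a.2 this with h | h
    · left; exact Subtype.ext h
    · right; exact Subtype.ext h

theorem a5_has_five : ∃ g : alternatingGroup (Fin 5), g ^ 5 = 1 ∧ g ≠ 1 := by
  decide +kernel

theorem exists_five (d : HJData Q K z) : ∃ f : H, f ∈ K ∧ f ^ 5 = 1 ∧ f ≠ 1 := by
  obtain ⟨e⟩ := d.iso
  obtain ⟨g, hg5, hg1⟩ := a5_has_five
  refine ⟨(e.symm g : K), (e.symm g).2, ?_, ?_⟩
  · have : (e.symm g) ^ 5 = 1 := by rw [← map_pow, hg5, map_one]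
    exact_mod_cast congrArg Subtype.val this
  · intro h
    apply hg1
    have : e.symm g = 1 := Subtype.ext h
    have h2 : e (e.symm g) = e 1 := by rw [this]
    simpa using h2

section fin

variable [Fintype H]

open scoped Classical

/-- twelve solutions of `q² = 1` in `Q` -/
theorem card_sq_one_Q (d : HJData Q K z) :
    (univ.filter (fun q : H => q ∈ Q ∧ q * q = 1)).card = 12 := by
  have := d.normal
  obtain ⟨f, hfK, hf5, hf1⟩ := exists_five d
  have hcard : Fintype.card ↥Q = 32 := by rw [← Nat.card_eq_fintype_card]; exact d.card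
  have h5 : (MulAut.conjNormal f : MulAut ↥Q) ^ 5 = 1 := by
    rw [← map_pow, hf5, map_one]
  have hne : (MulAut.conjNormal f : MulAut ↥Q) ≠ 1 := by
    intro h
    apply hf1
    apply d.disj f hfK
    apply d.self
    intro q hq
    have h1 : (MulAut.conjNormal f : MulAut ↥Q) ⟨q, hq⟩ = ⟨q, hq⟩ := by rw [h]; rfl
    have h2 := congrArg Subtype.val h1
    rw [MulAut.conjNormal_apply] at h2
    simp only at h2
    calc f * q = f * q * f⁻¹ * f := by group
      _ = q * f := by rw [h2]
  have h12 := card_sq_one_eq (ex32 d) hcard _ h5 hne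
  rw [← h12]
  symm
  apply Finset.card_bij (fun q _ => q.1)
  · intro q hq
    simp only [mem_filter, mem_univ, true_and] at hq ⊢
    exact ⟨q.2, congrArg Subtype.val hq⟩
  · intro a _ b _ hab
    exact Subtype.ext hab
  · intro b hb
    simp only [mem_filter, mem_univ, true_and] at hb
    refine ⟨⟨b, hb.1⟩, ?_, rfl⟩
    simp only [mem_filter, mem_univ, true_and]
    exact Subtype.ext hb.2

/-- commuting noncentral involutions of `Q` -/
theorem comm_inv_Q (d : HJData Q K z) (x x' : H) (hx : x ∈ Q) (hx' : x' ∈ Q) (hx2 : x * x = 1)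
    (hx1 : x ≠ 1) (hxz : x ≠ z) (hx'2 : x' * x' = 1) (hcomm : x * x' = x' * x) :
    x' = 1 ∨ x' = z ∨ x' = x ∨ x' = x * z := by
  have := d.normal
  obtain ⟨f, hfK, hf5, hf1⟩ := exists_five d
  have hcard : Fintype.card ↥Q = 32 := by rw [← Nat.card_eq_fintype_card]; exact d.card
  have h5 : (MulAut.conjNormal f : MulAut ↥Q) ^ 5 = 1 := by
    rw [← map_pow, hf5, map_one]
  have hne : (MulAut.conjNormal f : MulAut ↥Q) ≠ 1 := by
    intro h
    apply hf1
    apply d.disj f hfK
    apply d.self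
    intro q hq
    have h1 : (MulAut.conjNormal f : MulAut ↥Q) ⟨q, hq⟩ = ⟨q, hq⟩ := by rw [h]; rfl
    have h2 := congrArg Subtype.val h1
    rw [MulAut.conjNormal_apply] at h2
    simp only at h2
    calc f * q = f * q * f⁻¹ * f := by group
      _ = q * f := by rw [h2]
  have h12 := card_sq_one_eq (ex32 d) hcard _ h5 hne
  have := commuting_involutions (ex32 d) hcard h12 ⟨x, hx⟩ ⟨x', hx'⟩ (Subtype.ext hx2)
    (fun h => hx1 (congrArg Subtype.val h)) (fun h => hxz (congrArg Subtype.val h))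
    (Subtype.ext hx'2) (Subtype.ext hcomm)
  rcases this with h | h | h | h
  · left; exact congrArg Subtype.val h
  · right; left; exact congrArg Subtype.val h
  · right; right; left; exact congrArg Subtype.val h
  · right; right; right; exact congrArg Subtype.val h


omit [Fintype H] in
theorem mul_z_props (d : HJData Q K z) (x : H) (hx : x ∈ Q) (hx2 : x * x = 1) (hx1 : x ≠ 1) (hxz : x ≠ z) :
    x * z ∈ Q ∧ (x * z) * (x * z) = 1 ∧ x * z ≠ 1 ∧ x * z ≠ z ∧ x * z ≠ x := by
  refine ⟨Q.mul_mem hx d.zQ, ?_, ?_, ?_, ?_⟩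
  · calc x * z * (x * z) = x * (z * x) * z := by group
      _ = x * (x * z) * z := by rw [d.zc x]
      _ = (x * x) * (z * z) := by group
      _ = 1 := by rw [hx2, d.z2, one_mul]
  · intro h5
    have : x * z = x * x := by rw [h5, hx2]
    exact hxz (mul_left_cancel this).symm
  · intro h5
    have : x * z = 1 * z := by rw [h5, one_mul]
    exact hx1 (mul_right_cancel this)
  · intro h5
    have : x * z = x * 1 := by rw [h5, mul_one]
    exact d.z1 (mul_left_cancel this)

/-- the elements of `Q` commuting with an outer involution `y` -/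
theorem cent_out (d : HJData Q K z) (y : H) (hy2 : y * y = 1) (hyQ : y ∉ Q) :
    ∃ x₀ : H, x₀ ∈ Q ∧ x₀ * x₀ = 1 ∧ x₀ ≠ 1 ∧ x₀ ≠ z ∧ x₀ * y = y * x₀ ∧
      ∀ q ∈ Q, q * y = y * q → q = 1 ∨ q = z ∨ q = x₀ ∨ q = x₀ * z := by
  obtain ⟨hexp, x₀, hx₀Q, hx₀1, hx₀z, hx₀y⟩ := d.out y hy2 hyQ
  have hx₀2 : x₀ * x₀ = 1 := hexp x₀ hx₀y
  refine ⟨x₀, hx₀Q, hx₀2, hx₀1, hx₀z, hx₀y, ?_⟩
  intro q hqQ hqy
  have hq2 : q * q = 1 := hexp q hqy
  have hqx : (x₀ * q) * y = y * (x₀ * q) := by
    rw [mul_assoc, hqy, ← mul_assoc, hx₀y, mul_assoc]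
  have hqx2 : (x₀ * q) * (x₀ * q) = 1 := hexp _ hqx
  have hcomm : x₀ * q = q * x₀ := by
    have e1 : x₀⁻¹ = x₀ := inv_eq_of_mul_eq_one_left hx₀2
    have e2 : q⁻¹ = q := inv_eq_of_mul_eq_one_left hq2
    have e3 : (x₀ * q)⁻¹ = x₀ * q := inv_eq_of_mul_eq_one_left hqx2
    calc x₀ * q = (x₀ * q)⁻¹ := e3.symm
      _ = q⁻¹ * x₀⁻¹ := mul_inv_rev _ _
      _ = q * x₀ := by rw [e1, e2]
  exact comm_inv_Q d x₀ q hx₀Q hqQ hx₀2 hx₀1 hx₀z hq2 hcomm


/-- the criterion for `z ∈ ⟨x y⟩` -/
theorem z_mem_zpowers_iff (d : HJData Q K z) (x y : H) (hx : x ∈ Q) (hx2 : x * x = 1) (hx1 : x ≠ 1)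
    (hxz : x ≠ z) (hy2 : y * y = 1) (hyQ : y ∉ Q) :
    z ∈ Subgroup.zpowers (x * y) ↔ y * x * y⁻¹ ≠ x := by
  have hyinv : y⁻¹ = y := inv_eq_of_mul_eq_one_left hy2
  have hxinv : x⁻¹ = x := inv_eq_of_mul_eq_one_left hx2
  constructor
  · intro hz hcon
    have hcomm : y * x = x * y := by
      calc y * x = y * x * y⁻¹ * y := by group
        _ = x * y := by rw [hcon]
    have hw2 : (x * y) ^ (2 : ℤ) = 1 := by
      rw [zpow_two]
      calc x * y * (x * y) = x * (y * x) * y := by group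
        _ = x * (x * y) * y := by rw [hcomm]
        _ = (x * x) * (y * y) := by group
        _ = 1 := by rw [hx2, hy2, one_mul]
    obtain ⟨n, hn⟩ := Subgroup.mem_zpowers_iff.1 hz
    rw [zpow_eq_zpow_emod n hw2] at hn
    rcases Int.emod_two_eq_zero_or_one n with h0 | h1
    · rw [h0, zpow_zero] at hn
      exact d.z1 hn.symm
    · rw [h1, zpow_one] at hn
      apply hyQ
      have : y = x⁻¹ * z := by rw [← hn]; group
      rw [this]
      exact Q.mul_mem (Q.inv_mem hx) d.zQ
  · intro hne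
    set x' := y * x * y⁻¹ with hx'
    have hx'Q : x' ∈ Q := d.normal.conj_mem x hx y
    have hx'2 : x' * x' = 1 := by
      rw [hx']
      calc y * x * y⁻¹ * (y * x * y⁻¹) = y * (x * x) * y⁻¹ := by group
        _ = 1 := by rw [hx2]; group
    have hww : (x * y) * (x * y) = x * x' := by
      rw [hx', hyinv]; group
    by_cases hc : x * x' = x' * x
    · rcases comm_inv_Q d x x' hx hx'Q hx2 hx1 hxz hx'2 hc with h | h | h | h
      · exfalso
        apply hx1
        have : x = y⁻¹ * x' * y := by rw [hx']; group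
        rw [this, h]; group
      · exfalso
        apply hxz
        have : x = y⁻¹ * x' * y := by rw [hx']; group
        rw [this, h, mul_assoc, ← d.zc y]; group
      · exact absurd h hne
      · rw [Subgroup.mem_zpowers_iff]
        refine ⟨2, ?_⟩
        rw [zpow_two, hww, h, ← mul_assoc, hx2, one_mul]
    · rw [Subgroup.mem_zpowers_iff]
      refine ⟨4, ?_⟩
      have h4 : (x * y) ^ (4 : ℤ) = ((x * y) * (x * y)) * ((x * y) * (x * y)) := by
        have : (4 : ℤ) = 2 + 2 := by norm_num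
        rw [this, zpow_add, zpow_two]
      rw [h4, hww]
      have hx'inv : x'⁻¹ = x' := inv_eq_of_mul_eq_one_left hx'2
      rcases d.comm x hx x' hx'Q with h | h
      · exfalso
        apply hc
        have : x * x' = (x * x' * x⁻¹ * x'⁻¹) * (x' * x) := by group
        rw [this, h, one_mul]
      · rw [← h, hxinv, hx'inv]; group


/-- the centralizer in `Q` of an outer involution has exactly four elements -/
theorem card_cent_out (d : HJData Q K z) (y : H) (hy2 : y * y = 1) (hyQ : y ∉ Q) :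
    (univ.filter (fun q : H => q ∈ Q ∧ q * y = y * q)).card = 4 := by
  obtain ⟨x₀, hx₀Q, hx₀2, hx₀1, hx₀z, hx₀y, hall⟩ := cent_out d y hy2 hyQ
  obtain ⟨hmQ, hm2, hm1, hmz, hmx⟩ := mul_z_props d x₀ hx₀Q hx₀2 hx₀1 hx₀z
  have heq : (univ.filter (fun q : H => q ∈ Q ∧ q * y = y * q)) = {1, z, x₀, x₀ * z} := by
    ext q
    simp only [mem_filter, mem_univ, true_and, mem_insert, mem_singleton]
    constructor
    · rintro ⟨h1, h2⟩
      exact hall q h1 h2
    · rintro (h | h | h | h)
      · rw [h]; exact ⟨Q.one_mem, by simp⟩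
      · rw [h]; exact ⟨d.zQ, (d.zc y).symm⟩
      · rw [h]; exact ⟨hx₀Q, hx₀y⟩
      · rw [h]; refine ⟨hmQ, ?_⟩
        rw [mul_assoc, ← d.zc y, ← mul_assoc, hx₀y, mul_assoc]
  rw [heq, Finset.card_insert_of_notMem, Finset.card_insert_of_notMem, Finset.card_insert_of_notMem,
    Finset.card_singleton]
  · simp only [mem_singleton]; exact Ne.symm hmx
  · simp only [mem_insert, mem_singleton, not_or]
    exact ⟨Ne.symm hx₀z, Ne.symm hmz⟩
  · simp only [mem_insert, mem_singleton, not_or]
    exact ⟨Ne.symm d.z1, Ne.symm hx₀1, Ne.symm hm1⟩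

/-- exactly two noncentral involutions of `Q` commute with an outer involution -/
theorem card_fixed_inv (d : HJData Q K z) (y : H) (hy2 : y * y = 1) (hyQ : y ∉ Q) :
    (univ.filter (fun x : H => (x ∈ Q ∧ x * x = 1 ∧ x ≠ 1 ∧ x ≠ z) ∧ y * x * y⁻¹ = x)).card = 2 := by
  obtain ⟨x₀, hx₀Q, hx₀2, hx₀1, hx₀z, hx₀y, hall⟩ := cent_out d y hy2 hyQ
  obtain ⟨hmQ, hm2, hm1, hmz, hmx⟩ := mul_z_props d x₀ hx₀Q hx₀2 hx₀1 hx₀z
  have hiff : ∀ x : H, y * x * y⁻¹ = x ↔ x * y = y * x := by
    intro x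
    constructor
    · intro h
      calc x * y = (y * x * y⁻¹) * y := by rw [h]
        _ = y * x := by group
    · intro h
      calc y * x * y⁻¹ = (x * y) * y⁻¹ := by rw [h]
        _ = x := by group
  have heq : (univ.filter (fun x : H => (x ∈ Q ∧ x * x = 1 ∧ x ≠ 1 ∧ x ≠ z) ∧ y * x * y⁻¹ = x))
      = {x₀, x₀ * z} := by
    ext q
    simp only [mem_filter, mem_univ, true_and, mem_insert, mem_singleton]
    constructor
    · rintro ⟨⟨h1, h2, h3, h4⟩, h5⟩
      rcases hall q h1 ((hiff q).1 h5) with h | h | h | h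
      · exact absurd h h3
      · exact absurd h h4
      · left; exact h
      · right; exact h
    · rintro (h | h)
      · rw [h]; exact ⟨⟨hx₀Q, hx₀2, hx₀1, hx₀z⟩, (hiff _).2 hx₀y⟩
      · rw [h]; refine ⟨⟨hmQ, hm2, hm1, hmz⟩, (hiff _).2 ?_⟩
        rw [mul_assoc, ← d.zc y, ← mul_assoc, hx₀y, mul_assoc]
  rw [heq, Finset.card_pair (Ne.symm hmx)]

/-- ten noncentral involutions -/
theorem card_inv_Q (d : HJData Q K z) :
    (univ.filter (fun x : H => x ∈ Q ∧ x * x = 1 ∧ x ≠ 1 ∧ x ≠ z)).card = 10 := by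
  have h12 := card_sq_one_Q d
  have hsub : ({1, z} : Finset H) ⊆ univ.filter (fun q : H => q ∈ Q ∧ q * q = 1) := by
    intro q hq
    simp only [mem_insert, mem_singleton] at hq
    simp only [mem_filter, mem_univ, true_and]
    rcases hq with rfl | rfl
    · exact ⟨Q.one_mem, by simp⟩
    · exact ⟨d.zQ, d.z2⟩
  have heq : (univ.filter (fun x : H => x ∈ Q ∧ x * x = 1 ∧ x ≠ 1 ∧ x ≠ z))
      = (univ.filter (fun q : H => q ∈ Q ∧ q * q = 1)) \ {1, z} := by
    ext q
    simp only [mem_filter, mem_univ, true_and, mem_sdiff, mem_insert, mem_singleton, not_or]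
    tauto
  rw [heq, Finset.card_sdiff_of_subset hsub, h12, Finset.card_pair (Ne.symm d.z1)]

theorem card_moved_inv (d : HJData Q K z) (y : H) (hy2 : y * y = 1) (hyQ : y ∉ Q) :
    (univ.filter (fun x : H => (x ∈ Q ∧ x * x = 1 ∧ x ≠ 1 ∧ x ≠ z) ∧ y * x * y⁻¹ ≠ x)).card = 8 := by
  have h1 := card_fixed_inv d y hy2 hyQ
  have h2 := card_inv_Q d
  have h3 := Finset.card_filter_add_card_filter_not (s := univ.filter (fun x : H => x ∈ Q ∧ x * x = 1 ∧ x ≠ 1 ∧ x ≠ z))
    (fun x : H => y * x * y⁻¹ = x)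
  rw [Finset.filter_filter, Finset.filter_filter, h1, h2] at h3
  have h4 : (univ.filter (fun x : H => (x ∈ Q ∧ x * x = 1 ∧ x ≠ 1 ∧ x ≠ z) ∧ y * x * y⁻¹ ≠ x)).card
      = (univ.filter (fun a : H => (a ∈ Q ∧ a * a = 1 ∧ a ≠ 1 ∧ a ≠ z) ∧ ¬ y * a * y⁻¹ = a)).card := by
    congr 1
  rw [h4]
  omega


/-- the coset `kQ` of an outer involution `k` contains exactly 8 involutions -/
theorem card_coset_inv (d : HJData Q K z) (k : H) (hk2 : k * k = 1) (hkQ : k ∉ Q) :
    (univ.filter (fun q : H => q ∈ Q ∧ (k * q) * (k * q) = 1)).card = 8 := by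
  have hkinv : k⁻¹ = k := inv_eq_of_mul_eq_one_left hk2
  have hC4 := card_cent_out d k hk2 hkQ
  set C := univ.filter (fun q : H => q ∈ Q ∧ q * k = k * q) with hC
  set T := univ.filter (fun q : H => q ∈ Q ∧ (k * q) * (k * q) = 1) with hT
  obtain ⟨hexp, -⟩ := d.out k hk2 hkQ
  -- elements of T: conjugation by k inverts
  have hTinv : ∀ q ∈ T, k * q * k⁻¹ = q⁻¹ := by
    intro q hq
    simp only [hT, mem_filter, mem_univ, true_and] at hq
    have h1 : k * q * k⁻¹ * q = 1 := by
      rw [hkinv]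
      calc k * q * k * q = (k * q) * (k * q) := by group
        _ = 1 := hq.2
    exact eq_inv_of_mul_eq_one_left h1
  -- squares of elements of Q
  have hsq : ∀ q ∈ Q, q * q = 1 ∨ q * q = z := by
    intro q hq
    have := sq_cases (ex32 d) ⟨q, hq⟩
    rcases this with h | h
    · left; exact congrArg Subtype.val h
    · right; exact congrArg Subtype.val h
  -- upper bound
  have hup : T.card ≤ 8 := by
    by_cases hex : ∃ q₁ ∈ T, q₁ ∉ C
    · obtain ⟨q₁, hq₁T, hq₁C⟩ := hex
      have hq₁Q : q₁ ∈ Q := by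
        simp only [hT, mem_filter, mem_univ, true_and] at hq₁T; exact hq₁T.1
      have hsub : T ⊆ C ∪ C.image (fun c => c * q₁) := by
        intro q hq
        have hqQ : q ∈ Q := by
          simp only [hT, mem_filter, mem_univ, true_and] at hq; exact hq.1
        rw [mem_union]
        by_cases hqC : q ∈ C
        · left; exact hqC
        · right
          rw [mem_image]
          refine ⟨q * q₁⁻¹, ?_, by group⟩
          simp only [hC, mem_filter, mem_univ, true_and]
          refine ⟨Q.mul_mem hqQ (Q.inv_mem hq₁Q), ?_⟩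
          -- q ∉ C means q*q = z
          have key : ∀ r ∈ T, r ∉ C → r⁻¹ = z * r := by
            intro r hr hrC
            have hrQ : r ∈ Q := by
              simp only [hT, mem_filter, mem_univ, true_and] at hr; exact hr.1
            have hr2 : r * r = z := by
              rcases hsq r hrQ with h | h
              · exfalso
                apply hrC
                simp only [hC, mem_filter, mem_univ, true_and]
                refine ⟨hrQ, ?_⟩
                have h1 := hTinv r hr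
                have h2 : r⁻¹ = r := inv_eq_of_mul_eq_one_left h
                rw [h2] at h1
                calc r * k = (k * r * k⁻¹) * k := by rw [h1]
                  _ = k * r := by group
              · exact h
            have : z * r * r = 1 := by rw [mul_assoc, hr2, d.z2]
            exact inv_eq_of_mul_eq_one_left this
          have e1 := key q hq hqC
          have e2 := key q₁ hq₁T hq₁C
          have h1 := hTinv q hq
          have h2 := hTinv q₁ hq₁T
          have h3 : k * (q * q₁⁻¹) * k⁻¹ = q * q₁⁻¹ := by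
            calc k * (q * q₁⁻¹) * k⁻¹ = (k * q * k⁻¹) * (k * q₁ * k⁻¹)⁻¹ := by group
              _ = q⁻¹ * (q₁⁻¹)⁻¹ := by rw [h1, h2]
              _ = (z * q) * (z * q₁)⁻¹ := by rw [e1, e2]
              _ = z * (q * q₁⁻¹) * z⁻¹ := by group
              _ = (q * q₁⁻¹) * z * z⁻¹ := by rw [← d.zc (q * q₁⁻¹)]
              _ = q * q₁⁻¹ := by group
          calc q * q₁⁻¹ * k = (k * (q * q₁⁻¹) * k⁻¹) * k := by rw [h3]
            _ = k * (q * q₁⁻¹) := by group
      have h1 := Finset.card_le_card hsub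
      have h2 := Finset.card_union_le C (C.image (fun c => c * q₁))
      have h3 : (C.image (fun c => c * q₁)).card ≤ C.card := Finset.card_image_le
      omega
    · push Not at hex
      have h1 := Finset.card_le_card hex
      omega
  -- lower bound
  have hlow : 8 ≤ T.card := by
    set Qf := univ.filter (fun q : H => q ∈ Q) with hQf
    have hQf32 : Qf.card = 32 := by
      rw [← d.card, Nat.card_eq_fintype_card, Fintype.card_subtype]
    have himg : Qf.image (fun a => a⁻¹ * (k * a * k⁻¹)) ⊆ T := by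
      intro t ht
      rw [mem_image] at ht
      obtain ⟨a, ha, rfl⟩ := ht
      simp only [hQf, mem_filter, mem_univ, true_and] at ha
      simp only [hT, mem_filter, mem_univ, true_and]
      refine ⟨Q.mul_mem (Q.inv_mem ha) (d.normal.conj_mem a ha k), ?_⟩
      rw [hkinv]
      calc k * (a⁻¹ * (k * a * k)) * (k * (a⁻¹ * (k * a * k)))
          = k * a⁻¹ * k * a * (k * k) * a⁻¹ * k * a * k := by group
        _ = k * a⁻¹ * k * a * 1 * a⁻¹ * k * a * k := by rw [hk2]
        _ = k * a⁻¹ * (k * k) * a * k := by group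
        _ = k * a⁻¹ * 1 * a * k := by rw [hk2]
        _ = k * k := by group
        _ = 1 := hk2
    have hfib : ∀ t ∈ Qf.image (fun a => a⁻¹ * (k * a * k⁻¹)),
        (Qf.filter (fun x => x⁻¹ * (k * x * k⁻¹) = t)).card ≤ 4 := by
      intro t ht
      rw [mem_image] at ht
      obtain ⟨a, ha, rfl⟩ := ht
      simp only [hQf, mem_filter, mem_univ, true_and] at ha
      have hsub : Qf.filter (fun x => x⁻¹ * (k * x * k⁻¹) = a⁻¹ * (k * a * k⁻¹))
          ⊆ C.image (fun c => c * a) := by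
        intro b hb
        simp only [hQf, mem_filter, mem_univ, true_and] at hb
        rw [mem_image]
        refine ⟨b * a⁻¹, ?_, by group⟩
        simp only [hC, mem_filter, mem_univ, true_and]
        refine ⟨Q.mul_mem hb.1 (Q.inv_mem ha), ?_⟩
        have h1 := hb.2
        have h2 : b⁻¹ * k * b = a⁻¹ * k * a := by
          calc b⁻¹ * k * b = (b⁻¹ * (k * b * k⁻¹)) * k := by group
            _ = (a⁻¹ * (k * a * k⁻¹)) * k := by rw [h1]
            _ = a⁻¹ * k * a := by group
        calc b * a⁻¹ * k = b * (a⁻¹ * k * a) * a⁻¹ := by group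
          _ = b * (b⁻¹ * k * b) * a⁻¹ := by rw [h2]
          _ = k * (b * a⁻¹) := by group
      have h1 := Finset.card_le_card hsub
      have h2 : (C.image (fun c => c * a)).card ≤ C.card := Finset.card_image_le
      omega
    have h1 := Finset.card_le_mul_card_image Qf 4 hfib
    have h2 := Finset.card_le_card himg
    omega
  omega


set_option maxRecDepth 100000 in
theorem a5_inv_count : (Finset.univ.filter (fun a : alternatingGroup (Fin 5) =>
    a ≠ 1 ∧ a * a = 1)).card = 15 := by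
  decide +kernel

/-- fifteen involutions in `K` -/
theorem card_inv_K (d : HJData Q K z) :
    (univ.filter (fun k : H => k ∈ K ∧ k * k = 1 ∧ k ≠ 1)).card = 15 := by
  obtain ⟨e⟩ := d.iso
  rw [← a5_inv_count]
  apply Finset.card_bij (fun k hk => e ⟨k, (Finset.mem_filter.1 hk).2.1⟩)
  · intro k hk
    have hk' := (Finset.mem_filter.1 hk).2
    simp only [mem_filter, mem_univ, true_and]
    refine ⟨?_, ?_⟩
    · intro h
      apply hk'.2.2
      have : (⟨k, hk'.1⟩ : K) = 1 := by
        have h2 : e ⟨k, hk'.1⟩ = e 1 := by rw [h, map_one]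
        exact e.injective h2
      exact congrArg Subtype.val this
    · rw [← map_mul]
      have : (⟨k, hk'.1⟩ : K) * ⟨k, hk'.1⟩ = 1 := Subtype.ext hk'.2.1
      rw [this, map_one]
  · intro a ha b hb hab
    have := e.injective hab
    exact congrArg Subtype.val this
  · intro b hb
    simp only [mem_filter, mem_univ, true_and] at hb
    refine ⟨(e.symm b : K), ?_, ?_⟩
    · simp only [mem_filter, mem_univ, true_and]
      refine ⟨(e.symm b).2, ?_, ?_⟩
      · have : e.symm b * e.symm b = 1 := by rw [← map_mul, hb.2, map_one]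
        exact congrArg Subtype.val this
      · intro h
        apply hb.1
        have h1 : e.symm b = 1 := Subtype.ext h
        have h2 : e (e.symm b) = e 1 := by rw [h1]
        simpa using h2
    · simp

/-- 120 involutions outside `Q` -/
theorem card_out_inv (d : HJData Q K z) :
    (univ.filter (fun y : H => y ∉ Q ∧ y * y = 1)).card = 120 := by
  set invK := univ.filter (fun k : H => k ∈ K ∧ k * k = 1 ∧ k ≠ 1) with hinvK
  have hkQ : ∀ k ∈ invK, k ∉ Q := by
    intro k hk hkQ
    simp only [hinvK, mem_filter, mem_univ, true_and] at hk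
    exact hk.2.2 (d.disj k hk.1 hkQ)
  have heq : (univ.filter (fun y : H => y ∉ Q ∧ y * y = 1))
      = invK.biUnion (fun k => (univ.filter (fun q : H => q ∈ Q ∧ (k * q) * (k * q) = 1)).image (fun q => k * q)) := by
    ext y
    simp only [mem_filter, mem_univ, true_and, mem_biUnion, mem_image]
    constructor
    · rintro ⟨hyQ, hy2⟩
      obtain ⟨k, hkK, q, hqQ, rfl⟩ := d.prod y
      refine ⟨k, ?_, q, ⟨hqQ, hy2⟩, rfl⟩
      simp only [hinvK, mem_filter, mem_univ, true_and]
      refine ⟨hkK, ?_, ?_⟩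
      · apply d.disj _ (K.mul_mem hkK hkK)
        have h1 : k * k = ((k⁻¹ * q * k) * q)⁻¹ := by
          have : (k * k) * ((k⁻¹ * q * k) * q) = 1 := by
            calc (k * k) * ((k⁻¹ * q * k) * q) = (k * q) * (k * q) := by group
              _ = 1 := hy2
          exact eq_inv_of_mul_eq_one_left this
        rw [h1]
        apply Q.inv_mem
        apply Q.mul_mem _ hqQ
        have := d.normal.conj_mem q hqQ k⁻¹
        simpa using this
      · intro hk1
        apply hyQ
        rw [hk1, one_mul]; exact hqQ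
    · rintro ⟨k, hk, q, ⟨hqQ, hq2⟩, rfl⟩
      refine ⟨?_, hq2⟩
      intro hkq
      apply hkQ k hk
      have : k = (k * q) * q⁻¹ := by group
      rw [this]
      exact Q.mul_mem hkq (Q.inv_mem hqQ)
  rw [heq, Finset.card_biUnion]
  · have : ∀ k ∈ invK, ((univ.filter (fun q : H => q ∈ Q ∧ (k * q) * (k * q) = 1)).image (fun q => k * q)).card = 8 := by
      intro k hk
      rw [Finset.card_image_of_injective _ (mul_right_injective k)]
      have hk' := hk
      simp only [hinvK, mem_filter, mem_univ, true_and] at hk'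
      exact card_coset_inv d k hk'.2.1 (hkQ k hk)
    rw [Finset.sum_congr rfl this, Finset.sum_const, card_inv_K d]
    rfl
  · intro k hk k' hk' hne
    rw [Function.onFun, Finset.disjoint_left]
    intro y hy hy'
    apply hne
    simp only [mem_image, mem_filter, mem_univ, true_and] at hy hy'
    obtain ⟨q, ⟨hqQ, -⟩, rfl⟩ := hy
    obtain ⟨q', ⟨hq'Q, -⟩, hqq'⟩ := hy'
    have hkK : k ∈ K := by
      have := Finset.mem_coe.1 hk
      simp only [hinvK, mem_filter, mem_univ, true_and] at this; exact this.1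
    have hk'K : k' ∈ K := by
      have := Finset.mem_coe.1 hk'
      simp only [hinvK, mem_filter, mem_univ, true_and] at this; exact this.1
    have h1 : k'⁻¹ * k = q' * q⁻¹ := by
      calc k'⁻¹ * k = k'⁻¹ * (k * q) * q⁻¹ := by group
        _ = k'⁻¹ * (k' * q') * q⁻¹ := by rw [hqq']
        _ = q' * q⁻¹ := by group
    have h2 : k'⁻¹ * k = 1 := by
      apply d.disj _ (K.mul_mem (K.inv_mem hk'K) hkK)
      rw [h1]; exact Q.mul_mem hq'Q (Q.inv_mem hqQ)
    have h3 : k = k' * (k'⁻¹ * k) := by group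
    rw [h3, h2, mul_one]


theorem count_fin (d : HJData Q K z) :
    ((univ : Finset (H × H)).filter (fun p => p.1 ∈ Q ∧ p.1 * p.1 = 1 ∧ p.1 ≠ 1 ∧ p.1 ≠ z ∧
      p.2 ∉ Q ∧ p.2 * p.2 = 1 ∧ z ∈ Subgroup.zpowers (p.1 * p.2))).card = 960 := by
  rw [Finset.card_filter, ← Finset.univ_product_univ, Finset.sum_product_right]
  have hterm : ∀ y : H, (∑ x : H, if (x ∈ Q ∧ x * x = 1 ∧ x ≠ 1 ∧ x ≠ z ∧
      y ∉ Q ∧ y * y = 1 ∧ z ∈ Subgroup.zpowers (x * y)) then 1 else 0)
      = if (y ∉ Q ∧ y * y = 1) then 8 else 0 := by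
    intro y
    split_ifs with hy
    · rw [← Finset.card_filter, ← card_moved_inv d y hy.2 hy.1]
      congr 1
      apply Finset.filter_congr
      intro x _
      constructor
      · rintro ⟨h1, h2, h3, h4, -, -, h7⟩
        exact ⟨⟨h1, h2, h3, h4⟩, (z_mem_zpowers_iff d x y h1 h2 h3 h4 hy.2 hy.1).1 h7⟩
      · rintro ⟨⟨h1, h2, h3, h4⟩, h5⟩
        exact ⟨h1, h2, h3, h4, hy.1, hy.2, (z_mem_zpowers_iff d x y h1 h2 h3 h4 hy.2 hy.1).2 h5⟩
    · apply Finset.sum_eq_zero
      intro x _
      rw [if_neg]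
      rintro ⟨-, -, -, -, h5, h6, -⟩
      exact hy ⟨h5, h6⟩
  simp only [hterm]
  rw [← Finset.sum_filter, Finset.sum_const, card_out_inv d]
  rfl

end fin

theorem card_alt5' : Nat.card (alternatingGroup (Fin 5)) = 60 := by
  have h := two_mul_card_alternatingGroup (α := Fin 5)
  rw [Fintype.card_perm, Fintype.card_fin] at h
  rw [Nat.card_eq_fintype_card]
  have : (5 : ℕ).factorial = 120 := rfl
  omega

/-- the order of `H` -/
theorem card_H [Finite H] (d : HJData Q K z) : Nat.card H = 1920 := by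
  obtain ⟨e⟩ := d.iso
  have h60 : Nat.card K = 60 := by rw [Nat.card_congr e.toEquiv, card_alt5']
  have h1 : Nat.card (K × Q) = 1920 := by rw [Nat.card_prod, h60, d.card]
  rw [← h1]
  symm
  apply Nat.card_congr
  refine Equiv.ofBijective (fun p : K × Q => p.1.1 * p.2.1) ⟨?_, ?_⟩
  · rintro ⟨k, q⟩ ⟨k', q'⟩ hp
    simp only at hp
    have h2 : k'.1⁻¹ * k.1 = q'.1 * q.1⁻¹ := by
      calc k'.1⁻¹ * k.1 = k'.1⁻¹ * (k.1 * q.1) * q.1⁻¹ := by group
        _ = k'.1⁻¹ * (k'.1 * q'.1) * q.1⁻¹ := by rw [hp]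
        _ = q'.1 * q.1⁻¹ := by group
    have h3 : k'.1⁻¹ * k.1 = 1 := by
      apply d.disj _ (K.mul_mem (K.inv_mem k'.2) k.2)
      rw [h2]; exact Q.mul_mem q'.2 (Q.inv_mem q.2)
    have h4 : k.1 = k'.1 := by
      calc k.1 = k'.1 * (k'.1⁻¹ * k.1) := by group
        _ = k'.1 := by rw [h3, mul_one]
    rw [h4] at hp
    exact Prod.ext (Subtype.ext h4) (Subtype.ext (mul_left_cancel hp))
  · intro h
    obtain ⟨k, hk, q, hq, rfl⟩ := d.prod h
    exact ⟨(⟨k, hk⟩, ⟨q, hq⟩), rfl⟩

/-- the count of pairs -/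
theorem count_main [Finite H] (d : HJData Q K z) :
    Nat.card {p : H × H // p.1 ∈ Q ∧ p.1 * p.1 = 1 ∧ p.1 ≠ 1 ∧ p.1 ≠ z ∧
      p.2 ∉ Q ∧ p.2 * p.2 = 1 ∧ z ∈ Subgroup.zpowers (p.1 * p.2)} = 960 := by
  classical
  have : Fintype H := Fintype.ofFinite H
  rw [Nat.card_eq_fintype_card, Fintype.card_subtype]
  convert count_fin d

end Cfsg.Agent.Lib.Helper19.HJCz
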