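import Mathlib
import Cfsg.Prelude.Def_TwoFusion
import Cfsg.Prelude.Def_Local
import Cfsg.Agent.Lib.Helper19.HJCz
import Cfsg.Agent.Lib.Helper12.Local
import Cfsg.Agent.Lib.helper17.Cores
import Cfsg.Agent.Lib.helper17.PIrr
import Cfsg.Agent.S1265

set_option autoImplicit false

/-!
Global counting for a group with the Hall–Janko involution pattern: the two parameters of the Thompson
order formula.
-/

namespace Cfsg.Agent.Lib.Helper19.HJGlobal

open Cfsg.Agent.Lib.Helper19.HJCz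

variable {G : Type*} [Group G]

theorem mem_sup_of_commute {V B : Subgroup G} (hc : ∀ a ∈ V, ∀ b ∈ B, a * b = b * a) {x : G}
    (hx : x ∈ V ⊔ B) : ∃ v ∈ V, ∃ b ∈ B, x = v * b := by
  rw [Subgroup.sup_eq_closure] at hx
  refine Subgroup.closure_induction ?_ ?_ ?_ ?_ hx
  · rintro x (hx | hx)
    · exact ⟨x, hx, 1, B.one_mem, by simp⟩
    · exact ⟨1, V.one_mem, x, hx, by simp⟩
  · exact ⟨1, V.one_mem, 1, B.one_mem, by simp⟩
  · rintro _ _ _ _ ⟨v₁, hv₁, b₁, hb₁, rfl⟩ ⟨v₂, hv₂, b₂, hb₂, rfl⟩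
    refine ⟨v₁ * v₂, V.mul_mem hv₁ hv₂, b₁ * b₂, B.mul_mem hb₁ hb₂, ?_⟩
    calc v₁ * b₁ * (v₂ * b₂) = v₁ * (b₁ * v₂) * b₂ := by group
      _ = v₁ * (v₂ * b₁) * b₂ := by rw [hc v₂ hv₂ b₁ hb₁]
      _ = v₁ * v₂ * (b₁ * b₂) := by group
  · rintro _ _ ⟨v, hv, b, hb, rfl⟩
    refine ⟨v⁻¹, V.inv_mem hv, b⁻¹, B.inv_mem hb, ?_⟩
    rw [mul_inv_rev, hc v⁻¹ (V.inv_mem hv) b⁻¹ (B.inv_mem hb)]

theorem idp_unique {V B : Subgroup G} (hdisj : V ⊓ B = ⊥) {v v' b b' : G} (hv : v ∈ V) (hv' : v' ∈ V)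
    (hb : b ∈ B) (hb' : b' ∈ B) (h : v * b = v' * b') : v = v' ∧ b = b' := by
  have h1 : v'⁻¹ * v = b' * b⁻¹ := by
    calc v'⁻¹ * v = v'⁻¹ * (v * b) * b⁻¹ := by group
      _ = v'⁻¹ * (v' * b') * b⁻¹ := by rw [h]
      _ = b' * b⁻¹ := by group
  have h2 : v'⁻¹ * v ∈ V ⊓ B := by
    refine ⟨V.mul_mem (V.inv_mem hv') hv, ?_⟩
    rw [h1]; exact B.mul_mem hb' (B.inv_mem hb)
  rw [hdisj, Subgroup.mem_bot] at h2
  have h3 : v = v' := by
    calc v = v' * (v'⁻¹ * v) := by group
      _ = v' := by rw [h2, mul_one]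
  refine ⟨h3, ?_⟩
  rw [h3] at h
  exact mul_left_cancel h

theorem card_alt5 : Nat.card (alternatingGroup (Fin 5)) = 60 := by
  have h := two_mul_card_alternatingGroup (α := Fin 5)
  rw [Fintype.card_perm, Fintype.card_fin] at h
  rw [Nat.card_eq_fintype_card]
  have : (5 : ℕ).factorial = 120 := rfl
  omega

/-- order of an internal direct product -/
theorem card_idp {V B C : Subgroup G} (h : Cfsg.IsInternalDirectProduct V B C) :
    Nat.card C = Nat.card V * Nat.card B := by
  obtain ⟨hV, hB, hc, hdisj, hsup⟩ := h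
  rw [← Nat.card_prod]
  symm
  apply Nat.card_congr
  refine Equiv.ofBijective (fun p : V × B => (⟨p.1.1 * p.2.1, ?_⟩ : C)) ⟨?_, ?_⟩
  · exact C.mul_mem (hV p.1.2) (hB p.2.2)
  · rintro ⟨v, b⟩ ⟨v', b'⟩ hp
    have := congrArg Subtype.val hp
    simp only at this
    obtain ⟨h1, h2⟩ := idp_unique hdisj v.2 v'.2 b.2 b'.2 this
    exact Prod.ext (Subtype.ext h1) (Subtype.ext h2)
  · rintro ⟨c, hcC⟩
    rw [← hsup] at hcC
    obtain ⟨v, hv, b, hb, rfl⟩ := mem_sup_of_commute hc hcC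
    exact ⟨(⟨v, hv⟩, ⟨b, hb⟩), rfl⟩


theorem isConj_orderOf {a b : G} (h : IsConj a b) : orderOf a = orderOf b := by
  obtain ⟨c, hc⟩ := h
  exact SemiconjBy.orderOf_eq _ hc

theorem ord_two_iff (x : G) : orderOf x = 2 ↔ x * x = 1 ∧ x ≠ 1 := by
  constructor
  · intro h
    refine ⟨?_, ?_⟩
    · have := pow_orderOf_eq_one x
      rwa [h, pow_two] at this
    · intro h1
      rw [h1, orderOf_one] at h
      omega
  · rintro ⟨h1, h2⟩
    exact orderOf_eq_prime (by rw [pow_two]; exact h1) h2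

set_option maxRecDepth 100000 in
theorem a5_pairs_count : (Finset.univ.filter (fun p : alternatingGroup (Fin 5) × alternatingGroup (Fin 5) =>
    p.1 ≠ 1 ∧ p.1 * p.1 = 1 ∧ p.2 * p.2 = 1 ∧ (p.1 * p.2) ^ 15 = 1)).card = 195 := by
  decide +kernel

/-- the second parameter of the Thompson order formula -/
theorem count_t [Finite G] (z t : G) (hz : orderOf z = 2) (ht : orderOf t = 2) (hzt : ¬ IsConj z t)
    (V B : Subgroup G) (hVB : Cfsg.IsInternalDirectProduct V B (Subgroup.centralizer ({t} : Set G)))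
    (hV2 : ∀ v ∈ V, v ^ 2 = 1) (htV : t ∈ V) (hB : Nonempty (↥B ≃* alternatingGroup (Fin 5)))
    (hBz : ∀ x ∈ B, orderOf x = 2 → IsConj x z)
    (hCt : ∀ x ∈ Subgroup.centralizer ({t} : Set G), orderOf x = 2 → x ∉ B → IsConj x t) :
    Nat.card {p : G × G // IsConj z p.1 ∧ IsConj t p.2 ∧ t ∈ Subgroup.zpowers (p.1 * p.2)} = 195 := by
  classical
  obtain ⟨φ⟩ := hB
  obtain ⟨hVle, hBle, hc, hdisj, hsup⟩ := hVB
  obtain ⟨ht2, ht1⟩ := (ord_two_iff t).1 ht
  have htB : t ∉ B := by
    intro h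
    have : t ∈ V ⊓ B := ⟨htV, h⟩
    rw [hdisj, Subgroup.mem_bot] at this
    exact ht1 this
  have hcardB : Nat.card B = 60 := by rw [Nat.card_congr φ.toEquiv, card_alt5]
  have h195 : Nat.card {q : alternatingGroup (Fin 5) × alternatingGroup (Fin 5) //
      q.1 ≠ 1 ∧ q.1 * q.1 = 1 ∧ q.2 * q.2 = 1 ∧ (q.1 * q.2) ^ 15 = 1} = 195 := by
    rw [Nat.card_eq_fintype_card, Fintype.card_subtype]
    convert a5_pairs_count
  rw [← h195]
  symm
  apply Nat.card_congr
  refine Equiv.ofBijective (fun q => (⟨(((φ.symm q.1.1 : B) : G), t * ((φ.symm q.1.2 : B) : G)), ?_⟩ :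
    {p : G × G // IsConj z p.1 ∧ IsConj t p.2 ∧ t ∈ Subgroup.zpowers (p.1 * p.2)})) ⟨?_, ?_⟩
  · -- well defined
    obtain ⟨⟨a, b⟩, ha1, ha2, hb2, hab⟩ := q
    simp only
    set x : B := φ.symm a with hx
    set b' : B := φ.symm b with hb'
    have hx1 : (x : G) ≠ 1 := by
      intro h
      apply ha1
      have h1 : x = 1 := Subtype.ext h
      have h2 : φ x = φ 1 := by rw [h1]
      simpa [hx] using h2
    have hx2 : (x : G) * x = 1 := by
      have : x * x = 1 := by rw [hx, ← map_mul, ha2, map_one]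
      exact congrArg Subtype.val this
    have hb2' : (b' : G) * b' = 1 := by
      have : b' * b' = 1 := by rw [hb', ← map_mul, hb2, map_one]
      exact congrArg Subtype.val this
    have hxb : ((x : G) * b') ^ 15 = 1 := by
      have : (x * b') ^ 15 = 1 := by rw [hx, hb', ← map_mul, ← map_pow, hab, map_one]
      exact_mod_cast congrArg Subtype.val this
    have htx : t * (x : G) = x * t := hc t htV x x.2
    have htb : t * (b' : G) = b' * t := hc t htV b' b'.2
    refine ⟨?_, ?_, ?_⟩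
    · exact (hBz x x.2 ((ord_two_iff _).2 ⟨hx2, hx1⟩)).symm
    · have hy2 : (t * (b' : G)) * (t * b') = 1 := by
        calc (t * (b' : G)) * (t * b') = t * (b' * t) * b' := by group
          _ = t * (t * b') * b' := by rw [htb]
          _ = (t * t) * ((b' : G) * b') := by group
          _ = 1 := by rw [ht2, hb2', one_mul]
      have hyB : t * (b' : G) ∉ B := by
        intro h
        apply htB
        have : t = (t * (b' : G)) * (b' : G)⁻¹ := by group
        rw [this]
        exact B.mul_mem h (B.inv_mem b'.2)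
      have hy1 : t * (b' : G) ≠ 1 := by
        intro h
        apply hyB
        rw [h]; exact B.one_mem
      have hyC : t * (b' : G) ∈ Subgroup.centralizer ({t} : Set G) :=
        Subgroup.mul_mem _ (hVle htV) (hBle b'.2)
      exact (hCt _ hyC ((ord_two_iff _).2 ⟨hy2, hy1⟩) hyB).symm
    · rw [Subgroup.mem_zpowers_iff]
      refine ⟨15, ?_⟩
      have h1 : (x : G) * (t * b') = t * ((x : G) * b') := by
        rw [← mul_assoc, ← htx, mul_assoc]
      have hcomm : Commute t ((x : G) * b') := by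
        unfold Commute SemiconjBy
        rw [← mul_assoc, htx, mul_assoc, htb, ← mul_assoc]
      rw [h1]
      have : (t * ((x : G) * b')) ^ (15 : ℤ) = (t * ((x : G) * b')) ^ (15 : ℕ) := by
        norm_cast
      rw [this, hcomm.mul_pow, hxb, mul_one]
      have h15 : t ^ 15 = (t ^ 2) ^ 7 * t := by rw [← pow_mul, ← pow_succ]
      rw [h15, pow_two, ht2, one_pow, one_mul]
  · -- injective
    rintro ⟨⟨a, b⟩, ha⟩ ⟨⟨a', b'⟩, ha'⟩ h
    have h1 := congrArg Subtype.val h
    simp only [Prod.mk.injEq] at h1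
    obtain ⟨h2, h3⟩ := h1
    have h4 : φ.symm a = φ.symm a' := Subtype.ext h2
    have h5 : φ.symm b = φ.symm b' := Subtype.ext (mul_left_cancel h3)
    apply Subtype.ext
    exact Prod.ext (φ.symm.injective h4) (φ.symm.injective h5)
  · -- surjective
    rintro ⟨⟨x, y⟩, hzx, hty, hmem⟩
    simp only at hzx hty hmem
    have hxo : orderOf x = 2 := by rw [← isConj_orderOf hzx]; exact hz
    have hyo : orderOf y = 2 := by rw [← isConj_orderOf hty]; exact ht
    obtain ⟨hx2, hx1⟩ := (ord_two_iff x).1 hxo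
    obtain ⟨hy2, hy1⟩ := (ord_two_iff y).1 hyo
    have hxinv : x⁻¹ = x := inv_eq_of_mul_eq_one_left hx2
    have hyinv : y⁻¹ = y := inv_eq_of_mul_eq_one_left hy2
    have htinv : t⁻¹ = t := inv_eq_of_mul_eq_one_left ht2
    obtain ⟨n, hn⟩ := Subgroup.mem_zpowers_iff.1 hmem
    -- x and y centralize t
    have hxt : x * t * x⁻¹ = t := by
      have h1 : x * (x * y) * x⁻¹ = (x * y)⁻¹ := by
        rw [mul_inv_rev, hxinv, hyinv]
        calc x * (x * y) * x = (x * x) * y * x := by group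
          _ = y * x := by rw [hx2, one_mul]
      calc x * t * x⁻¹ = x * (x * y) ^ n * x⁻¹ := by rw [hn]
        _ = (x * (x * y) * x⁻¹) ^ n := (conj_zpow).symm
        _ = ((x * y) ^ n)⁻¹ := by rw [h1, inv_zpow]
        _ = t := by rw [hn, htinv]
    have hyt : y * t * y⁻¹ = t := by
      have h1 : y * (x * y) * y⁻¹ = (x * y)⁻¹ := by
        rw [mul_inv_rev, hxinv, hyinv]
        calc y * (x * y) * y = y * x * (y * y) := by group
          _ = y * x := by rw [hy2, mul_one]
      calc y * t * y⁻¹ = y * (x * y) ^ n * y⁻¹ := by rw [hn]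
        _ = (y * (x * y) * y⁻¹) ^ n := (conj_zpow).symm
        _ = ((x * y) ^ n)⁻¹ := by rw [h1, inv_zpow]
        _ = t := by rw [hn, htinv]
    have hxC : x ∈ Subgroup.centralizer ({t} : Set G) := by
      rw [Subgroup.mem_centralizer_iff]
      intro h hh
      rw [Set.mem_singleton_iff] at hh
      rw [hh]
      calc t * x = (x * t * x⁻¹) * x := by rw [hxt]
        _ = x * t := by group
    have hyC : y ∈ Subgroup.centralizer ({t} : Set G) := by
      rw [Subgroup.mem_centralizer_iff]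
      intro h hh
      rw [Set.mem_singleton_iff] at hh
      rw [hh]
      calc t * y = (y * t * y⁻¹) * y := by rw [hyt]
        _ = y * t := by group
    have hxB : x ∈ B := by
      by_contra hcon
      exact hzt (hzx.trans (hCt x hxC hxo hcon))
    have hyB : y ∉ B := by
      intro hcon
      exact hzt ((hty.trans (hBz y hcon hyo)).symm)
    rw [← hsup] at hyC
    obtain ⟨v, hv, b', hb', rfl⟩ := mem_sup_of_commute hc hyC
    have hvx : v * x = x * v := hc v hv x hxB
    have hvb : v * b' = b' * v := hc v hv b' hb'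
    have h1 : x * (v * b') = v * (x * b') := by
      rw [← mul_assoc, ← hvx, mul_assoc]
    have hcomm : Commute v (x * b') := by
      unfold Commute SemiconjBy
      rw [← mul_assoc, hvx, mul_assoc, hvb, ← mul_assoc]
    rw [h1, hcomm.mul_zpow] at hn
    have hdec := idp_unique hdisj (Subgroup.zpow_mem _ hv n) htV
      (Subgroup.zpow_mem _ (B.mul_mem hxB hb') n) B.one_mem (by rw [hn, mul_one])
    obtain ⟨hvn, hbn⟩ := hdec
    have hv2 : v ^ (2 : ℤ) = 1 := by
      have := hV2 v hv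
      exact_mod_cast this
    rw [zpow_eq_zpow_emod n hv2] at hvn
    have hnodd : n % 2 = 1 := by
      rcases Int.emod_two_eq_zero_or_one n with h0 | h1
      · rw [h0, zpow_zero] at hvn
        exact absurd hvn.symm ht1
      · exact h1
    rw [hnodd, zpow_one] at hvn
    subst hvn
    have hb'2 : b' * b' = 1 := by
      have h2 : (v * b') * (v * b') = (v * v) * (b' * b') := by
        calc (v * b') * (v * b') = v * (b' * v) * b' := by group
          _ = v * (v * b') * b' := by rw [hvb]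
          _ = (v * v) * (b' * b') := by group
      rw [h2, ht2, one_mul] at hy2
      exact hy2
    -- the order of x * b' divides 15
    have h15 : (x * b') ^ 15 = 1 := by
      have hd1 : (orderOf (x * b') : ℤ) ∣ n := orderOf_dvd_iff_zpow_eq_one.2 hbn
      have hd2 : orderOf (x * b') ∣ 60 := by
        have h3 := orderOf_dvd_natCard (⟨x * b', B.mul_mem hxB hb'⟩ : B)
        rw [hcardB] at h3
        have h4 : orderOf (⟨x * b', B.mul_mem hxB hb'⟩ : B) = orderOf (x * b') := by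
          rw [← Subgroup.orderOf_coe]
        rwa [h4] at h3
      have hodd : ¬ (2 : ℤ) ∣ (orderOf (x * b') : ℤ) := by
        intro h2
        have := dvd_trans h2 hd1
        omega
      have hcop : Nat.Coprime (orderOf (x * b')) 4 := by
        have h2 : Nat.Coprime (orderOf (x * b')) 2 := by
          rw [Nat.coprime_two_right]
          rw [← Nat.not_even_iff_odd, even_iff_two_dvd]
          intro h3
          apply hodd
          exact_mod_cast h3
        exact Nat.Coprime.pow_right 2 h2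
      have hd3 : orderOf (x * b') ∣ 15 := by
        have : orderOf (x * b') ∣ 4 * 15 := hd2
        exact Nat.Coprime.dvd_of_dvd_mul_left hcop this
      exact orderOf_dvd_iff_pow_eq_one.1 hd3
    refine ⟨⟨(φ ⟨x, hxB⟩, φ ⟨b', hb'⟩), ?_, ?_, ?_, ?_⟩, ?_⟩
    · intro h
      apply hx1
      have h' : φ ⟨x, hxB⟩ = 1 := h
      have h2 : φ ⟨x, hxB⟩ = φ 1 := by rw [h', map_one]
      exact congrArg Subtype.val (φ.injective h2)
    · rw [← map_mul]
      have : (⟨x, hxB⟩ : B) * ⟨x, hxB⟩ = 1 := Subtype.ext hx2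
      rw [this, map_one]
    · rw [← map_mul]
      have : (⟨b', hb'⟩ : B) * ⟨b', hb'⟩ = 1 := Subtype.ext hb'2
      rw [this, map_one]
    · rw [← map_mul, ← map_pow]
      have : ((⟨x, hxB⟩ : B) * ⟨b', hb'⟩) ^ 15 = 1 := by
        apply Subtype.ext
        rw [Subgroup.coe_pow]
        exact h15
      rw [this, map_one]
    · apply Subtype.ext
      simp


theorem eq_or_eq_of_card_two {α : Type*} [Finite α] (h : Nat.card α = 2) (a b : α) (hab : a ≠ b) (c : α) :
    c = a ∨ c = b := by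
  classical
  have : Fintype α := Fintype.ofFinite α
  by_contra hcon
  push Not at hcon
  have h3 : ({a, b, c} : Finset α).card = 3 := by
    rw [Finset.card_insert_of_notMem, Finset.card_insert_of_notMem, Finset.card_singleton]
    · simp only [Finset.mem_singleton]; exact Ne.symm hcon.2
    · simp only [Finset.mem_insert, Finset.mem_singleton, not_or]
      exact ⟨hab, Ne.symm hcon.1⟩
  have h4 := Finset.card_le_univ ({a, b, c} : Finset α)
  rw [h3, ← Nat.card_eq_fintype_card, h] at h4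
  omega

theorem mem_sup_of_normalizes {K Q : Subgroup G}
    (hn : ∀ k ∈ K, ∀ q ∈ Q, k * q * k⁻¹ ∈ Q) {x : G}
    (hx : x ∈ K ⊔ Q) : ∃ k ∈ K, ∃ q ∈ Q, x = k * q := by
  rw [Subgroup.sup_eq_closure] at hx
  refine Subgroup.closure_induction ?_ ?_ ?_ ?_ hx
  · rintro x (hx | hx)
    · exact ⟨x, hx, 1, Q.one_mem, by simp⟩
    · exact ⟨1, K.one_mem, x, hx, by simp⟩
  · exact ⟨1, K.one_mem, 1, Q.one_mem, by simp⟩
  · rintro _ _ _ _ ⟨k₁, hk₁, q₁, hq₁, rfl⟩ ⟨k₂, hk₂, q₂, hq₂, rfl⟩
    refine ⟨k₁ * k₂, K.mul_mem hk₁ hk₂, (k₂⁻¹ * q₁ * k₂⁻¹⁻¹) * q₂,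
      Q.mul_mem (hn k₂⁻¹ (K.inv_mem hk₂) q₁ hq₁) hq₂, by group⟩
  · rintro _ _ ⟨k, hk, q, hq, rfl⟩
    refine ⟨k⁻¹, K.inv_mem hk, k * q⁻¹ * k⁻¹, hn k hk q⁻¹ (Q.inv_mem hq), by group⟩

set_option maxRecDepth 100000 in
theorem a5_cent_exp : ∀ a : alternatingGroup (Fin 5), a ≠ 1 → a * a = 1 →
    ∀ c : alternatingGroup (Fin 5), c * a = a * c → c * c = 1 := by
  decide +kernel

set_option maxRecDepth 100000 in
theorem a5_cent_other : ∀ a : alternatingGroup (Fin 5), a ≠ 1 → a * a = 1 →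
    ∃ b : alternatingGroup (Fin 5), b ≠ 1 ∧ b ≠ a ∧ b * b = 1 ∧ b * a = a * b := by
  decide +kernel

end Cfsg.Agent.Lib.Helper19.HJGlobal
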