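import Mathlib
import Cfsg.Prelude.Def_TwoFusion
import Cfsg.Prelude.Def_Local
import Cfsg.Agent.Lib.Helper19.HJGlobal

set_option autoImplicit false

/-!
The centralizer of the 2-central involution in a group with the Hall–Janko involution pattern satisfies
the hypotheses `HJData`, and the first parameter of the Thompson order formula is 960.
-/

namespace Cfsg.Agent.Lib.Helper19.HJSetup

open Cfsg.Agent.Lib.Helper19.HJCz Cfsg.Agent.Lib.Helper19.HJGlobal
open scoped commutatorElement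

variable {G : Type*} [Group G]

theorem z_mem_cent (z : G) : z ∈ Subgroup.centralizer ({z} : Set G) := by
  rw [Subgroup.mem_centralizer_iff]
  intro h hh
  rw [Set.mem_singleton_iff] at hh
  rw [hh]

theorem mem_cent_iff (z x : G) : x ∈ Subgroup.centralizer ({z} : Set G) ↔ z * x = x * z := by
  rw [Subgroup.mem_centralizer_iff]
  constructor
  · intro h; exact h z rfl
  · intro h y hy
    rw [Set.mem_singleton_iff] at hy
    rw [hy]; exact h

theorem mem_map_iff {C : Subgroup G} (O : Subgroup C) (x : C) : (x : G) ∈ O.map C.subtype ↔ x ∈ O := by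
  constructor
  · rintro ⟨o, ho, hox⟩
    have : o = x := Subtype.ext hox
    rw [← this]; exact ho
  · intro h; exact ⟨x, h, rfl⟩

section main

variable [Finite G] (z t : G) (hz : orderOf z = 2) (ht : orderOf t = 2) (hzt : ¬ IsConj z t)
    (hex : Cfsg.IsExtraspecial 2 ↥(Cfsg.generalizedFittingSubgroup ↥(Subgroup.centralizer ({z} : Set G))))
    (hQ : Nat.card ↥(Cfsg.pCore 2 ↥(Subgroup.centralizer ({z} : Set G))) = 32)
    (K : Subgroup G) (hK : Nonempty (↥K ≃* alternatingGroup (Fin 5)))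
    (hKC : K ⊔ (Cfsg.pCore 2 ↥(Subgroup.centralizer ({z} : Set G))).map (Subgroup.centralizer ({z} : Set G)).subtype = Subgroup.centralizer ({z} : Set G))
    (hKQ : K ⊓ (Cfsg.pCore 2 ↥(Subgroup.centralizer ({z} : Set G))).map (Subgroup.centralizer ({z} : Set G)).subtype = ⊥)
    (hQz : ∀ x ∈ (Cfsg.pCore 2 ↥(Subgroup.centralizer ({z} : Set G))).map (Subgroup.centralizer ({z} : Set G)).subtype, orderOf x = 2 → IsConj x z)
    (hCz : ∀ x ∈ Subgroup.centralizer ({z} : Set G), orderOf x = 2 →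
      x ∉ (Cfsg.pCore 2 ↥(Subgroup.centralizer ({z} : Set G))).map (Subgroup.centralizer ({z} : Set G)).subtype → IsConj x t)
    (V B : Subgroup G) (hVB : Cfsg.IsInternalDirectProduct V B (Subgroup.centralizer ({t} : Set G)))
    (hV2 : ∀ v ∈ V, v ^ 2 = 1) (htV : t ∈ V) (hB : Nonempty (↥B ≃* alternatingGroup (Fin 5)))
    (hBz : ∀ x ∈ B, orderOf x = 2 → IsConj x z)
    (hCt : ∀ x ∈ Subgroup.centralizer ({t} : Set G), orderOf x = 2 → x ∉ B → IsConj x t)

include hex in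
theorem fstar_eq : Cfsg.generalizedFittingSubgroup ↥(Subgroup.centralizer ({z} : Set G))
    = Cfsg.pCore 2 ↥(Subgroup.centralizer ({z} : Set G)) := by
  apply le_antisymm
  · exact Cfsg.Agent.Lib.helper17.le_pCore
      (Cfsg.Agent.Lib.Helper12.generalizedFittingSubgroup_normal _) hex.1.1
  · have : Fact (Nat.Prime 2) := ⟨Nat.prime_two⟩
    have hnil : Group.IsNilpotent ↥(Cfsg.pCore 2 ↥(Subgroup.centralizer ({z} : Set G))) :=
      (Cfsg.Agent.Lib.helper17.pCore_isPGroup 2 _).isNilpotent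
    exact (Cfsg.Agent.Lib.Helper12.le_fittingSubgroup
      (Cfsg.Agent.Lib.helper17.pCore_normal 2 _) hnil).trans
      (Cfsg.Agent.Lib.Helper12.fittingSubgroup_le_generalizedFittingSubgroup _)


omit [Finite G] in
include hz hzt hCz hVB hV2 hB hBz hCt in
theorem out_prop (y : ↥(Subgroup.centralizer ({z} : Set G))) (hy2 : y * y = 1)
    (hyO : y ∉ Cfsg.pCore 2 ↥(Subgroup.centralizer ({z} : Set G))) :
    (∀ c : ↥(Subgroup.centralizer ({z} : Set G)), c * y = y * c → c * c = 1) ∧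
    ∃ x₀ : ↥(Subgroup.centralizer ({z} : Set G)),
      x₀ ∈ Cfsg.pCore 2 ↥(Subgroup.centralizer ({z} : Set G)) ∧ x₀ ≠ 1 ∧
      x₀ ≠ (⟨z, z_mem_cent z⟩ : ↥(Subgroup.centralizer ({z} : Set G))) ∧ x₀ * y = y * x₀ := by
  obtain ⟨hz2, hz1⟩ := (ord_two_iff z).1 hz
  obtain ⟨φ⟩ := hB
  obtain ⟨hVle, hBle, hc, hdisj, hsup⟩ := hVB
  have hy2' : (y : G) * y = 1 := congrArg Subtype.val hy2
  have hy1 : (y : G) ≠ 1 := by
    intro h
    apply hyO
    have : y = 1 := Subtype.ext h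
    rw [this]; exact (Cfsg.pCore 2 ↥(Subgroup.centralizer ({z} : Set G))).one_mem
  have hyQ : (y : G) ∉ (Cfsg.pCore 2 ↥(Subgroup.centralizer ({z} : Set G))).map (Subgroup.centralizer ({z} : Set G)).subtype := fun h => hyO ((mem_map_iff (Cfsg.pCore 2 ↥(Subgroup.centralizer ({z} : Set G))) y).1 h)
  have hyt : IsConj (y : G) t := hCz y y.2 ((ord_two_iff _).2 ⟨hy2', hy1⟩) hyQ
  obtain ⟨g, hg⟩ := isConj_iff.1 hyt
  -- hg : g * y * g⁻¹ = t
  set z₁ := g * z * g⁻¹ with hz₁
  have hzz₁ : IsConj z z₁ := isConj_iff.2 ⟨g, rfl⟩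
  have hz₁o : orderOf z₁ = 2 := by rw [← isConj_orderOf hzz₁]; exact hz
  have hzy : z * (y : G) = y * z := (mem_cent_iff z y).1 y.2
  have hz₁t : t * z₁ = z₁ * t := by
    rw [← hg, hz₁]
    calc g * ↑y * g⁻¹ * (g * z * g⁻¹) = g * (↑y * z) * g⁻¹ := by group
      _ = g * (z * ↑y) * g⁻¹ := by rw [hzy]
      _ = g * z * g⁻¹ * (g * ↑y * g⁻¹) := by group
  have hz₁C : z₁ ∈ Subgroup.centralizer ({t} : Set G) := (mem_cent_iff t z₁).2 hz₁t
  have hz₁B : z₁ ∈ B := by
    by_contra hcon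
    exact hzt (hzz₁.trans (hCt z₁ hz₁C hz₁o hcon))
  obtain ⟨hz₁2, hz₁1⟩ := (ord_two_iff z₁).1 hz₁o
  have ha1 : φ ⟨z₁, hz₁B⟩ ≠ 1 := by
    intro h
    apply hz₁1
    have h2 : φ ⟨z₁, hz₁B⟩ = φ 1 := by rw [h, map_one]
    exact congrArg Subtype.val (φ.injective h2)
  have ha2 : φ ⟨z₁, hz₁B⟩ * φ ⟨z₁, hz₁B⟩ = 1 := by
    rw [← map_mul]
    have : (⟨z₁, hz₁B⟩ : B) * ⟨z₁, hz₁B⟩ = 1 := Subtype.ext hz₁2
    rw [this, map_one]
  constructor
  · intro c hcy
    have hcy' : (c : G) * y = y * c := congrArg Subtype.val hcy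
    have hcz : z * (c : G) = c * z := (mem_cent_iff z c).1 c.2
    set c₁ := g * (c : G) * g⁻¹ with hc₁
    have hc₁t : t * c₁ = c₁ * t := by
      rw [← hg, hc₁]
      calc g * ↑y * g⁻¹ * (g * ↑c * g⁻¹) = g * (↑y * ↑c) * g⁻¹ := by group
        _ = g * (↑c * ↑y) * g⁻¹ := by rw [hcy']
        _ = g * ↑c * g⁻¹ * (g * ↑y * g⁻¹) := by group
    have hc₁z : c₁ * z₁ = z₁ * c₁ := by
      rw [hz₁, hc₁]
      calc g * ↑c * g⁻¹ * (g * z * g⁻¹) = g * (↑c * z) * g⁻¹ := by group
        _ = g * (z * ↑c) * g⁻¹ := by rw [hcz]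
        _ = g * z * g⁻¹ * (g * ↑c * g⁻¹) := by group
    have hc₁C : c₁ ∈ Subgroup.centralizer ({t} : Set G) := (mem_cent_iff t c₁).2 hc₁t
    rw [← hsup] at hc₁C
    obtain ⟨v, hv, b, hb, hvb⟩ := mem_sup_of_commute hc hc₁C
    have hvz : v * z₁ = z₁ * v := hc v hv z₁ hz₁B
    have hvb' : v * b = b * v := hc v hv b hb
    have hbz : b * z₁ = z₁ * b := by
      rw [hvb] at hc₁z
      have h1 : v * (b * z₁) = v * (z₁ * b) := by
        calc v * (b * z₁) = v * b * z₁ := by group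
          _ = z₁ * (v * b) := hc₁z
          _ = (z₁ * v) * b := by group
          _ = (v * z₁) * b := by rw [hvz]
          _ = v * (z₁ * b) := by group
      exact mul_left_cancel h1
    have hb2 : b * b = 1 := by
      have h1 : φ ⟨b, hb⟩ * φ ⟨z₁, hz₁B⟩ = φ ⟨z₁, hz₁B⟩ * φ ⟨b, hb⟩ := by
        rw [← map_mul, ← map_mul]
        congr 1
        exact Subtype.ext hbz
      have h2 := a5_cent_exp _ ha1 ha2 _ h1
      rw [← map_mul] at h2
      have h3 : φ (⟨b, hb⟩ * ⟨b, hb⟩) = φ 1 := by rw [h2, map_one]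
      exact congrArg Subtype.val (φ.injective h3)
    have hv2 : v * v = 1 := by
      have := hV2 v hv
      rwa [pow_two] at this
    have hc₁2 : c₁ * c₁ = 1 := by
      rw [hvb]
      calc v * b * (v * b) = v * (b * v) * b := by group
        _ = v * (v * b) * b := by rw [hvb']
        _ = (v * v) * (b * b) := by group
        _ = 1 := by rw [hv2, hb2, one_mul]
    apply Subtype.ext
    show (c : G) * c = 1
    have : (c : G) * c = g⁻¹ * (c₁ * c₁) * g := by rw [hc₁]; group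
    rw [this, hc₁2]; group
  · obtain ⟨b₀', hb1, hba, hb2, hbc⟩ := a5_cent_other _ ha1 ha2
    set b₀ : B := φ.symm b₀' with hb₀
    have hb₀1 : (b₀ : G) ≠ 1 := by
      intro h
      apply hb1
      have h1 : b₀ = 1 := Subtype.ext h
      have h2 : φ b₀ = φ 1 := by rw [h1]
      simpa [hb₀] using h2
    have hb₀z : (b₀ : G) ≠ z₁ := by
      intro h
      apply hba
      have h1 : b₀ = ⟨z₁, hz₁B⟩ := Subtype.ext h
      have h2 : φ b₀ = φ ⟨z₁, hz₁B⟩ := by rw [h1]
      simpa [hb₀] using h2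
    have hb₀2 : (b₀ : G) * b₀ = 1 := by
      have : b₀ * b₀ = 1 := by rw [hb₀, ← map_mul, hb2, map_one]
      exact congrArg Subtype.val this
    have hb₀c : (b₀ : G) * z₁ = z₁ * b₀ := by
      have h1 : b₀ * ⟨z₁, hz₁B⟩ = ⟨z₁, hz₁B⟩ * b₀ := by
        apply φ.injective
        rw [map_mul, map_mul]
        simp only [hb₀, MulEquiv.apply_symm_apply]
        exact hbc
      exact congrArg Subtype.val h1
    have hb₀t : t * (b₀ : G) = b₀ * t := (mem_cent_iff t _).1 (hBle b₀.2)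
    set x₀ := g⁻¹ * (b₀ : G) * g with hx₀
    have hzg : z = g⁻¹ * z₁ * g := by rw [hz₁]; group
    have hyg : (y : G) = g⁻¹ * t * g := by rw [← hg]; group
    have hx₀z : z * x₀ = x₀ * z := by
      rw [hzg, hx₀]
      calc g⁻¹ * z₁ * g * (g⁻¹ * ↑b₀ * g) = g⁻¹ * (z₁ * ↑b₀) * g := by group
        _ = g⁻¹ * (↑b₀ * z₁) * g := by rw [hb₀c]
        _ = g⁻¹ * ↑b₀ * g * (g⁻¹ * z₁ * g) := by group
    have hx₀C : x₀ ∈ (Subgroup.centralizer ({z} : Set G)) := (mem_cent_iff z x₀).2 hx₀z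
    have hx₀y : x₀ * (y : G) = y * x₀ := by
      rw [hyg, hx₀]
      calc g⁻¹ * ↑b₀ * g * (g⁻¹ * t * g) = g⁻¹ * (↑b₀ * t) * g := by group
        _ = g⁻¹ * (t * ↑b₀) * g := by rw [hb₀t]
        _ = g⁻¹ * t * g * (g⁻¹ * ↑b₀ * g) := by group
    have hx₀1 : x₀ ≠ 1 := by
      intro h
      apply hb₀1
      have : (b₀ : G) = g * x₀ * g⁻¹ := by rw [hx₀]; group
      rw [this, h]; group
    have hx₀nz : x₀ ≠ z := by
      intro h
      apply hb₀z
      have : (b₀ : G) = g * x₀ * g⁻¹ := by rw [hx₀]; group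
      rw [this, h]
    have hx₀2 : x₀ * x₀ = 1 := by
      rw [hx₀]
      calc g⁻¹ * ↑b₀ * g * (g⁻¹ * ↑b₀ * g) = g⁻¹ * (↑b₀ * ↑b₀) * g := by group
        _ = 1 := by rw [hb₀2]; group
    have hx₀o : orderOf x₀ = 2 := (ord_two_iff _).2 ⟨hx₀2, hx₀1⟩
    have hb₀o : orderOf (b₀ : G) = 2 := (ord_two_iff _).2 ⟨hb₀2, hb₀1⟩
    have hx₀conj : IsConj x₀ z := by
      have h1 : IsConj (b₀ : G) x₀ := isConj_iff.2 ⟨g⁻¹, by rw [hx₀]; group⟩
      exact h1.symm.trans (hBz b₀ b₀.2 hb₀o)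
    have hx₀Q : x₀ ∈ (Cfsg.pCore 2 ↥(Subgroup.centralizer ({z} : Set G))).map (Subgroup.centralizer ({z} : Set G)).subtype := by
      by_contra hcon
      exact hzt (hx₀conj.symm.trans (hCz x₀ hx₀C hx₀o hcon))
    refine ⟨⟨x₀, hx₀C⟩, (mem_map_iff (Cfsg.pCore 2 ↥(Subgroup.centralizer ({z} : Set G))) ⟨x₀, hx₀C⟩).1 hx₀Q, ?_, ?_, ?_⟩
    · intro h; exact hx₀1 (congrArg Subtype.val h)
    · intro h; exact hx₀nz (congrArg Subtype.val h)
    · exact Subtype.ext hx₀y

include hz hzt hex hQ hK hKC hKQ hCz hVB hV2 hB hBz hCt in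
theorem hjdata : HJData (Cfsg.pCore 2 ↥(Subgroup.centralizer ({z} : Set G)))
    (K.subgroupOf (Subgroup.centralizer ({z} : Set G)))
    (⟨z, z_mem_cent z⟩ : ↥(Subgroup.centralizer ({z} : Set G))) := by
  set Cz := Subgroup.centralizer ({z} : Set G) with hCzdef
  set O := Cfsg.pCore 2 ↥Cz with hO
  set z' : ↥Cz := ⟨z, z_mem_cent z⟩ with hz'
  obtain ⟨hz2, hz1⟩ := (ord_two_iff z).1 hz
  have hF : Cfsg.generalizedFittingSubgroup ↥Cz = O := fstar_eq z hex
  have hOn : O.Normal := Cfsg.Agent.Lib.helper17.pCore_normal 2 _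
  have hKle : K ≤ Cz := by rw [← hKC]; exact le_sup_left
  -- self-centralizing
  have hself : ∀ h : ↥Cz, (∀ q ∈ O, h * q = q * h) → h ∈ O := by
    intro h hh
    have h1 := Cfsg.Agent.S1265.result (G := ↥Cz)
    rw [hF] at h1
    apply h1
    rw [Subgroup.mem_centralizer_iff]
    intro q hq
    exact (hh q hq).symm
  have hzc : ∀ h : ↥Cz, h * z' = z' * h := by
    intro h
    apply Subtype.ext
    exact ((mem_cent_iff z h.1).1 h.2).symm
  have hzO : z' ∈ O := hself z' (fun q _ => (hzc q).symm)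
  have hz'1 : z' ≠ 1 := fun h => hz1 (congrArg Subtype.val h)
  -- extraspecial structure
  have hex' : Cfsg.IsExtraspecial 2 ↥O := by rw [hF] at hex; exact hex
  obtain ⟨⟨-, -, hcomm⟩, hcard⟩ := hex'
  have hzcen : (⟨z', hzO⟩ : ↥O) ∈ Subgroup.center ↥O := by
    rw [Subgroup.mem_center_iff]
    intro g
    apply Subtype.ext
    exact hzc g.1
  have hcenter : ∀ c ∈ Subgroup.center ↥O, c = 1 ∨ c = ⟨z', hzO⟩ := by
    intro c hc
    have := eq_or_eq_of_card_two hcard (1 : Subgroup.center ↥O) ⟨⟨z', hzO⟩, hzcen⟩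
      (by
        intro h
        apply hz'1
        have h2 := congrArg Subtype.val (congrArg Subtype.val h)
        exact h2.symm) ⟨c, hc⟩
    rcases this with h | h
    · left; exact congrArg Subtype.val h
    · right; exact congrArg Subtype.val h
  refine
    { normal := hOn
      z1 := hz'1
      z2 := Subtype.ext hz2
      zQ := hzO
      zc := hzc
      card := hQ
      comm := ?_
      cen := ?_
      self := hself
      disj := ?_
      prod := ?_
      iso := ?_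
      out := ?_ }
  · intro a ha b hb
    have h1 : ⁅(⟨a, ha⟩ : ↥O), ⟨b, hb⟩⁆ ∈ commutator ↥O :=
      Subgroup.commutator_mem_commutator (Subgroup.mem_top _) (Subgroup.mem_top _)
    rw [hcomm] at h1
    rcases hcenter _ h1 with h | h
    · left
      have := congrArg Subtype.val h
      rw [commutatorElement_def] at this
      exact this
    · right
      have := congrArg Subtype.val h
      rw [commutatorElement_def] at this
      exact this
  · intro a ha hab
    have h1 : (⟨a, ha⟩ : ↥O) ∈ Subgroup.center ↥O := by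
      rw [Subgroup.mem_center_iff]
      intro g
      apply Subtype.ext
      exact (hab g.1 g.2).symm
    rcases hcenter _ h1 with h | h
    · left; exact congrArg Subtype.val h
    · right; exact congrArg Subtype.val h
  · intro k hk hkO
    have h1 : (k : G) ∈ K := hk
    have h2 : (k : G) ∈ O.map Cz.subtype := (mem_map_iff O k).2 hkO
    have h3 : (k : G) ∈ K ⊓ O.map Cz.subtype := ⟨h1, h2⟩
    rw [hKQ, Subgroup.mem_bot] at h3
    exact Subtype.ext h3
  · intro h
    have h1 : (h : G) ∈ K ⊔ O.map Cz.subtype := by rw [hKC]; exact h.2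
    have hn : ∀ k ∈ K, ∀ q ∈ O.map Cz.subtype, k * q * k⁻¹ ∈ O.map Cz.subtype := by
      rintro k hk _ ⟨o, ho, rfl⟩
      exact ⟨⟨k, hKle hk⟩ * o * ⟨k, hKle hk⟩⁻¹, hOn.conj_mem o ho _, rfl⟩
    obtain ⟨k, hk, q, hq, hkq⟩ := mem_sup_of_normalizes hn h1
    obtain ⟨o, ho, rfl⟩ := hq
    refine ⟨⟨k, hKle hk⟩, hk, o, ho, ?_⟩
    apply Subtype.ext
    exact hkq
  · obtain ⟨e⟩ := hK
    exact ⟨(Subgroup.subgroupOfEquivOfLe hKle).trans e⟩
  · intro y hy2 hyO
    exact out_prop z t hz hzt hCz V B hVB hV2 hB hBz hCt y hy2 hyO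


omit [Finite G] in
theorem zpowers_coe_iff {C : Subgroup G} (a w : C) :
    w ∈ Subgroup.zpowers a ↔ (w : G) ∈ Subgroup.zpowers (a : G) := by
  rw [Subgroup.mem_zpowers_iff, Subgroup.mem_zpowers_iff]
  constructor
  · rintro ⟨n, hn⟩
    refine ⟨n, ?_⟩
    rw [← hn, Subgroup.coe_zpow]
  · rintro ⟨n, hn⟩
    refine ⟨n, ?_⟩
    apply Subtype.ext
    rw [Subgroup.coe_zpow, hn]

include hz ht hzt hex hQ hK hKC hKQ hQz hCz hVB hV2 hB hBz hCt in
/-- the first parameter of the Thompson order formula -/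
theorem count_z :
    Nat.card {p : G × G // IsConj z p.1 ∧ IsConj t p.2 ∧ z ∈ Subgroup.zpowers (p.1 * p.2)} = 960 := by
  have d := hjdata z t hz hzt hex hQ K hK hKC hKQ hCz V B hVB hV2 hB hBz hCt
  rw [← count_main d]
  symm
  obtain ⟨hz2, hz1⟩ := (ord_two_iff z).1 hz
  apply Nat.card_congr
  refine Equiv.ofBijective (fun p => (⟨((p.1.1 : G), (p.1.2 : G)), ?_⟩ :
    {p : G × G // IsConj z p.1 ∧ IsConj t p.2 ∧ z ∈ Subgroup.zpowers (p.1 * p.2)})) ⟨?_, ?_⟩
  · obtain ⟨⟨x, y⟩, hxO, hx2, hx1, hxz, hyO, hy2, hmem⟩ := p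
    simp only at hxO hx2 hx1 hxz hyO hy2 hmem ⊢
    have hx2' : (x : G) * x = 1 := congrArg Subtype.val hx2
    have hx1' : (x : G) ≠ 1 := fun h => hx1 (Subtype.ext h)
    have hy2' : (y : G) * y = 1 := congrArg Subtype.val hy2
    have hy1' : (y : G) ≠ 1 := by
      intro h
      apply hyO
      have : y = 1 := Subtype.ext h
      rw [this]; exact Subgroup.one_mem _
    refine ⟨?_, ?_, ?_⟩
    · exact (hQz x ((mem_map_iff _ x).2 hxO) ((ord_two_iff _).2 ⟨hx2', hx1'⟩)).symm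
    · exact (hCz y y.2 ((ord_two_iff _).2 ⟨hy2', hy1'⟩)
        (fun h => hyO ((mem_map_iff _ y).1 h))).symm
    · have := (zpowers_coe_iff (x * y) ⟨z, z_mem_cent z⟩).1 hmem
      exact this
  · rintro ⟨⟨x, y⟩, hp⟩ ⟨⟨x', y'⟩, hp'⟩ h
    have h1 := congrArg Subtype.val h
    simp only [Prod.mk.injEq] at h1
    apply Subtype.ext
    exact Prod.ext (Subtype.ext h1.1) (Subtype.ext h1.2)
  · rintro ⟨⟨x, y⟩, hzx, hty, hmem⟩
    simp only at hzx hty hmem
    have hxo : orderOf x = 2 := by rw [← isConj_orderOf hzx]; exact hz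
    have hyo : orderOf y = 2 := by rw [← isConj_orderOf hty]; exact ht
    obtain ⟨hx2, hx1⟩ := (ord_two_iff x).1 hxo
    obtain ⟨hy2, hy1⟩ := (ord_two_iff y).1 hyo
    have hxinv : x⁻¹ = x := inv_eq_of_mul_eq_one_left hx2
    have hyinv : y⁻¹ = y := inv_eq_of_mul_eq_one_left hy2
    have hzinv : z⁻¹ = z := inv_eq_of_mul_eq_one_left hz2
    obtain ⟨n, hn⟩ := Subgroup.mem_zpowers_iff.1 hmem
    have hxz : x * z * x⁻¹ = z := by
      have h1 : x * (x * y) * x⁻¹ = (x * y)⁻¹ := by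
        rw [mul_inv_rev, hxinv, hyinv]
        calc x * (x * y) * x = (x * x) * y * x := by group
          _ = y * x := by rw [hx2, one_mul]
      calc x * z * x⁻¹ = x * (x * y) ^ n * x⁻¹ := by rw [hn]
        _ = (x * (x * y) * x⁻¹) ^ n := (conj_zpow).symm
        _ = ((x * y) ^ n)⁻¹ := by rw [h1, inv_zpow]
        _ = z := by rw [hn, hzinv]
    have hyz : y * z * y⁻¹ = z := by
      have h1 : y * (x * y) * y⁻¹ = (x * y)⁻¹ := by
        rw [mul_inv_rev, hxinv, hyinv]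
        calc y * (x * y) * y = y * x * (y * y) := by group
          _ = y * x := by rw [hy2, mul_one]
      calc y * z * y⁻¹ = y * (x * y) ^ n * y⁻¹ := by rw [hn]
        _ = (y * (x * y) * y⁻¹) ^ n := (conj_zpow).symm
        _ = ((x * y) ^ n)⁻¹ := by rw [h1, inv_zpow]
        _ = z := by rw [hn, hzinv]
    have hxC : x ∈ Subgroup.centralizer ({z} : Set G) := by
      rw [mem_cent_iff]
      calc z * x = (x * z * x⁻¹) * x := by rw [hxz]
        _ = x * z := by group
    have hyC : y ∈ Subgroup.centralizer ({z} : Set G) := by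
      rw [mem_cent_iff]
      calc z * y = (y * z * y⁻¹) * y := by rw [hyz]
        _ = y * z := by group
    have hxQ : x ∈ (Cfsg.pCore 2 ↥(Subgroup.centralizer ({z} : Set G))).map
        (Subgroup.centralizer ({z} : Set G)).subtype := by
      by_contra hcon
      exact hzt (hzx.trans (hCz x hxC hxo hcon))
    have hyQ : y ∉ (Cfsg.pCore 2 ↥(Subgroup.centralizer ({z} : Set G))).map
        (Subgroup.centralizer ({z} : Set G)).subtype := by
      intro hcon
      exact hzt ((hty.trans (hQz y hcon hyo)).symm)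
    have hxnez : x ≠ z := by
      intro h
      rw [h] at hn
      -- (z*y)^n = z with z*y of order dividing 2
      have hzy : z * y = y * z := (mem_cent_iff z y).1 hyC
      have hw2 : (z * y) ^ (2 : ℤ) = 1 := by
        rw [zpow_two]
        calc z * y * (z * y) = z * (y * z) * y := by group
          _ = z * (z * y) * y := by rw [hzy]
          _ = (z * z) * (y * y) := by group
          _ = 1 := by rw [hz2, hy2, one_mul]
      rw [zpow_eq_zpow_emod n hw2] at hn
      rcases Int.emod_two_eq_zero_or_one n with h0 | h1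
      · rw [h0, zpow_zero] at hn
        exact hz1 hn.symm
      · rw [h1, zpow_one] at hn
        apply hy1
        have : z * y = z * 1 := by rw [hn, mul_one]
        exact mul_left_cancel this
    refine ⟨⟨(⟨x, hxC⟩, ⟨y, hyC⟩), ?_, ?_, ?_, ?_, ?_, ?_, ?_⟩, rfl⟩
    · exact (mem_map_iff _ ⟨x, hxC⟩).1 hxQ
    · exact Subtype.ext hx2
    · intro h; exact hx1 (congrArg Subtype.val h)
    · intro h; exact hxnez (congrArg Subtype.val h)
    · intro h; exact hyQ ((mem_map_iff _ ⟨y, hyC⟩).2 h)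
    · exact Subtype.ext hy2
    · exact (zpowers_coe_iff ((⟨x, hxC⟩ : ↥(Subgroup.centralizer ({z} : Set G))) * ⟨y, hyC⟩)
        ⟨z, z_mem_cent z⟩).2 hmem

end main

end Cfsg.Agent.Lib.Helper19.HJSetup
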