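import Mathlib
import Cfsg.Agent.Lib.Helper1.Hig.Basic

set_option autoImplicit false

namespace Cfsg.Agent.Lib.Helper19.Hig

open Matrix Cfsg.Agent.Lib.helper15.NatMod Cfsg.Agent.Lib.helper15.QS Cfsg.Agent.Lib.Helper1.Hig

universe u v w

theorem bilin_zero {F : Type u} [Field F] [Fintype F] [CharP F 2] (hF : 3 ≤ Fintype.card F)
    {A : Type v} [AddCommGroup A] [DistribMulAction (SpecialLinearGroup (Fin 2) F) A]
    {B : Type w} [AddCommGroup B] [DistribMulAction (SpecialLinearGroup (Fin 2) F) B]
    (hA : Good F A) (hB : Good F B) (c : A → A → B)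
    (hadd1 : ∀ a a' b, c (a + a') b = c a b + c a' b)
    (hadd2 : ∀ a b b', c a (b + b') = c a b + c a b')
    (heq : ∀ (g : SpecialLinearGroup (Fin 2) F) (a b : A), c (g • a) (g • b) = g • c a b) :
    ∀ a b, c a b = 0 := by
  classical
  -- basic additivity consequences
  have hz2 : ∀ a, c a 0 = 0 := by
    intro a
    have := hadd2 a 0 0
    rw [add_zero] at this
    exact left_eq_add.mp this
  have hz1 : ∀ b, c 0 b = 0 := by
    intro b
    have := hadd1 0 0 b
    rw [add_zero] at this
    exact left_eq_add.mp this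
  have hsub2 : ∀ a b b', c a (b - b') = c a b - c a b' := by
    intro a b b'
    have := hadd2 a (b - b') b'
    rw [sub_add_cancel] at this
    rw [this]; abel
  have hsub1 : ∀ a a' b, c (a - a') b = c a b - c a' b := by
    intro a a' b
    have := hadd1 (a - a') a' b
    rw [sub_add_cancel] at this
    rw [this]; abel
  -- step 1
  have s1 : ∀ x x', x ∈ fixU F A → x' ∈ fixU F A → c x x' ∈ fixU F B := by
    intro x x' hx hx' t
    rw [← heq, hx t, hx' t]
  -- step 2
  have s2a : ∀ x a (t : F), x ∈ fixU F A → NN t (c x a) = c x (NN t a) := by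
    intro x a t hx
    unfold NN
    rw [← heq, hx t, hsub2]
  have s2b : ∀ a x (t : F), x ∈ fixU F A → NN t (c a x) = c (NN t a) x := by
    intro a x t hx
    unfold NN
    rw [← heq, hx t, hsub1]
  have s2c : ∀ y a (t : F), y ∈ fixL F A → MM t (c y a) = c y (MM t a) := by
    intro y a t hy
    unfold MM
    rw [← heq, hy t, hsub2]
  have s2d : ∀ a y (t : F), y ∈ fixL F A → MM t (c a y) = c (MM t a) y := by
    intro a y t hy
    unfold MM
    rw [← heq, hy t, hsub1]
  have qA := hA.qhyp
  have qB := hB.qhyp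
  -- step 3
  have s3a : ∀ x y (α : F), x ∈ fixU F A → y ∈ fixU F A →
      c x (helper15.QS.star α y) = helper15.QS.star α (c x y) := by
    intro x y α hx hy
    have e1 : c x (helper15.QS.star α y) = NN α (c x (MM (1 : F) y)) := by
      unfold helper15.QS.star
      rw [s2a x _ α hx]
    rw [e1, hB.NN_eq_star α, s2a x _ 1 hx]
    have : NN (1 : F) (MM (1 : F) y) = y := by
      have := qA.star_one hy
      unfold helper15.QS.star at this
      exact this
    rw [this]
  have s3b : ∀ x y (α : F), x ∈ fixU F A → y ∈ fixU F A →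
      c (helper15.QS.star α x) y = helper15.QS.star α (c x y) := by
    intro x y α hx hy
    have e1 : c (helper15.QS.star α x) y = NN α (c (MM (1 : F) x) y) := by
      unfold helper15.QS.star
      rw [s2b _ y α hy]
    rw [e1, hB.NN_eq_star α, s2b _ y 1 hy]
    have : NN (1 : F) (MM (1 : F) x) = x := by
      have := qA.star_one hx
      unfold helper15.QS.star at this
      exact this
    rw [this]
  -- existence of λ ∉ {0, 1}
  obtain ⟨l, hl0, hl1⟩ : ∃ l : F, l ≠ 0 ∧ l ≠ 1 := by
    by_contra hcon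
    push Not at hcon
    have hsub : (Finset.univ : Finset F) ⊆ {0, 1} := by
      intro z _
      by_cases hz : z = 0
      · simp [hz]
      · simp [hcon z hz]
    have := Finset.card_le_card hsub
    have h2 : ({0, 1} : Finset F).card ≤ 2 := Finset.card_le_two
    rw [Finset.card_univ] at this
    omega
  -- step 4
  have s4 : ∀ x y, x ∈ fixU F A → y ∈ fixU F A → c x y = 0 := by
    intro x y hx hy
    set wv := c x y with hw
    have hwU : wv ∈ fixU F B := s1 x y hx hy
    have e1 : c (dd l hl0 • x) (dd l hl0 • y) = dd l hl0 • wv := heq _ _ _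
    rw [← qA.star_eq_dd l hl0 hx, ← qA.star_eq_dd l hl0 hy, ← qB.star_eq_dd l hl0 hwU,
      s3b x _ l hx (qA.star_mem l y), s3a x y l hx hy, ← qB.star_mul l l hwU] at e1
    have e2 : helper15.QS.star (l * l + l) wv = 0 := by
      rw [qB.star_add_left, e1]
      exact hB.two _
    have hne : l * l + l ≠ 0 := by
      intro h
      have h' : l * (l + 1) = 0 := by rw [mul_add, mul_one]; exact h
      rcases mul_eq_zero.mp h' with h1 | h1
      · exact hl0 h1
      · apply hl1
        have := CharTwo.add_eq_zero.mp h1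
        exact this
    exact hB.star_inj _ hne hwU e2
  -- step 5
  have s5 : ∀ y y', y ∈ fixL F A → y' ∈ fixL F A → c y y' = 0 := by
    intro y y' hy hy'
    have h1 := s4 _ _ (ww_fixL_mem_fixU (1 : F) one_ne_zero hy) (ww_fixL_mem_fixU (1 : F) one_ne_zero hy')
    rw [heq] at h1
    have := congrArg (fun z => (ww (1 : F) one_ne_zero)⁻¹ • z) h1
    simpa using this
  -- step 6
  have s6a : ∀ x y, x ∈ fixU F A → y ∈ fixL F A → c x y = 0 := by
    intro x y hx hy
    apply qB.h0
    · rw [mem_fixU_iff_NN]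
      intro t
      rw [s2a x y t hx]
      exact s4 _ _ hx (hA.quad t y)
    · rw [mem_fixL_iff_MM]
      intro t
      rw [s2d x y t hy]
      exact s5 _ _ (qA.hT t x) hy
  have s6b : ∀ y x, y ∈ fixL F A → x ∈ fixU F A → c y x = 0 := by
    intro y x hy hx
    apply qB.h0
    · rw [mem_fixU_iff_NN]
      intro t
      rw [s2b y x t hx]
      exact s4 _ _ (hA.quad t y) hx
    · rw [mem_fixL_iff_MM]
      intro t
      rw [s2c y x t hy]
      exact s5 _ _ hy (qA.hT t x)
  -- step 7
  intro a b
  have ha := hA.decomp a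
  have hb := hA.decomp b
  have ha0 : NN (1 : F) (MM (1 : F) a) ∈ fixU F A := hA.quad _ _
  have ha1 : MM (1 : F) (NN (1 : F) a) ∈ fixL F A := qA.hT _ _
  have hb0 : NN (1 : F) (MM (1 : F) b) ∈ fixU F A := hA.quad _ _
  have hb1 : MM (1 : F) (NN (1 : F) b) ∈ fixL F A := qA.hT _ _
  rw [← ha, ← hb, hadd1, hadd2, hadd2, s4 _ _ ha0 hb0, s6a _ _ ha0 hb1, s6b _ _ ha1 hb0,
    s5 _ _ ha1 hb1]
  simp

end Cfsg.Agent.Lib.Helper19.Hig
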