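import Mathlib
import Cfsg.Agent.S3443

set_option autoImplicit false

namespace Cfsg.Agent.Lib.Helper19

open SemidirectProduct

universe u

/-- `G` has a nontrivial normal elementary abelian subgroup. -/
def HasNEA (G : Type u) [Group G] : Prop :=
  ∃ (V : Subgroup G) (p : ℕ), V.Normal ∧ V ≠ ⊥ ∧ p.Prime ∧ (∀ x y : V, x * y = y * x) ∧ (∀ x : V, x ^ p = 1)

theorem hasNEA_step {G : Type u} [Group G] [Finite G] (h : HasNEA G) :
    ∃ (H : Type u) (_ : Group H) (_ : Finite H), HasNEA H ∧ 2 * Nat.card G ≤ Nat.card H ∧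
      Set.range (orderOf : H → ℕ) = Set.range (orderOf : G → ℕ) := by
  obtain ⟨V, p, hVn, hV1, hp, hcomm, hexp⟩ := h
  haveI := hVn
  refine ⟨V ⋊[MulAut.conjNormal] G, inferInstance, ?_, ?_, ?_, ?_⟩
  · exact Finite.of_equiv _ (SemidirectProduct.equivProd (φ := (MulAut.conjNormal : G →* MulAut V))).symm
  · refine ⟨(inl : V →* V ⋊[MulAut.conjNormal] G).range, p, ?_, ?_, hp, ?_, ?_⟩
    · rw [range_inl_eq_ker_rightHom]
      exact MonoidHom.normal_ker _
    · intro hbot
      apply hV1
      rw [eq_bot_iff]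
      intro v hv
      have : (inl ⟨v, hv⟩ : V ⋊[MulAut.conjNormal] G) ∈ (inl : V →* V ⋊[MulAut.conjNormal] G).range :=
        ⟨_, rfl⟩
      rw [hbot, Subgroup.mem_bot] at this
      have h1 : (⟨v, hv⟩ : V) = 1 := inl_injective (by rw [this, map_one])
      rw [Subgroup.mem_bot]
      exact congrArg Subtype.val h1
    · rintro ⟨x, a, rfl⟩ ⟨y, b, rfl⟩
      apply Subtype.ext
      show inl a * inl b = inl b * inl a
      rw [← map_mul, ← map_mul, hcomm]
    · rintro ⟨x, a, rfl⟩
      apply Subtype.ext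
      show (inl a) ^ p = 1
      rw [← map_pow, hexp, map_one]
  · rw [SemidirectProduct.card]
    have : 2 ≤ Nat.card V := by
      have h1 : Nat.card V ≠ 1 := by
        intro h1
        exact hV1 (Subgroup.card_eq_one.mp h1)
      have h0 : 0 < Nat.card V := Nat.card_pos
      omega
    exact Nat.mul_le_mul_right _ this
  · exact Cfsg.Agent.S3443.result V p hp hcomm hexp

theorem hasNEA_iter {G : Type u} [Group G] [Finite G] (h : HasNEA G) (k : ℕ) :
    ∃ (H : Type u) (_ : Group H) (_ : Finite H), HasNEA H ∧ 2 ^ k * Nat.card G ≤ Nat.card H ∧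
      Set.range (orderOf : H → ℕ) = Set.range (orderOf : G → ℕ) := by
  induction k with
  | zero => exact ⟨G, inferInstance, inferInstance, h, by simp, rfl⟩
  | succ k ih =>
    obtain ⟨H, iG, iF, hH, hcard, hspec⟩ := ih
    obtain ⟨H', iG', iF', hH', hcard', hspec'⟩ := @hasNEA_step H iG iF hH
    refine ⟨H', iG', iF', hH', ?_, hspec'.trans hspec⟩
    calc 2 ^ (k + 1) * Nat.card G = 2 * (2 ^ k * Nat.card G) := by ring
      _ ≤ 2 * Nat.card H := Nat.mul_le_mul_left _ hcard
      _ ≤ Nat.card H' := hcard'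

theorem exists_type0_copy {H : Type u} [Group H] [Finite H] :
    ∃ (H' : Type) (_ : Group H') (_ : Fintype H'), Fintype.card H' = Nat.card H ∧
      Set.range (orderOf : H' → ℕ) = Set.range (orderOf : H → ℕ) := by
  haveI : Small.{0} H := Countable.toSmall H
  let me : Shrink.{0} H ≃* H := Shrink.mulEquiv
  haveI : Finite (Shrink.{0} H) := Finite.of_equiv H (equivShrink H)
  letI : Fintype (Shrink.{0} H) := Fintype.ofFinite _
  refine ⟨Shrink.{0} H, inferInstance, inferInstance, ?_, ?_⟩
  · rw [← Nat.card_eq_fintype_card]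
    exact Nat.card_congr (equivShrink H).symm
  · ext k
    constructor
    · rintro ⟨x, rfl⟩
      exact ⟨me x, me.orderOf_eq x⟩
    · rintro ⟨y, rfl⟩
      exact ⟨me.symm y, by rw [← me.orderOf_eq, MulEquiv.apply_symm_apply]⟩

theorem exists_large_isospectral {G : Type u} [Group G] [Finite G] (h : HasNEA G) (N : ℕ) :
    ∃ (H : Type) (_ : Group H) (_ : Fintype H), N < Fintype.card H ∧
      Set.range (orderOf : H → ℕ) = Set.range (orderOf : G → ℕ) := by
  obtain ⟨H, iG, iF, -, hcard, hspec⟩ := hasNEA_iter h N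
  obtain ⟨H', iG', iF', hcard', hspec'⟩ := @exists_type0_copy H iG iF
  refine ⟨H', iG', iF', ?_, hspec'.trans hspec⟩
  rw [hcard']
  have h1 : N < 2 ^ N := Nat.lt_two_pow_self
  have h2 : 0 < Nat.card G := Nat.card_pos
  calc N < 2 ^ N := h1
    _ ≤ 2 ^ N * Nat.card G := Nat.le_mul_of_pos_right _ h2
    _ ≤ Nat.card H := hcard

/-- iterated commutators inside `G` starting from `K`. -/
def dSeries {G : Type u} [Group G] (K : Subgroup G) : ℕ → Subgroup G
  | 0 => K
  | n + 1 => ⁅dSeries K n, dSeries K n⁆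

theorem dSeries_normal {G : Type u} [Group G] (K : Subgroup G) [K.Normal] (n : ℕ) : (dSeries K n).Normal := by
  induction n with
  | zero => exact (inferInstance : K.Normal)
  | succ n ih =>
    haveI := ih
    exact Subgroup.commutator_normal _ _

theorem dSeries_eq_map {G : Type u} [Group G] (K : Subgroup G) (n : ℕ) :
    dSeries K n = (derivedSeries K n).map K.subtype := by
  induction n with
  | zero =>
    rw [derivedSeries_zero, ← MonoidHom.range_eq_map, Subgroup.range_subtype]
    rfl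
  | succ n ih =>
    rw [derivedSeries_succ, Subgroup.map_commutator, ← ih]
    rfl

theorem hasNEA_of_solvable_normal {G : Type u} [Group G] [Finite G] (K : Subgroup G) [K.Normal] (hK : K ≠ ⊥)
    (hs : Group.IsSolvable K) : HasNEA G := by
  classical
  obtain ⟨n, hn⟩ := hs
  have hex : ∃ n, dSeries K n = ⊥ := ⟨n, by rw [dSeries_eq_map, hn, Subgroup.map_bot]⟩
  set m := Nat.find hex with hm
  have hm_spec : dSeries K m = ⊥ := Nat.find_spec hex
  have hm0 : m ≠ 0 := by
    intro h0
    rw [h0] at hm_spec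
    exact hK hm_spec
  obtain ⟨j, hj⟩ := Nat.exists_eq_succ_of_ne_zero hm0
  set A := dSeries K j with hA
  have hA1 : A ≠ ⊥ := by
    intro hbot
    have : m ≤ j := Nat.find_min' hex hbot
    omega
  have hAcomm : ⁅A, A⁆ = ⊥ := by
    rw [hj] at hm_spec
    exact hm_spec
  haveI hAn : A.Normal := dSeries_normal K j
  have hAc : ∀ x ∈ A, ∀ y ∈ A, x * y = y * x := by
    intro x hx y hy
    have := (Subgroup.commutator_eq_bot_iff_le_centralizer.mp hAcomm) hx
    rw [Subgroup.mem_centralizer_iff] at this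
    exact (this y hy).symm
  -- a prime dividing the order of A
  have hcard : Nat.card A ≠ 1 := fun h1 => hA1 (Subgroup.card_eq_one.mp h1)
  obtain ⟨p, hp, hpd⟩ := Nat.exists_prime_and_dvd hcard
  haveI : Fact p.Prime := ⟨hp⟩
  obtain ⟨a, ha⟩ := exists_prime_orderOf_dvd_card' p hpd
  let V : Subgroup G :=
    { carrier := {g | g ∈ A ∧ g ^ p = 1}
      mul_mem' := by
        rintro x y ⟨hx, hx'⟩ ⟨hy, hy'⟩
        refine ⟨A.mul_mem hx hy, ?_⟩
        have hc : Commute x y := hAc x hx y hy
        rw [hc.mul_pow, hx', hy', one_mul]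
      one_mem' := ⟨A.one_mem, one_pow _⟩
      inv_mem' := by
        rintro x ⟨hx, hx'⟩
        exact ⟨A.inv_mem hx, by rw [inv_pow, hx', inv_one]⟩ }
  refine ⟨V, p, ?_, ?_, hp, ?_, ?_⟩
  · constructor
    rintro x ⟨hx, hx'⟩ g
    refine ⟨hAn.conj_mem x hx g, ?_⟩
    rw [conj_pow, hx', mul_one, mul_inv_cancel]
  · intro hbot
    have hmem : (a : G) ∈ V := by
      refine ⟨a.2, ?_⟩
      have : a ^ p = 1 := by rw [← ha]; exact pow_orderOf_eq_one a
      have := congrArg Subtype.val this
      simpa using this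
    rw [hbot, Subgroup.mem_bot] at hmem
    have : a = 1 := Subtype.ext hmem
    rw [this, orderOf_one] at ha
    exact hp.one_lt.ne ha
  · rintro ⟨x, hx, hx'⟩ ⟨y, hy, hy'⟩
    apply Subtype.ext
    exact hAc x hx y hy
  · rintro ⟨x, hx, hx'⟩
    apply Subtype.ext
    simpa using hx'

end Cfsg.Agent.Lib.Helper19
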