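import Mathlib
import Cfsg.Agent.Lib.Helper19.A5Spec

set_option autoImplicit false

/-! Abstract lemmas used to determine the element orders of the first Janko group. -/

namespace Cfsg.Agent.Lib.Helper19.J1Spec

theorem orderOf_inv_mul_mul {G : Type*} [Group G] (c y : G) : orderOf (c⁻¹ * y * c) = orderOf y := by
  have h : SemiconjBy c⁻¹ y (c⁻¹ * y * c) := by
    show c⁻¹ * y = c⁻¹ * y * c * c⁻¹
    group
  exact (h.orderOf_eq).symm

/-- A Sylow subgroup for a prime whose square does not divide the group order, containing an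
element of order `r`, is generated by it. -/
theorem sylow_eq_zpowers {G : Type*} [Group G] [Finite G] {r : ℕ} [hr : Fact r.Prime]
    (hr2 : ¬ r ^ 2 ∣ Nat.card G) (y : G) (hy : orderOf y = r) (P : Sylow r G)
    (hP : Subgroup.zpowers y ≤ (P : Subgroup G)) : (P : Subgroup G) = Subgroup.zpowers y := by
  obtain ⟨k, hk⟩ := IsPGroup.iff_card.mp P.2
  have hdvd : r ^ k ∣ Nat.card G := by
    rw [← hk]; exact Subgroup.card_subgroup_dvd_card _
  have hk1 : k ≤ 1 := by
    by_contra hlt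
    push Not at hlt
    exact hr2 (dvd_trans (pow_dvd_pow r hlt) hdvd)
  have hcy : Nat.card (Subgroup.zpowers y) = r := by rw [Nat.card_zpowers, hy]
  have hle : Nat.card (P : Subgroup G) ≤ Nat.card (Subgroup.zpowers y) := by
    rw [hk, hcy]
    calc r ^ k ≤ r ^ 1 := Nat.pow_le_pow_right hr.out.pos hk1
      _ = r := pow_one r
  exact (Subgroup.eq_of_le_of_card_ge hP hle).symm

/-- If an element of prime order `r` (with `r² ∤ |G|`) is self-centralising then every element of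
order divisible by `r` has order `r`. -/
theorem orderOf_eq_of_selfCentralizing {G : Type*} [Group G] [Finite G] {r : ℕ} (hr : r.Prime)
    (hr2 : ¬ r ^ 2 ∣ Nat.card G) (x : G) (hx : orderOf x = r)
    (hC : ∀ z : G, z * x = x * z → z ∈ Subgroup.zpowers x) (g : G) (hg : r ∣ orderOf g) :
    orderOf g = r := by
  have : Fact r.Prime := ⟨hr⟩
  have hn0 : orderOf g ≠ 0 := (orderOf_pos g).ne'
  set y := g ^ (orderOf g / r) with hy
  have hyo : orderOf y = r := orderOf_pow_orderOf_div hn0 hg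
  have hpy : IsPGroup r (Subgroup.zpowers y) :=
    IsPGroup.of_card (n := 1) (by rw [Nat.card_zpowers, hyo, pow_one])
  have hpx : IsPGroup r (Subgroup.zpowers x) :=
    IsPGroup.of_card (n := 1) (by rw [Nat.card_zpowers, hx, pow_one])
  obtain ⟨P, hP⟩ := hpy.exists_le_sylow
  obtain ⟨Q, hQ⟩ := hpx.exists_le_sylow
  have hPe := sylow_eq_zpowers hr2 y hyo P hP
  have hQe := sylow_eq_zpowers hr2 x hx Q hQ
  obtain ⟨c, hc⟩ := MulAction.exists_smul_eq G Q P
  have hyP : y ∈ (P : Subgroup G) := hP (Subgroup.mem_zpowers y)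
  rw [← hc, Sylow.coe_subgroup_smul, Subgroup.mem_pointwise_smul_iff_inv_smul_mem] at hyP
  have hw : c⁻¹ * y * c ∈ Subgroup.zpowers x := by
    rw [← hQe]
    simpa [MulAut.smul_def, MulAut.conj_inv_apply] using hyP
  set w := c⁻¹ * y * c with hwdef
  have hwo : orderOf w = r := by
    rw [hwdef, orderOf_inv_mul_mul, hyo]
  -- x is a power of w
  have hzw : Subgroup.zpowers w = Subgroup.zpowers x := by
    apply Subgroup.eq_of_le_of_card_ge
    · rw [Subgroup.zpowers_le]; exact hw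
    · rw [Nat.card_zpowers, Nat.card_zpowers, hwo, hx]
  have hxw : x ∈ Subgroup.zpowers w := by rw [hzw]; exact Subgroup.mem_zpowers x
  obtain ⟨i, hi⟩ := Subgroup.mem_zpowers_iff.mp hxw
  -- g commutes with y
  have hgy : Commute g y := (Commute.refl g).pow_right _
  set g' := c⁻¹ * g * c with hg'
  have hg'w : Commute g' w := by
    show c⁻¹ * g * c * (c⁻¹ * y * c) = c⁻¹ * y * c * (c⁻¹ * g * c)
    have := hgy.eq
    calc c⁻¹ * g * c * (c⁻¹ * y * c) = c⁻¹ * (g * y) * c := by group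
      _ = c⁻¹ * (y * g) * c := by rw [this]
      _ = c⁻¹ * y * c * (c⁻¹ * g * c) := by group
  have hg'x : Commute g' x := by rw [← hi]; exact hg'w.zpow_right i
  have hmem := hC g' hg'x.eq
  have hdvd : orderOf g' ∣ r := by
    have h1 : orderOf g' ∣ Nat.card (Subgroup.zpowers x) := by
      have := Subgroup.orderOf_dvd_natCard (Subgroup.zpowers x) hmem
      exact this
    rwa [Nat.card_zpowers, hx] at h1
  have hgo : orderOf g' = orderOf g := by
    rw [hg', orderOf_inv_mul_mul]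
  rw [hgo] at hdvd
  exact Nat.dvd_antisymm hdvd hg

/-- If a subgroup of order eight of a group of order not divisible by sixteen has all its
nonidentity elements conjugate to `t`, then every involution is conjugate to `t`. -/
theorem involution_conj_of_sylow {G : Type*} [Group G] [Finite G] (hG : ¬ 16 ∣ Nat.card G)
    (E : Subgroup G) (hE : Nat.card E = 8) (t : G)
    (hconj : ∀ e ∈ E, e ≠ 1 → ∃ c : G, e = c * t * c⁻¹) (s : G) (hs : orderOf s = 2) :
    ∃ c : G, s = c * t * c⁻¹ := by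
  have : Fact (Nat.Prime 2) := ⟨Nat.prime_two⟩
  have hps : IsPGroup 2 (Subgroup.zpowers s) :=
    IsPGroup.of_card (n := 1) (by rw [Nat.card_zpowers, hs, pow_one])
  have hpE : IsPGroup 2 E := IsPGroup.of_card (n := 3) (by rw [hE]; norm_num)
  obtain ⟨P, hP⟩ := hps.exists_le_sylow
  obtain ⟨Q, hQ⟩ := hpE.exists_le_sylow
  have hQe : (Q : Subgroup G) = E := by
    obtain ⟨k, hk⟩ := IsPGroup.iff_card.mp Q.2
    have hdvd : 2 ^ k ∣ Nat.card G := by
      rw [← hk]; exact Subgroup.card_subgroup_dvd_card _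
    have hk1 : k ≤ 3 := by
      by_contra hlt
      push Not at hlt
      exact hG (dvd_trans (pow_dvd_pow 2 hlt) hdvd)
    have hle : Nat.card (Q : Subgroup G) ≤ Nat.card E := by
      rw [hk, hE]
      calc 2 ^ k ≤ 2 ^ 3 := Nat.pow_le_pow_right (by norm_num) hk1
        _ = 8 := by norm_num
    exact (Subgroup.eq_of_le_of_card_ge hQ hle).symm
  obtain ⟨c, hc⟩ := MulAction.exists_smul_eq G Q P
  have hsP : s ∈ (P : Subgroup G) := hP (Subgroup.mem_zpowers s)
  rw [← hc, Sylow.coe_subgroup_smul, Subgroup.mem_pointwise_smul_iff_inv_smul_mem] at hsP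
  have hw : c⁻¹ * s * c ∈ E := by
    rw [← hQe]
    simpa [MulAut.smul_def, MulAut.conj_inv_apply] using hsP
  have hw1 : c⁻¹ * s * c ≠ 1 := by
    intro h
    have : s = 1 := by
      have h2 : s = c * (c⁻¹ * s * c) * c⁻¹ := by group
      rw [h2, h]; group
    rw [this, orderOf_one] at hs
    norm_num at hs
  obtain ⟨d, hd⟩ := hconj _ hw hw1
  refine ⟨c * d, ?_⟩
  have h2 : s = c * (c⁻¹ * s * c) * c⁻¹ := by group
  rw [h2, hd]; group

/-- conjugacy of the seven involutions of an elementary abelian group of order eight on which an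
element acts as a Singer cycle -/
theorem cube_conj {G : Type*} [Group G] (A T E2 E3 : G) (hTT : T * T = 1)
    (r2 : E2 = A * T * A⁻¹) (r3 : E3 = A * E2 * A⁻¹) (r4 : A * E3 * A⁻¹ = T * E2)
    (c12 : T * E2 = E2 * T) (c13 : T * E3 = E3 * T) (c23 : E2 * E3 = E3 * E2) :
    (∃ c : G, T = c * T * c⁻¹) ∧ (∃ c : G, E2 = c * T * c⁻¹) ∧ (∃ c : G, E3 = c * T * c⁻¹) ∧
    (∃ c : G, T * E2 = c * T * c⁻¹) ∧ (∃ c : G, E2 * E3 = c * T * c⁻¹) ∧
    (∃ c : G, T * E2 * E3 = c * T * c⁻¹) ∧ (∃ c : G, T * E3 = c * T * c⁻¹) := by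
  have hE22 : E2 * E2 = 1 := by
    rw [r2]
    calc A * T * A⁻¹ * (A * T * A⁻¹) = A * (T * T) * A⁻¹ := by group
      _ = 1 := by rw [hTT]; group
  have step : ∀ e : G, (∃ c : G, e = c * T * c⁻¹) → ∃ c : G, A * e * A⁻¹ = c * T * c⁻¹ := by
    rintro e ⟨c, rfl⟩
    exact ⟨A * c, by group⟩
  have k1 : ∃ c : G, T = c * T * c⁻¹ := ⟨1, by group⟩
  have k2 : ∃ c : G, E2 = c * T * c⁻¹ := ⟨A, r2⟩
  have k3 : ∃ c : G, E3 = c * T * c⁻¹ := by
    obtain ⟨c, hc⟩ := step E2 k2
    exact ⟨c, by rw [r3, hc]⟩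
  have k4 : ∃ c : G, T * E2 = c * T * c⁻¹ := by
    obtain ⟨c, hc⟩ := step E3 k3
    exact ⟨c, by rw [← r4, hc]⟩
  have k5 : ∃ c : G, E2 * E3 = c * T * c⁻¹ := by
    obtain ⟨c, hc⟩ := step (T * E2) k4
    refine ⟨c, ?_⟩
    have h5 : A * (T * E2) * A⁻¹ = (A * T * A⁻¹) * (A * E2 * A⁻¹) := by group
    rw [h5, ← r2, ← r3] at hc
    exact hc
  have k6 : ∃ c : G, T * E2 * E3 = c * T * c⁻¹ := by
    obtain ⟨c, hc⟩ := step (E2 * E3) k5
    refine ⟨c, ?_⟩
    have h5 : A * (E2 * E3) * A⁻¹ = (A * E2 * A⁻¹) * (A * E3 * A⁻¹) := by group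
    rw [h5, ← r3, r4] at hc
    rw [← hc]
    calc T * E2 * E3 = T * (E2 * E3) := by group
      _ = T * (E3 * E2) := by rw [c23]
      _ = (T * E3) * E2 := by group
      _ = (E3 * T) * E2 := by rw [c13]
      _ = E3 * (T * E2) := by group
  have k7 : ∃ c : G, T * E3 = c * T * c⁻¹ := by
    obtain ⟨c, hc⟩ := step (T * E2 * E3) k6
    refine ⟨c, ?_⟩
    have h5 : A * (T * E2 * E3) * A⁻¹ = (A * T * A⁻¹) * (A * E2 * A⁻¹) * (A * E3 * A⁻¹) := by
      group
    rw [h5, ← r2, ← r3, r4] at hc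
    rw [← hc]
    symm
    calc E2 * E3 * (T * E2) = E2 * (E3 * T) * E2 := by group
      _ = E2 * (T * E3) * E2 := by rw [c13]
      _ = (E2 * T) * (E3 * E2) := by group
      _ = (T * E2) * (E2 * E3) := by rw [c12, c23]
      _ = T * (E2 * E2) * E3 := by group
      _ = T * E3 := by rw [hE22, mul_one]
  exact ⟨k1, k2, k3, k4, k5, k6, k7⟩

/-- element orders of `C₂ × A₅` -/
theorem orderOf_c2_a5 (z : Multiplicative (ZMod 2) × alternatingGroup (Fin 5)) :
    orderOf z = 1 ∨ orderOf z = 2 ∨ orderOf z = 3 ∨ orderOf z = 5 ∨ orderOf z = 6 ∨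
      orderOf z = 10 := by
  rw [Prod.orderOf]
  have h1 : orderOf z.1 = 1 ∨ orderOf z.1 = 2 := by
    have h2 : z.1 ^ 2 = 1 := by
      have : ∀ u : Multiplicative (ZMod 2), u ^ 2 = 1 := by decide
      exact this z.1
    have := orderOf_dvd_of_pow_eq_one h2
    exact (Nat.dvd_prime Nat.prime_two).mp this
  rcases h1 with h1 | h1 <;> rcases Cfsg.Agent.Lib.Helper19.a5_orderOf_mem z.2 with h2 | h2 | h2 | h2 <;>
    rw [h1, h2] <;> decide

end Cfsg.Agent.Lib.Helper19.J1Spec
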