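import Mathlib
import Cfsg.Agent.Lib.helper4.J1Defs

set_option autoImplicit false

/-! Kernel checks: elements of order six, ten and fifteen of the first Janko group. -/

namespace Cfsg.Agent.Lib.Helper19.J1Spec

open Cfsg.Agent.Lib.helper4

/-- a word of order six -/
def j1w6 : JMat := jwordF [0, 1, 1, 1] jone

/-- a word of order ten -/
def j1w10 : JMat := jwordF [0, 1] jone

/-- a word of order fifteen -/
def j1w15 : JMat := jwordF [0, 0, 1, 1, 0, 1, 0, 1, 1] jone

/-- `A ^ n = 1`, `A ^ d₁ ≠ 1`, `A ^ d₂ ≠ 1` -/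
def jOrdChk2 (A : JMat) (n d₁ d₂ : ℕ) : Bool :=
  jforce A fun A' => jbeq (jpowF A' n jone) jone &&
    (!(jbeq (jpowF A' d₁ jone) jone) && !(jbeq (jpowF A' d₂ jone) jone))

set_option maxRecDepth 10000000 in
theorem jOrdChk2_w6 : jOrdChk2 j1w6 6 3 2 = true := by decide +kernel

set_option maxRecDepth 10000000 in
theorem jOrdChk2_w10 : jOrdChk2 j1w10 10 5 2 = true := by decide +kernel

set_option maxRecDepth 10000000 in
theorem jOrdChk2_w15 : jOrdChk2 j1w15 15 5 3 = true := by decide +kernel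

end Cfsg.Agent.Lib.Helper19.J1Spec
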