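import Mathlib
import Cfsg.Agent.Lib.helper4.J1CentT
import Cfsg.Agent.Lib.helper4.J1ChkM
import Cfsg.Agent.Lib.Helper19.J1SpecChkA
import Cfsg.Agent.Lib.Helper19.J1SpecChkB
import Cfsg.Agent.Lib.Helper19.J1SpecAbs

set_option autoImplicit false

/-! The set of element orders of the first Janko group. -/

namespace Cfsg.Agent.Lib.Helper19.J1Spec

open Cfsg.Agent.Lib.helper4

attribute [local irreducible] j1H j1T j1a j1b j1c j1u j1t

/-- the involution -/
noncomputable def t0 : J1G := jel j1t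

theorem t0_order : orderOf t0 = 2 := jel_order j1t 2 (by norm_num) jgood_j1t jOrdChk_t

theorem t0_centralizer_iso : Nonempty (Subgroup.centralizer ({t0} : Set J1G) ≃*
    Multiplicative (ZMod 2) × alternatingGroup (Fin 5)) := by
  obtain ⟨x, y, hx, hy, hxy, hx1, hxt, hyt⟩ := j1_rel_xy
  exact centralizer_iso_c2_a5 (jel j1t) x y t0_order hx hy hxy hx1 hxt hyt j1_cent_t_card

theorem jgood_jconj' {g s : JMat} (hg : JGood g) (hs : JGood s) :
    JGood (jconj g s) ∧ jel (jconj g s) = jel g * jel s * (jel g)⁻¹ := by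
  unfold jconj
  rw [jforce_eq, jforce_eq]
  exact ⟨jgood_jmulT (jgood_jmul hg hs) hg, by
    rw [jel_jmulT (jgood_jmul hg hs) hg, jel_jmul hg hs]⟩

theorem j1CubeChk_spec' (a e1 e2 e3 : JMat)
    (h : (jbeq (jconj a e3) (jmul e1 e2) && (jbeq (jmul e1 e2) (jmul e2 e1) &&
        (jbeq (jmul e1 e3) (jmul e3 e1) && (jbeq (jmul e2 e3) (jmul e3 e2) &&
          (jforces (j1CubeList e1 e2 e3) fun L =>
            (L.all fun x => L.all fun y => jelem (jmul x y) L) && jnodup L))))) = true) :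
    jconj a e3 = jmul e1 e2 ∧ jmul e1 e2 = jmul e2 e1 ∧ jmul e1 e3 = jmul e3 e1 ∧
      jmul e2 e3 = jmul e3 e2 ∧
      (∀ x ∈ j1CubeList e1 e2 e3, ∀ y ∈ j1CubeList e1 e2 e3, jmul x y ∈ j1CubeList e1 e2 e3) ∧
      (j1CubeList e1 e2 e3).Nodup := by
  rw [jforces_eq] at h
  simp only [Bool.and_eq_true, jbeq_iff, List.all_eq_true, jelem_iff, jnodup_iff] at h
  exact ⟨h.1, h.2.1, h.2.2.1, h.2.2.2.1, h.2.2.2.2.1, h.2.2.2.2.2⟩

/-- a Sylow 2-subgroup all of whose involutions are conjugate to `t0` -/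
theorem exists_sylow_two : ∃ E : Subgroup J1G, Nat.card E = 8 ∧
    ∀ e ∈ E, e ≠ 1 → ∃ c : J1G, e = c * t0 * c⁻¹ := by
  have h := j1CubeChk_ok
  unfold j1CubeChk at h
  rw [jforces_eq, jforces_eq, jforce_eq, jforce_eq, jforce_eq, jforce_eq] at h
  obtain ⟨h1, h2, h3, h4, hm, hnd⟩ := j1CubeChk_spec' _ _ _ _ h
  have ge1 := jgood_j1t
  have ga := jgood_j1At (0, 45)
  obtain ⟨ge2, ee2⟩ := jgood_jconj' ga ge1
  obtain ⟨ge3, ee3⟩ := jgood_jconj' ga ge2
  obtain ⟨-, ee4⟩ := jgood_jconj' ga ge3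
  set e1 := j1t with he1
  set a := j1At j1H j1T (0, 45) with ha
  set e2 := jconj a e1 with he2
  set e3 := jconj a e2 with he3
  have hgL : ∀ x ∈ j1CubeList e1 e2 e3, JGood x := by
    intro x hx
    simp only [j1CubeList, List.mem_cons, List.not_mem_nil, or_false] at hx
    rcases hx with rfl | rfl | rfl | rfl | rfl | rfl | rfl | rfl
    · exact jgood_jone
    · exact ge1
    · exact ge2
    · exact jgood_jmul ge1 ge2
    · exact ge3
    · exact jgood_jmul ge1 ge3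
    · exact jgood_jmul ge2 ge3
    · exact jgood_jmul (jgood_jmul ge1 ge2) ge3
  have h1L : jone ∈ j1CubeList e1 e2 e3 := List.mem_cons_self
  have hcard := jListSubgroup_card (j1CubeList e1 e2 e3) h1L hgL hm hnd
  have hlen : (j1CubeList e1 e2 e3).length = 8 := rfl
  rw [hlen] at hcard
  refine ⟨jListSubgroup (j1CubeList e1 e2 e3) h1L hgL hm, hcard, ?_⟩
  -- abstract relations
  have r4 : jel a * jel e3 * (jel a)⁻¹ = jel e1 * jel e2 := by rw [← ee4, h1, jel_jmul ge1 ge2]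
  have c12 : jel e1 * jel e2 = jel e2 * jel e1 := by
    rw [← jel_jmul ge1 ge2, h2, jel_jmul ge2 ge1]
  have c13 : jel e1 * jel e3 = jel e3 * jel e1 := by
    rw [← jel_jmul ge1 ge3, h3, jel_jmul ge3 ge1]
  have c23 : jel e2 * jel e3 = jel e3 * jel e2 := by
    rw [← jel_jmul ge2 ge3, h4, jel_jmul ge3 ge2]
  have hTT : jel e1 * jel e1 = 1 := by
    have := pow_orderOf_eq_one t0
    rw [t0_order, pow_two] at this
    exact this
  obtain ⟨k1, k2, k3, k4, k5, k6, k7⟩ :=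
    cube_conj (jel a) (jel e1) (jel e2) (jel e3) hTT ee2 ee3 r4 c12 c13 c23
  intro e he hne
  rw [mem_jListSubgroup] at he
  obtain ⟨l, hl, rfl⟩ := he
  simp only [j1CubeList, List.mem_cons, List.not_mem_nil, or_false] at hl
  rcases hl with rfl | rfl | rfl | rfl | rfl | rfl | rfl | rfl
  · exact absurd jel_jone hne
  · exact k1
  · exact k2
  · rw [jel_jmul ge1 ge2]; exact k4
  · exact k3
  · rw [jel_jmul ge1 ge3]; exact k7
  · rw [jel_jmul ge2 ge3]; exact k5
  · rw [jel_jmul (jgood_jmul ge1 ge2) ge3, jel_jmul ge1 ge2]; exact k6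

theorem card_J1G : Nat.card J1G = 175560 := j1_card_eq

/-- every involution is conjugate to `t0` -/
theorem involution_conj (s : J1G) (hs : orderOf s = 2) : ∃ c : J1G, s = c * t0 * c⁻¹ := by
  obtain ⟨E, hE, hconj⟩ := exists_sylow_two
  refine involution_conj_of_sylow ?_ E hE t0 hconj s hs
  rw [card_J1G]; norm_num

/-- elements of even order -/
theorem orderOf_of_even (g : J1G) (h2 : 2 ∣ orderOf g) :
    orderOf g = 2 ∨ orderOf g = 6 ∨ orderOf g = 10 := by
  have hn0 : orderOf g ≠ 0 := (orderOf_pos g).ne'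
  set s := g ^ (orderOf g / 2) with hs
  have hso : orderOf s = 2 := orderOf_pow_orderOf_div hn0 h2
  obtain ⟨c, hc⟩ := involution_conj s hso
  have hgs : Commute g s := (Commute.refl g).pow_right _
  set g' := c⁻¹ * g * c with hg'
  have hcomm : g' * t0 = t0 * g' := by
    have ht : t0 = c⁻¹ * s * c := by rw [hc]; group
    rw [ht, hg']
    have := hgs.eq
    calc c⁻¹ * g * c * (c⁻¹ * s * c) = c⁻¹ * (g * s) * c := by group
      _ = c⁻¹ * (s * g) * c := by rw [this]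
      _ = c⁻¹ * s * c * (c⁻¹ * g * c) := by group
  have hmem : g' ∈ Subgroup.centralizer ({t0} : Set J1G) := by
    rw [Subgroup.mem_centralizer_iff]
    intro x hx
    rw [Set.mem_singleton_iff] at hx
    rw [hx, hcomm]
  obtain ⟨φ⟩ := t0_centralizer_iso
  have ho : orderOf g = orderOf (φ ⟨g', hmem⟩) := by
    rw [MulEquiv.orderOf_eq]
    have h5 := Subgroup.orderOf_coe (⟨g', hmem⟩ : Subgroup.centralizer ({t0} : Set J1G))
    rw [← h5]
    show orderOf g = orderOf g'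
    rw [hg', orderOf_inv_mul_mul]
  rcases orderOf_c2_a5 (φ ⟨g', hmem⟩) with h | h | h | h | h | h <;> rw [← ho] at h
  · rw [h] at h2; norm_num at h2
  · exact Or.inl h
  · rw [h] at h2; norm_num at h2
  · rw [h] at h2; norm_num at h2
  · exact Or.inr (Or.inl h)
  · exact Or.inr (Or.inr h)

theorem not_sq_dvd (r : ℕ) (hr : r = 7 ∨ r = 11 ∨ r = 19) : ¬ r ^ 2 ∣ Nat.card J1G := by
  rw [card_J1G]
  rcases hr with rfl | rfl | rfl <;> norm_num

theorem orderOf_of_seven (g : J1G) (h : 7 ∣ orderOf g) : orderOf g = 7 := by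
  have ex := jel_order j1X 7 (by norm_num) jgood_j1X j1Hyp2.h7
  refine orderOf_eq_of_selfCentralizing (by norm_num) (not_sq_dvd 7 (Or.inl rfl)) (jel j1X) ex ?_ g h
  exact j1_cent_pows j1Hyp j1X 7 jgood_j1X j1Hyp2.hCx

theorem orderOf_of_nineteen (g : J1G) (h : 19 ∣ orderOf g) : orderOf g = 19 := by
  have ex := jel_order j1u 19 (by norm_num) jgood_j1u j1Hyp2.h19
  refine orderOf_eq_of_selfCentralizing (by norm_num) (not_sq_dvd 19 (Or.inr (Or.inr rfl)))
    (jel j1u) ex ?_ g h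
  exact j1_cent_pows j1Hyp j1u 19 jgood_j1u j1Hyp2.hCu

theorem orderOf_of_eleven (g : J1G) (h : 11 ∣ orderOf g) : orderOf g = 11 := by
  have ex := jel_order j1a 11 (by norm_num) jgood_j1a j1Hyp2.h11
  refine orderOf_eq_of_selfCentralizing (by norm_num) (not_sq_dvd 11 (Or.inr (Or.inl rfl)))
    (jel j1a) ex ?_ g h
  exact j1_cent_pows j1Hyp j1a 11 jgood_j1a j1CentChk_a

/-- the element orders of the first Janko group lie in the expected list -/
theorem orderOf_mem (g : J1G) :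
    orderOf g ∈ ({1, 2, 3, 5, 6, 7, 10, 11, 15, 19} : Finset ℕ) := by
  by_cases h2 : 2 ∣ orderOf g
  · rcases orderOf_of_even g h2 with h | h | h <;> rw [h] <;> decide
  by_cases h7 : 7 ∣ orderOf g
  · rw [orderOf_of_seven g h7]; decide
  by_cases h11 : 11 ∣ orderOf g
  · rw [orderOf_of_eleven g h11]; decide
  by_cases h19 : 19 ∣ orderOf g
  · rw [orderOf_of_nineteen g h19]; decide
  have hdvd : orderOf g ∣ 15 * 11704 := by
    have := orderOf_dvd_natCard g
    rw [card_J1G] at this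
    exact this
  have c2 : Nat.Coprime (orderOf g) 2 :=
    ((Nat.Prime.coprime_iff_not_dvd Nat.prime_two).2 h2).symm
  have c7 : Nat.Coprime (orderOf g) 7 :=
    ((Nat.Prime.coprime_iff_not_dvd (by norm_num)).2 h7).symm
  have c11 : Nat.Coprime (orderOf g) 11 :=
    ((Nat.Prime.coprime_iff_not_dvd (by norm_num)).2 h11).symm
  have c19 : Nat.Coprime (orderOf g) 19 :=
    ((Nat.Prime.coprime_iff_not_dvd (by norm_num)).2 h19).symm
  have hc : Nat.Coprime (orderOf g) 11704 := by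
    have : (11704 : ℕ) = 2 ^ 3 * 7 * 11 * 19 := by norm_num
    rw [this]
    exact ((((c2.pow_right 3).mul_right c7).mul_right c11).mul_right c19)
  have h15 : orderOf g ∣ 15 := hc.dvd_of_dvd_mul_right hdvd
  have hle : orderOf g ≤ 15 := Nat.le_of_dvd (by norm_num) h15
  have hpos := orderOf_pos g
  interval_cases (orderOf g) <;> first | decide | (exfalso; revert h15; decide)

theorem jel_order2 (A : JMat) (n d₁ d₂ p₁ p₂ : ℕ) (hp₁ : p₁.Prime) (hp₂ : p₂.Prime)
    (hn : n = p₁ * p₂) (hne : p₁ ≠ p₂) (hd₁ : d₁ = p₂) (hd₂ : d₂ = p₁)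
    (hA : JGood A) (h : jOrdChk2 A n d₁ d₂ = true) : orderOf (jel A) = n := by
  unfold jOrdChk2 at h
  rw [jforce_eq] at h
  simp only [Bool.and_eq_true, jbeq_iff, Bool.not_eq_true', ← Bool.not_eq_true] at h
  obtain ⟨h1, h2, h3⟩ := h
  have pw : ∀ k, jpowF A k jone = jone ↔ jel A ^ k = 1 := by
    intro k
    have := (jgood_jpowF A hA k jone jgood_jone)
    constructor
    · intro hk
      have h4 := this.2
      rw [hk, jel_jone, one_mul] at h4
      exact h4.symm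
    · intro hk
      apply jel_inj this.1 jgood_jone
      rw [this.2, jel_jone, one_mul, hk]
  rw [pw] at h1 h2 h3
  have hdvd : orderOf (jel A) ∣ p₁ * p₂ := hn ▸ orderOf_dvd_of_pow_eq_one h1
  have hn1 : ¬ orderOf (jel A) ∣ p₂ := fun hh => h2 (hd₁ ▸ orderOf_dvd_iff_pow_eq_one.mp hh)
  have hn2 : ¬ orderOf (jel A) ∣ p₁ := fun hh => h3 (hd₂ ▸ orderOf_dvd_iff_pow_eq_one.mp hh)
  -- a divisor of p₁ p₂ dividing neither prime is p₁ p₂
  have h5 : p₁ ∣ orderOf (jel A) := by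
    by_contra hc
    have : Nat.Coprime (orderOf (jel A)) p₁ := ((Nat.Prime.coprime_iff_not_dvd hp₁).2 hc).symm
    exact hn1 (this.dvd_of_dvd_mul_left hdvd)
  have h6 : p₂ ∣ orderOf (jel A) := by
    by_contra hc
    have : Nat.Coprime (orderOf (jel A)) p₂ := ((Nat.Prime.coprime_iff_not_dvd hp₂).2 hc).symm
    exact hn2 (this.dvd_of_dvd_mul_right hdvd)
  have h7 : p₁ * p₂ ∣ orderOf (jel A) :=
    Nat.Coprime.mul_dvd_of_dvd_of_dvd ((Nat.coprime_primes hp₁ hp₂).2 hne) h5 h6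
  rw [hn]
  exact Nat.dvd_antisymm hdvd h7

theorem exists_order_six : ∃ g : J1G, orderOf g = 6 :=
  ⟨jel j1w6, jel_order2 j1w6 6 3 2 2 3 (by norm_num) (by norm_num) (by norm_num) (by norm_num)
    rfl rfl (jgood_jwordF _ _ jgood_jone) jOrdChk2_w6⟩

theorem exists_order_ten : ∃ g : J1G, orderOf g = 10 :=
  ⟨jel j1w10, jel_order2 j1w10 10 5 2 2 5 (by norm_num) (by norm_num) (by norm_num) (by norm_num)
    rfl rfl (jgood_jwordF _ _ jgood_jone) jOrdChk2_w10⟩

theorem exists_order_fifteen : ∃ g : J1G, orderOf g = 15 :=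
  ⟨jel j1w15, jel_order2 j1w15 15 5 3 3 5 (by norm_num) (by norm_num) (by norm_num) (by norm_num)
    rfl rfl (jgood_jwordF _ _ jgood_jone) jOrdChk2_w15⟩

/-- the orders `1, 2, 3, 5, 6, 10, 15` occur -/
theorem exists_order (k : ℕ) (hk : k ∈ ({1, 2, 3, 5, 6, 10, 15} : Finset ℕ)) :
    ∃ g : J1G, orderOf g = k := by
  obtain ⟨g6, h6⟩ := exists_order_six
  obtain ⟨g10, h10⟩ := exists_order_ten
  obtain ⟨g15, h15⟩ := exists_order_fifteen
  simp only [Finset.mem_insert, Finset.mem_singleton] at hk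
  rcases hk with rfl | rfl | rfl | rfl | rfl | rfl | rfl
  · exact ⟨1, orderOf_one⟩
  · exact ⟨g6 ^ 3, by rw [orderOf_pow' g6 (by norm_num), h6]; decide⟩
  · exact ⟨g6 ^ 2, by rw [orderOf_pow' g6 (by norm_num), h6]; decide⟩
  · exact ⟨g10 ^ 2, by rw [orderOf_pow' g10 (by norm_num), h10]; decide⟩
  · exact ⟨g6, h6⟩
  · exact ⟨g10, h10⟩
  · exact ⟨g15, h15⟩

end Cfsg.Agent.Lib.Helper19.J1Spec
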