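import Mathlib
import Cfsg.Agent.Lib.Helper19.J1Spec
import Cfsg.Agent.Lib.Helper19.GDih

set_option autoImplicit false

/-! Groups of unbounded order with the element orders of the fourth direct power of `J₁`. -/

namespace Cfsg.Agent.Lib.Helper19.J1Pow4

open Cfsg.Agent.Lib.helper4 Cfsg.Agent.Lib.Helper19 Cfsg.Agent.Lib.Helper19.J1Spec

/-- the `{2,3,5}`-part of the spectrum -/
def T : Finset ℕ := {1, 2, 3, 5, 6, 10, 15}

/-- the auxiliary group with spectrum `T` -/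
abbrev X (k : ℕ) : Type := GDih (Fin k → ZMod 3) × GDih (ZMod 5)

theorem exp3 (k : ℕ) (a : Fin k → ZMod 3) : 3 • a = 0 := by
  ext i
  simp only [Pi.smul_apply, Pi.zero_apply]
  have : ∀ z : ZMod 3, 3 • z = 0 := by decide
  exact this (a i)

theorem exp5 (a : ZMod 5) : 5 • a = 0 := by
  revert a; decide

theorem orderOf_X_mem (k : ℕ) (x : X k) : orderOf x ∈ T := by
  rw [Prod.orderOf]
  rcases GDih.orderOf_mem (by norm_num : Nat.Prime 3) (exp3 k) x.1 with h | h | h <;>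
  rcases GDih.orderOf_mem (by norm_num : Nat.Prime 5) exp5 x.2 with h' | h' | h' <;>
  rw [h, h'] <;> decide

theorem exists_X (k : ℕ) (hk : 1 ≤ k) (n : ℕ) (hn : n ∈ T) : ∃ x : X k, orderOf x = n := by
  have a₀ : ∃ a : Fin k → ZMod 3, a ≠ 0 := by
    refine ⟨fun _ => 1, ?_⟩
    intro h
    have := congrFun h ⟨0, hk⟩
    simp at this
  obtain ⟨a₀, ha₀⟩ := a₀
  have key : ∀ i j : ℕ, (i = 1 ∨ i = 2 ∨ i = 3) → (j = 1 ∨ j = 2 ∨ j = 5) →
      ∃ x : X k, orderOf x = Nat.lcm i j := by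
    intro i j hi hj
    obtain ⟨g, hg⟩ := GDih.exists_orderOf (by norm_num : Nat.Prime 3) (exp3 k) a₀ ha₀ i hi
    obtain ⟨g', hg'⟩ := GDih.exists_orderOf (by norm_num : Nat.Prime 5) exp5 (1 : ZMod 5)
      (by decide) j hj
    exact ⟨(g, g'), by rw [Prod.orderOf, hg, hg']⟩
  simp only [T, Finset.mem_insert, Finset.mem_singleton] at hn
  rcases hn with rfl | rfl | rfl | rfl | rfl | rfl | rfl
  · exact key 1 1 (by simp) (by simp)
  · exact key 2 1 (by simp) (by simp)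
  · exact key 3 1 (by simp) (by simp)
  · exact key 1 5 (by simp) (by simp)
  · exact key 3 2 (by simp) (by simp)
  · exact key 2 5 (by simp) (by simp)
  · exact key 3 5 (by simp) (by simp)

theorem orderOf_four {A B C D : Type*} [Monoid A] [Monoid B] [Monoid C] [Monoid D]
    (a : A) (b : B) (c : C) (d : D) :
    orderOf ((a, b, c, d) : A × B × C × D) =
      Nat.lcm (orderOf a) (Nat.lcm (orderOf b) (Nat.lcm (orderOf c) (orderOf d))) := by
  rw [Prod.orderOf, Prod.orderOf, Prod.orderOf]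

/-- rearrangement of four orders -/
theorem rearr (S : Set ℕ) (_h1 : 1 ∈ S)
    (hS : ∀ n ∈ S, n ∈ T ∨ n = 7 ∨ n = 11 ∨ n = 19)
    (a b c d : ℕ) (ha : a ∈ S) (hb : b ∈ S) (hc : c ∈ S) (hd : d ∈ S) :
    ∃ a' ∈ S, ∃ b' ∈ S, ∃ c' ∈ S, ∃ x ∈ T,
      Nat.lcm a (Nat.lcm b (Nat.lcm c d)) = Nat.lcm a' (Nat.lcm b' (Nat.lcm c' x)) := by
  have h1T : (1 : ℕ) ∈ T := by decide
  rcases hS d hd with hdT | hd'
  · exact ⟨a, ha, b, hb, c, hc, d, hdT, rfl⟩
  rcases hS c hc with hcT | hc'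
  · exact ⟨a, ha, b, hb, d, hd, c, hcT, by rw [Nat.lcm_comm c d]⟩
  rcases hS b hb with hbT | hb'
  · refine ⟨a, ha, c, hc, d, hd, b, hbT, ?_⟩
    rw [Nat.lcm_comm b (Nat.lcm c d), Nat.lcm_assoc]
  rcases hS a ha with haT | ha'
  · refine ⟨b, hb, c, hc, d, hd, a, haT, ?_⟩
    rw [Nat.lcm_comm a (Nat.lcm b (Nat.lcm c d)), Nat.lcm_assoc, Nat.lcm_assoc]
  rcases ha' with rfl | rfl | rfl <;> rcases hb' with rfl | rfl | rfl <;>
    rcases hc' with rfl | rfl | rfl <;> rcases hd' with rfl | rfl | rfl <;>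
    first
    | (refine ⟨_, ha, _, hb, _, hc, 1, h1T, ?_⟩; norm_num; done)
    | (refine ⟨_, ha, _, hb, _, hd, 1, h1T, ?_⟩; norm_num; done)
    | (refine ⟨_, ha, _, hc, _, hd, 1, h1T, ?_⟩; norm_num; done)

theorem main (N : ℕ) : ∃ (H : Type) (_ : Group H) (_ : Fintype H), N < Fintype.card H ∧
    Set.range (orderOf : H → ℕ) =
      Set.range (orderOf : J1G × J1G × J1G × J1G → ℕ) := by
  classical
  haveI : Fintype J1G := Fintype.ofFinite _
  set k := N + 1 with hk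
  refine ⟨J1G × J1G × J1G × X k, inferInstance, inferInstance, ?_, ?_⟩
  · -- cardinality
    have hinj : Function.Injective
        (fun a : Fin k → ZMod 3 => ((1, 1, 1, ((⟨a, false⟩ : GDih (Fin k → ZMod 3)), 1)) :
          J1G × J1G × J1G × X k)) := by
      intro a b h
      have h2 := congrArg (fun z : J1G × J1G × J1G × X k => z.2.2.2.1.a) h
      exact h2
    have hle := Fintype.card_le_of_injective _ hinj
    have hc : Fintype.card (Fin k → ZMod 3) = 3 ^ k := by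
      rw [Fintype.card_fun, ZMod.card, Fintype.card_fin]
    rw [hc] at hle
    have : N < 3 ^ k := by
      calc N < k := by omega
        _ < 3 ^ k := Nat.lt_pow_self (by norm_num)
    omega
  · -- spectra
    set S : Set ℕ := Set.range (orderOf : J1G → ℕ) with hSdef
    have h1S : 1 ∈ S := ⟨1, orderOf_one⟩
    have hTS : ∀ n ∈ T, n ∈ S := by
      intro n hn
      obtain ⟨g, hg⟩ := exists_order n hn
      exact ⟨g, hg⟩
    have hST : ∀ n ∈ S, n ∈ T ∨ n = 7 ∨ n = 11 ∨ n = 19 := by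
      rintro n ⟨g, rfl⟩
      have := orderOf_mem g
      simp only [Finset.mem_insert, Finset.mem_singleton] at this
      simp only [T, Finset.mem_insert, Finset.mem_singleton]
      tauto
    ext n
    constructor
    · rintro ⟨⟨a, b, c, x⟩, rfl⟩
      obtain ⟨d, hd⟩ := hTS _ (orderOf_X_mem k x)
      refine ⟨(a, b, c, d), ?_⟩
      show orderOf ((a, b, c, d) : J1G × J1G × J1G × J1G) = orderOf ((a, b, c, x) : J1G × J1G × J1G × X k)
      rw [orderOf_four, orderOf_four, hd]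
    · rintro ⟨⟨a, b, c, d⟩, rfl⟩
      obtain ⟨a', ⟨ga, rfl⟩, b', ⟨gb, rfl⟩, c', ⟨gc, rfl⟩, x, hx, he⟩ :=
        rearr S h1S hST (orderOf a) (orderOf b) (orderOf c) (orderOf d)
          ⟨a, rfl⟩ ⟨b, rfl⟩ ⟨c, rfl⟩ ⟨d, rfl⟩
      obtain ⟨gx, rfl⟩ := exists_X k (by omega) x hx
      refine ⟨(ga, gb, gc, gx), ?_⟩
      show orderOf ((ga, gb, gc, gx) : J1G × J1G × J1G × X k) = orderOf ((a, b, c, d) : J1G × J1G × J1G × J1G)
      rw [orderOf_four, orderOf_four]
      exact he.symm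

end Cfsg.Agent.Lib.Helper19.J1Pow4
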