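import Mathlib

set_option autoImplicit false
set_option linter.unusedSectionVars false

namespace Cfsg.Agent.Lib.Helper19.JankoRee

universe u

open scoped IsMulCommutative in
/-- Averaging over the cosets of an abelian subgroup `T` in a subgroup `N` normalizing it:
an `N`-invariant element of `T` which is congruent to `x ^ |N : T|` modulo any normal
subgroup containing the commutators `[n, x]`. -/
theorem exists_fixed_prod {X : Type u} [Group X] [Finite X] (T N : Subgroup X)
    [IsMulCommutative ↥T]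
    (hN : ∀ n ∈ N, ∀ a ∈ T, n * a * n⁻¹ ∈ T) (x : X) (hx : x ∈ T) :
    ∃ c ∈ T, (∀ n ∈ N, n * c * n⁻¹ = c) ∧
      ∀ {B : Type u} [Group B] (f : X →* B), (∀ n ∈ N, f (n * x * n⁻¹) = f x) →
        f c = f x ^ (T.relIndex N) := by
  classical
  letI : Fintype (↥N ⧸ T.subgroupOf N) := Fintype.ofFinite _
  let F : (↥N ⧸ T.subgroupOf N) → ↥T := fun q =>
    ⟨(q.out : X) * x * (q.out : X)⁻¹, hN _ q.out.2 x hx⟩
  have hF : ∀ n : ↥N, F (QuotientGroup.mk n) = ⟨(n : X) * x * (n : X)⁻¹, hN _ n.2 x hx⟩ := by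
    intro n
    obtain ⟨t, ht⟩ := QuotientGroup.mk_out_eq_mul (T.subgroupOf N) n
    apply Subtype.ext
    show ((QuotientGroup.mk n : ↥N ⧸ T.subgroupOf N).out : X) * x *
      ((QuotientGroup.mk n : ↥N ⧸ T.subgroupOf N).out : X)⁻¹ = (n : X) * x * (n : X)⁻¹
    rw [ht]
    have htT : ((t : ↥N) : X) ∈ T := Subgroup.mem_subgroupOf.1 t.2
    have hcomm : ((t : ↥N) : X) * x = x * ((t : ↥N) : X) := by
      have := mul_comm' (⟨((t : ↥N) : X), htT⟩ : ↥T) ⟨x, hx⟩
      exact congrArg Subtype.val this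
    have : ((n * (t : ↥N) : ↥N) : X) = (n : X) * ((t : ↥N) : X) := rfl
    rw [this]
    calc (n : X) * ((t : ↥N) : X) * x * ((n : X) * ((t : ↥N) : X))⁻¹
        = (n : X) * (((t : ↥N) : X) * x) * ((t : ↥N) : X)⁻¹ * (n : X)⁻¹ := by group
      _ = (n : X) * x * (n : X)⁻¹ := by rw [hcomm]; group
  refine ⟨((∏ q, F q : ↥T) : X), (∏ q, F q).2, ?_, ?_⟩
  · intro n hn
    let κ : ↥T →* ↥T :=
      { toFun := fun a => ⟨n * a * n⁻¹, hN n hn a a.2⟩
        map_one' := by apply Subtype.ext; simp
        map_mul' := by intro a b; apply Subtype.ext; simp }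
    have h1 : ∀ q, κ (F q) = F ((⟨n, hn⟩ : ↥N) • q) := by
      intro q
      induction q using QuotientGroup.induction_on with
      | H m =>
        rw [hF]
        have : ((⟨n, hn⟩ : ↥N) • (QuotientGroup.mk m : ↥N ⧸ T.subgroupOf N)) =
            QuotientGroup.mk ((⟨n, hn⟩ : ↥N) * m) := rfl
        rw [this, hF]
        apply Subtype.ext
        show n * ((m : X) * x * (m : X)⁻¹) * n⁻¹ = (n * (m : X)) * x * (n * (m : X))⁻¹
        group
    have h2 : κ (∏ q, F q) = ∏ q, F q := by
      rw [map_prod]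
      simp_rw [h1]
      exact Equiv.prod_comp (MulAction.toPerm (⟨n, hn⟩ : ↥N)) F
    exact congrArg Subtype.val h2
  · intro B _ f hf
    have key : ∀ s : Finset (↥N ⧸ T.subgroupOf N),
        f ((∏ q ∈ s, F q : ↥T) : X) = f x ^ s.card := by
      intro s
      induction s using Finset.induction_on with
      | empty => simp
      | insert a s ha ih =>
        rw [Finset.prod_insert ha, Finset.card_insert_of_notMem ha, Subgroup.coe_mul, map_mul, ih,
          pow_succ']
        congr 1
        exact hf _ a.out.2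
    rw [key Finset.univ, Finset.card_univ]
    congr 1
    rw [Subgroup.relIndex, Subgroup.index_eq_card, Nat.card_eq_fintype_card]

end Cfsg.Agent.Lib.Helper19.JankoRee
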