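import Mathlib
import Cfsg.Agent.S0215

set_option autoImplicit false
set_option linter.unusedSectionVars false
set_option linter.style.haveILetI false

namespace Cfsg.Agent.Lib.Helper19.JankoRee

/-- In a finite group `X` with an abelian Sylow 2-subgroup `T` and a normal subgroup `I` which is
simple of even order with trivial centralizer, no nontrivial element of `T` is centralized by
`N_X(T)` (Burnside's fusion lemma and Glauberman's Z*-theorem). -/
theorem exists_normalizer_moves {X : Type*} [Group X] [Finite X] (T : Sylow 2 X)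
    (hT : ∀ a ∈ T, ∀ b ∈ T, a * b = b * a)
    (I : Subgroup X) [I.Normal] (hI : IsSimpleGroup ↥I) (hIeven : 2 ∣ Nat.card I)
    (hC : ∀ y : X, (∀ i ∈ I, y * i = i * y) → y = 1)
    (c : X) (hcT : c ∈ T) (hc1 : c ≠ 1) :
    ∃ n ∈ Subgroup.normalizer ((T : Subgroup X) : Set X), n * c * n⁻¹ ≠ c := by
  by_contra hcon
  push Not at hcon
  haveI : Fact (Nat.Prime 2) := ⟨Nat.prime_two⟩
  haveI : IsMulCommutative ↥(T : Subgroup X) :=
    ⟨⟨fun a b => Subtype.ext (hT a a.2 b b.2)⟩⟩
  obtain ⟨k, hk⟩ : ∃ k, orderOf c = 2 ^ k := by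
    obtain ⟨k, hk⟩ := T.2 ⟨c, hcT⟩
    have h1 : c ^ (2 ^ k) = 1 := by simpa using congrArg Subtype.val hk
    obtain ⟨j, _, hj⟩ := (Nat.dvd_prime_pow Nat.prime_two).1 (orderOf_dvd_of_pow_eq_one h1)
    exact ⟨j, hj⟩
  have hk0 : k ≠ 0 := by
    rintro rfl
    rw [pow_zero, orderOf_eq_one_iff] at hk
    exact hc1 hk
  set u := c ^ (2 ^ (k - 1)) with hu
  have hou : orderOf u = 2 := by
    have h1 := orderOf_pow_orderOf_div (x := c) (n := 2) (by rw [hk]; positivity)
      (by rw [hk]; exact dvd_pow_self 2 hk0)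
    have h2 : 2 ^ k / 2 = 2 ^ (k - 1) := by
      obtain ⟨j, rfl⟩ := Nat.exists_eq_succ_of_ne_zero hk0
      rw [pow_succ]; simp
    rwa [hk, h2] at h1
  have huT : u ∈ T := (T : Subgroup X).pow_mem hcT _
  have hufix : ∀ n ∈ Subgroup.normalizer ((T : Subgroup X) : Set X), n * u * n⁻¹ = u := by
    intro n hn
    rw [hu, ← conj_pow, hcon n hn]
  have hiso : ∀ g : X, g * u * g⁻¹ ∈ T → g * u * g⁻¹ = u := by
    intro g hg
    have hg' : (g⁻¹)⁻¹ * u * g⁻¹ ∈ T := by rwa [inv_inv]
    obtain ⟨n, hn, hnu⟩ := Sylow.conj_eq_normalizer_conj_of_mem T u g⁻¹ huT hg'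
    rw [inv_inv] at hnu
    rw [hnu]
    have := hufix n⁻¹ (Subgroup.inv_mem _ hn)
    rwa [inv_inv] at this
  obtain ⟨O, hOn, hOodd, hOu⟩ := Cfsg.Agent.S0215.result T u hou huT hiso
  -- O ⊓ I is trivial
  have hOI : ∀ y ∈ O, y ∈ I → y = 1 := by
    have hnorm : (O.subgroupOf I).Normal := inferInstance
    rcases hnorm.eq_bot_or_eq_top with h | h
    · intro y hyO hyI
      have : (⟨y, hyI⟩ : ↥I) ∈ O.subgroupOf I := Subgroup.mem_subgroupOf.2 hyO
      rw [h, Subgroup.mem_bot] at this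
      exact congrArg Subtype.val this
    · exfalso
      have hle : I ≤ O := by
        rw [← Subgroup.subgroupOf_eq_top]; exact h
      have hdvd : Nat.card I ∣ Nat.card O := Subgroup.card_dvd_of_le hle
      have : 2 ∣ Nat.card O := hIeven.trans hdvd
      exact (Nat.not_even_iff_odd.2 hOodd) (even_iff_two_dvd.2 this)
  have hO1 : ∀ y ∈ O, y = 1 := by
    intro y hy
    apply hC
    intro i hi
    have h1 : y * i * y⁻¹ * i⁻¹ = 1 := by
      apply hOI
      · have : y * i * y⁻¹ * i⁻¹ = y * (i * y⁻¹ * i⁻¹) := by group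
        rw [this]
        exact O.mul_mem hy (hOn.conj_mem _ (O.inv_mem hy) i)
      · exact I.mul_mem (‹I.Normal›.conj_mem _ hi y) (I.inv_mem hi)
    calc y * i = (y * i * y⁻¹ * i⁻¹) * (i * y) := by group
      _ = i * y := by rw [h1, one_mul]
  have hu1 : u = 1 := by
    apply hC
    intro i _
    have := hO1 _ (hOu i)
    calc u * i = (u * i * u⁻¹ * i⁻¹) * (i * u) := by group
      _ = i * u := by rw [this, one_mul]
  rw [hu1, orderOf_one] at hou
  omega

end Cfsg.Agent.Lib.Helper19.JankoRee
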