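import Mathlib
import Cfsg.Agent.Lib.Helper19.JRAvg
import Cfsg.Agent.Lib.Helper19.JRIso

set_option autoImplicit false
set_option linter.unusedSectionVars false
set_option linter.style.haveILetI false

namespace Cfsg.Agent.Lib.Helper19.JankoRee

universe u

theorem isPGroup_zpowers_of_pow {X : Type*} [Group X] (x : X) (k : ℕ) (hxk : x ^ (2 ^ k) = 1) :
    IsPGroup 2 (Subgroup.zpowers x) := by
  obtain ⟨j, _, hj⟩ := (Nat.dvd_prime_pow Nat.prime_two).1 (orderOf_dvd_of_pow_eq_one hxk)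
  apply IsPGroup.of_card (n := j)
  rw [Nat.card_zpowers, hj]

/-- Special case `X = I ⟨x⟩` of `mem_of_centralizes_sylow`. -/
theorem mem_of_centralizes_sylow_aux {X : Type u} [Group X] [Finite X] (I : Subgroup X) [I.Normal]
    (hI : IsSimpleGroup ↥I) (hC : ∀ y : X, (∀ i ∈ I, y * i = i * y) → y = 1)
    (x : X) (k : ℕ) (hxk : x ^ (2 ^ k) = 1)
    (hgen : ∀ y : X, ∃ i ∈ I, ∃ j : ℤ, y = i * x ^ j)
    (P : Subgroup X) (hPI : P ≤ I) (hP2 : IsPGroup 2 P)
    (hPmax : ∀ Q : Subgroup X, Q ≤ I → IsPGroup 2 Q → P ≤ Q → Q ≤ P)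
    (hPab : ∀ a ∈ P, ∀ b ∈ P, a * b = b * a) (hP1 : P ≠ ⊥)
    (hxP : ∀ a ∈ P, x * a = a * x) : x ∈ I := by
  by_contra hxI
  haveI : Fact (Nat.Prime 2) := ⟨Nat.prime_two⟩
  -- the 2-group P ⟨x⟩
  have hx2 : IsPGroup 2 (Subgroup.zpowers x) := isPGroup_zpowers_of_pow x k hxk
  have hPx : P ≤ Subgroup.normalizer ((Subgroup.zpowers x : Subgroup X) : Set X) := by
    intro a ha
    rw [Subgroup.mem_normalizer_iff]
    intro h
    have hcomm : ∀ j : ℤ, a * x ^ j * a⁻¹ = x ^ j := by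
      intro j
      have h0 : Commute x a := hxP a ha
      have : Commute a (x ^ j) := h0.symm.zpow_right j
      rw [this.eq]; group
    constructor
    · intro hh
      obtain ⟨j, rfl⟩ := Subgroup.mem_zpowers_iff.1 hh
      rw [hcomm]; exact hh
    · intro hh
      obtain ⟨j, hj⟩ := Subgroup.mem_zpowers_iff.1 hh
      have : h = x ^ j := by
        have h1 : h = a⁻¹ * (a * h * a⁻¹) * a := by group
        rw [h1, ← hj]
        have := hcomm j
        calc a⁻¹ * x ^ j * a = a⁻¹ * (a * x ^ j * a⁻¹) * a := by rw [this]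
          _ = x ^ j := by group
      rw [this]; exact Subgroup.zpow_mem_zpowers x j
  have hsup : IsPGroup 2 (P ⊔ Subgroup.zpowers x : Subgroup X) :=
    IsPGroup.to_sup_of_normal_right' hP2 hx2 hPx
  obtain ⟨T, hT⟩ := hsup.exists_le_sylow
  have hPT : P ≤ T := le_sup_left.trans hT
  have hxT : x ∈ T := hT (Subgroup.mem_sup_right (Subgroup.mem_zpowers x))
  have hTI : (T : Subgroup X) ⊓ I ≤ P :=
    hPmax _ inf_le_right (T.2.to_le inf_le_left) (le_inf hPT hPI)
  have hTdec : ∀ t ∈ T, ∃ a ∈ P, ∃ j : ℤ, t = a * x ^ j := by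
    intro t ht
    obtain ⟨i, hi, j, hj⟩ := hgen t
    refine ⟨i, hTI ⟨?_, hi⟩, j, hj⟩
    have : i = t * (x ^ j)⁻¹ := by rw [hj]; group
    rw [this]
    exact (T : Subgroup X).mul_mem ht ((T : Subgroup X).inv_mem ((T : Subgroup X).zpow_mem hxT j))
  have hTab : ∀ a ∈ T, ∀ b ∈ T, a * b = b * a := by
    intro s hs s' hs'
    obtain ⟨a, ha, j, rfl⟩ := hTdec s hs
    obtain ⟨b, hb, l, rfl⟩ := hTdec s' hs'
    have h1 : Commute a b := hPab a ha b hb
    have h0 : Commute x b := hxP b hb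
    have h0' : Commute x a := hxP a ha
    have h2 : Commute (x ^ j) b := h0.zpow_left j
    have h3 : Commute a (x ^ l) := h0'.symm.zpow_right l
    have h4 : Commute (x ^ j) (x ^ l) := (Commute.refl x).zpow_zpow j l
    exact ((h1.mul_right h3).mul_left (h2.mul_right h4)).eq
  haveI : IsMulCommutative ↥(T : Subgroup X) :=
    ⟨⟨fun a b => Subtype.ext (hTab a a.2 b b.2)⟩⟩
  -- the averaged element
  obtain ⟨c, hcT, hcfix, hcf⟩ := exists_fixed_prod (T : Subgroup X)
    (Subgroup.normalizer ((T : Subgroup X) : Set X))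
    (fun n hn a ha => (Subgroup.mem_normalizer_iff.1 hn a).1 ha) x hxT
  have hfx : ∀ n ∈ Subgroup.normalizer ((T : Subgroup X) : Set X),
      (QuotientGroup.mk' I) (n * x * n⁻¹) = (QuotientGroup.mk' I) x := by
    intro n _
    obtain ⟨i, hi, j, rfl⟩ := hgen n
    have hi1 : (QuotientGroup.mk' I) i = 1 := (QuotientGroup.eq_one_iff i).2 hi
    simp only [map_mul, map_inv, map_zpow, hi1, one_mul]
    have : Commute ((QuotientGroup.mk' I) x ^ j) ((QuotientGroup.mk' I) x) :=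
      (Commute.refl _).zpow_left j
    rw [this.eq]; group
  have hc := hcf (QuotientGroup.mk' I) hfx
  have hc1 : c ≠ 1 := by
    intro h
    rw [h, map_one] at hc
    set m := (T : Subgroup X).relIndex (Subgroup.normalizer ((T : Subgroup X) : Set X)) with hm
    have hmodd : ¬ 2 ∣ m := by
      intro h2
      have h3 : m ∣ (T : Subgroup X).index :=
        Dvd.intro _ (Subgroup.relIndex_mul_index Subgroup.le_normalizer)
      exact T.not_dvd_index (h2.trans h3)
    have hcop : Nat.Coprime m (2 ^ k) :=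
      Nat.Coprime.pow_right k
        (Nat.coprime_comm.1 ((Nat.Prime.coprime_iff_not_dvd Nat.prime_two).2 hmodd))
    have h1 : orderOf ((QuotientGroup.mk' I) x) ∣ m := orderOf_dvd_of_pow_eq_one hc.symm
    have h2 : orderOf ((QuotientGroup.mk' I) x) ∣ 2 ^ k := by
      apply orderOf_dvd_of_pow_eq_one
      rw [← map_pow, hxk, map_one]
    have h3 : orderOf ((QuotientGroup.mk' I) x) = 1 :=
      Nat.eq_one_of_dvd_coprimes hcop h1 h2
    rw [orderOf_eq_one_iff] at h3
    exact hxI ((QuotientGroup.eq_one_iff x).1 h3)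
  have hIeven : 2 ∣ Nat.card I := by
    have hPcard : Nat.card P ∣ Nat.card I := Subgroup.card_dvd_of_le hPI
    obtain ⟨n, hn⟩ := IsPGroup.iff_card.1 hP2
    have hn0 : n ≠ 0 := by
      rintro rfl
      rw [pow_zero] at hn
      exact hP1 (Subgroup.card_eq_one.1 hn)
    exact (hn ▸ dvd_pow_self 2 hn0 : 2 ∣ Nat.card P).trans hPcard
  obtain ⟨n, hn, hnc⟩ := exists_normalizer_moves T hTab I hI hIeven hC c hcT hc1
  exact hnc (hcfix n hn)

/-- Let `I` be a normal subgroup of the finite group `X` which is simple with trivial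
centralizer and has abelian Sylow 2-subgroups. A 2-element of `X` centralizing a (nontrivial)
Sylow 2-subgroup `P` of `I` lies in `I`. -/
theorem mem_of_centralizes_sylow {X : Type u} [Group X] [Finite X] (I : Subgroup X) [I.Normal]
    (hI : IsSimpleGroup ↥I) (hC : ∀ y : X, (∀ i ∈ I, y * i = i * y) → y = 1)
    (x : X) (k : ℕ) (hxk : x ^ (2 ^ k) = 1)
    (P : Subgroup X) (hPI : P ≤ I) (hP2 : IsPGroup 2 P)
    (hPmax : ∀ Q : Subgroup X, Q ≤ I → IsPGroup 2 Q → P ≤ Q → Q ≤ P)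
    (hPab : ∀ a ∈ P, ∀ b ∈ P, a * b = b * a) (hP1 : P ≠ ⊥)
    (hxP : ∀ a ∈ P, x * a = a * x) : x ∈ I := by
  set X₁ : Subgroup X := I ⊔ Subgroup.zpowers x with hX₁
  have hIX : I ≤ X₁ := le_sup_left
  have hxX : x ∈ X₁ := Subgroup.mem_sup_right (Subgroup.mem_zpowers x)
  have hI₁ : IsSimpleGroup ↥(I.subgroupOf X₁) :=
    (Subgroup.subgroupOfEquivOfLe hIX).isSimpleGroup
  have key : (⟨x, hxX⟩ : ↥X₁) ∈ I.subgroupOf X₁ := by
    apply mem_of_centralizes_sylow_aux (I.subgroupOf X₁) hI₁ ?_ ⟨x, hxX⟩ k ?_ ?_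
      (P.subgroupOf X₁) ?_ ?_ ?_ ?_ ?_ ?_
    · intro y hy
      apply Subtype.ext
      apply hC
      intro i hi
      have := hy ⟨i, hIX hi⟩ (Subgroup.mem_subgroupOf.2 hi)
      exact congrArg Subtype.val this
    · apply Subtype.ext
      simp [hxk]
    · rintro ⟨y, hy⟩
      have hy' : y ∈ ((I ⊔ Subgroup.zpowers x : Subgroup X) : Set X) := hy
      rw [Subgroup.normal_mul] at hy'
      obtain ⟨i, hi, z, hz, rfl⟩ := hy'
      obtain ⟨j, rfl⟩ := Subgroup.mem_zpowers_iff.1 hz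
      refine ⟨⟨i, hIX hi⟩, Subgroup.mem_subgroupOf.2 hi, j, ?_⟩
      apply Subtype.ext
      simp
    · intro a ha
      exact Subgroup.mem_subgroupOf.2 (hPI (Subgroup.mem_subgroupOf.1 ha))
    · exact hP2.comap_subtype
    · intro Q hQI hQ2 hPQ y hy
      rw [Subgroup.mem_subgroupOf]
      apply hPmax (Q.map X₁.subtype) ?_ (hQ2.map _) ?_ (Subgroup.mem_map_of_mem _ hy)
      · rintro _ ⟨q, hq, rfl⟩
        exact Subgroup.mem_subgroupOf.1 (hQI hq)
      · intro a ha
        exact ⟨⟨a, hIX (hPI ha)⟩, hPQ (Subgroup.mem_subgroupOf.2 ha), rfl⟩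
    · intro a ha b hb
      apply Subtype.ext
      exact hPab a (Subgroup.mem_subgroupOf.1 ha) b (Subgroup.mem_subgroupOf.1 hb)
    · intro h
      apply hP1
      rw [Subgroup.eq_bot_iff_forall]
      intro a ha
      have : (⟨a, hIX (hPI ha)⟩ : ↥X₁) ∈ P.subgroupOf X₁ := Subgroup.mem_subgroupOf.2 ha
      rw [h, Subgroup.mem_bot] at this
      exact congrArg Subtype.val this
    · intro a ha
      apply Subtype.ext
      exact hxP a (Subgroup.mem_subgroupOf.1 ha)
  exact Subgroup.mem_subgroupOf.1 key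

end Cfsg.Agent.Lib.Helper19.JankoRee
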