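import Mathlib
import Cfsg.Agent.Lib.Helper19.JRAut

set_option autoImplicit false
set_option linter.unusedSectionVars false
set_option linter.style.haveILetI false

namespace Cfsg.Agent.Lib.Helper19.JankoRee

theorem center_eq_bot_of_simple {G : Type*} [Group G] [IsSimpleGroup G]
    (hG : ¬ IsMulCommutative G) : Subgroup.center G = ⊥ := by
  rcases (inferInstance : (Subgroup.center G).Normal).eq_bot_or_eq_top with h | h
  · exact h
  · exfalso
    apply hG
    refine ⟨⟨fun a b => ?_⟩⟩
    have : a ∈ Subgroup.center G := by rw [h]; trivial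
    exact ((Subgroup.mem_center_iff.1 this) b).symm

theorem eq_one_of_forall_comm {G : Type*} [Group G] [IsSimpleGroup G]
    (hG : ¬ IsMulCommutative G) (y : G) (hy : ∀ i : G, y * i = i * y) : y = 1 := by
  have : y ∈ Subgroup.center G := Subgroup.mem_center_iff.2 (fun g => (hy g).symm)
  rw [center_eq_bot_of_simple hG, Subgroup.mem_bot] at this
  exact this

/-- An automorphism of 2-power order of a simple group with abelian Sylow 2-subgroups which
fixes a Sylow 2-subgroup elementwise is inner. -/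
theorem inner_of_fixes_sylow {G : Type*} [Group G] [Finite G] [IsSimpleGroup G]
    (hG : ¬ IsMulCommutative G) (hab : ∀ S : Sylow 2 G, IsMulCommutative ↥(S : Subgroup G))
    (h2 : 2 ∣ Nat.card G)
    (φ : G ≃* G) (k : ℕ) (hφ : φ ^ (2 ^ k) = 1) (S : Sylow 2 G)
    (hS : ∀ s ∈ (S : Subgroup G), φ s = s) :
    ∃ g : G, ∀ x : G, φ x = g * x * g⁻¹ := by
  haveI : Fact (Nat.Prime 2) := ⟨Nat.prime_two⟩
  have hinj : Function.Injective (MulAut.conj : G →* MulAut G) := by
    rw [injective_iff_map_eq_one]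
    intro g hg
    apply eq_one_of_forall_comm hG
    intro i
    have := congrArg (fun ψ : MulAut G => ψ i) hg
    simp only [MulAut.conj_apply, MulAut.one_apply] at this
    calc g * i = (g * i * g⁻¹) * g := by group
      _ = i * g := by rw [this]
  set I : Subgroup (MulAut G) := (MulAut.conj : G →* MulAut G).range with hI
  have hconj : ∀ (ψ : MulAut G) (g : G), ψ * MulAut.conj g * ψ⁻¹ = MulAut.conj (ψ g) := by
    intro ψ g
    ext h
    simp [MulAut.mul_apply, MulAut.conj_apply]
  haveI hIn : I.Normal := by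
    constructor
    rintro _ ⟨g, rfl⟩ ψ
    exact ⟨ψ g, (hconj ψ g).symm⟩
  have hIs : IsSimpleGroup ↥I := (MonoidHom.ofInjective hinj).symm.isSimpleGroup
  have key : (φ : MulAut G) ∈ I := by
    apply mem_of_centralizes_sylow I hIs ?_ (φ : MulAut G) k hφ
      ((S : Subgroup G).map (MulAut.conj : G →* MulAut G)) ?_ (S.2.map _) ?_ ?_ ?_ ?_
    · intro ψ hψ
      ext g
      rw [MulAut.one_apply]
      have h1 : g⁻¹ * ψ g = 1 := by
        apply eq_one_of_forall_comm hG
        intro i
        obtain ⟨j, rfl⟩ := ψ.surjective i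
        have h3 := hψ (MulAut.conj g) ⟨g, rfl⟩
        have h4 := congrArg (fun ψ' : MulAut G => ψ' j) h3
        simp only [MulAut.mul_apply, MulAut.conj_apply, map_mul, map_inv] at h4
        calc g⁻¹ * ψ g * ψ j = g⁻¹ * (ψ g * ψ j * (ψ g)⁻¹) * ψ g := by group
          _ = g⁻¹ * (g * ψ j * g⁻¹) * ψ g := by rw [h4]
          _ = ψ j * (g⁻¹ * ψ g) := by group
      calc ψ g = g * (g⁻¹ * ψ g) := by group
        _ = g := by rw [h1, mul_one]
    · rintro _ ⟨s, _, rfl⟩
      exact ⟨s, rfl⟩
    · intro Q hQI hQ2 hPQ q hq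
      obtain ⟨g, rfl⟩ := hQI hq
      refine ⟨g, ?_, rfl⟩
      have h1 : (S : Subgroup G) ≤ Q.comap (MulAut.conj : G →* MulAut G) := by
        intro s hs
        exact hPQ ⟨s, hs, rfl⟩
      have h2 : IsPGroup 2 (Q.comap (MulAut.conj : G →* MulAut G)) :=
        hQ2.comap_of_injective _ hinj
      have h3 := S.is_maximal' h2 h1
      have : g ∈ Q.comap (MulAut.conj : G →* MulAut G) := hq
      rw [h3] at this
      exact this
    · rintro _ ⟨a, ha, rfl⟩ _ ⟨b, hb, rfl⟩
      haveI := hab S
      rw [← map_mul, ← map_mul]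
      congr 1
      exact congrArg Subtype.val (mul_comm' (⟨a, ha⟩ : ↥(S : Subgroup G)) ⟨b, hb⟩)
    · intro h
      have hS1 : (S : Subgroup G) ≠ ⊥ := S.ne_bot_of_dvd_card h2
      apply hS1
      rw [Subgroup.eq_bot_iff_forall]
      intro s hs
      have : MulAut.conj s ∈ (S : Subgroup G).map (MulAut.conj : G →* MulAut G) := ⟨s, hs, rfl⟩
      rw [h, Subgroup.mem_bot] at this
      exact hinj (this.trans (map_one _).symm)
    · rintro _ ⟨s, hs, rfl⟩
      ext g
      simp only [MulAut.mul_apply, MulAut.conj_apply, map_mul, map_inv, hS s hs]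
  obtain ⟨g, hg⟩ := key
  refine ⟨g, fun x => ?_⟩
  rw [← hg, MulAut.conj_apply]

end Cfsg.Agent.Lib.Helper19.JankoRee
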