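import Mathlib

set_option autoImplicit false
set_option linter.style.haveILetI false
set_option linter.unusedSectionVars false

namespace Cfsg.Agent.Lib.Helper19.PSL2

variable {F : Type*} [Field F] [Fintype F]

theorem ringChar_ne_two (h2 : (2 : F) ≠ 0) : ringChar F ≠ 2 := by
  intro h
  apply h2
  have := ringChar.Nat.cast_ringChar (R := F)
  rw [h] at this
  exact_mod_cast this

theorem ringChar_eq_two (h2 : (2 : F) = 0) : ringChar F = 2 := by
  have h : ringChar F ∣ 2 := ringChar.dvd (R := F) (x := 2) (by exact_mod_cast h2)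
  rcases (Nat.dvd_prime Nat.prime_two).1 h with h1 | h1
  · exact absurd h1 (CharP.ringChar_ne_one)
  · exact h1

theorem sq_or_neg_sq (hm1 : ¬ IsSquare (-1 : F)) (a : F) : IsSquare a ∨ IsSquare (-a) := by
  classical
  by_cases ha : a = 0
  · left; rw [ha]; exact ⟨0, by simp⟩
  by_cases hs : IsSquare a
  · left; exact hs
  right
  have h1 : quadraticChar F a = -1 := quadraticChar_neg_one_iff_not_isSquare.2 hs
  have h2 : quadraticChar F (-1) = -1 := quadraticChar_neg_one_iff_not_isSquare.2 hm1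
  have h3 : quadraticChar F (-a) = 1 := by
    rw [show -a = (-1) * a by ring, map_mul, h1, h2]
    norm_num
  exact (quadraticChar_one_iff_isSquare (neg_ne_zero.2 ha)).1 h3

theorem exists_ne_three (hF : 4 ≤ Fintype.card F) (r₁ r₂ r₃ : F) :
    ∃ c : F, c ≠ r₁ ∧ c ≠ r₂ ∧ c ≠ r₃ := by
  classical
  by_contra h
  push Not at h
  have hsub : (Finset.univ : Finset F) ⊆ {r₁, r₂, r₃} := by
    intro c _
    by_cases h1 : c = r₁
    · simp [h1]
    by_cases h2 : c = r₂
    · simp [h2]
    have := h c h1 h2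
    simp [this]
  have hc := Finset.card_le_card hsub
  have h3 : ({r₁, r₂, r₃} : Finset F).card ≤ 3 := Finset.card_le_three
  rw [Finset.card_univ] at hc
  omega

open Polynomial in
theorem exists_sq_add_sq (h2 : (2 : F) ≠ 0) (δ : F) : ∃ s b : F, s ^ 2 + b ^ 2 = δ := by
  have hodd : Fintype.card F % 2 = 1 := FiniteField.odd_card_of_char_ne_two (ringChar_ne_two h2)
  have hf : (X ^ 2 - C δ : F[X]).degree = 2 := by
    rw [Polynomial.degree_sub_C (by rw [Polynomial.degree_X_pow]; norm_num), Polynomial.degree_X_pow]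
    rfl
  have hg : (X ^ 2 : F[X]).degree = 2 := by rw [Polynomial.degree_X_pow]; rfl
  obtain ⟨s, b, h⟩ := FiniteField.exists_root_sum_quadratic hf hg hodd
  refine ⟨s, b, ?_⟩
  simp only [Polynomial.eval_sub, Polynomial.eval_pow, Polynomial.eval_X, Polynomial.eval_C] at h
  linear_combination h

/-- the arithmetic heart of the case `q ≡ 3 (mod 4)` -/
theorem e3_field (hF : 4 ≤ Fintype.card F) (hm1 : ¬ IsSquare (-1 : F)) (h2 : (2 : F) ≠ 0) (τ : F)
    (hτ : ¬ IsSquare (τ ^ 2 - 4)) :
    ∃ ε u f : F, (ε = 1 ∨ ε = -1) ∧ u ≠ 0 ∧ u ^ 2 ≠ 1 ∧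
      f ^ 2 = (2 + ε * τ) * (2 - ε * τ - (u + u⁻¹) ^ 2) := by
  obtain ⟨k, hk⟩ : IsSquare (-(τ ^ 2 - 4)) := (sq_or_neg_sq hm1 _).resolve_left hτ
  have hk0 : k ≠ 0 := by
    rintro rfl
    apply hτ
    exact ⟨0, by linear_combination -hk⟩
  have h4 : (4 : F) ≠ 0 := by
    have : (4 : F) = 2 * 2 := by norm_num
    rw [this]
    exact mul_ne_zero h2 h2
  have h2p : 2 + τ ≠ 0 := by
    intro h
    apply hτ
    exact ⟨0, by linear_combination (τ - 2) * h⟩
  have key : ∃ m d : F, m ≠ 0 ∧ d ≠ 0 ∧ -(2 + τ) * (m ^ 2 + τ * m + 1) = d ^ 2 := by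
    rcases sq_or_neg_sq hm1 (2 + τ) with ⟨c, hc⟩ | ⟨c, hc⟩
    · have hc0 : c ≠ 0 := by
        rintro rfl
        apply h2p
        rw [hc]; ring
      obtain ⟨s, b, hsb⟩ := exists_sq_add_sq h2 (τ ^ 2 - 4)
      have hb0 : b ≠ 0 := by
        rintro rfl
        apply hτ
        exact ⟨s, by linear_combination -hsb⟩
      obtain ⟨m, hm⟩ : ∃ m : F, 2 * m = s - τ := ⟨(s - τ) / 2, by field_simp⟩
      obtain ⟨d, hd⟩ : ∃ d : F, 2 * d = c * b := ⟨c * b / 2, by field_simp⟩
      refine ⟨m, d, ?_, ?_, ?_⟩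
      · rintro rfl
        apply hm1
        obtain ⟨b', hb'⟩ : ∃ b' : F, 2 * b' = b := ⟨b / 2, by field_simp⟩
        refine ⟨b', ?_⟩
        apply mul_left_cancel₀ h4
        have hs : s = τ := by linear_combination -hm
        rw [hs] at hsb
        linear_combination -hsb - (2 * b' + b) * hb'
      · rintro rfl
        have : c * b = 0 := by linear_combination -hd
        rcases mul_eq_zero.1 this with h | h
        · exact hc0 h
        · exact hb0 h
      · apply mul_left_cancel₀ h4
        linear_combination (-(2 + τ) * (2 * m + s + τ)) * hm - (2 * d + c * b) * hd -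
          (2 + τ) * hsb + b ^ 2 * hc
    · have hc0 : c ≠ 0 := by
        rintro rfl
        apply h2p
        have : -(2 + τ) = 0 := by rw [hc]; ring
        exact neg_eq_zero.1 this
      obtain ⟨r, hr1, hr2, hr3⟩ := exists_ne_three hF 1 (-1) (τ / 2)
      have hden : 2 * r - τ ≠ 0 := by
        intro h
        apply hr3
        field_simp
        linear_combination h
      have hr21 : 1 - r ^ 2 ≠ 0 := by
        intro h
        have : (r - 1) * (r + 1) = 0 := by linear_combination -h
        rcases mul_eq_zero.1 this with h' | h'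
        · exact hr1 (sub_eq_zero.1 h')
        · exact hr2 (eq_neg_of_add_eq_zero_left h')
      obtain ⟨m, hm⟩ : ∃ m : F, m * (2 * r - τ) = 1 - r ^ 2 :=
        ⟨(1 - r ^ 2) / (2 * r - τ), div_mul_cancel₀ _ hden⟩
      refine ⟨m, c * (m + r), ?_, ?_, ?_⟩
      · rintro rfl
        apply hr21
        linear_combination -hm
      · apply mul_ne_zero hc0
        intro h
        apply hτ
        exact ⟨2 * m + τ, by linear_combination (-4 * (m + r)) * h + 4 * hm⟩
      · linear_combination (m + r) ^ 2 * hc + (2 + τ) * hm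
  obtain ⟨m, d, hm0, hd0, hmd⟩ := key
  rcases sq_or_neg_sq hm1 m with ⟨w, hw⟩ | ⟨w, hw⟩
  · have hw0 : w ≠ 0 := by
      rintro rfl
      apply hm0
      rw [hw]; ring
    obtain ⟨f, hf⟩ : ∃ f : F, f * w = d := ⟨d / w, by field_simp⟩
    refine ⟨1, w, f, Or.inl rfl, hw0, ?_, ?_⟩
    · intro hw1
      apply hm1
      obtain ⟨e, he⟩ : ∃ e : F, e * (2 + τ) = d := ⟨d / (2 + τ), by field_simp⟩
      refine ⟨e, ?_⟩
      have hm1' : m = 1 := by rw [hw]; linear_combination hw1
      rw [hm1'] at hmd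
      apply mul_left_cancel₀ (pow_ne_zero 2 h2p)
      linear_combination hmd - (e * (2 + τ) + d) * he
    · subst hw
      field_simp
      linear_combination (f * w + d) * hf - hmd
  · have hw0 : w ≠ 0 := by
      rintro rfl
      apply hm0
      have : -m = 0 := by rw [hw]; ring
      exact neg_eq_zero.1 this
    obtain ⟨f, hf⟩ : ∃ f : F, f * (w * (2 + τ)) = d * k :=
      ⟨d * k / (w * (2 + τ)), by field_simp⟩
    have hm' : m = -(w * w) := by linear_combination -hw
    refine ⟨-1, w, f, Or.inr rfl, hw0, ?_, ?_⟩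
    · intro hw1
      apply hm1
      obtain ⟨e, he⟩ : ∃ e : F, e * k = d := ⟨d / k, by field_simp⟩
      refine ⟨e, ?_⟩
      have hm1' : m = -1 := by rw [hm']; linear_combination -hw1
      rw [hm1'] at hmd
      apply mul_left_cancel₀ (pow_ne_zero 2 hk0)
      linear_combination hk + hmd - (e * k + d) * he
    · subst hm'
      field_simp
      apply mul_left_cancel₀ (pow_ne_zero 2 h2p)
      linear_combination (f * (w * (2 + τ)) + d * k) * hf - k ^ 2 * hmd -
        ((2 + τ) * (τ * w ^ 2 - w ^ 4 - 1)) * hk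

end Cfsg.Agent.Lib.Helper19.PSL2
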