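import Mathlib

set_option autoImplicit false
set_option linter.style.haveILetI false

namespace Cfsg.Agent.Lib.Helper19.PSL2

open Matrix

variable {F : Type*} [Field F]

/-- Cayley-Hamilton for 2 x 2 matrices -/
theorem ch2 (A : Matrix (Fin 2) (Fin 2) F) :
    A * A = A.trace • A - A.det • (1 : Matrix (Fin 2) (Fin 2) F) := by
  ext i j
  fin_cases i <;> fin_cases j <;>
    simp [Matrix.mul_apply, Fin.sum_univ_two, Matrix.trace_fin_two, Matrix.det_fin_two] <;> ring

theorem det_add2 (X Y : Matrix (Fin 2) (Fin 2) F) :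
    (X + Y).det = X.det + Y.det + X.trace * Y.trace - (X * Y).trace := by
  simp [Matrix.mul_apply, Fin.sum_univ_two, Matrix.trace_fin_two, Matrix.det_fin_two]
  ring

/-- determinant of `α + β g` -/
theorem det_lin (g : Matrix (Fin 2) (Fin 2) F) (α β : F) :
    (α • (1 : Matrix (Fin 2) (Fin 2) F) + β • g).det = α ^ 2 + α * β * g.trace + β ^ 2 * g.det := by
  simp [Matrix.trace_fin_two, Matrix.det_fin_two]
  ring

theorem trace_lin (g : Matrix (Fin 2) (Fin 2) F) (α β : F) :
    (α • (1 : Matrix (Fin 2) (Fin 2) F) + β • g).trace = 2 * α + β * g.trace := by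
  simp [Matrix.trace_fin_two]
  ring

/-- every power of `g` is a linear combination of `1` and `g` -/
theorem pow_lin (g : Matrix (Fin 2) (Fin 2) F) (k : ℕ) :
    ∃ α β : F, g ^ k = α • (1 : Matrix (Fin 2) (Fin 2) F) + β • g := by
  induction k with
  | zero => exact ⟨1, 0, by simp⟩
  | succ k ih =>
    obtain ⟨α, β, h⟩ := ih
    refine ⟨-(β * g.det), α + β * g.trace, ?_⟩
    rw [pow_succ, h, add_mul, smul_mul_assoc, one_mul, smul_mul_assoc, ch2 g]
    module

section SL

local notation "SL2" => Matrix.SpecialLinearGroup (Fin 2) F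
local notation "PSL2" => Matrix.ProjectiveSpecialLinearGroup (Fin 2) F

theorem scalar_neg_one : (Matrix.scalar (Fin 2)) (-1 : F) = -1 := by
  ext i j
  fin_cases i <;> fin_cases j <;> simp

theorem mk_eq_one_iff (A : SL2) :
    (QuotientGroup.mk A : PSL2) = 1 ↔
      (A : Matrix (Fin 2) (Fin 2) F) = 1 ∨ (A : Matrix (Fin 2) (Fin 2) F) = -1 := by
  rw [QuotientGroup.eq_one_iff, Matrix.SpecialLinearGroup.mem_center_iff]
  constructor
  · rintro ⟨r, hr, hA⟩
    simp only [Fintype.card_fin] at hr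
    have : (r - 1) * (r + 1) = 0 := by linear_combination hr
    rcases mul_eq_zero.1 this with h | h
    · left
      rw [← hA, sub_eq_zero.1 h]
      simp
    · right
      rw [← hA, eq_neg_of_add_eq_zero_left h]
      exact scalar_neg_one
  · rintro (h | h)
    · exact ⟨1, by simp, by simp [h]⟩
    · exact ⟨-1, by simp, by rw [h]; exact scalar_neg_one⟩

theorem coe_mul_self (A : SL2) (h : (A : Matrix (Fin 2) (Fin 2) F).trace = 0) :
    (A : Matrix (Fin 2) (Fin 2) F) * (A : Matrix (Fin 2) (Fin 2) F) = -1 := by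
  rw [ch2, h, A.det_coe]
  simp

/-- an element of `SL₂` of trace zero gives an element of order at most two of `PSL₂` -/
theorem mk_mul_self (A : SL2) (h : (A : Matrix (Fin 2) (Fin 2) F).trace = 0) :
    (QuotientGroup.mk A : PSL2) * QuotientGroup.mk A = 1 := by
  rw [← QuotientGroup.mk_mul, mk_eq_one_iff]
  right
  rw [Matrix.SpecialLinearGroup.coe_mul, coe_mul_self A h]

theorem trace_eq_zero_of_mk (A : SL2) (h1 : (QuotientGroup.mk A : PSL2) ≠ 1)
    (h2 : (QuotientGroup.mk A : PSL2) * QuotientGroup.mk A = 1) :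
    (A : Matrix (Fin 2) (Fin 2) F).trace = 0 := by
  rw [← QuotientGroup.mk_mul, mk_eq_one_iff, Matrix.SpecialLinearGroup.coe_mul, ch2, A.det_coe,
    one_smul] at h2
  by_contra hne
  apply h1
  rw [mk_eq_one_iff]
  -- A is a scalar matrix
  have hsc : ∃ r : F, (A : Matrix (Fin 2) (Fin 2) F) = r • (1 : Matrix (Fin 2) (Fin 2) F) := by
    rcases h2 with h2 | h2
    · refine ⟨2 / (A : Matrix (Fin 2) (Fin 2) F).trace, ?_⟩
      have h3 : (A : Matrix (Fin 2) (Fin 2) F).trace • (A : Matrix (Fin 2) (Fin 2) F) =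
          (2 : F) • (1 : Matrix (Fin 2) (Fin 2) F) := by
        rw [sub_eq_iff_eq_add.1 h2, two_smul]
      calc (A : Matrix (Fin 2) (Fin 2) F)
          = ((A : Matrix (Fin 2) (Fin 2) F).trace)⁻¹ •
              ((A : Matrix (Fin 2) (Fin 2) F).trace • (A : Matrix (Fin 2) (Fin 2) F)) := by
            rw [smul_smul, inv_mul_cancel₀ hne, one_smul]
        _ = _ := by rw [h3, smul_smul, div_eq_inv_mul]
    · refine ⟨0, ?_⟩
      have h3 : (A : Matrix (Fin 2) (Fin 2) F).trace • (A : Matrix (Fin 2) (Fin 2) F) = 0 := by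
        rw [sub_eq_iff_eq_add.1 h2]; simp
      rcases smul_eq_zero.1 h3 with h | h
      · exact absurd h hne
      · rw [h]; simp
  obtain ⟨r, hr⟩ := hsc
  have hdet := A.det_coe
  rw [hr] at hdet
  simp only [Matrix.det_smul, Fintype.card_fin, Matrix.det_one, mul_one] at hdet
  have : (r - 1) * (r + 1) = 0 := by linear_combination hdet
  rcases mul_eq_zero.1 this with h | h
  · left
    rw [hr, sub_eq_zero.1 h, one_smul]
  · right
    rw [hr, eq_neg_of_add_eq_zero_left h]
    simp

theorem orderOf_mk_eq_two (A : SL2) (h : (A : Matrix (Fin 2) (Fin 2) F).trace = 0)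
    (h1 : (QuotientGroup.mk A : PSL2) ≠ 1) : orderOf (QuotientGroup.mk A : PSL2) = 2 := by
  haveI : Fact (Nat.Prime 2) := ⟨Nat.prime_two⟩
  apply orderOf_eq_prime
  · rw [pow_two]; exact mk_mul_self A h
  · exact h1

theorem exists_lift_of_orderOf (x : PSL2) (hx : orderOf x = 2) :
    ∃ A : SL2, (QuotientGroup.mk A : PSL2) = x ∧ (A : Matrix (Fin 2) (Fin 2) F).trace = 0 := by
  obtain ⟨A, rfl⟩ := QuotientGroup.mk_surjective x
  refine ⟨A, rfl, ?_⟩
  have h2 : (QuotientGroup.mk A : PSL2) ^ 2 = 1 := by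
    have := pow_orderOf_eq_one (QuotientGroup.mk A : PSL2)
    rwa [hx] at this
  have h1 : (QuotientGroup.mk A : PSL2) ≠ 1 := by
    intro h
    rw [h, orderOf_one] at hx
    omega
  rw [pow_two] at h2
  exact trace_eq_zero_of_mk A h1 h2

end SL

end Cfsg.Agent.Lib.Helper19.PSL2
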