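import Mathlib
import Cfsg.Agent.Lib.Helper19.PSL2Basic

set_option autoImplicit false
set_option linter.style.haveILetI false

namespace Cfsg.Agent.Lib.Helper19.PSL2

open Matrix

/-- an element none of whose powers is an involution has odd order -/
theorem odd_orderOf_of_pow {G : Type*} [Group G] (x : G) (hfin : IsOfFinOrder x)
    (h : ∀ k : ℕ, (x ^ k) * (x ^ k) = 1 → x ^ k = 1) : Odd (orderOf x) := by
  by_contra hodd
  rw [Nat.not_odd_iff_even] at hodd
  obtain ⟨k, hk⟩ := hodd
  have hpos : 0 < orderOf x := hfin.orderOf_pos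
  have h1 : x ^ k * x ^ k = 1 := by rw [← pow_add, ← hk, pow_orderOf_eq_one]
  have h2 := h k h1
  have h3 := orderOf_dvd_of_pow_eq_one h2
  have := Nat.le_of_dvd (by omega) h3
  omega

/-- two involutions whose product has odd order are conjugate -/
theorem isConj_of_odd {G : Type*} [Group G] (x z : G) (hx : x * x = 1) (hz : z * z = 1)
    (h : Odd (orderOf (x * z))) : IsConj x z := by
  obtain ⟨j, hj⟩ := h
  have hg : (x * z) ^ (2 * j + 1) = 1 := by rw [← hj]; exact pow_orderOf_eq_one _
  have hxinv : x⁻¹ = x := inv_eq_of_mul_eq_one_left hx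
  have hzinv : z⁻¹ = z := inv_eq_of_mul_eq_one_left hz
  have hconj : ∀ k : ℕ, x * (z * x) ^ k = (x * z) ^ k * x := by
    intro k
    induction k with
    | zero => simp
    | succ k ih =>
      rw [pow_succ, ← mul_assoc, ih, pow_succ]
      simp only [mul_assoc]
  rw [isConj_iff]
  refine ⟨(x * z) ^ j, ?_⟩
  have hinvpow : ((x * z) ^ j)⁻¹ = (z * x) ^ j := by
    rw [← inv_pow]
    congr 1
    rw [_root_.mul_inv_rev, hxinv, hzinv]
  rw [hinvpow, mul_assoc, hconj j, ← mul_assoc, ← pow_add]
  have h3 : (x * z) ^ (j + j) * (x * z) = 1 := by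
    rw [← pow_succ]
    rw [show j + j + 1 = 2 * j + 1 by ring]
    exact hg
  have h4 : (x * z) ^ (j + j) = (x * z)⁻¹ := eq_inv_of_mul_eq_one_left h3
  rw [h4, _root_.mul_inv_rev, hxinv, hzinv, mul_assoc, hx, mul_one]

variable {F : Type*} [Field F] [Fintype F]

local notation "SL2" => Matrix.SpecialLinearGroup (Fin 2) F
local notation "PSL2" => Matrix.ProjectiveSpecialLinearGroup (Fin 2) F

/-- the uniform criterion for odd order in `PSL₂` -/
theorem odd_orderOf_mk (g : SL2)
    (hno : ∀ α β : F, α ^ 2 + α * β * (g : Matrix (Fin 2) (Fin 2) F).trace + β ^ 2 = 1 →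
      2 * α + β * (g : Matrix (Fin 2) (Fin 2) F).trace = 0 → β = 0) :
    Odd (orderOf (QuotientGroup.mk g : PSL2)) := by
  classical
  haveI : Finite PSL2 := inferInstance
  apply odd_orderOf_of_pow _ (isOfFinOrder_of_finite _)
  intro k hk
  rw [← QuotientGroup.mk_pow] at hk ⊢
  by_contra hne
  have htr := trace_eq_zero_of_mk (g ^ k) hne hk
  have hdet := (g ^ k).det_coe
  rw [Matrix.SpecialLinearGroup.coe_pow] at htr hdet
  obtain ⟨α, β, h⟩ := pow_lin (g : Matrix (Fin 2) (Fin 2) F) k
  rw [h, trace_lin] at htr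
  rw [h, det_lin, g.det_coe, mul_one] at hdet
  have hβ := hno α β hdet htr
  rw [hβ] at hdet h
  apply hne
  rw [mk_eq_one_iff, Matrix.SpecialLinearGroup.coe_pow, h]
  have : (α - 1) * (α + 1) = 0 := by linear_combination hdet
  rcases mul_eq_zero.1 this with h' | h'
  · left
    rw [sub_eq_zero.1 h']
    simp
  · right
    rw [eq_neg_of_add_eq_zero_left h']
    simp

end Cfsg.Agent.Lib.Helper19.PSL2
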