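import Mathlib
import Cfsg.Agent.Lib.Helper19.PSL2Odd

set_option autoImplicit false
set_option linter.style.haveILetI false

namespace Cfsg.Agent.Lib.Helper19.PSL2

open Matrix

variable {F : Type*} [Field F]

section mat

variable (X Y : Matrix (Fin 2) (Fin 2) F)

theorem trace_neg_one2 : (-1 : Matrix (Fin 2) (Fin 2) F).trace = -2 := by
  simp

theorem trace_mul_comm3 (hX2 : X * X = -1) (hY : Y.trace = 0) :
    (X * (X * Y - Y * X)).trace = 0 := by
  rw [mul_sub, Matrix.trace_sub, ← mul_assoc, hX2, Matrix.trace_mul_comm X (Y * X), mul_assoc, hX2]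
  simp [hY]

theorem trace_mul_comm4 (hY2 : Y * Y = -1) (hX : X.trace = 0) :
    (Y * (X * Y - Y * X)).trace = 0 := by
  rw [mul_sub, Matrix.trace_sub, ← mul_assoc Y Y X, hY2, Matrix.trace_mul_comm Y (X * Y),
    mul_assoc, hY2]
  simp [hX]

theorem det_neg2 (Z : Matrix (Fin 2) (Fin 2) F) : (-Z).det = Z.det := by
  rw [Matrix.det_neg]
  simp

theorem det_comm2 (hX2 : X * X = -1) (hY2 : Y * Y = -1) (hXd : X.det = 1) (hYd : Y.det = 1) :
    (X * Y - Y * X).det = 4 - (X * Y).trace ^ 2 := by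
  have h1 : (X * Y * -(Y * X)).trace = -2 := by
    have : X * Y * -(Y * X) = -(X * (Y * Y) * X) := by
      simp only [mul_neg, mul_assoc]
    rw [this, hY2]
    simp only [mul_neg, mul_one, neg_mul, neg_neg, hX2, trace_neg_one2]
  have h2 : (X * Y).det = 1 := by rw [Matrix.det_mul, hXd, hYd, mul_one]
  have h3 : (-(Y * X)).det = 1 := by rw [det_neg2, Matrix.det_mul, hXd, hYd, mul_one]
  have h4 : (-(Y * X)).trace = -(X * Y).trace := by
    rw [Matrix.trace_neg, Matrix.trace_mul_comm Y X]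
  rw [sub_eq_add_neg, det_add2, h1, h2, h3, h4]
  ring

end mat

section SL

local notation "SL2" => Matrix.SpecialLinearGroup (Fin 2) F

/-- the basic construction of a further trace-zero element from two given ones -/
theorem nbr (A B : SL2) (hA : (A : Matrix (Fin 2) (Fin 2) F).trace = 0)
    (hB : (B : Matrix (Fin 2) (Fin 2) F).trace = 0) (a b s : F)
    (h : a ^ 2 + b ^ 2 - a * b * ((A : Matrix (Fin 2) (Fin 2) F) * (B : Matrix (Fin 2) (Fin 2) F)).trace +
      s ^ 2 * (4 - ((A : Matrix (Fin 2) (Fin 2) F) * (B : Matrix (Fin 2) (Fin 2) F)).trace ^ 2) = 1) :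
    ∃ C : SL2, (C : Matrix (Fin 2) (Fin 2) F).trace = 0 ∧
      ((A * C : SL2) : Matrix (Fin 2) (Fin 2) F).trace =
        -2 * a + b * ((A : Matrix (Fin 2) (Fin 2) F) * (B : Matrix (Fin 2) (Fin 2) F)).trace ∧
      ((C * B : SL2) : Matrix (Fin 2) (Fin 2) F).trace =
        a * ((A : Matrix (Fin 2) (Fin 2) F) * (B : Matrix (Fin 2) (Fin 2) F)).trace - 2 * b := by
  set X : Matrix (Fin 2) (Fin 2) F := (A : Matrix (Fin 2) (Fin 2) F) with hX
  set Y : Matrix (Fin 2) (Fin 2) F := (B : Matrix (Fin 2) (Fin 2) F) with hY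
  have hX2 : X * X = -1 := coe_mul_self A hA
  have hY2 : Y * Y = -1 := coe_mul_self B hB
  have hXd : X.det = 1 := A.det_coe
  have hYd : Y.det = 1 := B.det_coe
  set N : Matrix (Fin 2) (Fin 2) F := X * Y - Y * X with hN
  have trN : N.trace = 0 := by
    rw [hN, Matrix.trace_sub, Matrix.trace_mul_comm X Y, sub_self]
  have trXN : (X * N).trace = 0 := trace_mul_comm3 X Y hX2 hB
  have trYN : (Y * N).trace = 0 := trace_mul_comm4 X Y hY2 hA
  have detN : N.det = 4 - (X * Y).trace ^ 2 := det_comm2 X Y hX2 hY2 hXd hYd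
  have trXX : (X * X).trace = -2 := by rw [hX2, trace_neg_one2]
  have trYY : (Y * Y).trace = -2 := by rw [hY2, trace_neg_one2]
  have hdet : (a • X + b • Y + s • N).det = 1 := by
    rw [det_add2, det_add2]
    simp only [Matrix.det_smul, Fintype.card_fin, Matrix.trace_add, Matrix.trace_smul, smul_eq_mul,
      Matrix.smul_mul, Matrix.mul_smul, add_mul, hXd, hYd, detN, trN, trXN, trYN, hA, hB,
      mul_zero, add_zero, mul_one, sub_zero]
    linear_combination h
  refine ⟨⟨a • X + b • Y + s • N, hdet⟩, ?_, ?_, ?_⟩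
  · show (a • X + b • Y + s • N).trace = 0
    simp only [Matrix.trace_add, Matrix.trace_smul, smul_eq_mul, trN, hA, hB, mul_zero, add_zero]
  · show (X * (a • X + b • Y + s • N)).trace = _
    simp only [mul_add, Matrix.mul_smul, Matrix.trace_add, Matrix.trace_smul, smul_eq_mul, trXX,
      trXN]
    ring
  · show ((a • X + b • Y + s • N) * Y).trace = _
    simp only [add_mul, Matrix.smul_mul, Matrix.trace_add, Matrix.trace_smul, smul_eq_mul, trYY]
    rw [Matrix.trace_mul_comm N Y, trYN]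
    ring

end SL

end Cfsg.Agent.Lib.Helper19.PSL2
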