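import Mathlib
import Cfsg.Agent.Lib.Helper19.PSL2Nbr
import Cfsg.Agent.Lib.Helper19.PSL2Field

set_option autoImplicit false
set_option linter.style.haveILetI false
set_option linter.unusedSectionVars false

namespace Cfsg.Agent.Lib.Helper19.PSL2

open Matrix

variable {F : Type*} [Field F] [Fintype F]

local notation "SL2" => Matrix.SpecialLinearGroup (Fin 2) F
local notation "PSL2" => Matrix.ProjectiveSpecialLinearGroup (Fin 2) F
local notation "M2" => Matrix (Fin 2) (Fin 2) F

theorem coe_eq_of_mk_eq (A C : SL2) (h : (QuotientGroup.mk A : PSL2) = QuotientGroup.mk C) :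
    (C : M2) = (A : M2) ∨ (C : M2) = -(A : M2) := by
  have h1 : (QuotientGroup.mk (A⁻¹ * C) : PSL2) = 1 := by
    rw [QuotientGroup.mk_mul, QuotientGroup.mk_inv, h, inv_mul_cancel]
  rw [mk_eq_one_iff] at h1
  have hC : (C : M2) = (A : M2) * ((A⁻¹ * C : SL2) : M2) := by
    rw [← Matrix.SpecialLinearGroup.coe_mul, mul_inv_cancel_left]
  rcases h1 with h1 | h1
  · left; rw [hC, h1, mul_one]
  · right; rw [hC, h1, mul_neg, mul_one]

theorem trace_of_mk_eq_left (A C : SL2) (hA : (A : M2).trace = 0)
    (h : (QuotientGroup.mk A : PSL2) = QuotientGroup.mk C) :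
    ((A * C : SL2) : M2).trace = 2 ∨ ((A * C : SL2) : M2).trace = -2 := by
  rw [Matrix.SpecialLinearGroup.coe_mul]
  rcases coe_eq_of_mk_eq A C h with h1 | h1
  · right
    rw [h1, coe_mul_self A hA, trace_neg_one2]
  · left
    rw [h1, mul_neg, coe_mul_self A hA, neg_neg, Matrix.trace_one]
    simp

theorem trace_of_mk_eq_right (B C : SL2) (hB : (B : M2).trace = 0)
    (h : (QuotientGroup.mk B : PSL2) = QuotientGroup.mk C) :
    ((C * B : SL2) : M2).trace = 2 ∨ ((C * B : SL2) : M2).trace = -2 := by
  rw [Matrix.SpecialLinearGroup.coe_mul]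
  rcases coe_eq_of_mk_eq B C h with h1 | h1
  · right
    rw [h1, coe_mul_self B hB, trace_neg_one2]
  · left
    rw [h1, neg_mul, coe_mul_self B hB, neg_neg, Matrix.trace_one]
    simp

theorem mk_ne_one_of_trace (h2 : (2 : F) ≠ 0) (C : SL2) (hC : (C : M2).trace = 0) :
    (QuotientGroup.mk C : PSL2) ≠ 1 := by
  intro h
  rw [mk_eq_one_iff] at h
  rcases h with h | h
  · rw [h, Matrix.trace_one] at hC
    simp at hC
    exact h2 hC
  · rw [h, trace_neg_one2] at hC
    exact h2 (neg_eq_zero.1 hC)

theorem odd_of_trace_two (h2 : (2 : F) ≠ 0) (g : SL2)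
    (h : (g : M2).trace = 2 ∨ (g : M2).trace = -2) :
    Odd (orderOf (QuotientGroup.mk g : PSL2)) := by
  apply odd_orderOf_mk
  intro α β h1 h3
  exfalso
  rcases h with h | h
  · rw [h] at h1 h3
    have h4 : α + β = 0 := by
      have : (2 : F) * (α + β) = 0 := by linear_combination h3
      rcases mul_eq_zero.1 this with h' | h'
      · exact absurd h' h2
      · exact h'
    have : (1 : F) = 0 := by linear_combination -h1 + (α + β) * h4
    exact one_ne_zero this
  · rw [h] at h1 h3
    have h4 : α - β = 0 := by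
      have : (2 : F) * (α - β) = 0 := by linear_combination h3
      rcases mul_eq_zero.1 this with h' | h'
      · exact absurd h' h2
      · exact h'
    have : (1 : F) = 0 := by linear_combination -h1 + (α - β) * h4
    exact one_ne_zero this

theorem odd_of_trace_split (hm1 : ¬ IsSquare (-1 : F)) (g : SL2) (u v : F) (huv : u * v = 1)
    (h : (g : M2).trace = u + v) : Odd (orderOf (QuotientGroup.mk g : PSL2)) := by
  apply odd_orderOf_mk
  intro α β h1 h3
  exfalso
  apply hm1
  rw [h] at h1 h3
  refine ⟨α + β * u, ?_⟩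
  linear_combination (-(α + β * u)) * h3 + h1 + β ^ 2 * huv

theorem odd_of_trace_char_two (h2 : (2 : F) = 0) (g : SL2) (h : (g : M2).trace ≠ 0) :
    Odd (orderOf (QuotientGroup.mk g : PSL2)) := by
  apply odd_orderOf_mk
  intro α β _ h3
  have : β * (g : M2).trace = 0 := by linear_combination h3 - α * h2
  rcases mul_eq_zero.1 this with h' | h'
  · exact h'
  · exact absurd h' h

end Cfsg.Agent.Lib.Helper19.PSL2
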