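import Mathlib
import Cfsg.Agent.Lib.Helper19.PSL2Cases

set_option autoImplicit false
set_option linter.style.haveILetI false
set_option linter.unusedSectionVars false

namespace Cfsg.Agent.Lib.Helper19.PSL2

open Matrix

variable {F : Type*} [Field F] [Fintype F]

local notation "SL2" => Matrix.SpecialLinearGroup (Fin 2) F
local notation "PSL2" => Matrix.ProjectiveSpecialLinearGroup (Fin 2) F
local notation "M2" => Matrix (Fin 2) (Fin 2) F

/-- a common neighbour of two involutions in the graph of odd order products -/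
def CommonNbr (A B : SL2) : Prop :=
  ∃ C : SL2, (C : M2).trace = 0 ∧ (QuotientGroup.mk C : PSL2) ≠ 1 ∧
    (QuotientGroup.mk C : PSL2) ≠ QuotientGroup.mk A ∧
    (QuotientGroup.mk C : PSL2) ≠ QuotientGroup.mk B ∧
    Odd (orderOf (QuotientGroup.mk (A * C) : PSL2)) ∧
    Odd (orderOf (QuotientGroup.mk (C * B) : PSL2))

theorem case_one (h2 : (2 : F) ≠ 0) (i : F) (hi : i * i = -1) (A B : SL2)
    (hA : (A : M2).trace = 0) (hB : (B : M2).trace = 0)
    (hτ2 : ((A : M2) * (B : M2)).trace ≠ 2) (hτm2 : ((A : M2) * (B : M2)).trace ≠ -2) :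
    CommonNbr A B := by
  set τ : F := ((A : M2) * (B : M2)).trace with hτ
  have hδ : 2 - τ ≠ 0 := fun h => hτ2 (by linear_combination -h)
  obtain ⟨a, ha⟩ : ∃ a : F, a * (2 - τ) = -2 := ⟨-2 / (2 - τ), div_mul_cancel₀ _ hδ⟩
  obtain ⟨s, hs⟩ : ∃ s : F, s * (2 - τ) = i := ⟨i / (2 - τ), div_mul_cancel₀ _ hδ⟩
  have hcon : a ^ 2 + a ^ 2 - a * a * τ + s ^ 2 * (4 - τ ^ 2) = 1 := by
    apply mul_left_cancel₀ (pow_ne_zero 2 hδ)
    linear_combination ((2 - τ) * (a * (2 - τ) - 2)) * ha + (4 - τ ^ 2) * hi +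
      ((4 - τ ^ 2) * (s * (2 - τ) + i)) * hs
  obtain ⟨C, hC0, hAC, hCB⟩ := nbr A B hA hB a a s hcon
  have hAC' : ((A * C : SL2) : M2).trace = 2 := by rw [hAC]; linear_combination -ha
  have hCB' : ((C * B : SL2) : M2).trace = 2 := by rw [hCB]; linear_combination -ha
  refine ⟨C, hC0, mk_ne_one_of_trace h2 C hC0, ?_, ?_, odd_of_trace_two h2 _ (Or.inl hAC'),
    odd_of_trace_two h2 _ (Or.inl hCB')⟩
  · intro h
    rw [Matrix.SpecialLinearGroup.coe_mul] at hCB'
    rcases coe_eq_of_mk_eq A C h.symm with h1 | h1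
    · rw [h1] at hCB'
      exact hτ2 hCB'
    · rw [h1, neg_mul, Matrix.trace_neg] at hCB'
      exact hτm2 (by linear_combination -hCB')
  · intro h
    rw [Matrix.SpecialLinearGroup.coe_mul] at hAC'
    rcases coe_eq_of_mk_eq B C h.symm with h1 | h1
    · rw [h1] at hAC'
      exact hτ2 hAC'
    · rw [h1, mul_neg, Matrix.trace_neg] at hAC'
      exact hτm2 (by linear_combination -hAC')

theorem case_three (hF : 4 ≤ Fintype.card F) (h2 : (2 : F) ≠ 0) (hm1 : ¬ IsSquare (-1 : F))
    (A B : SL2) (hA : (A : M2).trace = 0) (hB : (B : M2).trace = 0) :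
    Odd (orderOf (QuotientGroup.mk (A * B) : PSL2)) ∨ CommonNbr A B := by
  set τ : F := ((A : M2) * (B : M2)).trace with hτ
  by_cases hsq : IsSquare (τ ^ 2 - 4)
  · left
    obtain ⟨e, he⟩ := hsq
    obtain ⟨u, hu⟩ : ∃ u : F, 2 * u = τ + e := ⟨(τ + e) / 2, by field_simp⟩
    obtain ⟨v, hv⟩ : ∃ v : F, 2 * v = τ - e := ⟨(τ - e) / 2, by field_simp⟩
    have h4 : (4 : F) ≠ 0 := by
      have : (4 : F) = 2 * 2 := by norm_num
      rw [this]
      exact mul_ne_zero h2 h2
    apply odd_of_trace_split hm1 (A * B) u v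
    · apply mul_left_cancel₀ h4
      linear_combination (2 * v) * hu + (τ + e) * hv + he
    · rw [Matrix.SpecialLinearGroup.coe_mul]
      apply mul_left_cancel₀ h2
      linear_combination -hu - hv
  · right
    obtain ⟨ε, u, f, hε, hu0, hu1, hf⟩ := e3_field hF hm1 h2 τ hsq
    have hΔ : 4 - τ ^ 2 ≠ 0 := by
      intro h
      apply hsq
      exact ⟨0, by linear_combination -h⟩
    obtain ⟨ui, hui⟩ : ∃ ui : F, u * ui = 1 := ⟨u⁻¹, mul_inv_cancel₀ hu0⟩
    have huinv : u⁻¹ = ui := inv_eq_of_mul_eq_one_right hui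
    rw [huinv] at hf
    have hσ2 : u + ui ≠ 2 := by
      intro h
      apply hu1
      have : (u - 1) ^ 2 = 0 := by linear_combination u * h - hui
      have h1 : u = 1 := by
        have := pow_eq_zero_iff (two_ne_zero) |>.1 this
        linear_combination this
      rw [h1]; ring
    have hσm2 : u + ui ≠ -2 := by
      intro h
      apply hu1
      have : (u + 1) ^ 2 = 0 := by linear_combination u * h - hui
      have h1 : u = -1 := by
        have := pow_eq_zero_iff (two_ne_zero) |>.1 this
        linear_combination this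
      rw [h1]; ring
    obtain ⟨s, hs⟩ : ∃ s : F, s * (4 - τ ^ 2) = f := ⟨f / (4 - τ ^ 2), div_mul_cancel₀ _ hΔ⟩
    rcases hε with rfl | rfl
    · -- ε = 1
      have hδ : 2 - τ ≠ 0 := by
        intro h
        apply hΔ
        linear_combination (2 + τ) * h
      obtain ⟨a, ha⟩ : ∃ a : F, a * (2 - τ) = -(u + ui) :=
        ⟨-(u + ui) / (2 - τ), div_mul_cancel₀ _ hδ⟩
      have hcon : a ^ 2 + a ^ 2 - a * a * τ + s ^ 2 * (4 - τ ^ 2) = 1 := by
        apply mul_left_cancel₀ hΔ
        linear_combination ((2 + τ) * (a * (2 - τ) - (u + ui))) * ha + hf +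
          (s * (4 - τ ^ 2) + f) * hs
      obtain ⟨C, hC0, hAC, hCB⟩ := nbr A B hA hB a a s hcon
      have hAC' : ((A * C : SL2) : M2).trace = u + ui := by rw [hAC]; linear_combination -ha
      have hCB' : ((C * B : SL2) : M2).trace = u + ui := by rw [hCB]; linear_combination -ha
      refine ⟨C, hC0, mk_ne_one_of_trace h2 C hC0, ?_, ?_,
        odd_of_trace_split hm1 _ u ui hui hAC', odd_of_trace_split hm1 _ u ui hui hCB'⟩
      · intro h
        rcases trace_of_mk_eq_left A C hA h.symm with h1 | h1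
        · exact hσ2 (hAC'.symm.trans h1)
        · exact hσm2 (hAC'.symm.trans h1)
      · intro h
        rcases trace_of_mk_eq_right B C hB h.symm with h1 | h1
        · exact hσ2 (hCB'.symm.trans h1)
        · exact hσm2 (hCB'.symm.trans h1)
    · -- ε = -1
      have hδ : 2 + τ ≠ 0 := by
        intro h
        apply hΔ
        linear_combination (2 - τ) * h
      obtain ⟨a, ha⟩ : ∃ a : F, a * (2 + τ) = -(u + ui) :=
        ⟨-(u + ui) / (2 + τ), div_mul_cancel₀ _ hδ⟩
      have hcon : a ^ 2 + (-a) ^ 2 - a * (-a) * τ + s ^ 2 * (4 - τ ^ 2) = 1 := by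
        apply mul_left_cancel₀ hΔ
        linear_combination ((2 - τ) * (a * (2 + τ) - (u + ui))) * ha + hf +
          (s * (4 - τ ^ 2) + f) * hs
      obtain ⟨C, hC0, hAC, hCB⟩ := nbr A B hA hB a (-a) s hcon
      have hAC' : ((A * C : SL2) : M2).trace = u + ui := by rw [hAC]; linear_combination -ha
      have hCB' : ((C * B : SL2) : M2).trace = (-u) + (-ui) := by rw [hCB]; linear_combination ha
      refine ⟨C, hC0, mk_ne_one_of_trace h2 C hC0, ?_, ?_,
        odd_of_trace_split hm1 _ u ui hui hAC',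
        odd_of_trace_split hm1 _ (-u) (-ui) (by linear_combination hui) hCB'⟩
      · intro h
        rcases trace_of_mk_eq_left A C hA h.symm with h1 | h1
        · exact hσ2 (hAC'.symm.trans h1)
        · exact hσm2 (hAC'.symm.trans h1)
      · intro h
        rcases trace_of_mk_eq_right B C hB h.symm with h1 | h1
        · exact hσm2 (by linear_combination -(hCB'.symm.trans h1))
        · exact hσ2 (by linear_combination -(hCB'.symm.trans h1))

theorem offdiag_ne_zero_char_two (h2 : (2 : F) = 0) (A : SL2) (hA : (A : M2).trace = 0)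
    (hA1 : (QuotientGroup.mk A : PSL2) ≠ 1) : (A : M2) 0 1 ≠ 0 ∨ (A : M2) 1 0 ≠ 0 := by
  by_contra hcon
  rw [not_or, not_not, not_not] at hcon
  obtain ⟨h01, h10⟩ := hcon
  apply hA1
  rw [mk_eq_one_iff]
  left
  have htr := hA
  rw [Matrix.trace_fin_two] at htr
  have hdet := A.det_coe
  rw [Matrix.det_fin_two, h01, h10] at hdet
  have h00 : (A : M2) 0 0 = 1 := by
    have : ((A : M2) 0 0 - 1) ^ 2 = 0 := by
      linear_combination ((A : M2) 0 0) * htr - hdet - ((A : M2) 0 0) * h2
    have := pow_eq_zero_iff (two_ne_zero) |>.1 this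
    linear_combination this
  have h11 : (A : M2) 1 1 = 1 := by
    linear_combination htr - h00 - h2
  ext i j
  fin_cases i <;> fin_cases j <;> simp [h00, h01, h10, h11]

theorem case_two (hF : 4 ≤ Fintype.card F) (h2 : (2 : F) = 0) (A B : SL2)
    (hA : (A : M2).trace = 0) (hB : (B : M2).trace = 0)
    (hA1 : (QuotientGroup.mk A : PSL2) ≠ 1) (hB1 : (QuotientGroup.mk B : PSL2) ≠ 1) :
    CommonNbr A B := by
  obtain ⟨c, hc1, hc2, -⟩ := exists_ne_three hF (-((A : M2) 1 0) / (A : M2) 0 1)
    (-((B : M2) 1 0) / (B : M2) 0 1) 0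
  obtain ⟨p, hp⟩ := FiniteField.isSquare_of_char_two (ringChar_eq_two h2) (1 + c)
  have hdet : (!![p, 1; c, p] : M2).det = 1 := by
    rw [Matrix.det_fin_two_of]
    linear_combination -hp
  set C : SL2 := ⟨!![p, 1; c, p], hdet⟩ with hC
  have hCcoe : (C : M2) = !![p, 1; c, p] := rfl
  have hC0 : (C : M2).trace = 0 := by
    rw [hCcoe, Matrix.trace_fin_two_of]
    linear_combination p * h2
  have htrA := hA
  rw [Matrix.trace_fin_two] at htrA
  have htrB := hB
  rw [Matrix.trace_fin_two] at htrB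
  have hAC : ((A * C : SL2) : M2).trace = (A : M2) 0 1 * c + (A : M2) 1 0 := by
    rw [Matrix.SpecialLinearGroup.coe_mul, hCcoe, Matrix.trace_fin_two]
    simp only [Matrix.mul_apply, Fin.sum_univ_two, Matrix.of_apply, Matrix.cons_val',
      Matrix.cons_val_zero, Matrix.cons_val_one, Matrix.empty_val', Matrix.cons_val_fin_one]
    linear_combination p * htrA
  have hCB : ((C * B : SL2) : M2).trace = (B : M2) 0 1 * c + (B : M2) 1 0 := by
    rw [Matrix.SpecialLinearGroup.coe_mul, hCcoe, Matrix.trace_fin_two]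
    simp only [Matrix.mul_apply, Fin.sum_univ_two, Matrix.of_apply, Matrix.cons_val',
      Matrix.cons_val_zero, Matrix.cons_val_one, Matrix.empty_val', Matrix.cons_val_fin_one]
    linear_combination p * htrB
  have hAC0 : ((A * C : SL2) : M2).trace ≠ 0 := by
    rw [hAC]
    intro h
    by_cases h01 : (A : M2) 0 1 = 0
    · rcases offdiag_ne_zero_char_two h2 A hA hA1 with h' | h'
      · exact h' h01
      · apply h'
        rw [h01] at h
        linear_combination h
    · apply hc1
      field_simp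
      linear_combination h
  have hCB0 : ((C * B : SL2) : M2).trace ≠ 0 := by
    rw [hCB]
    intro h
    by_cases h01 : (B : M2) 0 1 = 0
    · rcases offdiag_ne_zero_char_two h2 B hB hB1 with h' | h'
      · exact h' h01
      · apply h'
        rw [h01] at h
        linear_combination h
    · apply hc2
      field_simp
      linear_combination h
  have h2' : (-2 : F) = 0 := by linear_combination -h2
  refine ⟨C, hC0, ?_, ?_, ?_, odd_of_trace_char_two h2 _ hAC0, odd_of_trace_char_two h2 _ hCB0⟩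
  · intro h
    rw [mk_eq_one_iff, hCcoe] at h
    rcases h with h | h
    · have := congrFun (congrFun h 0) 1
      simp at this
    · have := congrFun (congrFun h 0) 1
      simp at this
  · intro h
    rcases trace_of_mk_eq_left A C hA h.symm with h1 | h1
    · exact hAC0 (h1.trans h2)
    · exact hAC0 (h1.trans h2')
  · intro h
    rcases trace_of_mk_eq_right B C hB h.symm with h1 | h1
    · exact hCB0 (h1.trans h2)
    · exact hCB0 (h1.trans h2')

end Cfsg.Agent.Lib.Helper19.PSL2
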