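import Mathlib
import Cfsg.Agent.Lib.Helper19.PSL2Main

set_option autoImplicit false
set_option linter.style.haveILetI false
set_option linter.unusedSectionVars false

namespace Cfsg.Agent.Lib.Helper19.PSL2

open Matrix

variable {F : Type*} [Field F] [Fintype F]

local notation "SL2" => Matrix.SpecialLinearGroup (Fin 2) F
local notation "PSL2" => Matrix.ProjectiveSpecialLinearGroup (Fin 2) F
local notation "M2" => Matrix (Fin 2) (Fin 2) F

/-- an involution commuting with a given one (at the level of matrices) -/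
theorem exists_commuting (hF : 4 ≤ Fintype.card F) (A : SL2) (hA : (A : M2).trace = 0)
    (hA1 : (QuotientGroup.mk A : PSL2) ≠ 1) :
    ∃ Y : SL2, (Y : M2).trace = 0 ∧ (QuotientGroup.mk Y : PSL2) ≠ 1 ∧
      (QuotientGroup.mk Y : PSL2) ≠ QuotientGroup.mk A ∧ ((A * Y : SL2) : M2).trace = 0 := by
  have htr := hA
  rw [Matrix.trace_fin_two] at htr
  have hd := A.det_coe
  rw [Matrix.det_fin_two] at hd
  by_cases h2 : (2 : F) = 0
  · -- characteristic two
    obtain ⟨c, hc0, hc1, -⟩ := exists_ne_three hF 0 1 0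
    have hdet : ((1 + c) • (1 : M2) + c • (A : M2)).det = 1 := by
      rw [det_lin, hA, A.det_coe]
      linear_combination (c + c ^ 2) * h2
    set Y : SL2 := ⟨(1 + c) • (1 : M2) + c • (A : M2), hdet⟩ with hY
    have hYcoe : (Y : M2) = (1 + c) • (1 : M2) + c • (A : M2) := rfl
    have hc1' : c + 1 ≠ 0 := by
      intro h
      apply hc1
      linear_combination h - h2
    have hY01 : (Y : M2) 0 1 = c * (A : M2) 0 1 := by
      rw [hYcoe]; simp
    have hY10 : (Y : M2) 1 0 = c * (A : M2) 1 0 := by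
      rw [hYcoe]; simp
    refine ⟨Y, ?_, ?_, ?_, ?_⟩
    · rw [hYcoe, trace_lin, hA]
      linear_combination (1 + c) * h2
    · intro h
      rw [mk_eq_one_iff] at h
      have h01 : (Y : M2) 0 1 = 0 := by
        rcases h with h | h <;> rw [h] <;> simp
      have h10 : (Y : M2) 1 0 = 0 := by
        rcases h with h | h <;> rw [h] <;> simp
      rw [hY01] at h01
      rw [hY10] at h10
      rcases offdiag_ne_zero_char_two h2 A hA hA1 with h' | h'
      · exact h' ((mul_eq_zero.1 h01).resolve_left hc0)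
      · exact h' ((mul_eq_zero.1 h10).resolve_left hc0)
    · intro h
      have h01 : (c + 1) * (A : M2) 0 1 = 0 := by
        rcases coe_eq_of_mk_eq A Y h.symm with h1 | h1
        · have := congrFun (congrFun h1 0) 1
          rw [hY01] at this
          linear_combination this + (A : M2) 0 1 * h2
        · have := congrFun (congrFun h1 0) 1
          rw [hY01, Matrix.neg_apply] at this
          linear_combination this
      have h10 : (c + 1) * (A : M2) 1 0 = 0 := by
        rcases coe_eq_of_mk_eq A Y h.symm with h1 | h1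
        · have := congrFun (congrFun h1 1) 0
          rw [hY10] at this
          linear_combination this + (A : M2) 1 0 * h2
        · have := congrFun (congrFun h1 1) 0
          rw [hY10, Matrix.neg_apply] at this
          linear_combination this
      rcases offdiag_ne_zero_char_two h2 A hA hA1 with h' | h'
      · exact h' ((mul_eq_zero.1 h01).resolve_left hc1')
      · exact h' ((mul_eq_zero.1 h10).resolve_left hc1')
    · rw [Matrix.SpecialLinearGroup.coe_mul, hYcoe, mul_add, Matrix.mul_smul, Matrix.mul_smul,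
        mul_one, coe_mul_self A hA, Matrix.trace_add, Matrix.trace_smul, Matrix.trace_smul, hA,
        trace_neg_one2]
      simp only [smul_eq_mul]
      linear_combination (-c) * h2
  · -- odd characteristic
    have hfin : ∀ Ym : M2, Ym.det = 1 → Ym.trace = 0 → ((A : M2) * Ym).trace = 0 →
        ∃ Y : SL2, (Y : M2).trace = 0 ∧ (QuotientGroup.mk Y : PSL2) ≠ 1 ∧
          (QuotientGroup.mk Y : PSL2) ≠ QuotientGroup.mk A ∧ ((A * Y : SL2) : M2).trace = 0 := by
      intro Ym hdet h0 hAY
      refine ⟨⟨Ym, hdet⟩, h0, mk_ne_one_of_trace h2 _ h0, ?_, hAY⟩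
      intro h
      rcases trace_of_mk_eq_left A ⟨Ym, hdet⟩ hA h.symm with h1 | h1
      · change ((A : M2) * Ym).trace = 2 at h1
        exact h2 (h1.symm.trans hAY)
      · change ((A : M2) * Ym).trace = -2 at h1
        exact h2 (neg_eq_zero.1 (h1.symm.trans hAY))
    by_cases ht2 : (A : M2) 0 1 = 0
    · -- t₂ = 0
      rw [ht2] at hd
      have ht1 : (A : M2) 0 0 ≠ 0 := by
        intro h
        rw [h] at hd
        simp at hd
      have h2t1 : 2 * (A : M2) 0 0 ≠ 0 := mul_ne_zero h2 ht1
      obtain ⟨y₃, hy₃⟩ : ∃ y₃ : F, y₃ * (2 * (A : M2) 0 0) = -(1 + (A : M2) 1 0 ^ 2) :=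
        ⟨-(1 + (A : M2) 1 0 ^ 2) / (2 * (A : M2) 0 0), div_mul_cancel₀ _ h2t1⟩
      apply hfin !![-(A : M2) 1 0, 2 * (A : M2) 0 0; y₃, (A : M2) 1 0]
      · rw [Matrix.det_fin_two_of]
        linear_combination -hy₃
      · rw [Matrix.trace_fin_two_of]
        ring
      · rw [Matrix.trace_fin_two]
        simp only [Matrix.mul_apply, Fin.sum_univ_two, Matrix.of_apply, Matrix.cons_val',
          Matrix.cons_val_zero, Matrix.cons_val_one, Matrix.empty_val', Matrix.cons_val_fin_one,
          ht2]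
        linear_combination (A : M2) 1 0 * htr
    · -- t₂ ≠ 0
      obtain ⟨w, y, hwy⟩ := exists_sq_add_sq h2 (-((A : M2) 0 1) ^ 2)
      obtain ⟨y₁, hy₁⟩ : ∃ y₁ : F, y₁ * (A : M2) 0 1 = w + (A : M2) 0 0 * y :=
        ⟨(w + (A : M2) 0 0 * y) / (A : M2) 0 1, div_mul_cancel₀ _ ht2⟩
      obtain ⟨y₃, hy₃⟩ : ∃ y₃ : F, y₃ * (A : M2) 0 1 =
          -(2 * (A : M2) 0 0 * y₁ + (A : M2) 1 0 * y) :=
        ⟨-(2 * (A : M2) 0 0 * y₁ + (A : M2) 1 0 * y) / (A : M2) 0 1, div_mul_cancel₀ _ ht2⟩
      apply hfin !![y₁, y; y₃, -y₁]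
      · rw [Matrix.det_fin_two_of]
        apply mul_left_cancel₀ (pow_ne_zero 2 ht2)
        linear_combination -hwy + (y ^ 2 * (A : M2) 0 0) * htr - y ^ 2 * hd +
          (-(y₁ * (A : M2) 0 1 + w + (A : M2) 0 0 * y) + 2 * (A : M2) 0 0 * y) * hy₁ -
          (y * (A : M2) 0 1) * hy₃
      · rw [Matrix.trace_fin_two_of]
        ring
      · rw [Matrix.trace_fin_two]
        simp only [Matrix.mul_apply, Fin.sum_univ_two, Matrix.of_apply, Matrix.cons_val',
          Matrix.cons_val_zero, Matrix.cons_val_one, Matrix.empty_val', Matrix.cons_val_fin_one]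
        linear_combination hy₃ - y₁ * htr

/-- two distinct involutions of `PSL₂(F)` have a product of odd order or a common neighbour -/
theorem psl2_common (hF : 4 ≤ Fintype.card F) (x y : PSL2) (hx : orderOf x = 2)
    (hy : orderOf y = 2) :
    Odd (orderOf (x * y)) ∨ ∃ z : PSL2, orderOf z = 2 ∧ z ≠ x ∧ z ≠ y ∧
      Odd (orderOf (x * z)) ∧ Odd (orderOf (z * y)) := by
  obtain ⟨A, rfl, hA⟩ := exists_lift_of_orderOf x hx
  obtain ⟨B, rfl, hB⟩ := exists_lift_of_orderOf y hy
  have hA1 : (QuotientGroup.mk A : PSL2) ≠ 1 := by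
    intro h
    rw [h, orderOf_one] at hx
    omega
  have hB1 : (QuotientGroup.mk B : PSL2) ≠ 1 := by
    intro h
    rw [h, orderOf_one] at hy
    omega
  have hcn : Odd (orderOf (QuotientGroup.mk (A * B) : PSL2)) ∨ CommonNbr A B := by
    by_cases h2 : (2 : F) = 0
    · right
      exact case_two hF h2 A B hA hB hA1 hB1
    · by_cases hm1 : IsSquare (-1 : F)
      · obtain ⟨i, hi⟩ := hm1
        by_cases hτ2 : ((A : M2) * (B : M2)).trace = 2
        · left
          exact odd_of_trace_two h2 (A * B)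
            (Or.inl (by rw [Matrix.SpecialLinearGroup.coe_mul]; exact hτ2))
        by_cases hτm2 : ((A : M2) * (B : M2)).trace = -2
        · left
          exact odd_of_trace_two h2 (A * B)
            (Or.inr (by rw [Matrix.SpecialLinearGroup.coe_mul]; exact hτm2))
        right
        exact case_one h2 i hi.symm A B hA hB hτ2 hτm2
      · exact case_three hF h2 hm1 A B hA hB
  rcases hcn with h | ⟨C, hC0, hC1, hCA, hCB, hoAC, hoCB⟩
  · left
    rwa [← QuotientGroup.mk_mul]
  · right
    refine ⟨QuotientGroup.mk C, orderOf_mk_eq_two C hC0 hC1, hCA, hCB, ?_, ?_⟩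
    · rwa [← QuotientGroup.mk_mul]
    · rwa [← QuotientGroup.mk_mul]

/-- every involution of `PSL₂(F)` commutes with another one -/
theorem psl2_commuting (hF : 4 ≤ Fintype.card F) (x : PSL2) (hx : orderOf x = 2) :
    ∃ y : PSL2, orderOf y = 2 ∧ y ≠ x ∧ ¬ Odd (orderOf (x * y)) := by
  obtain ⟨A, rfl, hA⟩ := exists_lift_of_orderOf x hx
  have hA1 : (QuotientGroup.mk A : PSL2) ≠ 1 := by
    intro h
    rw [h, orderOf_one] at hx
    omega
  obtain ⟨Y, hY0, hY1, hYA, hAY⟩ := exists_commuting hF A hA hA1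
  refine ⟨QuotientGroup.mk Y, orderOf_mk_eq_two Y hY0 hY1, hYA, ?_⟩
  rw [← QuotientGroup.mk_mul]
  have hne : (QuotientGroup.mk (A * Y) : PSL2) ≠ 1 := by
    intro h
    apply hYA
    rw [QuotientGroup.mk_mul] at h
    have h1 := mk_mul_self A hA
    have : (QuotientGroup.mk Y : PSL2) = (QuotientGroup.mk A : PSL2)⁻¹ :=
      eq_inv_of_mul_eq_one_right h
    rw [this]
    exact inv_eq_of_mul_eq_one_left h1
  rw [orderOf_mk_eq_two (A * Y) hAY hne]
  decide

end Cfsg.Agent.Lib.Helper19.PSL2
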