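import Mathlib
import Cfsg.Agent.Lib.Helper19.PSL2Final
import Cfsg.Agent.Lib.Helper19.JRAut

set_option autoImplicit false
set_option linter.unusedSectionVars false
set_option linter.style.haveILetI false

namespace Cfsg.Agent.Lib.Helper19.JankoRee

open Matrix Cfsg.Agent.Lib.Helper19.PSL2

variable {F : Type*} [Field F]

local notation "SL2" => Matrix.SpecialLinearGroup (Fin 2) F
local notation "PSL2" => Matrix.ProjectiveSpecialLinearGroup (Fin 2) F
local notation "M2" => Matrix (Fin 2) (Fin 2) F

/-- anticommutator identity for `2 × 2` matrices -/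
theorem anticomm2 (X Y : M2) :
    X * Y + Y * X = X.trace • Y + Y.trace • X + ((X * Y).trace - X.trace * Y.trace) • (1 : M2) := by
  ext i j
  fin_cases i <;> fin_cases j <;>
    simp [Matrix.mul_apply, Fin.sum_univ_two, Matrix.trace_fin_two] <;> ring

/-- a matrix commuting with two anticommuting square roots of `-1` is scalar -/
theorem scalar_of_comm (h2 : (2 : F) ≠ 0) (A B M : M2) (hA : A.trace = 0)
    (hA2 : A * A = -1) (hB2 : B * B = -1) (hAB : A * B = -(B * A))
    (hMA : M * A = A * M) (hMB : M * B = B * M) : ∃ α : F, M = α • (1 : M2) := by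
  set τ := M.trace with hτ
  set M' : M2 := M - (τ / 2) • (1 : M2) with hM'
  have htr : M'.trace = 0 := by
    rw [hM', Matrix.trace_sub, Matrix.trace_smul, Matrix.trace_one]
    simp only [Fintype.card_fin, smul_eq_mul]
    push_cast
    field_simp
    ring
  have hM'A : M' * A = A * M' := by
    rw [hM', sub_mul, mul_sub, hMA]; simp
  have hM'B : M' * B = B * M' := by
    rw [hM', sub_mul, mul_sub, hMB]; simp
  have h1 := anticomm2 M' A
  rw [htr, hA, ← hM'A] at h1
  simp only [zero_smul, zero_add, mul_zero, sub_zero] at h1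
  -- h1 : M' * A + M' * A = (M' * A).trace • 1
  set lam := (M' * A).trace with hlam
  have h3 : (2 : F) • M' = (-lam) • A := by
    have h4 : (M' * A + M' * A) * A = (lam • (1 : M2)) * A := by rw [h1]
    rw [add_mul, mul_assoc, hA2, smul_mul_assoc, one_mul] at h4
    rw [two_smul, neg_smul, ← h4]
    simp
  have h5 : (2 : F) • (M' * B) = (2 : F) • (B * M') := by rw [hM'B]
  rw [← smul_mul_assoc, ← mul_smul_comm, h3] at h5
  rw [smul_mul_assoc, mul_smul_comm, hAB] at h5
  -- h5 : -lam • -(B * A) = -lam • (B * A)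
  have h6 : ((2 : F) * lam) • (B * A) = 0 := by
    have : (-lam) • -(B * A) - (-lam) • (B * A) = 0 := sub_eq_zero.2 h5
    rw [← this]
    simp only [smul_neg, neg_smul, neg_neg, sub_neg_eq_add, mul_smul, two_smul]
  have h7 : ((2 : F) * lam) • ((B * A) * (A * B)) = 0 := by
    rw [← smul_mul_assoc, h6, zero_mul]
  have h8 : (B * A) * (A * B) = 1 := by
    rw [mul_assoc, ← mul_assoc A A B, hA2, neg_mul, one_mul, mul_neg, hB2, neg_neg]
  rw [h8] at h7
  have h9 : (2 : F) * lam = 0 := by
    have := congrFun (congrFun h7 0) 0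
    simpa using this
  have hlam0 : lam = 0 := by
    rcases mul_eq_zero.1 h9 with h | h
    · exact absurd h h2
    · exact h
  rw [hlam0, neg_zero, zero_smul] at h3
  have hM'0 : M' = 0 := by
    rcases smul_eq_zero.1 h3 with h | h
    · exact absurd h h2
    · exact h
  refine ⟨τ / 2, ?_⟩
  have : M = M' + (τ / 2) • (1 : M2) := by rw [hM']; abel
  rw [this, hM'0, zero_add]

theorem mk_eq_one_of_comm (h2 : (2 : F) ≠ 0) (A Y X : SL2) (hA : (A : M2).trace = 0)
    (hY : (Y : M2).trace = 0) (hAY : (A : M2) * (Y : M2) = -((Y : M2) * (A : M2)))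
    (hXA : (X : M2) * (A : M2) = (A : M2) * (X : M2))
    (hXY : (X : M2) * (Y : M2) = (Y : M2) * (X : M2)) : (QuotientGroup.mk X : PSL2) = 1 := by
  obtain ⟨α, hα⟩ := scalar_of_comm h2 (A : M2) (Y : M2) (X : M2) hA (coe_mul_self A hA)
    (coe_mul_self Y hY) hAY hXA hXY
  have hdet := X.det_coe
  rw [hα] at hdet
  simp only [Matrix.det_smul, Fintype.card_fin, Matrix.det_one, mul_one] at hdet
  have : (α - 1) * (α + 1) = 0 := by linear_combination hdet
  rw [mk_eq_one_iff]
  rcases mul_eq_zero.1 this with h | h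
  · left
    rw [hα, sub_eq_zero.1 h, one_smul]
  · right
    rw [hα, eq_neg_of_add_eq_zero_left h]
    simp

/-- anticommutation of two trace-zero elements whose product has trace zero -/
theorem anticomm_of_trace (A Y : SL2) (hA : (A : M2).trace = 0) (hY : (Y : M2).trace = 0)
    (hAY : ((A * Y : SL2) : M2).trace = 0) :
    (A : M2) * (Y : M2) = -((Y : M2) * (A : M2)) := by
  have h1 := coe_mul_self (A * Y) hAY
  rw [Matrix.SpecialLinearGroup.coe_mul] at h1
  have hA2 := coe_mul_self A hA
  have hY2 := coe_mul_self Y hY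
  -- a y a y = -1; multiply by a on the left and y on the right
  have h2 : (A : M2) * ((A : M2) * (Y : M2) * ((A : M2) * (Y : M2))) * (Y : M2) =
      (A : M2) * (-1) * (Y : M2) := by rw [h1]
  have h3 : (A : M2) * ((A : M2) * (Y : M2) * ((A : M2) * (Y : M2))) * (Y : M2) =
      ((A : M2) * (A : M2)) * ((Y : M2) * (A : M2)) * ((Y : M2) * (Y : M2)) := by
    simp only [mul_assoc]
  rw [h3, hA2, hY2] at h2
  simp only [mul_neg, mul_one, neg_mul, one_mul, neg_neg] at h2
  rw [h2, neg_neg]

/-- the centralizer of a four-group of `PSL₂(F)` -/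
theorem psl2_centralizer_four [Fintype F] (h2 : (2 : F) ≠ 0) (A Y : SL2) (hA : (A : M2).trace = 0)
    (hY : (Y : M2).trace = 0) (hAY : ((A * Y : SL2) : M2).trace = 0) (g : PSL2)
    (hgA : g * QuotientGroup.mk A = QuotientGroup.mk A * g)
    (hgY : g * QuotientGroup.mk Y = QuotientGroup.mk Y * g) :
    g = 1 ∨ g = QuotientGroup.mk A ∨ g = QuotientGroup.mk Y ∨
      g = QuotientGroup.mk A * QuotientGroup.mk Y := by
  obtain ⟨X, rfl⟩ := QuotientGroup.mk_surjective g
  have hac := anticomm_of_trace A Y hA hY hAY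
  have hA2 := coe_mul_self A hA
  have hY2 := coe_mul_self Y hY
  have hac' : (Y : M2) * (A : M2) = -((A : M2) * (Y : M2)) := by rw [hac, neg_neg]
  have e1 := coe_eq_of_mk_eq (X * A) (A * X) (by rw [QuotientGroup.mk_mul, QuotientGroup.mk_mul]; exact hgA)
  have e2 := coe_eq_of_mk_eq (X * Y) (Y * X) (by rw [QuotientGroup.mk_mul, QuotientGroup.mk_mul]; exact hgY)
  simp only [Matrix.SpecialLinearGroup.coe_mul] at e1 e2
  have hAinv : (QuotientGroup.mk A : PSL2)⁻¹ = QuotientGroup.mk A :=
    inv_eq_of_mul_eq_one_left (mk_mul_self A hA)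
  have hYinv : (QuotientGroup.mk Y : PSL2)⁻¹ = QuotientGroup.mk Y :=
    inv_eq_of_mul_eq_one_left (mk_mul_self Y hY)
  have hAYinv : (QuotientGroup.mk (A * Y) : PSL2)⁻¹ = QuotientGroup.mk (A * Y) :=
    inv_eq_of_mul_eq_one_left (mk_mul_self (A * Y) hAY)
  rcases e1 with e1 | e1 <;> rcases e2 with e2 | e2
  · -- commutes with both
    left
    exact mk_eq_one_of_comm h2 A Y X hA hY hac e1.symm e2.symm
  · -- commutes with A, anticommutes with Y
    right; left
    have h := mk_eq_one_of_comm h2 A Y (X * A) hA hY hac ?_ ?_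
    · rw [QuotientGroup.mk_mul] at h
      rw [eq_inv_of_mul_eq_one_left h, hAinv]
    · simp only [Matrix.SpecialLinearGroup.coe_mul]
      rw [← mul_assoc, e1]
    · simp only [Matrix.SpecialLinearGroup.coe_mul]
      rw [mul_assoc, hac, mul_neg, ← mul_assoc, ← mul_assoc, e2, neg_mul]
  · right; right; left
    have h := mk_eq_one_of_comm h2 A Y (X * Y) hA hY hac ?_ ?_
    · rw [QuotientGroup.mk_mul] at h
      rw [eq_inv_of_mul_eq_one_left h, hYinv]
    · simp only [Matrix.SpecialLinearGroup.coe_mul]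
      rw [mul_assoc, hac', mul_neg, ← mul_assoc, ← mul_assoc, e1, neg_mul]
    · simp only [Matrix.SpecialLinearGroup.coe_mul]
      rw [← mul_assoc, e2]
  · right; right; right
    have h := mk_eq_one_of_comm h2 A Y (X * (A * Y)) hA hY hac ?_ ?_
    · rw [QuotientGroup.mk_mul] at h
      rw [eq_inv_of_mul_eq_one_left h, hAYinv, QuotientGroup.mk_mul]
    · simp only [Matrix.SpecialLinearGroup.coe_mul]
      -- x a y a = a x a y
      have l : (X : M2) * ((A : M2) * (Y : M2)) * (A : M2) = (X : M2) * (Y : M2) := by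
        rw [mul_assoc, mul_assoc, hac', mul_neg, ← mul_assoc (A : M2), hA2]
        simp
      have r : (A : M2) * ((X : M2) * ((A : M2) * (Y : M2))) = (X : M2) * (Y : M2) := by
        rw [← mul_assoc, e1, neg_mul, mul_assoc, ← mul_assoc (A : M2), hA2]
        simp
      rw [l, r]
    · simp only [Matrix.SpecialLinearGroup.coe_mul]
      have l : (X : M2) * ((A : M2) * (Y : M2)) * (Y : M2) = -((X : M2) * (A : M2)) := by
        rw [mul_assoc, mul_assoc, hY2]
        simp
      have r : (Y : M2) * ((X : M2) * ((A : M2) * (Y : M2))) = -((X : M2) * (A : M2)) := by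
        rw [← mul_assoc, e2, neg_mul, mul_assoc, ← mul_assoc (Y : M2), hac', neg_mul, mul_assoc,
          hY2]
        simp
      rw [l, r]

/-- a 2-group extended by a commuting 2-element is a 2-group -/
theorem isPGroup_sup_zpowers {X : Type*} [Group X] (P : Subgroup X) (hP2 : IsPGroup 2 P) (x : X)
    (k : ℕ) (hxk : x ^ (2 ^ k) = 1) (hxP : ∀ a ∈ P, x * a = a * x) :
    IsPGroup 2 (P ⊔ Subgroup.zpowers x : Subgroup X) := by
  haveI : Fact (Nat.Prime 2) := ⟨Nat.prime_two⟩
  have hx2 : IsPGroup 2 (Subgroup.zpowers x) := isPGroup_zpowers_of_pow x k hxk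
  have hPx : P ≤ Subgroup.normalizer ((Subgroup.zpowers x : Subgroup X) : Set X) := by
    intro a ha
    rw [Subgroup.mem_normalizer_iff]
    intro h
    have hcomm : ∀ j : ℤ, a * x ^ j * a⁻¹ = x ^ j := by
      intro j
      have h0 : Commute x a := hxP a ha
      have : Commute a (x ^ j) := h0.symm.zpow_right j
      rw [this.eq]; group
    constructor
    · intro hh
      obtain ⟨j, rfl⟩ := Subgroup.mem_zpowers_iff.1 hh
      rw [hcomm]; exact hh
    · intro hh
      obtain ⟨j, hj⟩ := Subgroup.mem_zpowers_iff.1 hh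
      have : h = x ^ j := by
        have h1 : h = a⁻¹ * (a * h * a⁻¹) * a := by group
        rw [h1, ← hj]
        have := hcomm j
        calc a⁻¹ * x ^ j * a = a⁻¹ * (a * x ^ j * a⁻¹) * a := by rw [this]
          _ = x ^ j := by group
      rw [this]; exact Subgroup.zpow_mem_zpowers x j
  exact IsPGroup.to_sup_of_normal_right' hP2 hx2 hPx

/-- If the 2-subgroups of `PSL₂(F)` are abelian, some Sylow 2-subgroup is a four-group. -/
theorem psl2_exists_sylow_four [Fintype F] (hF : 3 < Fintype.card F) (h2 : (2 : F) ≠ 0)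
    (hab : ∀ Q : Subgroup PSL2, IsPGroup 2 Q → ∀ a ∈ Q, ∀ b ∈ Q, a * b = b * a) :
    ∃ V : Sylow 2 PSL2, Nat.card V = 4 ∧ ∀ g ∈ V, g * g = 1 := by
  haveI : Fact (Nat.Prime 2) := ⟨Nat.prime_two⟩
  let A : SL2 := ⟨!![0, 1; -1, 0], by simp [Matrix.det_fin_two]⟩
  have hA : (A : M2).trace = 0 := by simp [A, Matrix.trace_fin_two]
  have hA1 : (QuotientGroup.mk A : PSL2) ≠ 1 := mk_ne_one_of_trace h2 A hA
  obtain ⟨Y, hY, hY1, hYA, hAY⟩ := exists_commuting (by omega) A hA hA1
  set x : PSL2 := QuotientGroup.mk A with hx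
  set y : PSL2 := QuotientGroup.mk Y with hy
  have hxx : x * x = 1 := mk_mul_self A hA
  have hyy : y * y = 1 := mk_mul_self Y hY
  have hxyxy : (x * y) * (x * y) = 1 := by
    have := mk_mul_self (A * Y) hAY
    rwa [QuotientGroup.mk_mul] at this
  have hxy : x * y = y * x := by
    calc x * y = (y * y) * (x * y) * (x * x) := by rw [hxx, hyy]; group
      _ = y * (y * x * (y * x)) * x := by group
      _ = y * x := by
        have : y * x * (y * x) = 1 := by
          calc y * x * (y * x) = x⁻¹ * (x * y * (x * y)) * x := by group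
            _ = 1 := by rw [hxyxy]; group
        rw [this]; group
  have hsup : IsPGroup 2 (Subgroup.zpowers x ⊔ Subgroup.zpowers y : Subgroup PSL2) := by
    apply isPGroup_sup_zpowers _ (isPGroup_zpowers_of_pow x 1 (by rw [pow_one, pow_two, hxx])) y 1
      (by rw [pow_one, pow_two, hyy])
    intro a ha
    obtain ⟨j, rfl⟩ := Subgroup.mem_zpowers_iff.1 ha
    have h0 : Commute y x := hxy.symm
    exact (h0.zpow_right j).eq
  obtain ⟨V, hV⟩ := hsup.exists_le_sylow
  have hxV : x ∈ V := hV (Subgroup.mem_sup_left (Subgroup.mem_zpowers x))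
  have hyV : y ∈ V := hV (Subgroup.mem_sup_right (Subgroup.mem_zpowers y))
  have hVall : ∀ g ∈ V, g = 1 ∨ g = x ∨ g = y ∨ g = x * y := by
    intro g hg
    exact psl2_centralizer_four h2 A Y hA hY hAY g (hab V V.2 g hg x hxV) (hab V V.2 g hg y hyV)
  refine ⟨V, ?_, ?_⟩
  · have hset : ((V : Subgroup PSL2) : Set PSL2) = {1, x, y, x * y} := by
      ext g
      simp only [SetLike.mem_coe, Set.mem_insert_iff, Set.mem_singleton_iff]
      constructor
      · exact hVall g
      · rintro (rfl | rfl | rfl | rfl)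
        · exact (V : Subgroup PSL2).one_mem
        · exact hxV
        · exact hyV
        · exact (V : Subgroup PSL2).mul_mem hxV hyV
    have hcard : Nat.card (V : Subgroup PSL2) = (((V : Subgroup PSL2) : Set PSL2)).ncard :=
      Nat.card_coe_set_eq _
    rw [hcard, hset]
    have hx1 : x ≠ 1 := hA1
    have hy1 : y ≠ 1 := hY1
    have hyx : y ≠ x := hYA
    have hxy1 : x * y ≠ 1 := by
      intro h
      apply hyx
      calc y = x⁻¹ * (x * y) := by group
        _ = x⁻¹ := by rw [h, mul_one]
        _ = x := inv_eq_of_mul_eq_one_left hxx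
    have hxyx : x * y ≠ x := by
      intro h
      apply hy1
      calc y = x⁻¹ * (x * y) := by group
        _ = 1 := by rw [h]; group
    have hxyy : x * y ≠ y := by
      intro h
      apply hx1
      calc x = (x * y) * y⁻¹ := by group
        _ = 1 := by rw [h]; group
    rw [Set.ncard_insert_of_notMem, Set.ncard_insert_of_notMem, Set.ncard_insert_of_notMem,
      Set.ncard_singleton]
    · simp only [Set.mem_singleton_iff]; exact fun h => hxyy h.symm
    · simp only [Set.mem_insert_iff, Set.mem_singleton_iff]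
      rintro (h | h)
      · exact hyx h.symm
      · exact hxyx h.symm
    · simp only [Set.mem_insert_iff, Set.mem_singleton_iff]
      rintro (h | h | h)
      · exact hx1 h.symm
      · exact hy1 h.symm
      · exact hxy1 h.symm
  · intro g hg
    rcases hVall g hg with rfl | rfl | rfl | rfl
    · simp
    · exact hxx
    · exact hyy
    · exact hxyxy

/-- transport of `psl2_exists_sylow_four` along an isomorphism -/
theorem exists_sylow_four_of_equiv [Fintype F] (hF : 3 < Fintype.card F) (h2 : (2 : F) ≠ 0)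
    {M : Type*} [Group M] (e : M ≃* PSL2)
    (hab : ∀ Q : Subgroup M, IsPGroup 2 Q → ∀ a ∈ Q, ∀ b ∈ Q, a * b = b * a) :
    ∃ V : Sylow 2 M, Nat.card V = 4 ∧ ∀ g ∈ V, g * g = 1 := by
  have hab' : ∀ Q : Subgroup PSL2, IsPGroup 2 Q → ∀ a ∈ Q, ∀ b ∈ Q, a * b = b * a := by
    intro Q hQ a ha b hb
    have hQ' : IsPGroup 2 (Q.comap e.toMonoidHom) := hQ.comap_of_injective _ e.injective
    have h1 := hab _ hQ' (e.symm a) (by rw [Subgroup.mem_comap]; simpa using ha) (e.symm b)
      (by rw [Subgroup.mem_comap]; simpa using hb)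
    have h3 := congrArg e h1
    simpa using h3
  obtain ⟨V₀, hV₀, hexp⟩ := psl2_exists_sylow_four hF h2 hab'
  have hr : (V₀ : Subgroup PSL2) ≤ e.toMonoidHom.range := by
    intro g _
    exact ⟨e.symm g, by simp⟩
  refine ⟨V₀.comapOfInjective e.toMonoidHom e.injective hr, ?_, ?_⟩
  · have h1 : ((V₀ : Subgroup PSL2).comap e.toMonoidHom).map e.toMonoidHom = V₀ :=
      Subgroup.map_comap_eq_self_of_surjective e.surjective _
    calc Nat.card ↥((V₀ : Subgroup PSL2).comap e.toMonoidHom)
        = Nat.card ↥(((V₀ : Subgroup PSL2).comap e.toMonoidHom).map e.toMonoidHom) :=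
          Nat.card_congr (e.subgroupMap _).toEquiv
      _ = 4 := by rw [h1]; exact hV₀
  · intro g hg
    have hg' : e g ∈ V₀ := hg
    have := hexp _ hg'
    rw [← map_mul] at this
    exact e.injective (this.trans (map_one e).symm)

end Cfsg.Agent.Lib.Helper19.JankoRee
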