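import Mathlib
import Cfsg.Prelude.Def_TwoFusion
import Cfsg.Agent.Lib.Helper19.JRPsl
import Cfsg.Agent.Lib.Helper19.JRInner

set_option autoImplicit false
set_option linter.unusedSectionVars false
set_option linter.style.haveILetI false

namespace Cfsg.Agent.Lib.Helper19.JankoRee

/-- The 2-local data used for the covering argument. -/
structure JRPkg {G : Type*} [Group G] (S V : Subgroup G) (t : G) : Prop where
  abel : ∀ a ∈ S, ∀ b ∈ S, a * b = b * a
  oddIndex : ¬ 2 ∣ S.index
  tS : t ∈ S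
  VS : V ≤ S
  tt : t * t = 1
  t1 : t ≠ 1
  dec : ∀ s ∈ S, s ∈ V ∨ t * s ∈ V
  exp : ∀ v ∈ V, v * v = 1
  card4 : Nat.card V = 4
  move : ∀ v ∈ V, v ≠ 1 → ∃ n : G, n * t = t * n ∧ (∀ a, a ∈ V ↔ n * a * n⁻¹ ∈ V) ∧
    n * v * n⁻¹ ≠ v
  fuse : ∃ n₀ : G, (∀ s, s ∈ S ↔ n₀ * s * n₀⁻¹ ∈ S) ∧ n₀ * t * n₀⁻¹ ≠ t

theorem abelian_of_sylow {G : Type*} [Group G]
    (hab : ∀ S : Sylow 2 G, IsMulCommutative ↥(S : Subgroup G)) :
    ∀ Q : Subgroup G, IsPGroup 2 Q → ∀ a ∈ Q, ∀ b ∈ Q, a * b = b * a := by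
  intro Q hQ a ha b hb
  obtain ⟨S, hS⟩ := hQ.exists_le_sylow
  haveI := hab S
  exact congrArg Subtype.val (mul_comm' (⟨a, hS ha⟩ : ↥(S : Subgroup G)) ⟨b, hS hb⟩)

theorem abelian_of_injective {G M : Type*} [Group G] [Group M] (f : M →* G)
    (hf : Function.Injective f)
    (h : ∀ Q : Subgroup G, IsPGroup 2 Q → ∀ a ∈ Q, ∀ b ∈ Q, a * b = b * a) :
    ∀ Q : Subgroup M, IsPGroup 2 Q → ∀ a ∈ Q, ∀ b ∈ Q, a * b = b * a := by
  intro Q hQ a ha b hb
  have := h (Q.map f) (hQ.map f) (f a) ⟨a, ha, rfl⟩ (f b) ⟨b, hb, rfl⟩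
  rw [← map_mul, ← map_mul] at this
  exact hf this

theorem zpowers_cases {G : Type*} [Group G] {u v : G} (hu : u * u = 1)
    (hv : v ∈ Subgroup.zpowers u) : v = 1 ∨ v = u := by
  obtain ⟨k, rfl⟩ := Subgroup.mem_zpowers_iff.mp hv
  have h2 : (u ^ (2 : ℤ)) = 1 := by
    rw [← pow_two] at hu
    exact_mod_cast hu
  have hk : u ^ k = u ^ (k % 2) := by
    conv_lhs => rw [← Int.mul_ediv_add_emod k 2]
    rw [zpow_add, zpow_mul, h2, one_zpow, one_mul]
  rw [hk]
  rcases Int.emod_two_eq_zero_or_one k with h | h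
  · left; rw [h, zpow_zero]
  · right; rw [h, zpow_one]

open scoped IsMulCommutative in
theorem not_comm_of_simple_of_four_dvd {M : Type*} [Group M] [Finite M] [IsSimpleGroup M]
    (h4 : 4 ∣ Nat.card M) : ¬ IsMulCommutative M := by
  intro h
  have hp : (Nat.card M).Prime := IsSimpleGroup.prime_card
  rcases (Nat.dvd_prime hp).1 h4 with h' | h'
  · omega
  · rw [← h'] at hp
    exact absurd hp (by decide)

theorem two_ne_zero_of_odd {F : Type*} [Field F] [Fintype F] (h : Odd (Fintype.card F)) :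
    (2 : F) ≠ 0 := by
  apply Ring.two_ne_zero
  intro h2
  have := FiniteField.even_card_of_char_two h2
  rw [Nat.odd_iff] at h
  omega

universe u

/-- Inside `E`: a Sylow 2-subgroup of `E` is the image of a four-group Sylow 2-subgroup of the
normal subgroup `N ≅ PSL₂(F)`. -/
theorem sylow_in_normal {E : Type u} [Group E] [Finite E] {F : Type*} [Field F] [Fintype F]
    (hFo : Odd (Fintype.card F)) (hF3 : 3 < Fintype.card F)
    (h2ab : ∀ Q : Subgroup E, IsPGroup 2 Q → ∀ a ∈ Q, ∀ b ∈ Q, a * b = b * a)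
    (N : Subgroup E) [N.Normal] (e : ↥N ≃* Matrix.ProjectiveSpecialLinearGroup (Fin 2) F)
    (hNc : Subgroup.centralizer (N : Set E) = ⊥) :
    ∃ (V : Sylow 2 ↥N) (R : Sylow 2 E), Nat.card V = 4 ∧ (∀ g ∈ V, g * g = 1) ∧
      (R : Subgroup E) = (V : Subgroup ↥N).map N.subtype ∧ IsSimpleGroup ↥N ∧
      ¬ IsMulCommutative ↥N := by
  haveI : Fact (Nat.Prime 2) := ⟨Nat.prime_two⟩
  have h2 : (2 : F) ≠ 0 := two_ne_zero_of_odd hFo
  have h2abN := abelian_of_injective N.subtype N.subtype_injective h2ab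
  obtain ⟨V, hV4, hVexp⟩ := exists_sylow_four_of_equiv hF3 h2 e h2abN
  haveI hsimpF : IsSimpleGroup (Matrix.ProjectiveSpecialLinearGroup (Fin 2) F) :=
    Matrix.ProjectiveSpecialLinearGroup.rank_two_simple
      (by rw [Nat.card_eq_fintype_card]; omega)
  have hNs : IsSimpleGroup ↥N := e.isSimpleGroup
  have h4N : 4 ∣ Nat.card ↥N := hV4 ▸ (Subgroup.card_subgroup_dvd_card (V : Subgroup ↥N))
  have hNnc : ¬ IsMulCommutative ↥N := not_comm_of_simple_of_four_dvd h4N
  set P : Subgroup E := (V : Subgroup ↥N).map N.subtype with hP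
  have hP2 : IsPGroup 2 P := V.2.map _
  have hPN : P ≤ N := Subgroup.map_subtype_le _
  have hPmax : ∀ Q : Subgroup E, Q ≤ N → IsPGroup 2 Q → P ≤ Q → Q ≤ P := by
    intro Q hQN hQ2 hPQ q hq
    have h1 : (V : Subgroup ↥N) ≤ Q.subgroupOf N := by
      intro v hv
      exact Subgroup.mem_subgroupOf.2 (hPQ ⟨v, hv, rfl⟩)
    have h3 : Q.subgroupOf N = (V : Subgroup ↥N) := V.is_maximal' (hQ2.comap_subtype) h1
    have : (⟨q, hQN hq⟩ : ↥N) ∈ Q.subgroupOf N := Subgroup.mem_subgroupOf.2 hq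
    rw [h3] at this
    exact ⟨⟨q, hQN hq⟩, this, rfl⟩
  have hP1 : P ≠ ⊥ := by
    intro h
    have hV1 : (V : Subgroup ↥N) = ⊥ :=
      (Subgroup.map_eq_bot_iff_of_injective _ N.subtype_injective).1 h
    rw [hV1, Subgroup.card_bot] at hV4
    omega
  obtain ⟨R, hR⟩ := hP2.exists_le_sylow
  have hRab := h2ab R R.2
  have hRN : (R : Subgroup E) ≤ N := by
    intro r hr
    obtain ⟨k, hk⟩ := R.2 ⟨r, hr⟩
    have hrk : r ^ (2 ^ k) = 1 := by simpa using congrArg Subtype.val hk
    apply mem_of_centralizes_sylow N hNs ?_ r k hrk P hPN hP2 hPmax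
      (fun a ha b hb => hRab a (hR ha) b (hR hb)) hP1 (fun a ha => hRab r hr a (hR ha))
    intro y hy
    have : y ∈ Subgroup.centralizer (N : Set E) := by
      rw [Subgroup.mem_centralizer_iff]
      intro i hi
      exact (hy i hi).symm
    rw [hNc, Subgroup.mem_bot] at this
    exact this
  have hRP : (R : Subgroup E) = P := le_antisymm (hPmax _ hRN R.2 hR) hR
  exact ⟨V, R, hV4, hVexp, hRP, hNs, hNnc⟩

theorem exists_pkg {G : Type*} [Group G] [Finite G] [IsSimpleGroup G]
    (hG : ¬ IsMulCommutative G) (hab : ∀ S : Sylow 2 G, IsMulCommutative ↥(S : Subgroup G))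
    (t : G) (ht : orderOf t = 2)
    (E : Subgroup G)
    (hE : Cfsg.IsInternalDirectProduct (Subgroup.zpowers t) E (Subgroup.centralizer ({t} : Set G)))
    {F : Type*} [Field F] [Fintype F] (hFo : Odd (Fintype.card F)) (hF3 : 3 < Fintype.card F)
    (N : Subgroup ↥E) [N.Normal]
    (hN : Nonempty (↥N ≃* Matrix.ProjectiveSpecialLinearGroup (Fin 2) F))
    (hNc : Subgroup.centralizer (N : Set ↥E) = ⊥) :
    ∃ (S : Sylow 2 G) (V : Subgroup G), JRPkg (S : Subgroup G) V t := by
  haveI : Fact (Nat.Prime 2) := ⟨Nat.prime_two⟩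
  have h2abG := abelian_of_sylow hab
  have h2abE := abelian_of_injective E.subtype E.subtype_injective h2abG
  obtain ⟨V, R, hV4, hVexp, hRP, hNs, hNnc⟩ := sylow_in_normal hFo hF3 h2abE N hN.some hNc
  haveI := hNs
  have h2abN := abelian_of_injective N.subtype N.subtype_injective h2abE
  set ι : ↥N →* G := E.subtype.comp N.subtype with hι
  have hιinj : Function.Injective ι := E.subtype_injective.comp N.subtype_injective
  have hιE : ∀ n : ↥N, ι n ∈ E := fun n => (n : ↥E).2
  set VG : Subgroup G := (V : Subgroup ↥N).map ι with hVG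
  have htt : t * t = 1 := by
    have := pow_orderOf_eq_one t
    rwa [ht, pow_two] at this
  have ht1 : t ≠ 1 := by
    intro h
    rw [h, orderOf_one] at ht
    omega
  obtain ⟨hzC, hEC, hcomm, hdisj, hsup⟩ := hE
  have htE : ∀ b ∈ E, t * b = b * t := fun b hb => hcomm t (Subgroup.mem_zpowers t) b hb
  have hVGE : VG ≤ E := by
    rintro _ ⟨v, _, rfl⟩
    exact hιE v
  have hT₀ : IsPGroup 2 (VG ⊔ Subgroup.zpowers t : Subgroup G) :=
    isPGroup_sup_zpowers VG (V.2.map ι) t 1 (by rw [pow_one, pow_two, htt])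
      (fun a ha => htE a (hVGE ha))
  obtain ⟨S, hS⟩ := hT₀.exists_le_sylow
  have hVS : VG ≤ S := le_sup_left.trans hS
  have htS : t ∈ S := hS (Subgroup.mem_sup_right (Subgroup.mem_zpowers t))
  have hSab := h2abG S S.2
  -- the Sylow subgroup of `E` inside `S`
  have hRS : (R : Subgroup ↥E) ≤ (S : Subgroup G).subgroupOf E := by
    intro r hr
    rw [hRP] at hr
    obtain ⟨v, hv, rfl⟩ := hr
    exact Subgroup.mem_subgroupOf.2 (hVS ⟨v, hv, rfl⟩)
  have hSE : (S : Subgroup G).subgroupOf E = (R : Subgroup ↥E) :=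
    R.is_maximal' S.2.comap_subtype hRS
  refine ⟨S, VG, ?_⟩
  refine
    { abel := hSab
      oddIndex := S.not_dvd_index
      tS := htS
      VS := hVS
      tt := htt
      t1 := ht1
      dec := ?_
      exp := ?_
      card4 := ?_
      move := ?_
      fuse := ?_ }
  · intro s hs
    have hsC : s ∈ Subgroup.centralizer ({t} : Set G) := by
      rw [Subgroup.mem_centralizer_iff]
      intro h hh
      rw [Set.mem_singleton_iff] at hh
      rw [hh]
      exact hSab t htS s hs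
    rw [← hsup] at hsC
    have hLE : Subgroup.zpowers t ≤ Subgroup.normalizer (E : Set G) := by
      intro a ha
      rw [Subgroup.mem_normalizer_iff]
      intro h
      constructor
      · intro hh
        have : a * h * a⁻¹ = h := by rw [hcomm a ha h hh]; group
        rw [this]; exact hh
      · intro hh
        have h1 := hcomm a ha _ hh
        have : h = a * h * a⁻¹ := by
          calc h = a⁻¹ * ((a * h * a⁻¹) * a) := by group
            _ = a⁻¹ * (a * (a * h * a⁻¹)) := by rw [h1]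
            _ = a * h * a⁻¹ := by group
        rw [this]; exact hh
    have hsC' : s ∈ ((Subgroup.zpowers t ⊔ E : Subgroup G) : Set G) := hsC
    rw [Subgroup.coe_mul_of_left_le_normalizer_right _ _ hLE] at hsC'
    obtain ⟨a, ha, b, hb, hsab⟩ := hsC'
    have hsab' : s = a * b := hsab.symm
    have ha : a ∈ Subgroup.zpowers t := ha
    have hb : b ∈ E := hb
    have haS : a ∈ (S : Subgroup G) := by
      rcases zpowers_cases htt ha with h | h
      · rw [h]; exact Subgroup.one_mem _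
      · rw [h]; exact htS
    have hbS : b ∈ (S : Subgroup G) := by
      have : b = a⁻¹ * s := by rw [hsab']; group
      rw [this]
      exact Subgroup.mul_mem _ (Subgroup.inv_mem _ haS) hs
    have hbV : b ∈ VG := by
      have h1 : (⟨b, hb⟩ : ↥E) ∈ (S : Subgroup G).subgroupOf E := Subgroup.mem_subgroupOf.2 hbS
      rw [hSE, hRP] at h1
      obtain ⟨v, hv, hvb⟩ := h1
      refine ⟨v, hv, ?_⟩
      exact congrArg Subtype.val hvb
    rcases zpowers_cases htt ha with h | h
    · left; rw [hsab', h, one_mul]; exact hbV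
    · right
      rw [hsab', h, ← mul_assoc, htt, one_mul]; exact hbV
  · rintro _ ⟨v, hv, rfl⟩
    rw [← map_mul, hVexp v hv, map_one]
  · rw [hVG, Subgroup.card_map_of_injective hιinj]
    exact hV4
  · rintro _ ⟨v, hv, rfl⟩ hv1
    have hv1' : v ≠ 1 := by
      rintro rfl
      exact hv1 (map_one ι)
    have h4N : 4 ∣ Nat.card ↥N := hV4 ▸ (Subgroup.card_subgroup_dvd_card (V : Subgroup ↥N))
    obtain ⟨n', hn', hnv⟩ := exists_normalizer_moves V (h2abN V V.2) (⊤ : Subgroup ↥N)
      Subgroup.topEquiv.isSimpleGroup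
      (by rw [Subgroup.card_top]; exact (by decide : 2 ∣ 4).trans h4N)
      (fun y hy => eq_one_of_forall_comm hNnc y (fun i => hy i (Subgroup.mem_top i))) v hv hv1'
    refine ⟨ι n', (htE _ (hιE n')).symm, ?_, ?_⟩
    · intro a
      constructor
      · rintro ⟨a', ha', rfl⟩
        refine ⟨n' * a' * n'⁻¹, (Subgroup.mem_normalizer_iff.1 hn' a').1 ha', ?_⟩
        simp only [map_mul, map_inv]
      · rintro ⟨w, hw, hwa⟩
        refine ⟨n'⁻¹ * w * n', ?_, ?_⟩
        · apply (Subgroup.mem_normalizer_iff.1 hn' _).2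
          have : n' * (n'⁻¹ * w * n') * n'⁻¹ = w := by group
          rw [this]; exact hw
        · simp only [map_mul, map_inv, hwa]
          group
    · intro h
      apply hnv
      apply hιinj
      simpa only [map_mul, map_inv] using h
  · have h2G : 2 ∣ Nat.card G := ht ▸ orderOf_dvd_natCard t
    obtain ⟨n₀, hn₀, hnt⟩ := exists_normalizer_moves S hSab (⊤ : Subgroup G)
      Subgroup.topEquiv.isSimpleGroup (by rw [Subgroup.card_top]; exact h2G)
      (fun y hy => eq_one_of_forall_comm hG y (fun i => hy i (Subgroup.mem_top i))) t htS ht1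
    exact ⟨n₀, fun s => Subgroup.mem_normalizer_iff.1 hn₀ s, hnt⟩

end Cfsg.Agent.Lib.Helper19.JankoRee
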