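import Mathlib
import Cfsg.Agent.Lib.Helper19.JRSylow

set_option autoImplicit false
set_option linter.unusedSectionVars false
set_option linter.style.haveILetI false

namespace Cfsg.Agent.Lib.Helper19.JankoRee

open scoped IsMulCommutative in
/-- Transfer into an abelian subgroup of a perfect group kills central elements. -/
theorem central_pow_index_eq_one {L : Type*} [Group L] (hperf : commutator L = ⊤)
    (H : Subgroup L) [H.FiniteIndex] (hH : ∀ a ∈ H, ∀ b ∈ H, a * b = b * a) (z : L)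
    (hz : ∀ l : L, z * l = l * z) : z ^ H.index = 1 := by
  haveI : IsMulCommutative ↥H := ⟨⟨fun a b => Subtype.ext (hH a a.2 b b.2)⟩⟩
  have key : ∀ (k : ℕ) (g₀ : L), g₀⁻¹ * z ^ k * g₀ ∈ H → g₀⁻¹ * z ^ k * g₀ = z ^ k := by
    intro k g₀ _
    have h0 : Commute z g₀ := hz g₀
    have : Commute (z ^ k) g₀ := h0.pow_left k
    rw [mul_assoc, this.eq, ← mul_assoc, inv_mul_cancel, one_mul]
  have h1 := MonoidHom.transfer_eq_pow (MonoidHom.id ↥H) z key
  have h2 : MonoidHom.transfer (MonoidHom.id ↥H) z = 1 := by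
    have : z ∈ (MonoidHom.transfer (MonoidHom.id ↥H)).ker := by
      apply Abelianization.commutator_subset_ker
      rw [hperf]; trivial
    exact MonoidHom.mem_ker.1 this
  rw [h2] at h1
  have := congrArg Subtype.val h1
  simpa using this.symm

theorem four_elems {G : Type*} [Group G] (V : Subgroup G) (h4 : Nat.card V = 4) (v w : G)
    (hv : v ∈ V) (hw : w ∈ V) (hv1 : v ≠ 1) (hw1 : w ≠ 1) (hvw : v ≠ w) (hvw1 : v * w ≠ 1) :
    ∀ g ∈ V, g = 1 ∨ g = v ∨ g = w ∨ g = v * w := by
  have hfin : Finite ↥V := Nat.finite_of_card_ne_zero (by rw [h4]; norm_num)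
  have hVfin : ((V : Subgroup G) : Set G).Finite := Set.toFinite _
  have hcard : ((V : Subgroup G) : Set G).ncard = 4 := by
    rw [← Nat.card_coe_set_eq]; exact h4
  have hsub : ({1, v, w, v * w} : Set G) ⊆ ((V : Subgroup G) : Set G) := by
    intro g hg
    simp only [Set.mem_insert_iff, Set.mem_singleton_iff] at hg
    rcases hg with rfl | rfl | rfl | rfl
    · exact V.one_mem
    · exact hv
    · exact hw
    · exact V.mul_mem hv hw
  have hxyx : v * w ≠ v := by
    intro h
    apply hw1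
    calc w = v⁻¹ * (v * w) := by group
      _ = 1 := by rw [h]; group
  have hxyy : v * w ≠ w := by
    intro h
    apply hv1
    calc v = (v * w) * w⁻¹ := by group
      _ = 1 := by rw [h]; group
  have hA : ({1, v, w, v * w} : Set G).ncard = 4 := by
    rw [Set.ncard_insert_of_notMem, Set.ncard_insert_of_notMem, Set.ncard_insert_of_notMem,
      Set.ncard_singleton]
    · simp only [Set.mem_singleton_iff]; exact fun h => hxyy h.symm
    · simp only [Set.mem_insert_iff, Set.mem_singleton_iff]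
      rintro (h | h)
      · exact hvw h
      · exact hxyx h.symm
    · simp only [Set.mem_insert_iff, Set.mem_singleton_iff]
      rintro (h | h | h)
      · exact hv1 h.symm
      · exact hw1 h.symm
      · exact hvw1 h.symm
  have heq := Set.eq_of_subset_of_ncard_le hsub (by rw [hcard, hA]) hVfin
  intro g hg
  have : g ∈ ({1, v, w, v * w} : Set G) := by rw [heq]; exact hg
  simpa only [Set.mem_insert_iff, Set.mem_singleton_iff] using this

section comm

variable {L : Type*} [Group L]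

/-- the commutator, as a plain function -/
def cm (a b : L) : L := a * b * a⁻¹ * b⁻¹

theorem cm_eq_one_iff (a b : L) : cm a b = 1 ↔ a * b = b * a := by
  unfold cm
  constructor
  · intro h
    calc a * b = (a * b * a⁻¹ * b⁻¹) * (b * a) := by group
      _ = b * a := by rw [h, one_mul]
  · intro h
    calc a * b * a⁻¹ * b⁻¹ = (a * b) * a⁻¹ * b⁻¹ := by group
      _ = 1 := by rw [h]; group

theorem cm_mul_right (a b c : L) (hc : ∀ l : L, cm a c * l = l * cm a c) :
    cm a (b * c) = cm a b * cm a c := by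
  have h1 : cm a (b * c) = (a * b * a⁻¹) * (cm a c * b⁻¹) := by unfold cm; group
  rw [h1, hc b⁻¹]
  unfold cm; group

theorem cm_central_right (a b z : L) (hz : ∀ l : L, z * l = l * z) : cm a (b * z) = cm a b := by
  have h1 : cm a (b * z) = a * b * (z * a⁻¹) * z⁻¹ * b⁻¹ := by unfold cm; group
  rw [h1, hz a⁻¹]
  unfold cm; group

theorem cm_central_left (a b z : L) (hz : ∀ l : L, z * l = l * z) : cm (a * z) b = cm a b := by
  have h1 : cm (a * z) b = a * (z * b) * z⁻¹ * a⁻¹ * b⁻¹ := by unfold cm; group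
  rw [h1, hz b]
  unfold cm; group

theorem cm_conj (a b n : L) : cm a (n * b * n⁻¹) = n * cm (n⁻¹ * a * n) b * n⁻¹ := by
  unfold cm; group

theorem conj_central (z l : L) (hz : ∀ l : L, z * l = l * z) : l * z * l⁻¹ = z := by
  rw [← hz l]; group

end comm

/-- Lifts of `t` commute with lifts of elements of the four-group `V`. -/
theorem lift_comm_of_pkg {G : Type*} [Group G] (S V : Subgroup G) (t : G) (pkg : JRPkg S V t)
    {L : Type*} [Group L] (π : L →* G) (hπ : Function.Surjective π)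
    (hker : ∀ z : L, π z = 1 → ∀ l : L, z * l = l * z)
    (th : L) (hth : π th = t) (vh : L) (hvh : π vh ∈ V) : th * vh = vh * th := by
  have d1 : ∀ x : L, π x ∈ S → ∀ l : L, cm th x * l = l * cm th x := by
    intro x hx
    apply hker
    unfold cm
    simp only [map_mul, map_inv, hth]
    rw [pkg.abel t pkg.tS (π x) hx]
    group
  have d3 : ∀ x y : L, π x = π y → cm th x = cm th y := by
    intro x y hxy
    have h1 : y = x * (x⁻¹ * y) := by group
    rw [h1, cm_central_right]
    apply hker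
    rw [map_mul, map_inv, hxy, inv_mul_cancel]
  have d4 : ∀ nh x : L, π nh * t = t * π nh → π x ∈ S → cm th (nh * x * nh⁻¹) = cm th x := by
    intro nh x hn hx
    rw [cm_conj]
    have h1 : nh⁻¹ * th * nh = th * (th⁻¹ * nh⁻¹ * th * nh) := by group
    rw [h1, cm_central_left]
    · exact conj_central _ _ (d1 x hx)
    · apply hker
      simp only [map_mul, map_inv, hth]
      calc t⁻¹ * (π nh)⁻¹ * t * π nh = t⁻¹ * (π nh)⁻¹ * (t * π nh) := by group
        _ = 1 := by rw [← hn]; group
  by_cases hv1 : π vh = 1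
  · exact (hker vh hv1 th).symm
  · set v := π vh with hv
    obtain ⟨n, hnt, hnV, hnv⟩ := pkg.move v hvh hv1
    obtain ⟨nh, rfl⟩ := hπ n
    set wh := nh * vh * nh⁻¹ with hwh
    set w := π nh * v * (π nh)⁻¹ with hw
    have hπwh : π wh = w := by rw [hwh, hw, hv]; simp only [map_mul, map_inv]
    have hwV : w ∈ V := (hnV v).1 hvh
    have hdw : cm th wh = cm th vh := d4 nh vh hnt (pkg.VS hvh)
    have hduh : cm th (vh * wh) = cm th vh * cm th vh := by
      rw [cm_mul_right _ _ _ (d1 wh (by rw [hπwh]; exact pkg.VS hwV)), hdw]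
    have hvv : v * v = 1 := pkg.exp v hvh
    have hw1 : w ≠ 1 := by
      intro h
      apply hv1
      calc v = (π nh)⁻¹ * w * π nh := by rw [hw]; group
        _ = 1 := by rw [h]; group
    have hvw : v ≠ w := fun h => hnv h.symm
    have hu1 : v * w ≠ 1 := by
      intro h
      apply hvw
      calc v = v * (v * w) := by rw [h, mul_one]
        _ = (v * v) * w := by group
        _ = w := by rw [hvv, one_mul]
    have huV : v * w ∈ V := V.mul_mem hvh hwV
    have four := four_elems V pkg.card4 v w hvh hwV hv1 hw1 hvw hu1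
    obtain ⟨n', hn't, hn'V, hn'u⟩ := pkg.move (v * w) huV hu1
    obtain ⟨nh', rfl⟩ := hπ n'
    set u' := π nh' * (v * w) * (π nh')⁻¹ with hu'
    have hu'V : u' ∈ V := (hn'V _).1 huV
    have hu'1 : u' ≠ 1 := by
      intro h
      apply hu1
      calc v * w = (π nh')⁻¹ * u' * π nh' := by rw [hu']; group
        _ = 1 := by rw [h]; group
    have hπuh : π (vh * wh) = v * w := by rw [map_mul, hπwh]
    have hduh' : cm th (nh' * (vh * wh) * nh'⁻¹) = cm th (vh * wh) :=
      d4 nh' (vh * wh) hn't (by rw [hπuh]; exact pkg.VS huV)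
    have hπuh' : π (nh' * (vh * wh) * nh'⁻¹) = u' := by
      rw [hu', map_mul, map_mul, map_inv, hπuh]
    have hfin : cm th vh * cm th vh = cm th vh := by
      rcases four u' hu'V with h | h | h | h
      · exact absurd h hu'1
      · rw [← hduh, ← hduh']
        exact d3 _ _ (by rw [hπuh', h])
      · rw [← hduh, ← hduh', ← hdw]
        exact d3 _ _ (by rw [hπuh', h, hπwh])
      · exact absurd h hn'u
    have : cm th vh = 1 := by
      calc cm th vh = (cm th vh)⁻¹ * (cm th vh * cm th vh) := by group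
        _ = 1 := by rw [hfin]; group
    exact (cm_eq_one_iff _ _).1 this

theorem move_facts {G : Type*} [Group G] (v n : G) (hv1 : v ≠ 1) (hvv : v * v = 1)
    (hnv : n * v * n⁻¹ ≠ v) :
    n * v * n⁻¹ ≠ 1 ∧ v ≠ n * v * n⁻¹ ∧ v * (n * v * n⁻¹) ≠ 1 := by
  refine ⟨?_, fun h => hnv h.symm, ?_⟩
  · intro h
    apply hv1
    calc v = n⁻¹ * (n * v * n⁻¹) * n := by group
      _ = 1 := by rw [h]; group
  · intro h
    apply hnv
    calc n * v * n⁻¹ = (v * v) * (n * v * n⁻¹) := by rw [hvv, one_mul]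
      _ = v * (v * (n * v * n⁻¹)) := by group
      _ = v := by rw [h, mul_one]

/-- A perfect central extension of `G` by a 2-group is trivial, under the 2-local hypotheses
collected in `JRPkg`. -/
theorem cover_trivial {G : Type*} [Group G] (S V : Subgroup G) (t : G) (pkg : JRPkg S V t)
    {L : Type*} [Group L] [Finite L] (π : L →* G) (hπ : Function.Surjective π)
    (hperf : commutator L = ⊤) (hker : π.ker ≤ Subgroup.center L) (hker2 : IsPGroup 2 π.ker) :
    π.ker = ⊥ := by
  have hcen : ∀ z : L, π z = 1 → ∀ l : L, z * l = l * z := by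
    intro z hz l
    have := hker (MonoidHom.mem_ker.2 hz)
    exact ((Subgroup.mem_center_iff.1 this) l).symm
  obtain ⟨th, hth⟩ := hπ t
  set Sh : Subgroup L := S.comap π with hSh
  set K : Subgroup L := Sh ⊓ Subgroup.centralizer (Sh : Set L) with hK
  have memK : ∀ k : L, k ∈ K ↔ π k ∈ S ∧ ∀ s : L, π s ∈ S → s * k = k * s := by
    intro k
    rw [hK, Subgroup.mem_inf, Subgroup.mem_centralizer_iff]
    rfl
  have hZK : ∀ z : L, π z = 1 → z ∈ K := by
    intro z hz
    rw [memK]
    exact ⟨by rw [hz]; exact S.one_mem, fun s _ => (hcen z hz s).symm⟩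
  have hK2 : ∀ k k' : L, k ∈ K → π k' = π k → k' ∈ K := by
    intro k k' hk hkk
    have : k' = k * (k⁻¹ * k') := by group
    rw [this]
    exact K.mul_mem hk (hZK _ (by rw [map_mul, map_inv, hkk, inv_mul_cancel]))
  have hK3 : ∀ nh : L, (∀ s, s ∈ S ↔ π nh * s * (π nh)⁻¹ ∈ S) → ∀ k ∈ K,
      nh * k * nh⁻¹ ∈ K := by
    intro nh hn k hk
    rw [memK] at hk ⊢
    refine ⟨by simp only [map_mul, map_inv]; exact (hn _).1 hk.1, ?_⟩
    intro s hs
    have h1 : π (nh⁻¹ * s * nh) ∈ S := by
      rw [hn]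
      simp only [map_mul, map_inv]
      have : π nh * ((π nh)⁻¹ * π s * π nh) * (π nh)⁻¹ = π s := by group
      rw [this]; exact hs
    have h2 := hk.2 _ h1
    calc s * (nh * k * nh⁻¹) = nh * ((nh⁻¹ * s * nh) * k) * nh⁻¹ := by group
      _ = nh * (k * (nh⁻¹ * s * nh)) * nh⁻¹ := by rw [h2]
      _ = nh * k * nh⁻¹ * s := by group
  have hthK : th ∈ K := by
    rw [memK]
    refine ⟨by rw [hth]; exact pkg.tS, ?_⟩
    intro s hs
    rcases pkg.dec (π s) hs with h | h
    · exact (lift_comm_of_pkg S V t pkg π hπ hcen th hth s h).symm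
    · have h1 := lift_comm_of_pkg S V t pkg π hπ hcen th hth (th * s)
        (by rw [map_mul, hth]; exact h)
      exact (mul_left_cancel (h1.trans (mul_assoc th s th))).symm
  -- the fused conjugate of `t`
  obtain ⟨n₀, hn₀S, hn₀t⟩ := pkg.fuse
  obtain ⟨nh₀, rfl⟩ := hπ n₀
  have hth'K : nh₀ * th * nh₀⁻¹ ∈ K := hK3 nh₀ hn₀S th hthK
  have hπth' : π (nh₀ * th * nh₀⁻¹) = π nh₀ * t * (π nh₀)⁻¹ := by
    simp only [map_mul, map_inv, hth]
  have ht'S : π nh₀ * t * (π nh₀)⁻¹ ∈ S := (hn₀S t).1 pkg.tS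
  have hK6 : ∃ v ∈ V, v ≠ 1 ∧ ∃ vh ∈ K, π vh = v := by
    rcases pkg.dec _ ht'S with h | h
    · refine ⟨_, h, ?_, _, hth'K, hπth'⟩
      intro h1
      apply pkg.t1
      calc t = (π nh₀)⁻¹ * (π nh₀ * t * (π nh₀)⁻¹) * π nh₀ := by group
        _ = 1 := by rw [h1]; group
    · refine ⟨_, h, ?_, th * (nh₀ * th * nh₀⁻¹), K.mul_mem hthK hth'K, ?_⟩
      · intro h1
        apply hn₀t
        calc π nh₀ * t * (π nh₀)⁻¹ = (t * t) * (π nh₀ * t * (π nh₀)⁻¹) := by
              rw [pkg.tt, one_mul]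
          _ = t * (t * (π nh₀ * t * (π nh₀)⁻¹)) := by group
          _ = t := by rw [h1, mul_one]
      · rw [map_mul, hπth', hth]
  obtain ⟨v, hvV, hv1, vh, hvhK, hπvh⟩ := hK6
  obtain ⟨n, hnt, hnV, hnv⟩ := pkg.move v hvV hv1
  obtain ⟨nh, rfl⟩ := hπ n
  have hnS : ∀ s, s ∈ S ↔ π nh * s * (π nh)⁻¹ ∈ S := by
    intro s
    have hconj : π nh * (t * s) * (π nh)⁻¹ = t * (π nh * s * (π nh)⁻¹) := by
      calc π nh * (t * s) * (π nh)⁻¹ = (π nh * t) * s * (π nh)⁻¹ := by group
        _ = t * (π nh * s * (π nh)⁻¹) := by rw [hnt]; group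
    constructor
    · intro hs
      rcases pkg.dec s hs with h | h
      · exact pkg.VS ((hnV s).1 h)
      · have h1 := (hnV _).1 h
        rw [hconj] at h1
        have : π nh * s * (π nh)⁻¹ = t⁻¹ * (t * (π nh * s * (π nh)⁻¹)) := by group
        rw [this]
        exact S.mul_mem (S.inv_mem pkg.tS) (pkg.VS h1)
    · intro hs
      rcases pkg.dec _ hs with h | h
      · exact pkg.VS ((hnV s).2 h)
      · rw [← hconj] at h
        have h1 := (hnV _).2 h
        have : s = t⁻¹ * (t * s) := by group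
        rw [this]
        exact S.mul_mem (S.inv_mem pkg.tS) (pkg.VS h1)
  have hwhK : nh * vh * nh⁻¹ ∈ K := hK3 nh hnS vh hvhK
  have hπwh : π (nh * vh * nh⁻¹) = π nh * v * (π nh)⁻¹ := by
    simp only [map_mul, map_inv, hπvh]
  have hwV : π nh * v * (π nh)⁻¹ ∈ V := (hnV v).1 hvV
  obtain ⟨hw1, hvw, hvw1⟩ := move_facts v (π nh) hv1 (pkg.exp v hvV) hnv
  have four := four_elems V pkg.card4 v _ hvV hwV hv1 hw1 hvw hvw1
  have hK7 : ∀ g ∈ V, ∀ gh : L, π gh = g → gh ∈ K := by
    intro g hg gh hgh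
    rcases four g hg with h | h | h | h
    · exact hZK gh (hgh.trans h)
    · exact hK2 vh gh hvhK (hgh.trans (h.trans hπvh.symm))
    · exact hK2 _ gh hwhK (hgh.trans (h.trans hπwh.symm))
    · exact hK2 _ gh (K.mul_mem hvhK hwhK)
        (hgh.trans (h.trans (by rw [map_mul, hπwh, hπvh])))
  have hK8 : ∀ sh : L, π sh ∈ S → sh ∈ K := by
    intro sh hsh
    rcases pkg.dec _ hsh with h | h
    · exact hK7 _ h sh rfl
    · have h1 : th * sh ∈ K := hK7 _ h (th * sh) (by rw [map_mul, hth])
      have : sh = th⁻¹ * (th * sh) := by group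
      rw [this]
      exact K.mul_mem (K.inv_mem hthK) h1
  have hShab : ∀ a ∈ Sh, ∀ b ∈ Sh, a * b = b * a := by
    intro a ha b hb
    exact (((memK a).1 (hK8 a ha)).2 b hb).symm
  rw [Subgroup.eq_bot_iff_forall]
  intro z hz
  have hz1 : π z = 1 := MonoidHom.mem_ker.1 hz
  have h1 : z ^ Sh.index = 1 := central_pow_index_eq_one hperf Sh hShab z (hcen z hz1)
  have hidx : Sh.index = S.index := Subgroup.index_comap_of_surjective S hπ
  obtain ⟨k, hk⟩ := hker2 ⟨z, hz⟩
  have hzk : z ^ (2 ^ k) = 1 := by simpa using congrArg Subtype.val hk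
  have hcop : Nat.Coprime Sh.index (2 ^ k) := by
    rw [hidx]
    exact Nat.Coprime.pow_right k
      (Nat.coprime_comm.1 ((Nat.Prime.coprime_iff_not_dvd Nat.prime_two).2 pkg.oddIndex))
  have h3 : orderOf z = 1 :=
    Nat.eq_one_of_dvd_coprimes hcop (orderOf_dvd_of_pow_eq_one h1) (orderOf_dvd_of_pow_eq_one hzk)
  exact orderOf_eq_one_iff.1 h3

end Cfsg.Agent.Lib.Helper19.JankoRee
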