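import Mathlib
import Cfsg.Agent.Lib.helper15.St2

set_option autoImplicit false

namespace Cfsg.Agent.Lib.Helper19.L211

open Equiv Cfsg.Agent.Lib.helper15.St2

def fA : Fin 11 → Fin 11 := ![1,2,3,4,5,6,7,8,9,10,0]
def gA : Fin 11 → Fin 11 := ![10,0,1,2,3,4,5,6,7,8,9]
def fB : Fin 11 → Fin 11 := ![3,2,0,6,5,10,8,9,7,4,1]
def gB : Fin 11 → Fin 11 := ![2,10,1,0,9,4,3,8,6,7,5]

def A0 : Perm (Fin 11) := ⟨fA, gA, by decide, by decide⟩
def B0 : Perm (Fin 11) := ⟨fB, gB, by decide, by decide⟩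

/-- the images of the root elements of `SL₂(11)` in its action on the 11 cosets of an `A₅` -/
def M0 (b : Bool) (t : ZMod 11) : Perm (Fin 11) := (cond b A0 B0) ^ t.val

set_option maxRecDepth 100000 in
lemma M0_add : ∀ (b : Bool) (t u : ZMod 11), M0 b t * M0 b u = M0 b (t + u) := by decide +kernel

set_option maxRecDepth 100000 in
lemma M0_rel : ∀ (b : Bool) (t s u : ZMod 11), t * s = 1 →
    (M0 b t * M0 (!b) (-s) * M0 b t) * M0 b u =
      M0 (!b) (-(s ^ 2 * u)) * (M0 b t * M0 (!b) (-s) * M0 b t) := by decide +kernel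

set_option maxRecDepth 100000 in
lemma M0_w : (M0 true 1 * M0 false (-1) * M0 true 1) * (M0 true 1 * M0 false (-1) * M0 true 1) = 1 := by
  decide +kernel

instance fact11 : Fact (Nat.Prime 11) := ⟨by norm_num⟩

/-- the Steinberg datum in `Perm (Fin 11)` -/
def S0 : St (ZMod 11) (Perm (Fin 11)) where
  X := M0
  add := M0_add
  rel b t u ht := by
    unfold cj
    rw [mul_inv_eq_iff_eq_mul]
    exact M0_rel b t t⁻¹ u (mul_inv_cancel₀ ht)

/-- the element of order 3 -/
def x3 : Perm (Fin 11) := M0 true 2 * M0 false 5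
/-- the Weyl involution -/
def w2 : Perm (Fin 11) := M0 true 1 * M0 false (-1) * M0 true 1
/-- the element of order 5 -/
def y5 : Perm (Fin 11) := M0 false (-5) * M0 true (-2) * w2

set_option maxRecDepth 100000 in
lemma x3_pow : x3 ^ 3 = 1 := by decide +kernel
set_option maxRecDepth 100000 in
lemma y5_pow : y5 ^ 5 = 1 := by decide +kernel
set_option maxRecDepth 100000 in
lemma xy_pow : (x3 * y5) ^ 2 = 1 := by decide +kernel
set_option maxRecDepth 100000 in
lemma x3_ne : x3 ≠ 1 := by decide +kernel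
set_option maxRecDepth 100000 in
lemma x3_zero : x3 0 = 0 := by decide +kernel
set_option maxRecDepth 100000 in
lemma y5_zero : y5 0 = 0 := by decide +kernel
set_option maxRecDepth 100000 in
lemma w2_zero : w2 0 = 0 := by decide +kernel
set_option maxRecDepth 100000 in
lemma M0_ne : M0 true 1 ≠ 1 := by decide +kernel

set_option maxRecDepth 100000 in
lemma A_pow : ∀ i : Fin 11, (M0 true 1 ^ i.val) 0 = i := by decide +kernel

set_option maxRecDepth 100000 in
lemma trans2 : ∀ j : Fin 11, j ≠ 0 → ∃ k l : Fin 5, ∃ e : Fin 2,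
    (y5 ^ k.val * w2 ^ e.val * y5 ^ l.val) 0 = 0 ∧
    (y5 ^ k.val * w2 ^ e.val * y5 ^ l.val) 1 = j := by decide +kernel

end Cfsg.Agent.Lib.Helper19.L211
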