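import Mathlib
import Cfsg.Agent.Lib.helper15.St2

set_option autoImplicit false

namespace Cfsg.Agent.Lib.Helper19.L211b

open Equiv Cfsg.Agent.Lib.helper15.St2

/-- table lookup in a base-16 encoded table -/
def lk (N : ℕ) (i : Fin 11) : Fin 11 := ⟨N / 16 ^ i.val % 16 % 11, Nat.mod_lt _ (by norm_num)⟩

def sg : Fin 11 → Fin 11 := lk 2312111621680
def sgi : Fin 11 → Fin 11 := lk 9153690344080

lemma sg_sgi : ∀ i, sg (sgi i) = i := by decide
lemma sgi_sg : ∀ i, sgi (sg i) = i := by decide

/-- `ZMod 11` is `Fin 11` -/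
def tz (t : ZMod 11) : Fin 11 := t

/-- the images of the root elements of `SL₂(11)` in its action on the 11 cosets of an `A₅` -/
def M0f (b : Bool) (t : ZMod 11) : Perm (Fin 11) :=
  match b with
  | true => ⟨fun i => i + tz t, fun i => i - tz t, fun i => by simp, fun i => by simp⟩
  | false => ⟨fun i => sg (sgi i + tz t), fun i => sg (sgi i - tz t),
      fun i => by simp [sgi_sg, sg_sgi], fun i => by simp [sgi_sg, sg_sgi]⟩

/-- pairs of permutations of 11 points: the two actions of `PSL₂(11)` of degree 11 -/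
abbrev PP := Perm (Fin 11) × Perm (Fin 11)

/-- root elements in the two actions (the second one twisted by the diagonal automorphism) -/
def M2 (b : Bool) (t : ZMod 11) : PP := (M0f b t, M0f b (cond b 2 6 * t))

set_option maxRecDepth 100000 in
lemma M2_add : ∀ (b : Bool) (t u : ZMod 11), M2 b t * M2 b u = M2 b (t + u) := by decide +kernel

set_option maxRecDepth 100000 in
lemma M2_rel : ∀ (b : Bool) (t s u : ZMod 11), t * s = 1 →
    (M2 b t * M2 (!b) (-s) * M2 b t) * M2 b u =
      M2 (!b) (-(s ^ 2 * u)) * (M2 b t * M2 (!b) (-s) * M2 b t) := by decide +kernel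

set_option maxRecDepth 100000 in
lemma M2_w : (M2 true 1 * M2 false (-1) * M2 true 1) * (M2 true 1 * M2 false (-1) * M2 true 1) = 1 := by
  decide +kernel

set_option maxRecDepth 100000 in
lemma M2_ne : M2 true 1 ≠ 1 := by decide +kernel

instance fact11 : Fact (Nat.Prime 11) := ⟨by norm_num⟩

/-- the Steinberg datum in `PP` -/
def D2 : St (ZMod 11) PP where
  X := M2
  add := M2_add
  rel b t u ht := by
    unfold cj
    rw [mul_inv_eq_iff_eq_mul]
    exact M2_rel b t t⁻¹ u (mul_inv_cancel₀ ht)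

/-- selecting one of the two actions -/
def sel (c : Bool) (z : PP) : Perm (Fin 11) := cond c z.1 z.2

/-- the Bruhat normal form parametrization of the image of `PSL₂(11)` in `PP` -/
def evp (p : ZMod 11 × ZMod 11 × Option (ZMod 11)) : PP :=
  match p with
  | (a, t, some b) => D2.x a * D2.w t * D2.x b
  | (a, t, none) => D2.x a * D2.h t

/-- a permutation from two encoded tables -/
def mkP (N M : ℕ) (h1 : ∀ i, lk M (lk N i) = i) (h2 : ∀ i, lk N (lk M i) = i) : Perm (Fin 11) :=
  ⟨lk N, lk M, h1, h2⟩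

/-- the two elements of order 3 fixing the points 0 and 1 in the first action -/
def X1 : PP := (mkP 5953672399120 8956242261520 (by decide) (by decide),
  mkP 4020458984770 10137299427445 (by decide) (by decide))
def X2 : PP := (mkP 8956242261520 5953672399120 (by decide) (by decide),
  mkP 10137299427445 4020458984770 (by decide) (by decide))

set_option maxRecDepth 100000 in
lemma ord3_chk : ∀ p, (evp p).1 0 = 0 → (evp p).1 1 = 1 → (evp p) ^ 3 = 1 →
    evp p = 1 ∨ evp p = X1 ∨ evp p = X2 := by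
  decide +kernel

set_option maxHeartbeats 0 in
set_option maxRecDepth 100000 in
lemma main_chk1 : ∀ q, (∃ c : Bool, ∃ i : Fin 11, sel c X1 i = i ∧ sel c (evp q) i = i) ∨
    ¬ ((X1 * evp q) ^ 2 = 1) ∨ ¬ ((evp q) ^ 5 = 1) := by
  decide +kernel

set_option maxHeartbeats 0 in
set_option maxRecDepth 100000 in
lemma main_chk2 : ∀ q, (∃ c : Bool, ∃ i : Fin 11, sel c X2 i = i ∧ sel c (evp q) i = i) ∨
    ¬ ((X2 * evp q) ^ 2 = 1) ∨ ¬ ((evp q) ^ 5 = 1) := by
  decide +kernel

set_option maxHeartbeats 0 in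
set_option maxRecDepth 100000 in
lemma distinct : ∀ (c : Bool) (i : Fin 11) (c' : Bool) (i' : Fin 11), (c, i) ≠ (c', i') →
    ∃ p, sel c (evp p) i = i ∧ sel c' (evp p) i' ≠ i' := by
  decide +kernel

set_option maxRecDepth 100000 in
lemma trans1 : ∀ (c : Bool) (i : Fin 11), ∃ k : Fin 11, sel c (M2 true 1 ^ k.val) 0 = i := by
  decide +kernel

def x3a : PP := M2 true 2 * M2 false 5
def w2a : PP := M2 true 1 * M2 false (-1) * M2 true 1
def y5a : PP := M2 false (-5) * M2 true (-2) * w2a
def x3b : PP := M2 true 1 * M2 false 10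
def w2b : PP := M2 true 6 * M2 false (-2) * M2 true 6
def y5b : PP := M2 false (-10) * M2 true (-1) * w2b

/-- the generating pair of the point stabilizer in action `c` -/
def x3c (c : Bool) : PP := cond c x3a x3b
def y5c (c : Bool) : PP := cond c y5a y5b

set_option maxRecDepth 100000 in
lemma x3c_pow : ∀ c, x3c c ^ 3 = 1 := by decide +kernel
set_option maxRecDepth 100000 in
lemma y5c_pow : ∀ c, y5c c ^ 5 = 1 := by decide +kernel
set_option maxRecDepth 100000 in
lemma xyc_pow : ∀ c, (x3c c * y5c c) ^ 2 = 1 := by decide +kernel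
set_option maxRecDepth 100000 in
lemma x3c_ne : ∀ c, x3c c ≠ 1 := by decide +kernel
set_option maxRecDepth 100000 in
lemma x3c_zero : ∀ c, sel c (x3c c) 0 = 0 := by decide +kernel
set_option maxRecDepth 100000 in
lemma y5c_zero : ∀ c, sel c (y5c c) 0 = 0 := by decide +kernel

set_option maxRecDepth 100000 in
lemma trans2 : ∀ j : Fin 11, j ≠ 0 → ∃ k l : Fin 5, ∃ e : Fin 2,
    (y5a ^ k.val * w2a ^ e.val * y5a ^ l.val).1 0 = 0 ∧
    (y5a ^ k.val * w2a ^ e.val * y5a ^ l.val).1 1 = j := by decide +kernel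

set_option maxRecDepth 100000 in
lemma A_pow : ∀ i : Fin 11, (M2 true 1 ^ i.val).1 0 = i := by decide +kernel

end Cfsg.Agent.Lib.Helper19.L211b
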