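import Mathlib

set_option autoImplicit false

namespace Cfsg.Agent.Lib.Helper19.L27

structure U9 where
  (r11 i11 r12 i12 r13 i13 r21 i21 r22 i22 r23 i23 r31 i31 r32 i32 r33 i33 : ZMod 3)
deriving DecidableEq

def U9.mul (x y : U9) : U9 :=
  ⟨(x.r11 * y.r11 - x.i11 * y.i11) + (x.r12 * y.r21 - x.i12 * y.i21) + (x.r13 * y.r31 - x.i13 * y.i31),
   (x.r11 * y.i11 + x.i11 * y.r11) + (x.r12 * y.i21 + x.i12 * y.r21) + (x.r13 * y.i31 + x.i13 * y.r31),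
   (x.r11 * y.r12 - x.i11 * y.i12) + (x.r12 * y.r22 - x.i12 * y.i22) + (x.r13 * y.r32 - x.i13 * y.i32),
   (x.r11 * y.i12 + x.i11 * y.r12) + (x.r12 * y.i22 + x.i12 * y.r22) + (x.r13 * y.i32 + x.i13 * y.r32),
   (x.r11 * y.r13 - x.i11 * y.i13) + (x.r12 * y.r23 - x.i12 * y.i23) + (x.r13 * y.r33 - x.i13 * y.i33),
   (x.r11 * y.i13 + x.i11 * y.r13) + (x.r12 * y.i23 + x.i12 * y.r23) + (x.r13 * y.i33 + x.i13 * y.r33),
   (x.r21 * y.r11 - x.i21 * y.i11) + (x.r22 * y.r21 - x.i22 * y.i21) + (x.r23 * y.r31 - x.i23 * y.i31),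
   (x.r21 * y.i11 + x.i21 * y.r11) + (x.r22 * y.i21 + x.i22 * y.r21) + (x.r23 * y.i31 + x.i23 * y.r31),
   (x.r21 * y.r12 - x.i21 * y.i12) + (x.r22 * y.r22 - x.i22 * y.i22) + (x.r23 * y.r32 - x.i23 * y.i32),
   (x.r21 * y.i12 + x.i21 * y.r12) + (x.r22 * y.i22 + x.i22 * y.r22) + (x.r23 * y.i32 + x.i23 * y.r32),
   (x.r21 * y.r13 - x.i21 * y.i13) + (x.r22 * y.r23 - x.i22 * y.i23) + (x.r23 * y.r33 - x.i23 * y.i33),
   (x.r21 * y.i13 + x.i21 * y.r13) + (x.r22 * y.i23 + x.i22 * y.r23) + (x.r23 * y.i33 + x.i23 * y.r33),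
   (x.r31 * y.r11 - x.i31 * y.i11) + (x.r32 * y.r21 - x.i32 * y.i21) + (x.r33 * y.r31 - x.i33 * y.i31),
   (x.r31 * y.i11 + x.i31 * y.r11) + (x.r32 * y.i21 + x.i32 * y.r21) + (x.r33 * y.i31 + x.i33 * y.r31),
   (x.r31 * y.r12 - x.i31 * y.i12) + (x.r32 * y.r22 - x.i32 * y.i22) + (x.r33 * y.r32 - x.i33 * y.i32),
   (x.r31 * y.i12 + x.i31 * y.r12) + (x.r32 * y.i22 + x.i32 * y.r22) + (x.r33 * y.i32 + x.i33 * y.r32),
   (x.r31 * y.r13 - x.i31 * y.i13) + (x.r32 * y.r23 - x.i32 * y.i23) + (x.r33 * y.r33 - x.i33 * y.i33),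
   (x.r31 * y.i13 + x.i31 * y.r13) + (x.r32 * y.i23 + x.i32 * y.r23) + (x.r33 * y.i33 + x.i33 * y.r33)⟩

def U9.one : U9 := ⟨1, 0, 0, 0, 0, 0, 0, 0, 1, 0, 0, 0, 0, 0, 0, 0, 1, 0⟩

def U9.conjT (x : U9) : U9 :=
  ⟨x.r11, -x.i11, x.r21, -x.i21, x.r31, -x.i31,
   x.r12, -x.i12, x.r22, -x.i22, x.r32, -x.i32,
   x.r13, -x.i13, x.r23, -x.i23, x.r33, -x.i33⟩

def A0 : U9 := ⟨0, 2, 1, 0, 1, 2, 2, 0, 1, 2, 2, 0, 2, 1, 2, 0, 0, 1⟩

def B0 : U9 := ⟨1, 1, 2, 0, 0, 1, 1, 0, 0, 1, 1, 2, 0, 2, 1, 2, 0, 2⟩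

def mpow (x : U9) : ℕ → U9
  | 0 => U9.one
  | n + 1 => (mpow x n).mul x

def M0 (b : Bool) (t : ZMod 7) : U9 := mpow (cond b A0 B0) t.val

set_option maxRecDepth 1000000 in
theorem M0_add : ∀ (b : Bool) (t u : ZMod 7), (M0 b t).mul (M0 b u) = M0 b (t + u) := by
  decide +kernel

set_option maxRecDepth 1000000 in
theorem M0_rel : ∀ (b : Bool) (t s u : ZMod 7), t * s = 1 →
    (((M0 b t).mul (M0 (!b) (-s))).mul (M0 b t)).mul (M0 b u) =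
      (M0 (!b) (-(s ^ 2 * u))).mul (((M0 b t).mul (M0 (!b) (-s))).mul (M0 b t)) := by
  decide +kernel

set_option maxRecDepth 1000000 in
theorem M0_unit : ∀ (b : Bool) (t : ZMod 7), (M0 b t).conjT.mul (M0 b t) = U9.one := by
  decide +kernel

theorem M0_ne : M0 true 1 ≠ U9.one := by decide +kernel

theorem M0_w : (((M0 true 1).mul (M0 false (-1))).mul (M0 true 1)).mul
    (((M0 true 1).mul (M0 false (-1))).mul (M0 true 1)) = U9.one := by decide +kernel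

theorem M0_zero (b : Bool) : M0 b 0 = U9.one := by cases b <;> rfl

theorem M0_succ : ∀ (b : Bool) (t : ZMod 7), M0 b (t + 1) = (M0 b t).mul (M0 b 1) := by
  decide +kernel

end Cfsg.Agent.Lib.Helper19.L27
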