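import Mathlib
import Cfsg.Agent.Lib.Helper19.L27Data

set_option autoImplicit false

namespace Cfsg.Agent.Lib.Helper19.L27

open Matrix

abbrev F9 := QuadraticAlgebra (ZMod 3) (-1) 0

instance F9.fact : Fact (∀ r : ZMod 3, r ^ 2 ≠ (-1 : ZMod 3) + 0 * r) := ⟨by decide⟩

instance F9.instFintype : Fintype F9 :=
  Fintype.ofEquiv _ (QuadraticAlgebra.equivProd (-1 : ZMod 3) 0).symm

theorem F9.card : Fintype.card F9 = 9 := by
  rw [Fintype.card_congr (QuadraticAlgebra.equivProd (-1 : ZMod 3) 0)]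
  simp [ZMod.card]

theorem F9.pow3 (a b : ZMod 3) : (⟨a, b⟩ : F9) ^ 3 = ⟨a, -b⟩ := by
  revert a b; decide

abbrev Mat9 := Matrix (Fin 3) (Fin 3) F9

def U9.toMat (x : U9) : Mat9 :=
  !![⟨x.r11, x.i11⟩, ⟨x.r12, x.i12⟩, ⟨x.r13, x.i13⟩;
     ⟨x.r21, x.i21⟩, ⟨x.r22, x.i22⟩, ⟨x.r23, x.i23⟩;
     ⟨x.r31, x.i31⟩, ⟨x.r32, x.i32⟩, ⟨x.r33, x.i33⟩]

theorem dot3 (a1 b1 a2 b2 a3 b3 c1 d1 c2 d2 c3 d3 : ZMod 3) :
    ((⟨a1, b1⟩ : F9) * ⟨c1, d1⟩ + ⟨a2, b2⟩ * ⟨c2, d2⟩ + ⟨a3, b3⟩ * ⟨c3, d3⟩ : F9) =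
      ⟨(a1 * c1 - b1 * d1) + (a2 * c2 - b2 * d2) + (a3 * c3 - b3 * d3),
       (a1 * d1 + b1 * c1) + (a2 * d2 + b2 * c2) + (a3 * d3 + b3 * c3)⟩ := by
  ext
  · simp only [QuadraticAlgebra.re_add, QuadraticAlgebra.re_mul]
    ring
  · simp only [QuadraticAlgebra.im_add, QuadraticAlgebra.im_mul]
    ring

theorem toMat_mul (x y : U9) : (x.mul y).toMat = x.toMat * y.toMat := by
  apply Matrix.ext
  intro i j
  fin_cases i <;> fin_cases j <;>
    (rw [Matrix.mul_apply, Fin.sum_univ_three]; exact (dot3 _ _ _ _ _ _ _ _ _ _ _ _).symm)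

open QuadraticAlgebra in
theorem toMat_one : U9.one.toMat = 1 := by
  ext i j
  · fin_cases i <;> fin_cases j <;> simp [U9.toMat, U9.one]
  · fin_cases i <;> fin_cases j <;> simp [U9.toMat, U9.one]

theorem toMat_injective : Function.Injective U9.toMat := by
  intro x y h
  have e := fun i j => congrFun (congrFun h i) j
  have er := fun i j => congrArg QuadraticAlgebra.re (e i j)
  have ei := fun i j => congrArg QuadraticAlgebra.im (e i j)
  cases x
  cases y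
  simp only [U9.mk.injEq]
  exact ⟨er 0 0, ei 0 0, er 0 1, ei 0 1, er 0 2, ei 0 2, er 1 0, ei 1 0, er 1 1, ei 1 1,
    er 1 2, ei 1 2, er 2 0, ei 2 0, er 2 1, ei 2 1, er 2 2, ei 2 2⟩

theorem toMat_conjT (x : U9) : x.conjT.toMat = (x.toMat.map (· ^ 3))ᵀ := by
  apply Matrix.ext
  intro i j
  fin_cases i <;> fin_cases j <;>
    (rw [Matrix.transpose_apply, Matrix.map_apply]; exact (F9.pow3 _ _).symm)

theorem isU_of_conjT (x : U9) (h : x.conjT.mul x = U9.one) :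
    (x.toMat)ᵀ * (x.toMat).map (· ^ 3) = 1 := by
  have h1 := congrArg U9.toMat h
  rw [toMat_mul, toMat_one, toMat_conjT] at h1
  have h2 := congrArg Matrix.transpose h1
  rw [Matrix.transpose_mul, Matrix.transpose_transpose, Matrix.transpose_one] at h2
  exact h2

theorem A0_det : A0.toMat.det = 1 := by
  rw [Matrix.det_fin_three]; decide

theorem B0_det : B0.toMat.det = 1 := by
  rw [Matrix.det_fin_three]; decide

theorem toMat_mpow (x : U9) (n : ℕ) : (mpow x n).toMat = x.toMat ^ n := by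
  induction n with
  | zero => rw [pow_zero]; exact toMat_one
  | succ n ih => rw [pow_succ, ← ih, ← toMat_mul]; rfl

theorem M0_det (b : Bool) (t : ZMod 7) : (M0 b t).toMat.det = 1 := by
  unfold M0
  rw [toMat_mpow, Matrix.det_pow]
  cases b
  · show B0.toMat.det ^ _ = 1
    rw [B0_det, one_pow]
  · show A0.toMat.det ^ _ = 1
    rw [A0_det, one_pow]

abbrev S39 := Matrix.SpecialLinearGroup (Fin 3) F9

def N0 (b : Bool) (t : ZMod 7) : S39 := ⟨(M0 b t).toMat, M0_det b t⟩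

theorem N0_isU (b : Bool) (t : ZMod 7) : (N0 b t).1ᵀ * (N0 b t).1.map (· ^ 3) = 1 :=
  isU_of_conjT _ (M0_unit b t)

theorem N0_add (b : Bool) (t u : ZMod 7) : N0 b t * N0 b u = N0 b (t + u) := by
  apply Subtype.ext
  rw [Matrix.SpecialLinearGroup.coe_mul]
  show (M0 b t).toMat * (M0 b u).toMat = (M0 b (t + u)).toMat
  rw [← toMat_mul, M0_add]

theorem N0_rel (b : Bool) (t s u : ZMod 7) (h : t * s = 1) :
    (N0 b t * N0 (!b) (-s) * N0 b t) * N0 b u =
      N0 (!b) (-(s ^ 2 * u)) * (N0 b t * N0 (!b) (-s) * N0 b t) := by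
  apply Subtype.ext
  simp only [Matrix.SpecialLinearGroup.coe_mul]
  show (M0 b t).toMat * (M0 (!b) (-s)).toMat * (M0 b t).toMat * (M0 b u).toMat =
    (M0 (!b) (-(s ^ 2 * u))).toMat * ((M0 b t).toMat * (M0 (!b) (-s)).toMat * (M0 b t).toMat)
  simp only [← toMat_mul]
  rw [M0_rel b t s u h]

theorem N0_ne : N0 true 1 ≠ 1 := by
  intro h
  apply M0_ne
  apply toMat_injective
  rw [toMat_one]
  exact congrArg Subtype.val h

theorem N0_w : (N0 true 1 * N0 false (-1) * N0 true 1) * (N0 true 1 * N0 false (-1) * N0 true 1) = 1 := by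
  apply Subtype.ext
  simp only [Matrix.SpecialLinearGroup.coe_mul]
  show (M0 true 1).toMat * (M0 false (-1)).toMat * (M0 true 1).toMat *
    ((M0 true 1).toMat * (M0 false (-1)).toMat * (M0 true 1).toMat) = 1
  simp only [← toMat_mul]
  rw [M0_w, toMat_one]

end Cfsg.Agent.Lib.Helper19.L27
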