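import Cfsg.Agent.Lib.Helper19.MOD.Basic

set_option autoImplicit false

namespace Cfsg.Agent.Lib.Helper19.MOD

open Matrix Cfsg.Agent.Lib.helper15.SUn Cfsg.Agent.Lib.helper3.STC Cfsg.Agent.Lib.Helper27.STU
  Cfsg.Agent.Lib.helper15.St2

variable {F : Type*} [Field F] [StarRing F] {n q m : ℕ} {od : Prop} (C : Ctx F n q m od)

/-- A6 [M] -/
theorem mod_comm3 (a b c : Fin m ⊕ Fin m) (hab : a ≠ b) (hab' : a ≠ ng b) (hbc : b ≠ c) (hbc' : b ≠ ng c)
    (hac : a ≠ c) (hac' : a ≠ ng c) (t u : F) :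
    C.xsE a b t * C.xsE b c u * (C.xsE a b t)⁻¹ * (C.xsE b c u)⁻¹ = C.xsE a c (t * u) := by
  have h1 := ne_ng_symm hbc'
  have h2 := ne_ng_symm hab'
  have h3 := ne_ng_symm hac'
  apply su_comm_eq
  rw [C.coe_xsE hab, C.coe_xsE hbc, C.coe_xsE hac]
  apply mat_ext
  intro x
  simp only [← Matrix.mulVec_mulVec, C.xsM_mulVec, herm_add_left, herm_sub_left, herm_smul_left, C.gram, ng_ng,
    ng_inj, ng_eq_iff, hab, hab', hbc, hbc', hac, hac', h1, h2, h3, hab.symm, hbc.symm, hac.symm, if_true, if_false,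
    map_mul, ne_ng, ng_ne]
  module

end Cfsg.Agent.Lib.Helper19.MOD
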