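import Cfsg.Agent.Lib.Helper19.MOD.Basic

set_option autoImplicit false

namespace Cfsg.Agent.Lib.Helper19.MOD

open Matrix Cfsg.Agent.Lib.helper15.SUn Cfsg.Agent.Lib.helper3.STC Cfsg.Agent.Lib.Helper27.STU
  Cfsg.Agent.Lib.helper15.St2

variable {F : Type*} [Field F] [StarRing F] {n q m : ℕ} {od : Prop} (C : Ctx F n q m od)

/-- R1 [S] -/
theorem emb_one (a : Fin m ⊕ Fin m) : C.emb a 1 = 1 := by
  unfold Ctx.emb
  simp

omit [StarRing F] in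
theorem r_entries (M : Matrix (Fin 3) (Fin 3) F) :
    (M - 1) 0 0 = M 0 0 - 1 ∧ (M - 1) 0 1 = M 0 1 ∧ (M - 1) 0 2 = M 0 2 ∧
    (M - 1) 1 0 = M 1 0 ∧ (M - 1) 1 1 = M 1 1 - 1 ∧ (M - 1) 1 2 = M 1 2 ∧
    (M - 1) 2 0 = M 2 0 ∧ (M - 1) 2 1 = M 2 1 ∧ (M - 1) 2 2 = M 2 2 - 1 := by
  simp [Matrix.sub_apply]

/-- the expanded form of `emb` -/
theorem emb_eq (a : Fin m ⊕ Fin m) (M : Matrix (Fin 3) (Fin 3) F) :
    C.emb a M = 1 + ((M 0 0 - 1) • R C.σ (C.fr a) (C.fr (ng a)) + M 0 1 • R C.σ (C.fr a) C.dv + M 0 2 • R C.σ (C.fr a) (C.fr a)) +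
      (M 1 0 • R C.σ C.dv (C.fr (ng a)) + (M 1 1 - 1) • R C.σ C.dv C.dv + M 1 2 • R C.σ C.dv (C.fr a)) +
      (M 2 0 • R C.σ (C.fr (ng a)) (C.fr (ng a)) + M 2 1 • R C.σ (C.fr (ng a)) C.dv + (M 2 2 - 1) • R C.σ (C.fr (ng a)) (C.fr a)) := by
  obtain ⟨h1, h2, h3, h4, h5, h6, h7, h8, h9⟩ := r_entries M
  unfold Ctx.emb
  rw [Fin.sum_univ_three, Fin.sum_univ_three, Fin.sum_univ_three, Fin.sum_univ_three, h1, h2, h3, h4, h5, h6, h7, h8, h9]
  simp only [Ctx.b3, Ctx.b3s, Matrix.cons_val_zero, Matrix.cons_val_one, Matrix.cons_val_two, Matrix.head_cons, Matrix.tail_cons]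
  abel

/-- R2 [M]  multiplicativity; in the even case `dv = 0` and the middle column of `M` has to be trivial -/
theorem emb_mul (a : Fin m ⊕ Fin m) (M N : Matrix (Fin 3) (Fin 3) F)
    (hM : ¬ od → M 0 1 = 0 ∧ M 2 1 = 0) : C.emb a (M * N) = C.emb a M * C.emb a N := by
  have g1 := C.gram1 a
  have g2 := C.gram1 (ng a)
  rw [ng_ng] at g2
  have g3 := C.gram_self a
  have g4 := C.gram_self (ng a)
  rw [emb_eq, emb_eq, emb_eq]
  simp only [Matrix.mul_apply, Fin.sum_univ_three]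
  by_cases hod : od
  · have g5 := C.gram_dd hod
    simp only [Matrix.add_mul, Matrix.mul_add, Matrix.smul_mul, Matrix.mul_smul, Matrix.one_mul, Matrix.mul_one,
      R_mul_R C.hσ, g1, g2, g3, g4, g5, C.gram_d, C.gram_fd, smul_smul, zero_smul, smul_zero, add_zero, zero_add, one_smul]
    module
  · obtain ⟨h1, h2⟩ := hM hod
    rw [C.dv0 hod, h1, h2]
    simp only [R_zero_left, R_zero_right, smul_zero, add_zero, zero_add, zero_mul, mul_zero]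
    simp only [Matrix.add_mul, Matrix.mul_add, Matrix.smul_mul, Matrix.mul_smul, Matrix.one_mul, Matrix.mul_one,
      R_mul_R C.hσ, g1, g2, g3, g4, smul_smul, zero_smul, smul_zero, add_zero, zero_add, one_smul]
    module

/-- R3 [S] -/
theorem emb_XpM (a : Fin m ⊕ Fin m) (ξ : Lam F od) : C.emb a (XpM ξ) = C.xlM a ξ := by
  rw [emb_eq]
  unfold Ctx.xlM Eh XpM
  rw [R_smul_left, R_smul_right, C.σσ, C.hs]
  simp
  module

/-- R4 [S] -/
theorem emb_XmM (a : Fin m ⊕ Fin m) (ξ : Lam F od) : C.emb a (XmM ξ) = C.xlM (ng a) ξ := by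
  rw [emb_eq]
  unfold Ctx.xlM Eh XmM
  rw [R_smul_left, R_smul_right, C.σσ, C.hs]
  simp
  module

/-- R5 [S]  in the even case the elements of the rank one group have a trivial middle column -/
theorem sum_midcol (hod : ¬ od) (g : ↥(SUm F od)) :
    ((g : Matrix.SpecialLinearGroup (Fin 3) F) : Matrix (Fin 3) (Fin 3) F) 0 1 = 0 ∧
      ((g : Matrix.SpecialLinearGroup (Fin 3) F) : Matrix (Fin 3) (Fin 3) F) 2 1 = 0 := by
  obtain ⟨g, hg⟩ := g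
  show (g : Matrix (Fin 3) (Fin 3) F) 0 1 = 0 ∧ (g : Matrix (Fin 3) (Fin 3) F) 2 1 = 0
  unfold SUm at hg
  induction hg using Subgroup.closure_induction with
  | mem x hx =>
    rcases hx with ⟨ξ, rfl⟩ | ⟨ξ, rfl⟩
    · simp [XpS, XpM, ξ.hv hod]
    · simp [XmS, XmM, ξ.hv hod]
  | one => simp
  | mul x y _ _ hx hy =>
    rw [Matrix.SpecialLinearGroup.coe_mul, Matrix.mul_apply, Matrix.mul_apply, Fin.sum_univ_three, Fin.sum_univ_three,
      hx.1, hx.2, hy.1, hy.2]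
    simp
  | inv x _ hx =>
    rw [Matrix.SpecialLinearGroup.coe_inv, Matrix.adjugate_fin_three]
    simp [hx.1, hx.2]

/-- R6 [M]  the images of the elements of the rank one group are in `SU_n(q)` -/
theorem emb_su (a : Fin m ⊕ Fin m) (g : ↥(SUm F od)) :
    (C.emb a ((g : Matrix.SpecialLinearGroup (Fin 3) F) : Matrix (Fin 3) (Fin 3) F)).det = 1 ∧
      ∀ x y, Cfsg.hermForm n F q (C.emb a ((g : Matrix.SpecialLinearGroup (Fin 3) F) : Matrix (Fin 3) (Fin 3) F) *ᵥ x)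
        (C.emb a ((g : Matrix.SpecialLinearGroup (Fin 3) F) : Matrix (Fin 3) (Fin 3) F) *ᵥ y) = Cfsg.hermForm n F q x y := by
  obtain ⟨g, hg⟩ := g
  show (C.emb a (g : Matrix (Fin 3) (Fin 3) F)).det = 1 ∧
      ∀ x y, Cfsg.hermForm n F q (C.emb a (g : Matrix (Fin 3) (Fin 3) F) *ᵥ x)
        (C.emb a (g : Matrix (Fin 3) (Fin 3) F) *ᵥ y) = Cfsg.hermForm n F q x y
  unfold SUm at hg
  induction hg using Subgroup.closure_induction with
  | mem x hx =>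
    rcases hx with ⟨ξ, rfl⟩ | ⟨ξ, rfl⟩
    · show (C.emb a (XpM ξ)).det = 1 ∧ ∀ x y, Cfsg.hermForm n F q (C.emb a (XpM ξ) *ᵥ x) (C.emb a (XpM ξ) *ᵥ y) = _
      rw [emb_XpM]
      exact ⟨C.xlM_det a ξ, C.xlM_iso a ξ⟩
    · show (C.emb a (XmM ξ)).det = 1 ∧ ∀ x y, Cfsg.hermForm n F q (C.emb a (XmM ξ) *ᵥ x) (C.emb a (XmM ξ) *ᵥ y) = _
      rw [emb_XmM]
      exact ⟨C.xlM_det _ ξ, C.xlM_iso _ ξ⟩
  | one =>
    rw [Matrix.SpecialLinearGroup.coe_one, emb_one]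
    exact ⟨Matrix.det_one, fun x y => by rw [Matrix.one_mulVec, Matrix.one_mulVec]⟩
  | mul x y hx hy ihx ihy =>
    rw [Matrix.SpecialLinearGroup.coe_mul, emb_mul C a _ _ (fun hod => sum_midcol hod (⟨x, hx⟩ : ↥(SUm F od)))]
    refine ⟨by rw [Matrix.det_mul, ihx.1, ihy.1, mul_one], fun u v => ?_⟩
    rw [← Matrix.mulVec_mulVec, ← Matrix.mulVec_mulVec, ihx.2, ihy.2]
  | inv x hx ihx =>
    have hxi : x⁻¹ ∈ SUm F od := (SUm F od).inv_mem hx
    have h1 : C.emb a ((x⁻¹ : Matrix.SpecialLinearGroup (Fin 3) F) : Matrix (Fin 3) (Fin 3) F) *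
        C.emb a (x : Matrix (Fin 3) (Fin 3) F) = 1 := by
      rw [← emb_mul C a _ _ (fun hod => sum_midcol hod (⟨x⁻¹, hxi⟩ : ↥(SUm F od))), ← Matrix.SpecialLinearGroup.coe_mul,
        inv_mul_cancel, Matrix.SpecialLinearGroup.coe_one, emb_one]
    have h2 := mul_eq_one_comm.1 h1
    refine ⟨?_, fun u v => ?_⟩
    · have h3 := congrArg Matrix.det h1
      rw [Matrix.det_mul, ihx.1, mul_one, Matrix.det_one] at h3
      exact h3
    · rw [← ihx.2, Matrix.mulVec_mulVec, Matrix.mulVec_mulVec, h2, Matrix.one_mulVec, Matrix.one_mulVec]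

/-- R7 [S]  (assembly of `r1`) -/
theorem mod_r1 (a : Fin m ⊕ Fin m) :
    ∃ ρ : ↥(SUm F od) →* ↥(Cfsg.SU n F q), ∀ ξ, ρ (XpU ξ) = C.xlE a ξ ∧ ρ (XmU ξ) = C.xlE (ng a) ξ := by
  refine ⟨MonoidHom.mk' (fun g => mkSU (C.emb a ((g : Matrix.SpecialLinearGroup (Fin 3) F) : Matrix (Fin 3) (Fin 3) F))
    (emb_su C a g).1 (emb_su C a g).2) ?_, fun ξ => ⟨?_, ?_⟩⟩
  · intro g h
    apply su_ext
    rw [su_coe_mul, coe_mkSU, coe_mkSU, coe_mkSU, Subgroup.coe_mul, Matrix.SpecialLinearGroup.coe_mul,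
      emb_mul C a _ _ (fun hod => sum_midcol hod g)]
  · apply su_ext
    rw [C.coe_xlE, ← emb_XpM]
    rfl
  · apply su_ext
    rw [C.coe_xlE, ← emb_XmM]
    rfl

end Cfsg.Agent.Lib.Helper19.MOD
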