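import Cfsg.Agent.Lib.Helper19.MOD.Basic
import Cfsg.Agent.Lib.Helper19.MODA6
import Cfsg.Agent.Lib.Helper19.MODR
import Cfsg.Agent.Lib.Helper16.MODA4
import Cfsg.Agent.Lib.Helper16.MODA5
import Cfsg.Agent.Lib.Helper16.MODA7
import Cfsg.Agent.Lib.Helper16.MODA8
import Cfsg.Agent.Lib.Helper16.MODA9
import Cfsg.Agent.Lib.Helper16.MODA10

/-!
# MOD: the Steinberg system `sys C` of unitary type in `SU_n(q)` attached to a frame, its representation `rep C` on `Fin n → F`,
and the monomial lemma `sys_isMon`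
-/

set_option autoImplicit false

namespace Cfsg.Agent.Lib.Helper19.MOD

open Matrix Cfsg.Agent.Lib.helper15.SUn Cfsg.Agent.Lib.helper3.STC Cfsg.Agent.Lib.Helper27.STU
  Cfsg.Agent.Lib.helper15.St2

variable {F : Type*} [Field F] [StarRing F] {n q m : ℕ} {od : Prop} (C : Ctx F n q m od)

/-- the system -/
def sys : SysU F od (Fin m) ↥(Cfsg.SU n F q) where
  xs := C.xsE
  xl := C.xlE
  sym := mod_sym C
  adds := mod_adds C
  addl := mod_addl C
  comm_ss a b c d h1 h2 h3 h4 h5 h6 h7 h8 := mod_comm_ss C a b c d h1 h2 h3 h4 h5 h6 h7 h8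
  comm_ls a c d h1 h2 h3 h4 := mod_comm_ls C a c d h1 h2 h3 h4
  comm3 a b c h1 h2 h3 h4 h5 h6 := mod_comm3 C a b c h1 h2 h3 h4 h5 h6
  ssl := mod_ssl C
  ls := mod_ls C
  hh := mod_hh C
  rel := mod_rel C
  r1 := mod_r1 C

@[simp] theorem sys_xs (a b : Fin m ⊕ Fin m) (t : F) : (sys C).xs a b t = C.xsE a b t := rfl

@[simp] theorem sys_xl (a : Fin m ⊕ Fin m) (ξ : Lam F od) : (sys C).xl a ξ = C.xlE a ξ := rfl

/-- the matrix of a short root element of the system -/
theorem coe_sys_xs {a b : Fin m ⊕ Fin m} (hab : a ≠ b) (t : F) :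
    (((sys C).xs a b t : Matrix.SpecialLinearGroup (Fin n) F) : Matrix (Fin n) (Fin n) F) =
      Sg C.σ (C.fr a) (C.fr (ng b)) t := C.coe_xsE hab t

/-- the matrix of a long / half root element of the system -/
theorem coe_sys_xl (a : Fin m ⊕ Fin m) (ξ : Lam F od) :
    (((sys C).xl a ξ : Matrix.SpecialLinearGroup (Fin n) F) : Matrix (Fin n) (Fin n) F) =
      Eh C.σ (C.fr a) (C.σ ξ.v • C.dv) ξ.c := rfl

/-- M1 [S] the representation -/
def rep : (sys C).Rep (Fin n → F) where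
  B := Cfsg.hermForm n F q
  B_add_left := herm_add_left
  B_smul_left := herm_smul_left
  B_herm x y := by rw [C.hs]; exact C.hf.herm y x
  fr := C.fr
  dv := C.dv
  gram1 := C.gram1
  gram0 := C.gram0
  gram_d := C.gram_d
  gram_dd := C.gram_dd
  φ := Matrix.SpecialLinearGroup.toLin'.comp (Cfsg.SU n F q).subtype
  iso g x y := su_iso g x y
  hxs a b hab hab' t x := by
    show ((C.xsE a b t : Matrix.SpecialLinearGroup (Fin n) F) : Matrix (Fin n) (Fin n) F) *ᵥ x = _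
    rw [C.coe_xsE hab, C.xsM_mulVec, C.hs]
  hxl a ξ x := by
    show ((C.xlE a ξ : Matrix.SpecialLinearGroup (Fin n) F) : Matrix (Fin n) (Fin n) F) *ᵥ x = _
    rw [C.coe_xlE, C.xlM_mulVec, C.hs]

theorem rep_apply (g : ↥(Cfsg.SU n F q)) (x : Fin n → F) :
    (rep C).φ g x = ((g : Matrix.SpecialLinearGroup (Fin n) F) : Matrix (Fin n) (Fin n) F) *ᵥ x := rfl

@[simp] theorem rep_fr : (rep C).fr = C.fr := rfl

@[simp] theorem rep_dv : (rep C).dv = C.dv := rfl

@[simp] theorem rep_B : (rep C).B = Cfsg.hermForm n F q := rfl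

omit [StarRing F] in
theorem Eh_smul (σ : F ≃+* F) (hσσ : ∀ x, σ (σ x) = x) (k k0 : F) (p w : Fin n → F) (c : F) :
    Eh σ (k • p) (k0 • w) c = Eh σ p ((σ k * k0) • w) (k * σ k * c) := by
  unfold Eh
  simp only [R_smul_left, R_smul_right, smul_smul, map_mul, hσσ]
  module

/-- M2 [M]  the monomial lemma: an element of `SU_n(q)` which permutes the frame up to scalars acts monomially on the root elements -/
theorem sys_isMon (U : ↥(Cfsg.SU n F q)) (π : Equiv.Perm (Fin m ⊕ Fin m)) (d : Fin m ⊕ Fin m → F) (d0 : F)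
    (hD : SysU.MonData π d d0)
    (hU : ∀ k, ((U : Matrix.SpecialLinearGroup (Fin n) F) : Matrix (Fin n) (Fin n) F) *ᵥ C.fr k = d k • C.fr (π k))
    (hU0 : ((U : Matrix.SpecialLinearGroup (Fin n) F) : Matrix (Fin n) (Fin n) F) *ᵥ C.dv = d0 • C.dv) :
    (sys C).IsMon U π d d0 := by
  have hd : ∀ l, C.σ (d (ng l)) = (d l)⁻¹ := by
    intro l
    have h1 := hD.d_ng l
    rw [C.hs] at h1
    have h2 := congrArg C.σ h1
    rw [map_mul, C.σσ, map_one] at h2
    exact eq_inv_of_mul_eq_one_left h2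
  have hd0 : C.σ d0 = d0⁻¹ := by
    have h1 := hD.d0_norm
    rw [C.hs] at h1
    exact eq_inv_of_mul_eq_one_right h1
  refine ⟨hD, fun k l hkl hkl' t => ?_, fun k ξ => ?_⟩
  · show U * C.xsE k l t * U⁻¹ = C.xsE (π k) (π l) (d k * (d l)⁻¹ * t)
    apply su_ext
    rw [su_coe_mul, su_coe_mul, C.coe_xsE hkl, C.coe_xsE (fun h => hkl (π.injective h))]
    unfold Ctx.xsM
    rw [conj_Sg C.hσ (su_mul_inv U) (su_iso U), hU, hU, Sg_smul_left, Sg_smul_right C.hf, hD.pi_ng, hd]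
    congr 1
    ring
  · show U * C.xlE k ξ * U⁻¹ = C.xlE (π k) (Lam.act (d k * d0⁻¹) ξ)
    apply su_ext
    rw [su_coe_mul, su_coe_mul, C.coe_xlE, C.coe_xlE]
    unfold Ctx.xlM
    rw [conj_Eh C.hσ (su_mul_inv U) (su_iso U), hU, Matrix.mulVec_smul, hU0, smul_smul, Eh_smul C.σ C.σσ]
    simp only [Lam.act_v, Lam.act_c, C.hs, map_mul, map_inv₀, hd0, inv_inv]
    have h0 : d0 ≠ 0 := by
      intro h
      have h1 := hD.d0_norm
      rw [h, zero_mul] at h1
      exact zero_ne_one h1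
    congr 1
    · congr 1
      ring
    · field_simp

end Cfsg.Agent.Lib.Helper19.MOD
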