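import Mathlib
import Cfsg.Agent.Lib.Helper27.MSS.Base

/-!
# MSS piece SYL (core): `exists_sylow_gl` from the two cardinalities (CARD1 and QDT3)
taken as explicit hypotheses.
-/

set_option autoImplicit false

namespace Cfsg.Agent.Lib.Helper27.MSS

open Cfsg

theorem msssyl_core (q k : ℕ) [Fact q.Prime] (D : GLData q k)
    (hcard : ∃ m : ℕ, Odd m ∧ Nat.card (GL (Fin 2) (ZMod q)) = 2 ^ (k + 1) * m)
    (hT0 : Nat.card (Subgroup.closure {D.r, D.s}) = 2 ^ (k + 1)) :
    ∃ T : Sylow 2 (GL (Fin 2) (ZMod q)),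
      (T : Subgroup (GL (Fin 2) (ZMod q))) = Subgroup.closure {D.r, D.s} := by
  obtain ⟨m, hm, hG⟩ := hcard
  have hp : IsPGroup 2 ↥(Subgroup.closure {D.r, D.s}) := IsPGroup.of_card hT0
  have hidx : (Subgroup.closure {D.r, D.s}).index = m := by
    have h1 := Subgroup.card_mul_index (Subgroup.closure {D.r, D.s})
    rw [hT0, hG] at h1
    exact Nat.eq_of_mul_eq_mul_left (by positivity) h1
  have hnd : ¬ 2 ∣ (Subgroup.closure {D.r, D.s}).index := by
    rw [hidx]
    exact Nat.not_even_iff_odd.mpr hm |> fun h => by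
      intro h2; exact h (even_iff_two_dvd.mpr h2)
  exact ⟨hp.toSylow hnd, rfl⟩

end Cfsg.Agent.Lib.Helper27.MSS
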