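import Mathlib
import Cfsg.Agent.Lib.Helper27.MSS.Base
import Cfsg.Agent.Lib.Helper12.MSSCARD1
import Cfsg.Agent.Lib.Helper19.MSSQDTC
import Cfsg.Agent.Lib.Helper19.MSSSYLcore

/-!
# MSS piece SYL: `exists_sylow_gl`, verbatim.
-/

set_option autoImplicit false

namespace Cfsg.Agent.Lib.Helper27.MSS

open Cfsg

/-- SYL -/
theorem exists_sylow_gl (q k : ℕ) [Fact q.Prime] (hk : 3 ≤ k)
    (hq : q % 2 ^ k = 2 ^ (k - 1) - 1) (D : GLData q k) :
    ∃ T : Sylow 2 (GL (Fin 2) (ZMod q)),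
      (T : Subgroup (GL (Fin 2) (ZMod q))) = Subgroup.closure {D.r, D.s} :=
  msssyl_core q k D (card_gl_two q k hk hq) (qdt_card hk D.hr D.hs D.hrs)

end Cfsg.Agent.Lib.Helper27.MSS
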