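import Mathlib

set_option autoImplicit false

namespace Cfsg.Agent.Lib.Helper19.MonoT0

section core
variable {T : Type*} [Group T]

theorem iter_fix (β : T ≃* T) (x c : T) (hc : β c = c) (hx : β x = x * c) (k : ℕ) :
    (β ^ k) x = x * c ^ k := by
  induction k with
  | zero => simp
  | succ k ih =>
    rw [pow_succ', MulAut.mul_apply, ih, map_mul, hx, map_pow, hc, pow_succ, mul_assoc,
      ← pow_succ, ← pow_succ']

theorem eq_one_of_fix (β : T ≃* T) (r : ℕ) (hr : Odd r) (hβ : β ^ r = 1)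
    (h2 : ∀ x : T, ∃ k, x ^ 2 ^ k = 1) (x c : T) (hc : β c = c) (hx : β x = x * c) : c = 1 := by
  have h1 := iter_fix β x c hc hx r
  rw [hβ] at h1
  have h3 : c ^ r = 1 := by simpa using h1
  obtain ⟨k, hk⟩ := h2 c
  have h4 : orderOf c ∣ Nat.gcd r (2 ^ k) :=
    Nat.dvd_gcd (orderOf_dvd_of_pow_eq_one h3) (orderOf_dvd_of_pow_eq_one hk)
  have h5 : Nat.gcd r (2 ^ k) = 1 := by
    apply Nat.Coprime.pow_right
    exact Nat.coprime_two_right.2 hr
  rw [h5] at h4
  exact orderOf_eq_one_iff.1 (Nat.dvd_one.1 h4)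

theorem core_big (h2 : ∀ x : T, ∃ k, x ^ 2 ^ k = 1)
    (D : Subgroup T) (hDcomm : ∀ x ∈ D, ∀ y ∈ D, x * y = y * x)
    (w : T) (hw : w ∉ D) (hcover : ∀ x, x ∈ D ∨ ∃ d ∈ D, x = w * d)
    (h4 : ∀ x, x ∉ D → x ^ 4 = 1)
    (g0 : T) (hg0 : g0 ∈ D) (hg04 : g0 ^ 4 ≠ 1)
    (hcent : ∀ h ∈ D, h ^ 4 ≠ 1 → ∀ y, y * h = h * y → y ∈ D)
    (z u : T) (hz : z ∈ D) (hu : u ∈ D)
    (hΩ : ∀ x ∈ D, x ^ 2 = 1 → x = 1 ∨ x = z ∨ x = u ∨ x = u * z)
    (hz1 : z ≠ 1) (hz2 : z ^ 2 = 1) (hu1 : u ≠ 1) (hu2 : u ^ 2 = 1) (huz : u ≠ z)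
    (hzc : ∀ x, x ^ 2 = 1 → x ≠ 1 → (∀ y, y * x = x * y) → x = z)
    (hzcentral : ∀ y, y * z = z * y)
    (β : T ≃* T) (r : ℕ) (hr : Odd r) (hβ : β ^ r = 1) : β = 1 := by
  -- step 1
  have hβg0 : β g0 ∈ D := by
    by_contra hcon
    have := h4 _ hcon
    rw [← map_pow] at this
    exact hg04 (β.injective (this.trans (map_one β).symm))
  have hβg04 : (β g0) ^ 4 ≠ 1 := by
    rw [← map_pow]; intro h; exact hg04 (β.injective (h.trans (map_one β).symm))
  have hβD : ∀ x ∈ D, β x ∈ D := by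
    intro x hx
    apply hcent _ hβg0 hβg04
    rw [← map_mul, ← map_mul, hDcomm x hx g0 hg0]
  -- step 2
  have hβz : β z = z := by
    apply hzc
    · rw [← map_pow, hz2, map_one]
    · intro h; exact hz1 (by simpa using h)
    · intro y
      have : y = β (β.symm y) := by simp
      rw [this, ← map_mul, ← map_mul, hzcentral]
  -- step 3
  have hβu : β u = u := by
    have h1 : (β u) ^ 2 = 1 := by rw [← map_pow, hu2, map_one]
    rcases hΩ _ (hβD u hu) h1 with h | h | h | h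
    · exact absurd (by simpa using h) hu1
    · rw [← hβz] at h; exact absurd (β.injective h) huz
    · exact h
    · exact absurd (eq_one_of_fix β r hr hβ h2 u z hβz h) hz1
  -- step 4
  have hΩfix : ∀ x ∈ D, x ^ 2 = 1 → β x = x := by
    intro x hx hx2
    rcases hΩ x hx hx2 with h | h | h | h
    · rw [h, map_one]
    · rw [h, hβz]
    · rw [h, hβu]
    · rw [h, map_mul, hβu, hβz]
  -- step 5
  have hind : ∀ j : ℕ, ∀ x ∈ D, x ^ 2 ^ j = 1 → β x = x := by
    intro j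
    induction j with
    | zero => intro x _ hx; simp at hx; rw [hx, map_one]
    | succ j ih =>
      intro x hx hxj
      have h1 : β (x ^ 2) = x ^ 2 := by
        apply ih _ (D.pow_mem hx 2)
        rw [← pow_mul, ← pow_succ']; exact hxj
      have hbx := hβD x hx
      have hcomm := hDcomm x hx (β x) hbx
      have hcomm' : x⁻¹ * β x = β x * x⁻¹ := by
        rw [eq_mul_inv_iff_mul_eq, mul_assoc, ← hcomm, inv_mul_cancel_left]
      have he : x⁻¹ * β x ∈ D := D.mul_mem (D.inv_mem hx) hbx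
      have he2 : (x⁻¹ * β x) ^ 2 = 1 := by
        rw [pow_two]
        calc x⁻¹ * β x * (x⁻¹ * β x) = x⁻¹ * (β x * x⁻¹) * β x := by group
          _ = x⁻¹ * (x⁻¹ * β x) * β x := by rw [hcomm']
          _ = (x ^ 2)⁻¹ * (β x) ^ 2 := by rw [pow_two, pow_two, mul_inv_rev]; group
          _ = 1 := by rw [← map_pow, h1, inv_mul_cancel]
      have hefix := hΩfix _ he he2
      have hx' : β x = x * (x⁻¹ * β x) := by group
      have := eq_one_of_fix β r hr hβ h2 x _ hefix hx'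
      rw [this, mul_one] at hx'
      exact hx'
  have hDfix : ∀ x ∈ D, β x = x := by
    intro x hx
    obtain ⟨k, hk⟩ := h2 x
    exact hind k x hx hk
  -- step 7
  have hβw : β w = w := by
    rcases hcover (β w) with h | ⟨d, hd, h⟩
    · exfalso
      have := hDfix _ h
      exact hw (by rw [← β.injective this]; exact h)
    · have := eq_one_of_fix β r hr hβ h2 w d (hDfix d hd) h
      rw [this, mul_one] at h; exact h
  ext x
  rcases hcover x with h | ⟨d, hd, h⟩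
  · simpa using hDfix x h
  · simp [h, hβw, hDfix d hd]

theorem core_three (h2 : ∀ x : T, ∃ k, x ^ 2 ^ k = 1)
    (x0 w : T) (hx04 : x0 ^ 4 = 1) (hx02 : x0 ^ 2 ≠ 1)
    (C : Set T) (hC : ∀ c ∈ C, ∃ k : ℕ, c = x0 ^ k)
    (hcover : ∀ y, y ∈ C ∨ ∃ c ∈ C, y = w * c)
    (hw : w ∉ C)
    (h4 : ∀ y : T, y ^ 2 ≠ 1 → y = x0 ∨ y = x0 * x0 ^ 2)
    (β : T ≃* T) (r : ℕ) (hr : Odd r) (hβ : β ^ r = 1) : β = 1 := by
  have h1 : (β x0) ^ 2 ≠ 1 := by
    rw [← map_pow]; intro h; exact hx02 (β.injective (h.trans (map_one β).symm))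
  have hsq : β (x0 ^ 2) = x0 ^ 2 := by
    rw [map_pow]
    rcases h4 _ h1 with h | h
    · rw [h]
    · rw [h]
      calc (x0 * x0 ^ 2) ^ 2 = x0 ^ 4 * x0 ^ 2 := by group
        _ = x0 ^ 2 := by rw [hx04, one_mul]
  have hx0 : β x0 = x0 := by
    rcases h4 _ h1 with h | h
    · exact h
    · exact absurd (eq_one_of_fix β r hr hβ h2 x0 _ hsq h) hx02
  have hfixC : ∀ c ∈ C, β c = c := by
    intro c hc
    obtain ⟨k, rfl⟩ := hC c hc
    rw [map_pow, hx0]
  have hβw : β w = w := by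
    rcases hcover (β w) with h | ⟨c, hc, h⟩
    · exfalso
      have := hfixC _ h
      exact hw (by rw [← β.injective this]; exact h)
    · have := eq_one_of_fix β r hr hβ h2 w _ (hfixC c hc) h
      rw [this, mul_one] at h; exact h
  ext x
  rcases hcover x with h | ⟨c, hc, h⟩
  · simpa using hfixC x h
  · simp [h, hβw, hfixC c hc]

/-- From "odd-order automorphisms are trivial" to `IsPGroup 2 (MulAut T)`. -/
theorem isPGroup_of_odd [Finite T]
    (h : ∀ (β : T ≃* T) (r : ℕ), Odd r → β ^ r = 1 → β = 1) : IsPGroup 2 (MulAut T) := by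
  intro α
  have hfin : Finite (MulAut T) := by
    apply Finite.of_injective (fun a : MulAut T => (a : T → T))
    intro a b hab
    ext x
    exact congrFun hab x
  have hpos : 0 < orderOf α := orderOf_pos α
  obtain ⟨k, r, hr, hkr⟩ := Nat.exists_eq_two_pow_mul_odd (n := orderOf α) hpos.ne'
  refine ⟨k, ?_⟩
  apply h (α ^ 2 ^ k) r hr
  rw [← pow_mul, ← hkr, pow_orderOf_eq_one]

end core

end Cfsg.Agent.Lib.Helper19.MonoT0
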