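import Mathlib

set_option autoImplicit false

namespace Cfsg.Agent.Lib.Helper19.MonoT0

section model
variable {q : ℕ} [Fact q.Prime]

abbrev E (q : ℕ) := (Fin 2 → ZMod q) ≃ₗ[ZMod q] (Fin 2 → ZMod q)

def dE (a b : (ZMod q)ˣ) : E q where
  toFun v := ![(a : ZMod q) * v 0, (b : ZMod q) * v 1]
  map_add' v w := by ext i; fin_cases i <;> simp [mul_add]
  map_smul' c v := by ext i; fin_cases i <;> simp [mul_left_comm]
  invFun v := ![((a⁻¹ : (ZMod q)ˣ) : ZMod q) * v 0, ((b⁻¹ : (ZMod q)ˣ) : ZMod q) * v 1]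
  left_inv v := by
    ext i; fin_cases i
    · show ((a⁻¹ : (ZMod q)ˣ) : ZMod q) * ((a : ZMod q) * v 0) = v 0
      rw [← mul_assoc, Units.inv_mul, one_mul]
    · show ((b⁻¹ : (ZMod q)ˣ) : ZMod q) * ((b : ZMod q) * v 1) = v 1
      rw [← mul_assoc, Units.inv_mul, one_mul]
  right_inv v := by
    ext i; fin_cases i
    · show (a : ZMod q) * (((a⁻¹ : (ZMod q)ˣ) : ZMod q) * v 0) = v 0
      rw [← mul_assoc, Units.mul_inv, one_mul]
    · show (b : ZMod q) * (((b⁻¹ : (ZMod q)ˣ) : ZMod q) * v 1) = v 1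
      rw [← mul_assoc, Units.mul_inv, one_mul]

def wE : E q where
  toFun v := ![v 1, v 0]
  map_add' v w := by ext i; fin_cases i <;> simp
  map_smul' c v := by ext i; fin_cases i <;> simp
  invFun v := ![v 1, v 0]
  left_inv v := by ext i; fin_cases i <;> simp
  right_inv v := by ext i; fin_cases i <;> simp

theorem dE_apply (a b : (ZMod q)ˣ) (v : Fin 2 → ZMod q) :
    dE a b v = ![(a : ZMod q) * v 0, (b : ZMod q) * v 1] := rfl

theorem wE_apply (v : Fin 2 → ZMod q) : (wE : E q) v = ![v 1, v 0] := rfl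

theorem dE_mul (a b c e : (ZMod q)ˣ) : dE a b * dE c e = dE (a * c) (b * e) := by
  ext v i
  fin_cases i <;> simp [LinearEquiv.mul_apply, dE_apply, mul_assoc]

theorem dE_one : dE (1 : (ZMod q)ˣ) 1 = 1 := by
  ext v i
  fin_cases i <;> simp [dE_apply]

theorem wE_mul_dE (a b : (ZMod q)ˣ) : wE * dE a b = dE b a * wE := by
  ext v i
  fin_cases i <;> simp [LinearEquiv.mul_apply, dE_apply, wE_apply]

theorem wE_mul_wE : (wE : E q) * wE = 1 := by
  ext v i
  fin_cases i <;> simp [LinearEquiv.mul_apply, wE_apply]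

theorem dE_pow (a b : (ZMod q)ˣ) (n : ℕ) : dE a b ^ n = dE (a ^ n) (b ^ n) := by
  induction n with
  | zero => simp [dE_one]
  | succ n ih => rw [pow_succ, ih, dE_mul, pow_succ, pow_succ]

theorem dE_inj {a b c e : (ZMod q)ˣ} (h : dE a b = dE c e) : a = c ∧ b = e := by
  have h1 := congrArg (fun f : E q => f ![1, 1]) h
  simp only [dE_apply] at h1
  have h2 := congrFun h1 0
  have h3 := congrFun h1 1
  simp at h2 h3
  exact ⟨Units.ext h2, Units.ext h3⟩

theorem dE_ne_wE_mul_dE (a b c e : (ZMod q)ˣ) : dE a b ≠ wE * dE c e := by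
  intro h
  have h1 := congrArg (fun f : E q => f ![1, 0]) h
  simp only [dE_apply, LinearEquiv.mul_apply, wE_apply] at h1
  have h2 := congrFun h1 0
  simp at h2

end model

end Cfsg.Agent.Lib.Helper19.MonoT0
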