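import Mathlib
import Cfsg.Agent.Lib.Helper19.MonoT0Core
import Cfsg.Agent.Lib.Helper19.MonoT0Model

set_option autoImplicit false

namespace Cfsg.Agent.Lib.Helper19.MonoT0

section asm
variable {q : ℕ} [Fact q.Prime]

/-- the hypothesis on `T`, abbreviated -/
def IsT0 (T : Subgroup (E q)) : Prop :=
  ∀ f, f ∈ T ↔ ∃ a s : ZMod q, a ≠ 0 ∧ (s = 1 ∨ s = -1) ∧
      ((∀ v, f v = ![a * v 0, s * a⁻¹ * v 1]) ∨ (∀ v, f v = ![s * a⁻¹ * v 1, a * v 0]))

theorem mem_iff {T : Subgroup (E q)} (hT : IsT0 T) (f : E q) :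
    f ∈ T ↔ ∃ a b : (ZMod q)ˣ, (a * b = 1 ∨ a * b = -1) ∧ (f = dE a b ∨ f = wE * dE a b) := by
  constructor
  · intro h
    obtain ⟨a, s, ha, hs, hf⟩ := (hT f).1 h
    obtain ⟨us, hus, hus'⟩ : ∃ us : (ZMod q)ˣ, (us : ZMod q) = s ∧ (us = 1 ∨ us = -1) := by
      rcases hs with rfl | rfl
      · exact ⟨1, by simp, Or.inl rfl⟩
      · exact ⟨-1, by simp, Or.inr rfl⟩
    refine ⟨Units.mk0 a ha, us * (Units.mk0 a ha)⁻¹, ?_, ?_⟩
    · rw [mul_comm us, mul_inv_cancel_left]; exact hus'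
    · have hb : ((us * (Units.mk0 a ha)⁻¹ : (ZMod q)ˣ) : ZMod q) = s * a⁻¹ := by
        rw [Units.val_mul, hus, Units.val_inv_eq_inv_val, Units.val_mk0]
      rcases hf with hf | hf
      · left
        ext v i
        rw [hf v, dE_apply, hb, Units.val_mk0]
      · right
        ext v i
        rw [hf v, LinearEquiv.mul_apply, dE_apply, wE_apply, hb, Units.val_mk0]
        fin_cases i <;> simp
  · rintro ⟨a, b, hab, hf⟩
    refine (hT f).2 ⟨(a : ZMod q), ((a * b : (ZMod q)ˣ) : ZMod q), a.ne_zero, ?_, ?_⟩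
    · rcases hab with h | h
      · left; rw [h]; simp
      · right; rw [h]; simp
    · have hb : ((a * b : (ZMod q)ˣ) : ZMod q) * (a : ZMod q)⁻¹ = b := by
        rw [Units.val_mul, mul_comm (a : ZMod q), mul_inv_cancel_right₀ a.ne_zero]
      rcases hf with hf | hf
      · left; intro v; rw [hf, dE_apply, hb]
      · right; intro v
        rw [hf, LinearEquiv.mul_apply, dE_apply, wE_apply, hb]
        ext i; fin_cases i <;> simp

theorem dE_inv (a b : (ZMod q)ˣ) : (dE a b)⁻¹ = dE a⁻¹ b⁻¹ := by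
  apply inv_eq_of_mul_eq_one_right
  rw [dE_mul, mul_inv_cancel, mul_inv_cancel, dE_one]

/-- the diagonal subgroup -/
def DE (q : ℕ) [Fact q.Prime] : Subgroup (E q) where
  carrier := {f | ∃ a b, f = dE a b}
  mul_mem' := by
    rintro _ _ ⟨a, b, rfl⟩ ⟨c, e, rfl⟩
    exact ⟨_, _, dE_mul _ _ _ _⟩
  one_mem' := ⟨1, 1, dE_one.symm⟩
  inv_mem' := by
    rintro _ ⟨a, b, rfl⟩
    exact ⟨a⁻¹, b⁻¹, dE_inv a b⟩

theorem mem_DE (f : E q) : f ∈ DE q ↔ ∃ a b, f = dE a b := Iff.rfl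

theorem wd_sq (a b : (ZMod q)ˣ) : (wE * dE a b) ^ 2 = dE (b * a) (a * b) := by
  rw [pow_two]
  calc wE * dE a b * (wE * dE a b) = wE * dE a b * wE * dE a b := by simp only [mul_assoc]
    _ = dE b a * wE * wE * dE a b := by rw [wE_mul_dE]
    _ = dE b a * (wE * wE) * dE a b := by simp only [mul_assoc]
    _ = dE (b * a) (a * b) := by rw [wE_mul_wE, mul_one, dE_mul]

theorem wd_pow_four (a b : (ZMod q)ˣ) (hab : a * b = 1 ∨ a * b = -1) :
    (wE * dE a b) ^ 4 = 1 := by
  have h4 : (4 : ℕ) = 2 * 2 := rfl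
  rw [h4, pow_mul, wd_sq, dE_pow, mul_comm b a]
  rcases hab with h | h <;> rw [h] <;> simp [dE_one]

theorem wd_inj {a b c e : (ZMod q)ˣ} (h : wE * dE a b = wE * dE c e) : a = c ∧ b = e :=
  dE_inj (mul_left_cancel h)

variable {T : Subgroup (E q)} (hT : IsT0 T)
include hT

theorem dE_mem {a b : (ZMod q)ˣ} (hab : a * b = 1 ∨ a * b = -1) : dE a b ∈ T :=
  (mem_iff hT _).2 ⟨a, b, hab, Or.inl rfl⟩

theorem wd_mem {a b : (ZMod q)ˣ} (hab : a * b = 1 ∨ a * b = -1) : wE * dE a b ∈ T :=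
  (mem_iff hT _).2 ⟨a, b, hab, Or.inr rfl⟩

theorem wE_mem : (wE : E q) ∈ T := by
  have := wd_mem hT (a := 1) (b := 1) (Or.inl (one_mul 1))
  rwa [dE_one, mul_one] at this

theorem mem_dE {a b : (ZMod q)ˣ} (h : dE a b ∈ T) : a * b = 1 ∨ a * b = -1 := by
  obtain ⟨c, e, hce, h1 | h1⟩ := (mem_iff hT _).1 h
  · obtain ⟨rfl, rfl⟩ := dE_inj h1; exact hce
  · exact absurd h1 (dE_ne_wE_mul_dE _ _ _ _)

theorem mem_wd {a b : (ZMod q)ˣ} (h : wE * dE a b ∈ T) : a * b = 1 ∨ a * b = -1 := by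
  obtain ⟨c, e, hce, h1 | h1⟩ := (mem_iff hT _).1 h
  · exact absurd h1.symm (dE_ne_wE_mul_dE _ _ _ _)
  · obtain ⟨rfl, rfl⟩ := wd_inj h1; exact hce

theorem two_group {m : ℕ} (hq : q = 2 ^ m + 1) (x : T) : ∃ k, x ^ 2 ^ k = 1 := by
  obtain ⟨a, b, hab, h | h⟩ := (mem_iff hT _).1 x.2
  · refine ⟨m, Subtype.ext ?_⟩
    have hm : 2 ^ m = q - 1 := by rw [hq]; simp
    rw [Subgroup.coe_pow, h, dE_pow, hm, ZMod.units_pow_card_sub_one_eq_one,
      ZMod.units_pow_card_sub_one_eq_one, dE_one]; rfl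
  · refine ⟨2, Subtype.ext ?_⟩
    rw [Subgroup.coe_pow, h]
    exact wd_pow_four a b hab

omit hT in
theorem units_sq_one (a : (ZMod q)ˣ) (h : a ^ 2 = 1) : a = 1 ∨ a = -1 := by
  have h1 : (a : ZMod q) * (a : ZMod q) = 1 := by
    have := congrArg Units.val h
    simpa [pow_two] using this
  rcases mul_self_eq_one_iff.1 h1 with h2 | h2
  · left; exact Units.ext h2
  · right; exact Units.ext (by simpa using h2)

/-- the diagonal subgroup inside `T` -/
def DT (T : Subgroup (E q)) : Subgroup T := (DE q).subgroupOf T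

omit hT in
theorem mem_DT (x : T) : x ∈ DT T ↔ ∃ a b, (x : E q) = dE a b := Subgroup.mem_subgroupOf

theorem cases_T (x : T) :
    x ∈ DT T ∨ ∃ a b : (ZMod q)ˣ, (a * b = 1 ∨ a * b = -1) ∧ (x : E q) = wE * dE a b := by
  obtain ⟨a, b, hab, h | h⟩ := (mem_iff hT _).1 x.2
  · left; exact ⟨a, b, h⟩
  · right; exact ⟨a, b, hab, h⟩

omit hT in
theorem two_ne_zero_of (h2 : q ≠ 2) : ((2 : ℕ) : ZMod q) ≠ 0 := by
  rw [Ne, ZMod.natCast_eq_zero_iff]
  intro h
  exact h2 ((Nat.prime_dvd_prime_iff_eq Fact.out Nat.prime_two).1 h)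

omit hT in
theorem neg_one_ne_one_of (h2 : q ≠ 2) : (-1 : (ZMod q)ˣ) ≠ 1 := by
  intro h
  have h1 : (-1 : ZMod q) = 1 := by simpa using congrArg Units.val h
  apply two_ne_zero_of h2
  have : (1 : ZMod q) + 1 = 0 := by
    nth_rewrite 1 [← h1]; ring
  push_cast
  rw [← this]; ring

theorem big_case {m : ℕ} (hq : q = 2 ^ m + 1) (h2 : q ≠ 2) (h3 : q ≠ 3) (h5 : q ≠ 5)
    (β : T ≃* T) (r : ℕ) (hr : Odd r) (hβ : β ^ r = 1) : β = 1 := by
  have hneg : (-1 : (ZMod q)ˣ) ≠ 1 := neg_one_ne_one_of h2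
  have h20 : (2 : ZMod q) ≠ 0 := by
    have := two_ne_zero_of (q := q) h2
    simpa using this
  set u2 : (ZMod q)ˣ := Units.mk0 2 h20 with hu2def
  have hu24 : u2 ^ 4 ≠ 1 := by
    intro h
    have h1 : (2 : ZMod q) ^ 4 = 1 := by
      have := congrArg Units.val h
      simpa [hu2def] using this
    have h15 : ((15 : ℕ) : ZMod q) = 0 := by
      push_cast
      have : (2 : ZMod q) ^ 4 - 1 = 0 := by rw [h1]; ring
      rw [← this]; ring
    rw [ZMod.natCast_eq_zero_iff] at h15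
    have hp : q.Prime := Fact.out
    have : q ∣ 3 * 5 := h15
    rcases (Nat.Prime.dvd_mul hp).1 this with h | h
    · exact h3 ((Nat.prime_dvd_prime_iff_eq hp Nat.prime_three).1 h)
    · exact h5 ((Nat.prime_dvd_prime_iff_eq hp Nat.prime_five).1 h)
  let w : T := ⟨wE, wE_mem hT⟩
  let g0 : T := ⟨dE u2 u2⁻¹, dE_mem hT (Or.inl (mul_inv_cancel u2))⟩
  let z : T := ⟨dE (-1) (-1), dE_mem hT (Or.inl (by simp))⟩
  let u : T := ⟨dE 1 (-1), dE_mem hT (Or.inr (one_mul _))⟩
  have hg0 : g0 ∈ DT T := ⟨u2, u2⁻¹, rfl⟩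
  have hg04 : g0 ^ 4 ≠ 1 := by
    intro h
    have h1 := congrArg Subtype.val h
    rw [Subgroup.coe_pow] at h1
    change dE u2 u2⁻¹ ^ 4 = 1 at h1
    rw [dE_pow, ← dE_one] at h1
    exact hu24 (dE_inj h1).1
  have hcent : ∀ h ∈ DT T, h ^ 4 ≠ 1 → ∀ y : T, y * h = h * y → y ∈ DT T := by
    intro h hh hh4 y hy
    obtain ⟨c, e, hce⟩ := (mem_DT h).1 hh
    have hce' : c * e = 1 ∨ c * e = -1 := mem_dE hT (hce ▸ h.2)
    have hne : c ≠ e := by
      rintro rfl
      apply hh4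
      apply Subtype.ext
      rw [Subgroup.coe_pow, hce, dE_pow]
      have h4 : (4 : ℕ) = 2 * 2 := rfl
      have : c ^ 4 = 1 := by
        rw [h4, pow_mul, pow_two c]
        rcases hce' with h | h <;> rw [h] <;> simp
      rw [this, dE_one]; rfl
    rcases cases_T hT y with hy' | ⟨a, b, hab, hy'⟩
    · exact hy'
    · exfalso
      have h1 := congrArg Subtype.val hy
      rw [Subgroup.coe_mul, Subgroup.coe_mul, hce, hy'] at h1
      have h2 : wE * dE a b * dE c e = wE * dE (a * c) (b * e) := by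
        rw [mul_assoc, dE_mul]
      have h3 : dE c e * (wE * dE a b) = wE * dE (e * a) (c * b) := by
        rw [← mul_assoc, ← wE_mul_dE, mul_assoc, dE_mul]
      rw [h2, h3] at h1
      have := (wd_inj h1).1
      rw [mul_comm e a] at this
      exact hne (mul_left_cancel this)
  refine core_big (two_group hT hq) (DT T) ?_ w ?_ ?_ ?_ g0 hg0 hg04 hcent z u
    ⟨-1, -1, rfl⟩ ⟨1, -1, rfl⟩ ?_ ?_ ?_ ?_ ?_ ?_ ?_ ?_ β r hr hβ
  · -- commutativity of D
    intro x hx y hy
    obtain ⟨a, b, hx⟩ := (mem_DT x).1 hx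
    obtain ⟨c, e, hy⟩ := (mem_DT y).1 hy
    apply Subtype.ext
    rw [Subgroup.coe_mul, Subgroup.coe_mul, hx, hy, dE_mul, dE_mul, mul_comm a c, mul_comm b e]
  · -- w ∉ D
    intro h
    obtain ⟨a, b, h⟩ := (mem_DT w).1 h
    change (wE : E q) = dE a b at h
    apply dE_ne_wE_mul_dE a b 1 1
    rw [dE_one, mul_one, h]
  · -- cover
    intro x
    rcases cases_T hT x with h | ⟨a, b, hab, h⟩
    · left; exact h
    · right
      exact ⟨⟨dE a b, dE_mem hT hab⟩, ⟨a, b, rfl⟩, Subtype.ext h⟩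
  · -- outside D: fourth power trivial
    intro x hx
    rcases cases_T hT x with h | ⟨a, b, hab, h⟩
    · exact absurd h hx
    · apply Subtype.ext
      rw [Subgroup.coe_pow, h]
      exact wd_pow_four a b hab
  · -- Ω₁(D)
    intro x hx hx2
    obtain ⟨a, b, hx⟩ := (mem_DT x).1 hx
    have h1 := congrArg Subtype.val hx2
    rw [Subgroup.coe_pow, hx, dE_pow] at h1
    change dE (a ^ 2) (b ^ 2) = 1 at h1
    rw [← dE_one] at h1
    obtain ⟨ha, hb⟩ := dE_inj h1
    rcases units_sq_one a ha with rfl | rfl <;> rcases units_sq_one b hb with rfl | rfl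
    · left; apply Subtype.ext; rw [hx, dE_one]; rfl
    · right; right; left; exact Subtype.ext hx
    · right; right; right
      apply Subtype.ext
      rw [hx, Subgroup.coe_mul]
      change dE (-1) 1 = dE 1 (-1) * dE (-1) (-1)
      rw [dE_mul]; simp
    · right; left; exact Subtype.ext hx
  · -- z ≠ 1
    intro h
    have h1 := congrArg Subtype.val h
    change dE (-1) (-1) = 1 at h1
    rw [← dE_one] at h1
    exact hneg (dE_inj h1).1
  · -- z^2 = 1
    apply Subtype.ext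
    rw [Subgroup.coe_pow]
    change dE (-1) (-1) ^ 2 = 1
    rw [dE_pow]; simp [dE_one]
  · -- u ≠ 1
    intro h
    have h1 := congrArg Subtype.val h
    change dE 1 (-1) = 1 at h1
    rw [← dE_one] at h1
    exact hneg (dE_inj h1).2
  · -- u^2 = 1
    apply Subtype.ext
    rw [Subgroup.coe_pow]
    change dE 1 (-1) ^ 2 = 1
    rw [dE_pow]; simp [dE_one]
  · -- u ≠ z
    intro h
    have h1 := congrArg Subtype.val h
    change dE 1 (-1) = dE (-1) (-1) at h1
    exact hneg (dE_inj h1).1.symm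
  · -- unique central involution
    intro x hx2 hx1 hc
    have hxD : x ∈ DT T := hcent g0 hg0 hg04 x (hc g0).symm
    obtain ⟨a, b, hx⟩ := (mem_DT x).1 hxD
    have hw := congrArg Subtype.val (hc w)
    rw [Subgroup.coe_mul, Subgroup.coe_mul, hx] at hw
    change wE * dE a b = dE a b * wE at hw
    rw [← wE_mul_dE] at hw
    obtain ⟨hab, -⟩ := wd_inj hw
    subst hab
    have h1 := congrArg Subtype.val hx2
    rw [Subgroup.coe_pow, hx, dE_pow] at h1
    change dE (a ^ 2) (a ^ 2) = 1 at h1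
    rw [← dE_one] at h1
    rcases units_sq_one a (dE_inj h1).1 with rfl | rfl
    · exfalso; apply hx1; apply Subtype.ext; rw [hx, dE_one]; rfl
    · exact Subtype.ext hx
  · -- z central
    intro y
    apply Subtype.ext
    rw [Subgroup.coe_mul, Subgroup.coe_mul]
    change (y : E q) * dE (-1) (-1) = dE (-1) (-1) * (y : E q)
    obtain ⟨a, b, hab, h | h⟩ := (mem_iff hT _).1 y.2
    · rw [h, dE_mul, dE_mul, mul_comm a, mul_comm b]
    · rw [h, ← mul_assoc, ← wE_mul_dE, mul_assoc, mul_assoc, dE_mul, dE_mul, mul_comm a,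
        mul_comm b]

omit hT in
theorem units_three : ∀ a : (ZMod 3)ˣ, a = 1 ∨ a = -1 := by decide

omit hT in
theorem units_two : ∀ a : (ZMod 2)ˣ, a = 1 := by decide

theorem two_case (h2 : q = 2) (β : T ≃* T) : β = 1 := by
  subst h2
  have hT2 : ∀ x : T, x = 1 ∨ (x : E 2) = wE := by
    intro x
    obtain ⟨a, b, hab, h | h⟩ := (mem_iff hT _).1 x.2
    · left; apply Subtype.ext; rw [h, units_two a, units_two b, dE_one]; rfl
    · right; rw [h, units_two a, units_two b, dE_one, mul_one]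
  apply MulEquiv.ext
  intro x
  rw [MulAut.one_apply]
  rcases hT2 x with h | h
  · rw [h, map_one]
  · rcases hT2 (β x) with h' | h'
    · have : x = 1 := β.injective (by rw [h', map_one])
      rw [this, map_one]
    · exact Subtype.ext (h'.trans h.symm)

theorem three_case {m : ℕ} (hq : q = 2 ^ m + 1) (h3 : q = 3)
    (β : T ≃* T) (r : ℕ) (hr : Odd r) (hβ : β ^ r = 1) : β = 1 := by
  subst h3
  have hneg : (-1 : (ZMod 3)ˣ) ≠ 1 := neg_one_ne_one_of (by norm_num)
  have e1 : (-1 : (ZMod 3)ˣ) * -1 = 1 := by simp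
  have e2 : (1 : (ZMod 3)ˣ) * -1 = -1 := by simp
  have e3 : (-1 : (ZMod 3)ˣ) * 1 = -1 := by simp
  let w : T := ⟨wE, wE_mem hT⟩
  let x0 : T := ⟨wE * dE (-1) 1, wd_mem hT (Or.inr (mul_one _))⟩
  let C : Set T := {y | (y : E 3) = dE 1 1 ∨ (y : E 3) = wE * dE (-1) 1 ∨
    (y : E 3) = dE (-1) (-1) ∨ (y : E 3) = wE * dE 1 (-1)}
  have hx0sq : ((x0 ^ 2 : T) : E 3) = dE (-1) (-1) := by
    rw [Subgroup.coe_pow]
    change (wE * dE (-1) 1) ^ 2 = _
    rw [wd_sq, e2, e3]
  have hx0cube : ((x0 * x0 ^ 2 : T) : E 3) = wE * dE 1 (-1) := by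
    rw [Subgroup.coe_mul, hx0sq]
    change wE * dE (-1) 1 * dE (-1) (-1) = _
    rw [mul_assoc, dE_mul, e1, e2]
  refine core_three (two_group hT hq) x0 w ?_ ?_ C ?_ ?_ ?_ ?_ β r hr hβ
  · apply Subtype.ext
    rw [Subgroup.coe_pow]
    exact wd_pow_four _ _ (Or.inr (mul_one _))
  · intro h
    have h1 := congrArg Subtype.val h
    rw [hx0sq] at h1
    change dE (-1) (-1) = 1 at h1
    rw [← dE_one] at h1
    exact hneg (dE_inj h1).1
  · rintro c (h | h | h | h)
    · exact ⟨0, Subtype.ext (by rw [h, dE_one]; rfl)⟩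
    · exact ⟨1, Subtype.ext (by rw [pow_one]; exact h)⟩
    · exact ⟨2, Subtype.ext (by rw [h, hx0sq])⟩
    · refine ⟨3, Subtype.ext ?_⟩
      rw [h, pow_succ', hx0cube]
  · intro y
    obtain ⟨a, b, hab, h | h⟩ := (mem_iff hT _).1 y.2
    · rcases units_three a with rfl | rfl <;> rcases units_three b with rfl | rfl
      · left; exact Or.inl h
      · right
        refine ⟨⟨wE * dE 1 (-1), wd_mem hT (Or.inr e2)⟩, Or.inr (Or.inr (Or.inr rfl)), ?_⟩
        apply Subtype.ext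
        rw [Subgroup.coe_mul, h]
        change _ = wE * (wE * dE 1 (-1))
        rw [← mul_assoc, wE_mul_wE, one_mul]
      · right
        refine ⟨⟨wE * dE (-1) 1, wd_mem hT (Or.inr e3)⟩, Or.inr (Or.inl rfl), ?_⟩
        apply Subtype.ext
        rw [Subgroup.coe_mul, h]
        change _ = wE * (wE * dE (-1) 1)
        rw [← mul_assoc, wE_mul_wE, one_mul]
      · left; exact Or.inr (Or.inr (Or.inl h))
    · rcases units_three a with rfl | rfl <;> rcases units_three b with rfl | rfl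
      · right
        exact ⟨⟨dE 1 1, dE_mem hT (Or.inl (one_mul _))⟩, Or.inl rfl, Subtype.ext h⟩
      · left; exact Or.inr (Or.inr (Or.inr h))
      · left; exact Or.inr (Or.inl h)
      · right
        exact ⟨⟨dE (-1) (-1), dE_mem hT (Or.inl e1)⟩, Or.inr (Or.inr (Or.inl rfl)),
          Subtype.ext h⟩
  · rintro (h | h | h | h)
    · change (wE : E 3) = dE 1 1 at h
      apply dE_ne_wE_mul_dE (q := 3) 1 1 1 1
      rw [dE_one, mul_one]; rw [dE_one] at h; exact h.symm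
    · change (wE : E 3) = wE * dE (-1) 1 at h
      have h' : (wE : E 3) * dE 1 1 = wE * dE (-1) 1 := by rw [dE_one, mul_one]; exact h
      exact hneg (wd_inj h').1.symm
    · change (wE : E 3) = dE (-1) (-1) at h
      apply dE_ne_wE_mul_dE (q := 3) (-1) (-1) 1 1
      rw [dE_one, mul_one]; exact h.symm
    · change (wE : E 3) = wE * dE 1 (-1) at h
      have h' : (wE : E 3) * dE 1 1 = wE * dE 1 (-1) := by rw [dE_one, mul_one]; exact h
      exact hneg (wd_inj h').2.symm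
  · intro y hy
    obtain ⟨a, b, hab, h | h⟩ := (mem_iff hT _).1 y.2
    · exfalso
      apply hy
      apply Subtype.ext
      rw [Subgroup.coe_pow, h, dE_pow]
      have ha : a ^ 2 = 1 := by rcases units_three a with rfl | rfl <;> simp
      have hb : b ^ 2 = 1 := by rcases units_three b with rfl | rfl <;> simp
      rw [ha, hb, dE_one]; rfl
    · rcases units_three a with rfl | rfl <;> rcases units_three b with rfl | rfl
      · exfalso
        apply hy
        apply Subtype.ext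
        rw [Subgroup.coe_pow, h, wd_sq, one_mul, dE_one]; rfl
      · right
        apply Subtype.ext
        rw [hx0cube]; exact h
      · left
        exact Subtype.ext h
      · exfalso
        apply hy
        apply Subtype.ext
        rw [Subgroup.coe_pow, h, wd_sq, e1, dE_one]; rfl

end asm

end Cfsg.Agent.Lib.Helper19.MonoT0
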