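import Mathlib
import Cfsg.Agent.Lib.Helper22.Frobenius

set_option autoImplicit false

namespace Cfsg.Agent.Lib.Helper19.Nse

variable (G : Type*) [Group G] [Finite G]

/-- number of elements of order `k` -/
noncomputable def cnt (k : ℕ) : ℕ := Nat.card {g : G // orderOf g = k}

theorem cnt_one : cnt G 1 = 1 := by
  unfold cnt
  rw [Nat.card_eq_one_iff_unique]
  refine ⟨⟨?_⟩, ⟨⟨1, orderOf_one⟩⟩⟩
  rintro ⟨a, ha⟩ ⟨b, hb⟩
  apply Subtype.ext
  show a = b
  rw [orderOf_eq_one_iff] at ha hb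
  rw [ha, hb]

variable {G}

theorem cnt_ne_zero_iff {k : ℕ} : cnt G k ≠ 0 ↔ ∃ g : G, orderOf g = k := by
  unfold cnt
  rw [Nat.card_ne_zero]
  constructor
  · rintro ⟨⟨g, hg⟩, -⟩
    exact ⟨g, hg⟩
  · rintro ⟨g, hg⟩
    exact ⟨⟨⟨g, hg⟩⟩, inferInstance⟩

theorem dvd_card_of_cnt_ne_zero {k : ℕ} (h : cnt G k ≠ 0) : k ∣ Nat.card G := by
  obtain ⟨g, rfl⟩ := cnt_ne_zero_iff.1 h
  exact orderOf_dvd_natCard g

theorem pos_of_cnt_ne_zero {k : ℕ} (h : cnt G k ≠ 0) : 0 < k := by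
  obtain ⟨g, rfl⟩ := cnt_ne_zero_iff.1 h
  exact orderOf_pos g

/-- downward closure of the set of element orders -/
theorem cnt_eq_zero_of_dvd {j k : ℕ} (hjk : j ∣ k) (hj : cnt G j = 0) : cnt G k = 0 := by
  by_contra hk
  obtain ⟨g, hg⟩ := cnt_ne_zero_iff.1 hk
  have hkpos : 0 < k := by rw [← hg]; exact orderOf_pos g
  obtain ⟨c, hc⟩ := hjk
  have hcpos : c ≠ 0 := by
    rintro rfl
    rw [mul_zero] at hc
    omega
  have hjpos : 0 < j := by
    rcases Nat.eq_zero_or_pos j with h | h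
    · rw [h, zero_mul] at hc; omega
    · exact h
  have h1 : orderOf (g ^ c) = j := by
    rw [orderOf_pow_of_dvd hcpos (by rw [hg, hc]; exact Dvd.intro_left j rfl), hg, hc]
    exact Nat.mul_div_cancel j (Nat.pos_of_ne_zero hcpos)
  exact (cnt_ne_zero_iff.2 ⟨g ^ c, h1⟩) hj

theorem cnt_prime_ne_zero {p : ℕ} (hp : p.Prime) (h : p ∣ Nat.card G) : cnt G p ≠ 0 := by
  haveI : Fact p.Prime := ⟨hp⟩
  obtain ⟨g, hg⟩ := exists_prime_orderOf_dvd_card' p h
  exact cnt_ne_zero_iff.2 ⟨g, hg⟩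

theorem totient_dvd_cnt (k : ℕ) : k.totient ∣ cnt G k :=
  Cfsg.Agent.Lib.Helper22.totient_dvd_card_orderOf_eq k

theorem even_cnt {k : ℕ} (hk : 3 ≤ k) : 2 ∣ cnt G k :=
  (even_iff_two_dvd.1 (Nat.totient_even (by omega))).trans (totient_dvd_cnt k)

open Classical in
theorem card_pow_eq_one (d : ℕ) (hd : 0 < d) :
    Nat.card {g : G // g ^ d = 1} = ∑ k ∈ d.divisors, cnt G k := by
  let _ : Fintype G := Fintype.ofFinite G
  unfold cnt
  simp only [Nat.card_eq_fintype_card, Fintype.card_subtype]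
  rw [Finset.card_eq_sum_card_fiberwise (f := orderOf) (t := d.divisors)]
  · apply Finset.sum_congr rfl
    intro k hk
    congr 1
    ext g
    simp only [Finset.mem_filter, Finset.mem_univ, true_and]
    constructor
    · rintro ⟨-, h⟩; exact h
    · intro h
      refine ⟨?_, h⟩
      rw [← orderOf_dvd_iff_pow_eq_one, h]
      exact Nat.dvd_of_mem_divisors hk
  · intro g hg
    rw [Finset.coe_filter] at hg
    have : g ^ d = 1 := hg.2
    rw [Finset.mem_coe, Nat.mem_divisors]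
    exact ⟨orderOf_dvd_of_pow_eq_one this, hd.ne'⟩

/-- Frobenius' theorem in terms of the counting function -/
theorem frob {d : ℕ} (hd : d ∣ Nat.card G) : d ∣ ∑ k ∈ d.divisors, cnt G k := by
  have hpos : 0 < d := Nat.pos_of_dvd_of_pos hd Nat.card_pos
  rw [← card_pow_eq_one d hpos]
  exact Cfsg.Agent.Lib.Helper22.frobenius d hd

theorem card_eq_sum : Nat.card G = ∑ k ∈ (Nat.card G).divisors, cnt G k := by
  rw [← card_pow_eq_one (Nat.card G) Nat.card_pos]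
  symm
  apply Nat.card_congr
  exact (Equiv.subtypeUnivEquiv (fun g => pow_card_eq_one')).trans (Equiv.refl _) |>.trans (Equiv.refl _)

/-- unpacking the hypothesis on the set of same-order counts -/
theorem mem_of_image_eq {S : Set ℕ}
    (h : ((fun m : ℕ => Nat.card {g : G // orderOf g = m}) '' Set.range (orderOf : G → ℕ)) = S)
    {k : ℕ} (hk : cnt G k ≠ 0) : cnt G k ∈ S := by
  rw [← h]
  obtain ⟨g, hg⟩ := cnt_ne_zero_iff.1 hk
  exact ⟨k, ⟨g, hg⟩, rfl⟩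

theorem exists_of_image_eq {S : Set ℕ}
    (h : ((fun m : ℕ => Nat.card {g : G // orderOf g = m}) '' Set.range (orderOf : G → ℕ)) = S)
    {v : ℕ} (hv : v ∈ S) : ∃ k : ℕ, cnt G k = v ∧ cnt G k ≠ 0 := by
  rw [← h] at hv
  obtain ⟨k, ⟨g, hg⟩, hkv⟩ := hv
  exact ⟨k, hkv, cnt_ne_zero_iff.2 ⟨g, hg⟩⟩

end Cfsg.Agent.Lib.Helper19.Nse
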