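import Mathlib
import Cfsg.Agent.Lib.Helper19.NseTools

set_option autoImplicit false

namespace Cfsg.Agent.Lib.Helper19.Nse

/-- divisibility from bounds on prime powers -/
theorem dvd_of_prime_bounds {N M : ℕ} (hN : N ≠ 0) (hM : M ≠ 0)
    (h : ∀ p : ℕ, p.Prime → p ∣ N → ∀ k : ℕ, p ^ k ∣ N → p ^ k ∣ M) : N ∣ M := by
  rw [← Nat.factorization_le_iff_dvd hN hM]
  intro p
  by_cases hp : p.Prime
  · by_cases hk : N.factorization p = 0
    · rw [hk]; exact Nat.zero_le _
    · have hpN : p ∣ N := Nat.dvd_of_factorization_pos hk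
      have h1 : p ^ N.factorization p ∣ N := Nat.ordProj_dvd N p
      have h2 := h p hp hpN _ h1
      exact (hp.pow_dvd_iff_le_factorization hM).1 h2
  · rw [Nat.factorization_eq_zero_of_not_prime N hp]
    exact Nat.zero_le _

/-- the purely arithmetical data attached to the function counting elements of each order -/
structure Profile (S : Finset ℕ) (m : ℕ → ℕ) (N : ℕ) : Prop where
  one : m 1 = 1
  zero : m 0 = 0
  mem : ∀ k, m k ≠ 0 → m k ∈ S
  att : ∀ v ∈ S, ∃ k, m k = v
  tot : ∀ k, k.totient ∣ m k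
  frob : ∀ d, d ∣ N → d ∣ ∑ k ∈ d.divisors, m k
  clos : ∀ j k, j ∣ k → m j = 0 → m k = 0
  cauchy : ∀ p, p.Prime → p ∣ N → m p ≠ 0
  dvd : ∀ k, m k ≠ 0 → k ∣ N
  sum : N = ∑ k ∈ N.divisors, m k
  pos : 0 < N

section group

variable {G : Type*} [Group G] [Finite G]

theorem cnt_zero_eq : cnt G 0 = 0 := by
  by_contra h
  have := pos_of_cnt_ne_zero h
  omega

theorem profile_of_image_eq {S : Finset ℕ}
    (h : ((fun m : ℕ => Nat.card {g : G // orderOf g = m}) '' Set.range (orderOf : G → ℕ)) =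
      (S : Set ℕ)) : Profile S (cnt G) (Nat.card G) where
  one := cnt_one G
  zero := cnt_zero_eq
  mem := fun k hk => by
    have := mem_of_image_eq h hk
    exact Finset.mem_coe.1 this
  att := fun v hv => by
    obtain ⟨k, hk, -⟩ := exists_of_image_eq h (v := v) (Finset.mem_coe.2 hv)
    exact ⟨k, hk⟩
  tot := totient_dvd_cnt
  frob := fun d hd => frob hd
  clos := fun j k hjk hj => cnt_eq_zero_of_dvd hjk hj
  cauchy := fun p hp hpN => cnt_prime_ne_zero hp hpN
  dvd := fun k hk => dvd_card_of_cnt_ne_zero hk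
  sum := card_eq_sum
  pos := Nat.card_pos

end group

namespace Profile

variable {S : Finset ℕ} {m : ℕ → ℕ} {N : ℕ}

theorem frobL (P : Profile S m N) {d : ℕ} (hd : d ∣ N) (l : List ℕ)
    (hl : Nat.divisors d = l.toFinset) (hnd : l.Nodup) : d ∣ (l.map m).sum := by
  have := P.frob d hd
  rw [hl, List.sum_toFinset _ hnd] at this
  exact this

theorem frob_prime (P : Profile S m N) {p : ℕ} (hp : p.Prime) (h : p ∣ N) : p ∣ m p + 1 := by
  have := P.frob p h
  rw [hp.sum_divisors, P.one] at this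
  exact this

theorem even_of_three_le (P : Profile S m N) {k : ℕ} (hk : 3 ≤ k) : 2 ∣ m k :=
  (even_iff_two_dvd.1 (Nat.totient_even (by omega))).trans (P.tot k)

/-- the order is the sum of the counts over any set containing all element orders -/
theorem sum_eq (P : Profile S m N) (K : Finset ℕ) (hK : ∀ k, m k ≠ 0 → k ∈ K) :
    N = ∑ k ∈ K, m k := by
  have h1 : ∑ k ∈ N.divisors, m k = ∑ k ∈ K, m k := by
    rw [← Finset.sum_filter_ne_zero (s := N.divisors), ← Finset.sum_filter_ne_zero (s := K)]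
    apply Finset.sum_congr _ (fun _ _ => rfl)
    ext k
    simp only [Finset.mem_filter, Nat.mem_divisors]
    constructor
    · rintro ⟨-, h⟩
      exact ⟨hK k h, h⟩
    · rintro ⟨-, h⟩
      exact ⟨⟨P.dvd k h, P.pos.ne'⟩, h⟩
  exact P.sum.trans h1

theorem sum_eqL (P : Profile S m N) (l : List ℕ) (hnd : l.Nodup) (hK : ∀ k, m k ≠ 0 → k ∈ l) :
    N = (l.map m).sum := by
  rw [← List.sum_toFinset _ hnd]
  exact P.sum_eq l.toFinset (fun k hk => List.mem_toFinset.2 (hK k hk))

/-- sum of the counts over any set of orders is at most the group order -/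
theorem sum_le (P : Profile S m N) (K : Finset ℕ) : ∑ k ∈ K, m k ≤ N := by
  have h1 : ∑ k ∈ K, m k ≤ ∑ k ∈ N.divisors, m k := by
    apply Finset.sum_le_sum_of_ne_zero
    intro k _ hk
    exact Nat.mem_divisors.2 ⟨P.dvd k hk, P.pos.ne'⟩
  exact h1.trans_eq P.sum.symm

theorem sum_leL (P : Profile S m N) (l : List ℕ) (hnd : l.Nodup) : (l.map m).sum ≤ N := by
  rw [← List.sum_toFinset _ hnd]
  exact P.sum_le _

/-- the sum of all the (distinct, nonzero) values is at most the group order -/
theorem sum_vals_le (P : Profile S m N) : ∑ v ∈ S, v ≤ N := by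
  classical
  choose! f hf using P.att
  have hinj : Set.InjOn f (S : Set ℕ) := by
    intro v hv w hw hvw
    rw [← hf v hv, ← hf w hw, hvw]
  have h1 : ∑ v ∈ S, v = ∑ k ∈ S.image f, m k := by
    rw [Finset.sum_image hinj]
    exact Finset.sum_congr rfl (fun v hv => (hf v hv).symm)
  rw [h1]
  exact P.sum_le _

end Profile

end Cfsg.Agent.Lib.Helper19.Nse
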