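import Mathlib
import Cfsg.Agent.Lib.Helper19.NseProfile

set_option autoImplicit false

namespace Cfsg.Agent.Lib.Helper19.Nse

theorem a4_arith {m : ℕ → ℕ} {N : ℕ} (P : Profile {1, 3, 8} m N) : N = 12 ∧ m 3 = 8 := by
  have hvals : ∀ k : ℕ, m k ≠ 0 → m k = 1 ∨ m k = 3 ∨ m k = 8 := by
    intro k hk
    have := P.mem k hk
    simpa using this
  have h2 : m 2 = 3 := by
    obtain ⟨k, hk⟩ := P.att 3 (by simp)
    have hk3 : k < 3 := by
      by_contra hcon
      have := P.even_of_three_le (k := k) (by omega)
      omega
    interval_cases k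
    · rw [P.zero] at hk; omega
    · rw [P.one] at hk; omega
    · exact hk
  have hbig : ∀ k : ℕ, 3 ≤ k → m k = 0 ∨ m k = 8 := by
    intro k hk
    by_cases h0 : m k = 0
    · left; exact h0
    · right
      have := P.even_of_three_le hk
      rcases hvals k h0 with h1 | h1 | h1 <;> omega
  have h2N : 2 ∣ N := P.dvd 2 (by rw [h2]; norm_num)
  have hprimes : ∀ p : ℕ, p.Prime → p ∣ N → p = 2 ∨ p = 3 := by
    intro p hp hpN
    by_cases hp2 : p = 2
    · left; exact hp2
    · right
      have hp3 : 3 ≤ p := by
        have := hp.two_le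
        omega
      have h0 := P.cauchy p hp hpN
      have h8 : m p = 8 := by
        rcases hbig p hp3 with h1 | h1
        · exact absurd h1 h0
        · exact h1
      have := P.frob_prime hp hpN
      rw [h8] at this
      have h9 : p ∣ 3 ^ 2 := by norm_num; exact this
      exact (Nat.prime_dvd_prime_iff_eq hp Nat.prime_three).1 (hp.dvd_of_dvd_pow h9)
  have h8 : ¬ 8 ∣ N := by
    intro hd
    have := P.frobL hd [1, 2, 4, 8] (by decide) (by decide)
    simp only [List.map_cons, List.map_nil, List.sum_cons, List.sum_nil, add_zero] at this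
    rw [P.one, h2] at this
    rcases hbig 4 (by norm_num) with h4 | h4 <;> rcases hbig 8 (by norm_num) with h8 | h8 <;> omega
  have h27 : ¬ 27 ∣ N := by
    intro hd
    have := P.frobL hd [1, 3, 9, 27] (by decide) (by decide)
    simp only [List.map_cons, List.map_nil, List.sum_cons, List.sum_nil, add_zero] at this
    rw [P.one] at this
    rcases hbig 3 (by norm_num) with h3 | h3 <;> rcases hbig 9 (by norm_num) with h9 | h9 <;>
      rcases hbig 27 (by norm_num) with h27 | h27 <;> omega
  have hN36 : N ∣ 36 := by
    apply dvd_of_prime_bounds P.pos.ne' (by norm_num)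
    intro p hp hpN k hk
    rcases hprimes p hp hpN with rfl | rfl
    · have hk3 : k < 3 := by
        by_contra hcon
        apply h8
        exact (pow_dvd_pow 2 (by omega : 3 ≤ k)).trans hk
      interval_cases k <;> norm_num
    · have hk3 : k < 3 := by
        by_contra hcon
        apply h27
        exact (pow_dvd_pow 3 (by omega : 3 ≤ k)).trans hk
      interval_cases k <;> norm_num
  have hge : 12 ≤ N := by
    have := P.sum_vals_le
    simpa using this
  have h3N : 3 ∣ N := by
    by_contra h3
    have hN4 : N ∣ 4 := by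
      have : N ∣ 4 * 9 := by norm_num; exact hN36
      refine (Nat.Coprime.dvd_mul_right ?_).1 this
      exact (Nat.Coprime.pow_right 2 ((Nat.Prime.coprime_iff_not_dvd Nat.prime_three).2 h3).symm)
    have := Nat.le_of_dvd (by norm_num) hN4
    omega
  have h3 : m 3 = 8 := by
    rcases hbig 3 (by norm_num) with h | h
    · exact absurd h (P.cauchy 3 Nat.prime_three h3N)
    · exact h
  refine ⟨?_, h3⟩
  have hmem : N ∈ Nat.divisors 36 := Nat.mem_divisors.2 ⟨hN36, by norm_num⟩
  have hdiv36 : Nat.divisors 36 = {1, 2, 3, 4, 6, 9, 12, 18, 36} := by decide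
  rw [hdiv36] at hmem
  simp only [Finset.mem_insert, Finset.mem_singleton] at hmem
  rcases hmem with h | h | h | h | h | h | h | h | h
  · omega
  · omega
  · omega
  · omega
  · omega
  · omega
  · exact h
  · -- N = 18
    exfalso
    have hd : 18 ∣ N := by rw [h]
    have := P.frobL hd [1, 2, 3, 6, 9, 18] (by decide) (by decide)
    simp only [List.map_cons, List.map_nil, List.sum_cons, List.sum_nil, add_zero] at this
    rw [P.one, h2, h3] at this
    have hle := P.sum_leL [1, 2, 3, 6, 9, 18] (by decide)
    simp only [List.map_cons, List.map_nil, List.sum_cons, List.sum_nil, add_zero] at hle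
    rw [P.one, h2, h3] at hle
    rcases hbig 6 (by norm_num) with h6 | h6 <;> rcases hbig 9 (by norm_num) with h9 | h9 <;>
      rcases hbig 18 (by norm_num) with h18 | h18 <;> omega
  · -- N = 36
    exfalso
    have hd9 : 9 ∣ N := by rw [h]; norm_num
    have f9 := P.frobL hd9 [1, 3, 9] (by decide) (by decide)
    simp only [List.map_cons, List.map_nil, List.sum_cons, List.sum_nil, add_zero] at f9
    rw [P.one, h3] at f9
    have h9 : m 9 = 0 := by
      rcases hbig 9 (by norm_num) with h9 | h9
      · exact h9
      · omega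
    have h18 : m 18 = 0 := P.clos 9 18 (by norm_num) h9
    have hd : 18 ∣ N := by rw [h]; norm_num
    have := P.frobL hd [1, 2, 3, 6, 9, 18] (by decide) (by decide)
    simp only [List.map_cons, List.map_nil, List.sum_cons, List.sum_nil, add_zero] at this
    rw [P.one, h2, h3, h9, h18] at this
    rcases hbig 6 (by norm_num) with h6 | h6 <;> omega

end Cfsg.Agent.Lib.Helper19.Nse
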