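import Mathlib
import Cfsg.Agent.Lib.Helper19.NseProfile

set_option autoImplicit false
set_option maxRecDepth 100000

namespace Cfsg.Agent.Lib.Helper19.Nse

theorem dvd_of_dvd_mul_pow_of_not_dvd {N a p : ℕ} (hp : p.Prime) (k : ℕ) (h : N ∣ a * p ^ k)
    (hpN : ¬ p ∣ N) : N ∣ a := by
  have hc : Nat.Coprime N (p ^ k) :=
    Nat.Coprime.pow_right k ((Nat.Prime.coprime_iff_not_dvd hp).2 hpN).symm
  exact hc.dvd_of_dvd_mul_right h

namespace Profile

variable {S : Finset ℕ} {m : ℕ → ℕ} {N : ℕ}

/-- the order is the sum of the counts over a list of possible orders, the rest being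
excluded through a list of orders that do not occur -/
theorem sum_eq_of_dvd (P : Profile S m N) (M : ℕ) (hM : N ∣ M) (hM0 : M ≠ 0) (l : List ℕ)
    (hnd : l.Nodup) (Z : List ℕ) (hZ : ∀ z ∈ Z, m z = 0)
    (hcheck : ∀ k ∈ Nat.divisors M, k ∈ l ∨ ∃ z ∈ Z, z ∣ k) : N = (l.map m).sum := by
  apply P.sum_eqL l hnd
  intro k hk
  have hkM : k ∈ Nat.divisors M := Nat.mem_divisors.2 ⟨(P.dvd k hk).trans hM, hM0⟩
  rcases hcheck k hkM with h | ⟨z, hz, hzk⟩
  · exact h
  · exact absurd (P.clos z k hzk (hZ z hz)) hk

end Profile

set_option maxHeartbeats 4000000 in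
theorem a5_arith {m : ℕ → ℕ} {N : ℕ} (P : Profile {1, 15, 20, 24} m N) : N = 60 ∧ m 5 = 24 := by
  have hvals : ∀ k : ℕ, m k ≠ 0 → m k = 1 ∨ m k = 15 ∨ m k = 20 ∨ m k = 24 := by
    intro k hk
    have := P.mem k hk
    simpa using this
  have h2 : m 2 = 15 := by
    obtain ⟨k, hk⟩ := P.att 15 (by simp)
    have hk3 : k < 3 := by
      by_contra hcon
      have := P.even_of_three_le (k := k) (by omega)
      omega
    interval_cases k
    · rw [P.zero] at hk; omega
    · rw [P.one] at hk; omega
    · exact hk
  have hbig : ∀ k : ℕ, 3 ≤ k → m k = 0 ∨ m k = 20 ∨ m k = 24 := by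
    intro k hk
    by_cases h0 : m k = 0
    · left; exact h0
    · right
      have := P.even_of_three_le hk
      rcases hvals k h0 with h1 | h1 | h1 | h1 <;> omega
  have h2N : 2 ∣ N := P.dvd 2 (by rw [h2]; norm_num)
  have hge : 60 ≤ N := by
    have := P.sum_vals_le
    simpa using this
  -- orders excluded by Euler's function
  have hz : ∀ k t : ℕ, 3 ≤ k → Nat.totient k = t → ¬ t ∣ 20 → ¬ t ∣ 24 → m k = 0 := by
    intro k t hk ht h20 h24
    have := P.tot k
    rw [ht] at this
    rcases hbig k hk with h | h | h
    · exact h
    · rw [h] at this; exact absurd this h20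
    · rw [h] at this; exact absurd this h24
  have z32 : m 32 = 0 := hz 32 16 (by norm_num) (by decide) (by norm_num) (by norm_num)
  have z40 : m 40 = 0 := hz 40 16 (by norm_num) (by decide) (by norm_num) (by norm_num)
  have z48 : m 48 = 0 := hz 48 16 (by norm_num) (by decide) (by norm_num) (by norm_num)
  have z144 : m 144 = 0 := hz 144 48 (by norm_num) (by decide) (by norm_num) (by norm_num)
  have z64 : m 64 = 0 := P.clos 32 64 (by norm_num) z32
  have z128 : m 128 = 0 := P.clos 32 128 (by norm_num) z32
  have t16' : 8 ∣ m 16 := by
    have := P.tot 16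
    rwa [show Nat.totient 16 = 8 from by decide] at this
  -- the primes
  have hprime : ∀ p : ℕ, p.Prime → p ∣ N → p = 2 ∨ (p = 3 ∧ m 3 = 20) ∨ (p = 5 ∧ m 5 = 24) := by
    intro p hp hpN
    by_cases hp2 : p = 2
    · left; exact hp2
    · right
      have hp3 : 3 ≤ p := by
        have := hp.two_le
        omega
      have h0 := P.cauchy p hp hpN
      have hfp : p ∣ m p + 1 := P.frob_prime hp hpN
      have htot : p - 1 ∣ m p := by
        have := P.tot p
        rwa [Nat.totient_prime hp] at this
      rcases hbig p hp3 with h1 | h1 | h1
      · exact absurd h1 h0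
      · rw [h1] at hfp htot
        have h21 : p ∣ 3 * 7 := by norm_num; exact hfp
        rcases (Nat.Prime.dvd_mul hp).1 h21 with h | h
        · have := (Nat.prime_dvd_prime_iff_eq hp Nat.prime_three).1 h
          subst this
          left; exact ⟨rfl, h1⟩
        · have := (Nat.prime_dvd_prime_iff_eq hp (by norm_num : Nat.Prime 7)).1 h
          subst this
          omega
      · rw [h1] at hfp htot
        have h25 : p ∣ 5 ^ 2 := by norm_num; exact hfp
        have := (Nat.prime_dvd_prime_iff_eq hp (by norm_num : Nat.Prime 5)).1 (hp.dvd_of_dvd_pow h25)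
        subst this
        right; exact ⟨rfl, h1⟩
  have h3 : 3 ∣ N → m 3 = 20 := by
    intro h
    rcases hprime 3 Nat.prime_three h with h | h | h
    · omega
    · exact h.2
    · omega
  have h5 : 5 ∣ N → m 5 = 24 := by
    intro h
    rcases hprime 5 (by norm_num) h with h | h | h
    · omega
    · omega
    · exact h.2
  -- the 2-part
  have t8 : 8 ∣ N → (m 4 = 0 ∧ m 8 = 0) ∨ (m 4 = 20 ∧ m 8 = 20) ∨ (m 4 = 24 ∧ m 8 = 0) ∨
      (m 4 = 24 ∧ m 8 = 24) := by
    intro hd
    have := P.frobL hd [1, 2, 4, 8] (by decide) (by decide)
    simp only [List.map_cons, List.map_nil, List.sum_cons, List.sum_nil, add_zero] at this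
    rw [P.one, h2] at this
    have c48 := P.clos 4 8 (by norm_num)
    rcases hbig 4 (by norm_num) with h4 | h4 | h4 <;>
      rcases hbig 8 (by norm_num) with h8 | h8 | h8 <;> omega
  have t16 : 16 ∣ N → (m 4 = 0 ∧ m 8 = 0 ∧ m 16 = 0) ∨ (m 4 = 20 ∧ m 8 = 20 ∧ m 16 = 24) ∨
      (m 4 = 24 ∧ m 8 = 24 ∧ m 16 = 0) := by
    intro hd
    have h8N : 8 ∣ N := Dvd.dvd.trans (by norm_num) hd
    have := P.frobL hd [1, 2, 4, 8, 16] (by decide) (by decide)
    simp only [List.map_cons, List.map_nil, List.sum_cons, List.sum_nil, add_zero] at this
    rw [P.one, h2] at this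
    have c816 := P.clos 8 16 (by norm_num)
    rcases t8 h8N with h | h | h | h <;>
      rcases hbig 16 (by norm_num) with h16 | h16 | h16 <;> omega
  have t32 : 32 ∣ N → (m 4 = 24 ∧ m 8 = 24 ∧ m 16 = 0) := by
    intro hd
    have h16N : 16 ∣ N := Dvd.dvd.trans (by norm_num) hd
    have := P.frobL hd [1, 2, 4, 8, 16, 32] (by decide) (by decide)
    simp only [List.map_cons, List.map_nil, List.sum_cons, List.sum_nil, add_zero] at this
    rw [P.one, h2, z32] at this
    rcases t16 h16N with h | h | h <;> omega
  have t128 : ¬ 128 ∣ N := by
    intro hd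
    have h32N : 32 ∣ N := Dvd.dvd.trans (by norm_num) hd
    have := P.frobL hd [1, 2, 4, 8, 16, 32, 64, 128] (by decide) (by decide)
    simp only [List.map_cons, List.map_nil, List.sum_cons, List.sum_nil, add_zero] at this
    rw [P.one, h2, z32, z64, z128] at this
    have := t32 h32N
    omega
  -- the 3-part
  have t9 : 9 ∣ N → m 9 = 24 := by
    intro hd
    have h3' := h3 (Dvd.dvd.trans (by norm_num) hd)
    have := P.frobL hd [1, 3, 9] (by decide) (by decide)
    simp only [List.map_cons, List.map_nil, List.sum_cons, List.sum_nil, add_zero] at this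
    rw [P.one, h3'] at this
    rcases hbig 9 (by norm_num) with h | h | h <;> omega
  have t27 : ¬ 27 ∣ N := by
    intro hd
    have h9N : 9 ∣ N := Dvd.dvd.trans (by norm_num) hd
    have h3' := h3 (Dvd.dvd.trans (by norm_num) hd)
    have h9' := t9 h9N
    have := P.frobL hd [1, 3, 9, 27] (by decide) (by decide)
    simp only [List.map_cons, List.map_nil, List.sum_cons, List.sum_nil, add_zero] at this
    rw [P.one, h3', h9'] at this
    rcases hbig 27 (by norm_num) with h | h | h <;> omega
  -- the 5-part
  have t25 : ¬ 25 ∣ N := by
    intro hd
    have h5' := h5 (Dvd.dvd.trans (by norm_num) hd)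
    have f25 := P.frobL hd [1, 5, 25] (by decide) (by decide)
    simp only [List.map_cons, List.map_nil, List.sum_cons, List.sum_nil, add_zero] at f25
    rw [P.one, h5'] at f25
    have z25 : m 25 = 0 := by
      rcases hbig 25 (by norm_num) with h | h | h <;> omega
    have z50 : m 50 = 0 := P.clos 25 50 (by norm_num) z25
    have h50 : 50 ∣ N := by
      have : Nat.Coprime 2 25 := by norm_num
      exact this.mul_dvd_of_dvd_of_dvd h2N hd
    have := P.frobL h50 [1, 2, 5, 10, 25, 50] (by decide) (by decide)
    simp only [List.map_cons, List.map_nil, List.sum_cons, List.sum_nil, add_zero] at this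
    rw [P.one, h2, h5', z25, z50] at this
    rcases hbig 10 (by norm_num) with h | h | h <;> omega
  have hN : N ∣ 2880 := by
    apply dvd_of_prime_bounds P.pos.ne' (by norm_num)
    intro p hp hpN k hk
    rcases hprime p hp hpN with rfl | ⟨rfl, -⟩ | ⟨rfl, -⟩
    · have hk7 : k < 7 := by
        by_contra hcon
        apply t128
        exact (pow_dvd_pow 2 (by omega : 7 ≤ k)).trans hk
      interval_cases k <;> norm_num
    · have hk3 : k < 3 := by
        by_contra hcon
        apply t27
        exact (pow_dvd_pow 3 (by omega : 3 ≤ k)).trans hk
      interval_cases k <;> norm_num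
    · have hk2 : k < 2 := by
        by_contra hcon
        apply t25
        exact (pow_dvd_pow 5 (by omega : 2 ≤ k)).trans hk
      interval_cases k <;> norm_num
  by_cases c5 : 5 ∣ N
  · -- 5 ∣ N
    have h5' := h5 c5
    refine ⟨?_, h5'⟩
    by_cases c3 : 3 ∣ N
    · have h3' := h3 c3
      have h15N : 15 ∣ N := by
        have : Nat.Coprime 3 5 := by norm_num
        exact this.mul_dvd_of_dvd_of_dvd c3 c5
      have f15 := P.frobL h15N [1, 3, 5, 15] (by decide) (by decide)
      simp only [List.map_cons, List.map_nil, List.sum_cons, List.sum_nil, add_zero] at f15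
      rw [P.one, h3', h5'] at f15
      have z15 : m 15 = 0 := by
        rcases hbig 15 (by norm_num) with h | h | h <;> omega
      by_cases c9 : 9 ∣ N
      · exfalso
        have h9' := t9 c9
        have h45N : 45 ∣ N := by
          have : Nat.Coprime 9 5 := by norm_num
          exact this.mul_dvd_of_dvd_of_dvd c9 c5
        have z45 : m 45 = 0 := P.clos 15 45 (by norm_num) z15
        have := P.frobL h45N [1, 3, 5, 9, 15, 45] (by decide) (by decide)
        simp only [List.map_cons, List.map_nil, List.sum_cons, List.sum_nil, add_zero] at this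
        rw [P.one, h3', h5', h9', z15, z45] at this
        omega
      · have z9 : m 9 = 0 := by
          by_contra h
          exact c9 (P.dvd 9 h)
        have h30N : 30 ∣ N := by
          have : Nat.Coprime 2 15 := by norm_num
          exact this.mul_dvd_of_dvd_of_dvd h2N h15N
        have z30 : m 30 = 0 := P.clos 15 30 (by norm_num) z15
        have f30 := P.frobL h30N [1, 2, 3, 5, 6, 10, 15, 30] (by decide) (by decide)
        simp only [List.map_cons, List.map_nil, List.sum_cons, List.sum_nil, add_zero] at f30
        rw [P.one, h2, h3', h5', z15, z30] at f30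
        have z6 : m 6 = 0 := by
          rcases hbig 6 (by norm_num) with h | h | h <;>
            rcases hbig 10 (by norm_num) with h' | h' | h' <;> omega
        have z10 : m 10 = 0 := by
          rcases hbig 6 (by norm_num) with h | h | h <;>
            rcases hbig 10 (by norm_num) with h' | h' | h' <;> omega
        have z4 : m 4 = 0 := by
          by_cases c4 : 4 ∣ N
          · have h12N : 12 ∣ N := by
              have : Nat.Coprime 4 3 := by norm_num
              exact this.mul_dvd_of_dvd_of_dvd c4 c3
            have h20N : 20 ∣ N := by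
              have : Nat.Coprime 4 5 := by norm_num
              exact this.mul_dvd_of_dvd_of_dvd c4 c5
            have z12 : m 12 = 0 := P.clos 6 12 (by norm_num) z6
            have z20 : m 20 = 0 := P.clos 10 20 (by norm_num) z10
            have f12 := P.frobL h12N [1, 2, 3, 4, 6, 12] (by decide) (by decide)
            simp only [List.map_cons, List.map_nil, List.sum_cons, List.sum_nil, add_zero] at f12
            rw [P.one, h2, h3', z6, z12] at f12
            have f20 := P.frobL h20N [1, 2, 4, 5, 10, 20] (by decide) (by decide)
            simp only [List.map_cons, List.map_nil, List.sum_cons, List.sum_nil, add_zero] at f20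
            rw [P.one, h2, h5', z10, z20] at f20
            rcases hbig 4 (by norm_num) with h | h | h <;> omega
          · by_contra h
            exact c4 (P.dvd 4 h)
        have hs := P.sum_eq_of_dvd 2880 hN (by norm_num) [1, 2, 3, 5] (by decide)
          [4, 6, 9, 10, 15] (by
            intro z hz
            simp only [List.mem_cons, List.not_mem_nil, or_false] at hz
            rcases hz with rfl | rfl | rfl | rfl | rfl <;> assumption) (by decide)
        simp only [List.map_cons, List.map_nil, List.sum_cons, List.sum_nil, add_zero] at hs
        rw [P.one, h2, h3', h5'] at hs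
        exact hs
    · -- 3 ∤ N
      exfalso
      have z3 : m 3 = 0 := by
        by_contra h
        exact c3 (P.dvd 3 h)
      have hs := P.sum_eq_of_dvd 2880 hN (by norm_num) [1, 2, 4, 8, 16, 5, 10, 20] (by decide)
        [3, 32, 40] (by
          intro z hz
          simp only [List.mem_cons, List.not_mem_nil, or_false] at hz
          rcases hz with rfl | rfl | rfl <;> assumption) (by decide)
      simp only [List.map_cons, List.map_nil, List.sum_cons, List.sum_nil, add_zero] at hs
      rw [P.one, h2, h5'] at hs
      have hN320 : N ∣ 320 := by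
        have : N ∣ 320 * 3 ^ 2 := by norm_num; exact hN
        exact dvd_of_dvd_mul_pow_of_not_dvd Nat.prime_three 2 this c3
      have b4 := hbig 4 (by norm_num)
      have b8 := hbig 8 (by norm_num)
      have b16 := hbig 16 (by norm_num)
      have b10 := hbig 10 (by norm_num)
      have b20 := hbig 20 (by norm_num)
      have hle : N ≤ 160 := by omega
      obtain ⟨c, hc⟩ := hN320
      have hc1 : 2 ≤ c := by
        by_contra hcon
        interval_cases c <;> omega
      have hc2 : c ≤ 5 := by
        by_contra hcon
        have : N * 6 ≤ N * c := Nat.mul_le_mul_left N (by omega)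
        omega
      have c420 := P.clos 4 20 (by norm_num)
      interval_cases c
      · -- N = 160
        have hN' : N = 160 := by omega
        have := t32 (by rw [hN']; norm_num)
        omega
      · omega
      · -- N = 80
        have hN' : N = 80 := by omega
        have := t16 (by rw [hN']; norm_num)
        omega
      · omega
  · -- 5 ∤ N
    exfalso
    have z5 : m 5 = 0 := by
      by_contra h
      exact c5 (P.dvd 5 h)
    have hN576 : N ∣ 576 := by
      have : N ∣ 576 * 5 ^ 1 := by norm_num; exact hN
      exact dvd_of_dvd_mul_pow_of_not_dvd (by norm_num) 1 this c5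
    by_cases c3 : 3 ∣ N
    · have h3' := h3 c3
      by_cases c9 : 9 ∣ N
      · have h9' := t9 c9
        have h18N : 18 ∣ N := by
          have : Nat.Coprime 2 9 := by norm_num
          exact this.mul_dvd_of_dvd_of_dvd h2N c9
        have f18 := P.frobL h18N [1, 2, 3, 6, 9, 18] (by decide) (by decide)
        simp only [List.map_cons, List.map_nil, List.sum_cons, List.sum_nil, add_zero] at f18
        rw [P.one, h2, h3', h9'] at f18
        have h6 : m 6 = 24 := by
          rcases hbig 6 (by norm_num) with h | h | h <;>
            rcases hbig 18 (by norm_num) with h' | h' | h' <;> omega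
        have h18 : m 18 = 24 := by
          rcases hbig 6 (by norm_num) with h | h | h <;>
            rcases hbig 18 (by norm_num) with h' | h' | h' <;> omega
        have z27 : m 27 = 0 := by
          by_contra h
          exact t27 (P.dvd 27 h)
        have hs := P.sum_eq_of_dvd 2880 hN (by norm_num)
          [1, 2, 4, 8, 16, 3, 6, 12, 24, 9, 18, 36, 72] (by decide)
          [5, 27, 32, 48, 144] (by
            intro z hz
            simp only [List.mem_cons, List.not_mem_nil, or_false] at hz
            rcases hz with rfl | rfl | rfl | rfl | rfl <;> assumption) (by decide)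
        simp only [List.map_cons, List.map_nil, List.sum_cons, List.sum_nil, add_zero] at hs
        rw [P.one, h2, h3', h6, h9', h18] at hs
        have b4 := hbig 4 (by norm_num)
        have b8 := hbig 8 (by norm_num)
        have b16 := hbig 16 (by norm_num)
        have b12 := hbig 12 (by norm_num)
        have b24 := hbig 24 (by norm_num)
        have b36 := hbig 36 (by norm_num)
        have b72 := hbig 72 (by norm_num)
        have hle : N ≤ 276 := by omega
        have hge' : 108 ≤ N := by omega
        obtain ⟨c, hc⟩ := hN576
        have hc1 : 3 ≤ c := by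
          by_contra hcon
          interval_cases c <;> omega
        have hc2 : c ≤ 5 := by
          by_contra hcon
          have : N * 6 ≤ N * c := Nat.mul_le_mul_left N (by omega)
          omega
        have c412 := P.clos 4 12 (by norm_num)
        have c436 := P.clos 4 36 (by norm_num)
        have c824 := P.clos 8 24 (by norm_num)
        have c872 := P.clos 8 72 (by norm_num)
        interval_cases c
        · omega
        · -- N = 144
          have hN' : N = 144 := by omega
          have := t16 (by rw [hN']; norm_num)
          omega
        · omega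
      · -- 3 ∣ N, 9 ∤ N
        have z9 : m 9 = 0 := by
          by_contra h
          exact c9 (P.dvd 9 h)
        have hs := P.sum_eq_of_dvd 2880 hN (by norm_num)
          [1, 2, 4, 8, 16, 3, 6, 12, 24] (by decide)
          [5, 9, 32, 48] (by
            intro z hz
            simp only [List.mem_cons, List.not_mem_nil, or_false] at hz
            rcases hz with rfl | rfl | rfl | rfl <;> assumption) (by decide)
        simp only [List.map_cons, List.map_nil, List.sum_cons, List.sum_nil, add_zero] at hs
        rw [P.one, h2, h3'] at hs
        have b4 := hbig 4 (by norm_num)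
        have b8 := hbig 8 (by norm_num)
        have b16 := hbig 16 (by norm_num)
        have b6 := hbig 6 (by norm_num)
        have b12 := hbig 12 (by norm_num)
        have b24 := hbig 24 (by norm_num)
        have hle : N ≤ 180 := by omega
        obtain ⟨c, hc⟩ := hN576
        have hc1 : 4 ≤ c := by
          by_contra hcon
          interval_cases c <;> omega
        have hc2 : c ≤ 9 := by
          by_contra hcon
          have : N * 10 ≤ N * c := Nat.mul_le_mul_left N (by omega)
          omega
        interval_cases c
        · omega
        · omega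
        · -- N = 96
          have hN' : N = 96 := by omega
          have := t32 (by rw [hN']; norm_num)
          omega
        · omega
        · omega
        · omega
    · -- 3 ∤ N, 5 ∤ N
      have z3 : m 3 = 0 := by
        by_contra h
        exact c3 (P.dvd 3 h)
      have hN64 : N ∣ 64 := by
        have : N ∣ 64 * 3 ^ 2 := by norm_num; exact hN576
        exact dvd_of_dvd_mul_pow_of_not_dvd Nat.prime_three 2 this c3
      have hN' : N = 64 := by
        obtain ⟨c, hc⟩ := hN64
        have hc2 : c ≤ 1 := by
          by_contra hcon
          have : N * 2 ≤ N * c := Nat.mul_le_mul_left N (by omega)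
          omega
        interval_cases c <;> omega
      have h32 := t32 (by rw [hN']; norm_num)
      obtain ⟨k, hk⟩ := P.att 20 (by simp)
      have hkN : k ∣ 64 := by
        rw [← hN']
        exact P.dvd k (by rw [hk]; norm_num)
      have hkmem : k ∈ Nat.divisors 64 := Nat.mem_divisors.2 ⟨hkN, by norm_num⟩
      rw [show Nat.divisors 64 = {1, 2, 4, 8, 16, 32, 64} from by decide] at hkmem
      simp only [Finset.mem_insert, Finset.mem_singleton] at hkmem
      rcases hkmem with rfl | rfl | rfl | rfl | rfl | rfl | rfl
      · rw [P.one] at hk; omega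
      · omega
      · omega
      · omega
      · omega
      · omega
      · omega

end Cfsg.Agent.Lib.Helper19.Nse
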