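import Mathlib
import Cfsg.Agent.Lib.Helper19.NseA5

set_option autoImplicit false
set_option maxRecDepth 100000

namespace Cfsg.Agent.Lib.Helper19.Nse

set_option maxHeartbeats 4000000 in
theorem a6_arith {m : ℕ → ℕ} {N : ℕ} (P : Profile {1, 45, 80, 90, 144} m N) :
    N = 360 ∧ m 2 = 45 ∧ m 3 = 80 ∧ m 4 = 90 ∧ m 5 = 144 ∧
      ∀ k : ℕ, k ∉ [1, 2, 3, 4, 5] → m k = 0 := by
  have hvals : ∀ k : ℕ, m k ≠ 0 → m k = 1 ∨ m k = 45 ∨ m k = 80 ∨ m k = 90 ∨ m k = 144 := by
    intro k hk
    have := P.mem k hk
    simpa using this
  have h2 : m 2 = 45 := by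
    obtain ⟨k, hk⟩ := P.att 45 (by simp)
    have hk3 : k < 3 := by
      by_contra hcon
      have := P.even_of_three_le (k := k) (by omega)
      omega
    interval_cases k
    · rw [P.zero] at hk; omega
    · rw [P.one] at hk; omega
    · exact hk
  have hbig : ∀ k : ℕ, 3 ≤ k → m k = 0 ∨ m k = 80 ∨ m k = 90 ∨ m k = 144 := by
    intro k hk
    by_cases h0 : m k = 0
    · left; exact h0
    · right
      have := P.even_of_three_le hk
      rcases hvals k h0 with h1 | h1 | h1 | h1 | h1 <;> omega
  have h2N : 2 ∣ N := P.dvd 2 (by rw [h2]; norm_num)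
  have hge : 360 ≤ N := by
    have := P.sum_vals_le
    simpa using this
  have tot' : ∀ k t : ℕ, Nat.totient k = t → t ∣ m k := by
    intro k t ht
    rw [← ht]
    exact P.tot k
  -- the primes
  have hprime : ∀ p : ℕ, p.Prime → p ∣ N →
      p = 2 ∨ (p = 3 ∧ m 3 = 80) ∨ (p = 5 ∧ m 5 = 144) ∨ (p = 7 ∧ m 7 = 90) := by
    intro p hp hpN
    by_cases hp2 : p = 2
    · left; exact hp2
    · right
      have hp3 : 3 ≤ p := by
        have := hp.two_le
        omega
      have h0 := P.cauchy p hp hpN
      have hfp : p ∣ m p + 1 := P.frob_prime hp hpN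
      have htot : p - 1 ∣ m p := by
        have := P.tot p
        rwa [Nat.totient_prime hp] at this
      rcases hbig p hp3 with h1 | h1 | h1 | h1
      · exact absurd h1 h0
      · rw [h1] at hfp htot
        have h81 : p ∣ 3 ^ 4 := by norm_num; exact hfp
        have := (Nat.prime_dvd_prime_iff_eq hp Nat.prime_three).1 (hp.dvd_of_dvd_pow h81)
        subst this
        left; exact ⟨rfl, h1⟩
      · rw [h1] at hfp htot
        have h91 : p ∣ 7 * 13 := by norm_num; exact hfp
        rcases (Nat.Prime.dvd_mul hp).1 h91 with h | h
        · have := (Nat.prime_dvd_prime_iff_eq hp (by norm_num : Nat.Prime 7)).1 h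
          subst this
          right; right; exact ⟨rfl, h1⟩
        · have := (Nat.prime_dvd_prime_iff_eq hp (by norm_num : Nat.Prime 13)).1 h
          subst this
          omega
      · rw [h1] at hfp htot
        have h145 : p ∣ 5 * 29 := by norm_num; exact hfp
        rcases (Nat.Prime.dvd_mul hp).1 h145 with h | h
        · have := (Nat.prime_dvd_prime_iff_eq hp (by norm_num : Nat.Prime 5)).1 h
          subst this
          right; left; exact ⟨rfl, h1⟩
        · have := (Nat.prime_dvd_prime_iff_eq hp (by norm_num : Nat.Prime 29)).1 h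
          subst this
          omega
  have h3 : 3 ∣ N → m 3 = 80 := by
    intro h
    rcases hprime 3 Nat.prime_three h with h | h | h | h
    · omega
    · exact h.2
    · omega
    · omega
  have h5 : 5 ∣ N → m 5 = 144 := by
    intro h
    rcases hprime 5 (by norm_num) h with h | h | h | h
    · omega
    · omega
    · exact h.2
    · omega
  have h7 : 7 ∣ N → m 7 = 90 := by
    intro h
    rcases hprime 7 (by norm_num) h with h | h | h | h
    · omega
    · omega
    · omega
    · exact h.2
  -- the 2-part
  have t4 : 4 ∣ N → m 4 = 90 := by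
    intro hd
    have := P.frobL hd [1, 2, 4] (by decide) (by decide)
    simp only [List.map_cons, List.map_nil, List.sum_cons, List.sum_nil, add_zero] at this
    rw [P.one, h2] at this
    rcases hbig 4 (by norm_num) with h | h | h | h <;> omega
  have t16 : ¬ 16 ∣ N := by
    intro hd
    have h4' := t4 (Dvd.dvd.trans (by norm_num) hd)
    have := P.frobL hd [1, 2, 4, 8, 16] (by decide) (by decide)
    simp only [List.map_cons, List.map_nil, List.sum_cons, List.sum_nil, add_zero] at this
    rw [P.one, h2, h4'] at this
    have e8 := tot' 8 4 (by decide)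
    have e16 := tot' 16 8 (by decide)
    rcases hbig 8 (by norm_num) with h | h | h | h <;>
      rcases hbig 16 (by norm_num) with h' | h' | h' | h' <;> omega
  -- the 3-part
  have t27 : 27 ∣ N → m 9 = 0 := by
    intro hd
    have h3' := h3 (Dvd.dvd.trans (by norm_num) hd)
    have := P.frobL hd [1, 3, 9, 27] (by decide) (by decide)
    simp only [List.map_cons, List.map_nil, List.sum_cons, List.sum_nil, add_zero] at this
    rw [P.one, h3'] at this
    have e9 := tot' 9 6 (by decide)
    have e27 := tot' 27 18 (by decide)
    rcases hbig 9 (by norm_num) with h | h | h | h <;>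
      rcases hbig 27 (by norm_num) with h' | h' | h' | h' <;> omega
  have t81 : ¬ 81 ∣ N := by
    intro hd
    have h3' := h3 (Dvd.dvd.trans (by norm_num) hd)
    have z9 := t27 (Dvd.dvd.trans (by norm_num) hd)
    have h162 : 162 ∣ N := by
      have : Nat.Coprime 2 81 := by norm_num
      exact this.mul_dvd_of_dvd_of_dvd h2N hd
    have := P.frobL h162 [1, 2, 3, 6, 9, 18, 27, 54, 81, 162] (by decide) (by decide)
    simp only [List.map_cons, List.map_nil, List.sum_cons, List.sum_nil, add_zero] at this
    rw [P.one, h2, h3', z9, P.clos 9 18 (by norm_num) z9, P.clos 9 27 (by norm_num) z9,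
      P.clos 9 54 (by norm_num) z9, P.clos 9 81 (by norm_num) z9,
      P.clos 9 162 (by norm_num) z9] at this
    rcases hbig 6 (by norm_num) with h | h | h | h <;> omega
  -- the 5-part
  have t25 : 25 ∣ N → m 25 = 80 := by
    intro hd
    have h5' := h5 (Dvd.dvd.trans (by norm_num) hd)
    have := P.frobL hd [1, 5, 25] (by decide) (by decide)
    simp only [List.map_cons, List.map_nil, List.sum_cons, List.sum_nil, add_zero] at this
    rw [P.one, h5'] at this
    rcases hbig 25 (by norm_num) with h | h | h | h <;> omega
  have t125 : ¬ 125 ∣ N := by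
    intro hd
    have h5' := h5 (Dvd.dvd.trans (by norm_num) hd)
    have h25' := t25 (Dvd.dvd.trans (by norm_num) hd)
    have := P.frobL hd [1, 5, 25, 125] (by decide) (by decide)
    simp only [List.map_cons, List.map_nil, List.sum_cons, List.sum_nil, add_zero] at this
    rw [P.one, h5', h25'] at this
    have e125 := tot' 125 100 (by decide)
    rcases hbig 125 (by norm_num) with h | h | h | h <;> omega
  -- the 7-part
  have t49 : ¬ 49 ∣ N := by
    intro hd
    have h7' := h7 (Dvd.dvd.trans (by norm_num) hd)
    have := P.frobL hd [1, 7, 49] (by decide) (by decide)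
    simp only [List.map_cons, List.map_nil, List.sum_cons, List.sum_nil, add_zero] at this
    rw [P.one, h7'] at this
    rcases hbig 49 (by norm_num) with h | h | h | h <;> omega
  have hN : N ∣ 37800 := by
    apply dvd_of_prime_bounds P.pos.ne' (by norm_num)
    intro p hp hpN k hk
    rcases hprime p hp hpN with rfl | ⟨rfl, -⟩ | ⟨rfl, -⟩ | ⟨rfl, -⟩
    · have hk' : k < 4 := by
        by_contra hcon
        apply t16
        exact (pow_dvd_pow 2 (by omega : 4 ≤ k)).trans hk
      interval_cases k <;> norm_num
    · have hk' : k < 4 := by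
        by_contra hcon
        apply t81
        exact (pow_dvd_pow 3 (by omega : 4 ≤ k)).trans hk
      interval_cases k <;> norm_num
    · have hk' : k < 3 := by
        by_contra hcon
        apply t125
        exact (pow_dvd_pow 5 (by omega : 3 ≤ k)).trans hk
      interval_cases k <;> norm_num
    · have hk' : k < 2 := by
        by_contra hcon
        apply t49
        exact (pow_dvd_pow 7 (by omega : 2 ≤ k)).trans hk
      interval_cases k <;> norm_num
  -- 7 does not divide N
  have c7 : ¬ 7 ∣ N := by
    intro c7
    have h7' := h7 c7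
    have c5 : ¬ 5 ∣ N := by
      intro c5
      have h5' := h5 c5
      have h35 : 35 ∣ N := by
        have : Nat.Coprime 5 7 := by norm_num
        exact this.mul_dvd_of_dvd_of_dvd c5 c7
      have := P.frobL h35 [1, 5, 7, 35] (by decide) (by decide)
      simp only [List.map_cons, List.map_nil, List.sum_cons, List.sum_nil, add_zero] at this
      rw [P.one, h5', h7'] at this
      have e35 := tot' 35 24 (by decide)
      rcases hbig 35 (by norm_num) with h | h | h | h <;> omega
    have h14N : 14 ∣ N := by
      have : Nat.Coprime 2 7 := by norm_num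
      exact this.mul_dvd_of_dvd_of_dvd h2N c7
    have f14 := P.frobL h14N [1, 2, 7, 14] (by decide) (by decide)
    simp only [List.map_cons, List.map_nil, List.sum_cons, List.sum_nil, add_zero] at f14
    rw [P.one, h2, h7'] at f14
    have h14 : m 14 = 144 := by
      rcases hbig 14 (by norm_num) with h | h | h | h <;> omega
    have c4 : ¬ 4 ∣ N := by
      intro c4
      have h4' := t4 c4
      have h28 : 28 ∣ N := by
        have : Nat.Coprime 4 7 := by norm_num
        exact this.mul_dvd_of_dvd_of_dvd c4 c7
      have := P.frobL h28 [1, 2, 4, 7, 14, 28] (by decide) (by decide)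
      simp only [List.map_cons, List.map_nil, List.sum_cons, List.sum_nil, add_zero] at this
      rw [P.one, h2, h4', h7', h14] at this
      rcases hbig 28 (by norm_num) with h | h | h | h <;> omega
    have hN1512 : N ∣ 1512 := by
      have : N ∣ 1512 * 5 ^ 2 := by norm_num; exact hN
      exact dvd_of_dvd_mul_pow_of_not_dvd (by norm_num) 2 this c5
    have hN' : N = 378 := by
      obtain ⟨c, hc⟩ := hN1512
      have hc2 : c ≤ 4 := by
        by_contra hcon
        have : N * 5 ≤ N * c := Nat.mul_le_mul_left N (by omega)
        omega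
      interval_cases c <;> omega
    have h3' := h3 (by rw [hN']; norm_num)
    have h21N : 21 ∣ N := by rw [hN']; norm_num
    have f21 := P.frobL h21N [1, 3, 7, 21] (by decide) (by decide)
    simp only [List.map_cons, List.map_nil, List.sum_cons, List.sum_nil, add_zero] at f21
    rw [P.one, h3', h7'] at f21
    have e21 := tot' 21 12 (by decide)
    have h21 : m 21 = 144 := by
      rcases hbig 21 (by norm_num) with h | h | h | h <;> omega
    have hle := P.sum_leL [1, 2, 3, 7, 14, 21] (by decide)
    simp only [List.map_cons, List.map_nil, List.sum_cons, List.sum_nil, add_zero] at hle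
    rw [P.one, h2, h3', h7', h14, h21] at hle
    omega
  have hN5400 : N ∣ 5400 := by
    have : N ∣ 5400 * 7 ^ 1 := by norm_num; exact hN
    exact dvd_of_dvd_mul_pow_of_not_dvd (by norm_num) 1 this c7
  have c3 : 3 ∣ N := by
    by_contra c3
    have h200 : N ∣ 200 := by
      have : N ∣ 200 * 3 ^ 3 := by norm_num; exact hN5400
      exact dvd_of_dvd_mul_pow_of_not_dvd Nat.prime_three 3 this c3
    have := Nat.le_of_dvd (by norm_num) h200
    omega
  have h3' := h3 c3
  have c5 : 5 ∣ N := by
    by_contra c5
    have h216 : N ∣ 216 := by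
      have : N ∣ 216 * 5 ^ 2 := by norm_num; exact hN5400
      exact dvd_of_dvd_mul_pow_of_not_dvd (by norm_num) 2 this c5
    have := Nat.le_of_dvd (by norm_num) h216
    omega
  have h5' := h5 c5
  have h15N : 15 ∣ N := by
    have : Nat.Coprime 3 5 := by norm_num
    exact this.mul_dvd_of_dvd_of_dvd c3 c5
  have f15 := P.frobL h15N [1, 3, 5, 15] (by decide) (by decide)
  simp only [List.map_cons, List.map_nil, List.sum_cons, List.sum_nil, add_zero] at f15
  rw [P.one, h3', h5'] at f15
  have z15 : m 15 = 0 := by
    have e15 := tot' 15 8 (by decide)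
    rcases hbig 15 (by norm_num) with h | h | h | h <;> omega
  have c25 : ¬ 25 ∣ N := by
    intro c25
    have h25' := t25 c25
    have h75N : 75 ∣ N := by
      have : Nat.Coprime 3 25 := by norm_num
      exact this.mul_dvd_of_dvd_of_dvd c3 c25
    have := P.frobL h75N [1, 3, 5, 15, 25, 75] (by decide) (by decide)
    simp only [List.map_cons, List.map_nil, List.sum_cons, List.sum_nil, add_zero] at this
    rw [P.one, h3', h5', z15, h25', P.clos 15 75 (by norm_num) z15] at this
    omega
  have c27 : ¬ 27 ∣ N := by
    intro c27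
    have z9 := t27 c27
    have h135N : 135 ∣ N := by
      have : Nat.Coprime 27 5 := by norm_num
      exact this.mul_dvd_of_dvd_of_dvd c27 c5
    have := P.frobL h135N [1, 3, 5, 9, 15, 27, 45, 135] (by decide) (by decide)
    simp only [List.map_cons, List.map_nil, List.sum_cons, List.sum_nil, add_zero] at this
    rw [P.one, h3', h5', z9, z15, P.clos 9 27 (by norm_num) z9, P.clos 9 45 (by norm_num) z9,
      P.clos 9 135 (by norm_num) z9] at this
    omega
  have hN360 : N ∣ 360 := by
    apply dvd_of_prime_bounds P.pos.ne' (by norm_num)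
    intro p hp hpN k hk
    rcases hprime p hp hpN with rfl | ⟨rfl, -⟩ | ⟨rfl, -⟩ | ⟨rfl, -⟩
    · have hk' : k < 4 := by
        by_contra hcon
        apply t16
        exact (pow_dvd_pow 2 (by omega : 4 ≤ k)).trans hk
      interval_cases k <;> norm_num
    · have hk' : k < 3 := by
        by_contra hcon
        apply c27
        exact (pow_dvd_pow 3 (by omega : 3 ≤ k)).trans hk
      interval_cases k <;> norm_num
    · have hk' : k < 2 := by
        by_contra hcon
        apply c25
        exact (pow_dvd_pow 5 (by omega : 2 ≤ k)).trans hk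
      interval_cases k <;> norm_num
    · exact absurd hpN c7
  have hN' : N = 360 := by
    have := Nat.le_of_dvd (by norm_num) hN360
    omega
  have h4' := t4 (by rw [hN']; norm_num)
  refine ⟨hN', h2, h3', h4', h5', ?_⟩
  intro k hk
  simp only [List.mem_cons, List.not_mem_nil, or_false, not_or] at hk
  have hle := P.sum_leL [1, 2, 3, 4, 5, k] (by
    simp only [List.nodup_cons, List.mem_cons, List.not_mem_nil, or_false, not_or,
      List.nodup_nil, and_true, not_false_eq_true]
    refine ⟨⟨?_, ?_, ?_, ?_, ?_⟩, ⟨?_, ?_, ?_, ?_⟩, ⟨?_, ?_, ?_⟩, ⟨?_, ?_⟩, ?_⟩ <;> omega)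
  simp only [List.map_cons, List.map_nil, List.sum_cons, List.sum_nil, add_zero] at hle
  rw [P.one, h2, h3', h4', h5'] at hle
  omega

end Cfsg.Agent.Lib.Helper19.Nse
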