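import Mathlib
import Cfsg.Agent.Lib.Helper19.A5Spec
import Cfsg.Agent.Lib.Helper19.A6Spec

set_option autoImplicit false

namespace Cfsg.Agent.Lib.Helper19.Nse

open Equiv

/-- counting the elements of a given order of an alternating group inside the symmetric group -/
theorem card_orderOf_alt (n k : ℕ) (hk : 0 < k) :
    Nat.card {g : alternatingGroup (Fin n) // orderOf g = k} =
      (Finset.univ.filter (fun σ : Perm (Fin n) =>
        Perm.sign σ = 1 ∧ σ ^ k = 1 ∧ ∀ m, m < k → 0 < m → σ ^ m ≠ 1)).card := by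
  classical
  have e : {g : alternatingGroup (Fin n) // orderOf g = k} ≃
      {σ : Perm (Fin n) // Perm.sign σ = 1 ∧ σ ^ k = 1 ∧ ∀ m, m < k → 0 < m → σ ^ m ≠ 1} :=
    { toFun := fun g => ⟨g.1.1, Perm.mem_alternatingGroup.1 g.1.2, by
        have h1 : orderOf (g.1 : Perm (Fin n)) = k := by
          rw [Subgroup.orderOf_coe]; exact g.2
        exact (orderOf_eq_iff hk).1 h1⟩
      invFun := fun σ => ⟨⟨σ.1, Perm.mem_alternatingGroup.2 σ.2.1⟩, by
        rw [← Subgroup.orderOf_coe]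
        exact (orderOf_eq_iff hk).2 σ.2.2⟩
      left_inv := fun g => rfl
      right_inv := fun σ => rfl }
  rw [Nat.card_congr e, Nat.card_eq_fintype_card, Fintype.card_subtype]

set_option maxRecDepth 1000000 in
theorem a4_cnt2 : (Finset.univ.filter (fun σ : Perm (Fin 4) =>
    Perm.sign σ = 1 ∧ σ ^ 2 = 1 ∧ ∀ m, m < 2 → 0 < m → σ ^ m ≠ 1)).card = 3 := by
  decide +kernel

set_option maxRecDepth 1000000 in
theorem a4_cnt3 : (Finset.univ.filter (fun σ : Perm (Fin 4) =>
    Perm.sign σ = 1 ∧ σ ^ 3 = 1 ∧ ∀ m, m < 3 → 0 < m → σ ^ m ≠ 1)).card = 8 := by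
  decide +kernel

set_option maxRecDepth 1000000 in
theorem a5_cnt2 : (Finset.univ.filter (fun σ : Perm (Fin 5) =>
    Perm.sign σ = 1 ∧ σ ^ 2 = 1 ∧ ∀ m, m < 2 → 0 < m → σ ^ m ≠ 1)).card = 15 := by
  decide +kernel

set_option maxRecDepth 1000000 in
theorem a5_cnt3 : (Finset.univ.filter (fun σ : Perm (Fin 5) =>
    Perm.sign σ = 1 ∧ σ ^ 3 = 1 ∧ ∀ m, m < 3 → 0 < m → σ ^ m ≠ 1)).card = 20 := by
  decide +kernel

set_option maxRecDepth 1000000 in
theorem a5_cnt5 : (Finset.univ.filter (fun σ : Perm (Fin 5) =>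
    Perm.sign σ = 1 ∧ σ ^ 5 = 1 ∧ ∀ m, m < 5 → 0 < m → σ ^ m ≠ 1)).card = 24 := by
  decide +kernel

set_option maxRecDepth 1000000 in
theorem a6_cnt2 : (Finset.univ.filter (fun σ : Perm (Fin 6) =>
    Perm.sign σ = 1 ∧ σ ^ 2 = 1 ∧ ∀ m, m < 2 → 0 < m → σ ^ m ≠ 1)).card = 45 := by
  decide +kernel

set_option maxRecDepth 1000000 in
theorem a6_cnt3 : (Finset.univ.filter (fun σ : Perm (Fin 6) =>
    Perm.sign σ = 1 ∧ σ ^ 3 = 1 ∧ ∀ m, m < 3 → 0 < m → σ ^ m ≠ 1)).card = 80 := by
  decide +kernel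

set_option maxRecDepth 1000000 in
theorem a6_cnt4 : (Finset.univ.filter (fun σ : Perm (Fin 6) =>
    Perm.sign σ = 1 ∧ σ ^ 4 = 1 ∧ ∀ m, m < 4 → 0 < m → σ ^ m ≠ 1)).card = 90 := by
  decide +kernel

set_option maxRecDepth 1000000 in
theorem a6_cnt5 : (Finset.univ.filter (fun σ : Perm (Fin 6) =>
    Perm.sign σ = 1 ∧ σ ^ 5 = 1 ∧ ∀ m, m < 5 → 0 < m → σ ^ m ≠ 1)).card = 144 := by
  decide +kernel

theorem card_orderOf_one (G : Type*) [Group G] : Nat.card {g : G // orderOf g = 1} = 1 := by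
  rw [Nat.card_eq_one_iff_unique]
  refine ⟨⟨?_⟩, ⟨⟨1, orderOf_one⟩⟩⟩
  rintro ⟨a, ha⟩ ⟨b, hb⟩
  apply Subtype.ext
  show a = b
  rw [orderOf_eq_one_iff] at ha hb
  rw [ha, hb]

theorem exists_orderOf_of_card {G : Type*} [Group G] {k c : ℕ}
    (h : Nat.card {g : G // orderOf g = k} = c) (hc : c ≠ 0) : ∃ g : G, orderOf g = k := by
  rw [← h] at hc
  obtain ⟨⟨g, hg⟩, -⟩ := Nat.card_ne_zero.1 hc
  exact ⟨g, hg⟩

theorem a4_card2 : Nat.card {g : alternatingGroup (Fin 4) // orderOf g = 2} = 3 := by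
  rw [card_orderOf_alt 4 2 (by norm_num), a4_cnt2]

theorem a4_card3 : Nat.card {g : alternatingGroup (Fin 4) // orderOf g = 3} = 8 := by
  rw [card_orderOf_alt 4 3 (by norm_num), a4_cnt3]

theorem a5_card2 : Nat.card {g : alternatingGroup (Fin 5) // orderOf g = 2} = 15 := by
  rw [card_orderOf_alt 5 2 (by norm_num), a5_cnt2]

theorem a5_card3 : Nat.card {g : alternatingGroup (Fin 5) // orderOf g = 3} = 20 := by
  rw [card_orderOf_alt 5 3 (by norm_num), a5_cnt3]

theorem a5_card5 : Nat.card {g : alternatingGroup (Fin 5) // orderOf g = 5} = 24 := by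
  rw [card_orderOf_alt 5 5 (by norm_num), a5_cnt5]

theorem a6_card2 : Nat.card {g : alternatingGroup (Fin 6) // orderOf g = 2} = 45 := by
  rw [card_orderOf_alt 6 2 (by norm_num), a6_cnt2]

theorem a6_card3 : Nat.card {g : alternatingGroup (Fin 6) // orderOf g = 3} = 80 := by
  rw [card_orderOf_alt 6 3 (by norm_num), a6_cnt3]

theorem a6_card4 : Nat.card {g : alternatingGroup (Fin 6) // orderOf g = 4} = 90 := by
  rw [card_orderOf_alt 6 4 (by norm_num), a6_cnt4]

theorem a6_card5 : Nat.card {g : alternatingGroup (Fin 6) // orderOf g = 5} = 144 := by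
  rw [card_orderOf_alt 6 5 (by norm_num), a6_cnt5]

theorem perm4_even_pow : ∀ g : Perm (Fin 4), Perm.sign g = 1 → g ^ 2 = 1 ∨ g ^ 3 = 1 := by
  decide

theorem a4_spec : Set.range (orderOf : alternatingGroup (Fin 4) → ℕ) = {1, 2, 3} := by
  ext n
  simp only [Set.mem_range, Set.mem_insert_iff, Set.mem_singleton_iff]
  constructor
  · rintro ⟨g, rfl⟩
    have hs : Perm.sign (g : Perm (Fin 4)) = 1 := Perm.mem_alternatingGroup.mp g.2
    rw [← Subgroup.orderOf_coe]
    rcases perm4_even_pow g.1 hs with h | h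
    · have := orderOf_dvd_of_pow_eq_one h
      rcases (Nat.dvd_prime Nat.prime_two).mp this with h1 | h1
      · left; exact h1
      · right; left; exact h1
    · have := orderOf_dvd_of_pow_eq_one h
      rcases (Nat.dvd_prime Nat.prime_three).mp this with h1 | h1
      · left; exact h1
      · right; right; exact h1
  · rintro (rfl | rfl | rfl)
    · exact ⟨1, orderOf_one⟩
    · exact exists_orderOf_of_card a4_card2 (by norm_num)
    · exact exists_orderOf_of_card a4_card3 (by norm_num)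

theorem a5_spec : Set.range (orderOf : alternatingGroup (Fin 5) → ℕ) = {1, 2, 3, 5} := by
  ext n
  simp only [Set.mem_range, Set.mem_insert_iff, Set.mem_singleton_iff]
  constructor
  · rintro ⟨g, rfl⟩
    exact Cfsg.Agent.Lib.Helper19.a5_orderOf_mem g
  · intro h
    exact Cfsg.Agent.Lib.Helper19.a5_exists_order n h

theorem nse_a4 : ((fun m : ℕ => Nat.card {g : alternatingGroup (Fin 4) // orderOf g = m}) ''
    Set.range (orderOf : alternatingGroup (Fin 4) → ℕ)) = (({1, 3, 8} : Finset ℕ) : Set ℕ) := by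
  rw [a4_spec]
  simp only [Set.image_insert_eq, Set.image_singleton, card_orderOf_one, a4_card2, a4_card3,
    Finset.coe_insert, Finset.coe_singleton]

theorem nse_a5 : ((fun m : ℕ => Nat.card {g : alternatingGroup (Fin 5) // orderOf g = m}) ''
    Set.range (orderOf : alternatingGroup (Fin 5) → ℕ)) =
      (({1, 15, 20, 24} : Finset ℕ) : Set ℕ) := by
  rw [a5_spec]
  simp only [Set.image_insert_eq, Set.image_singleton, card_orderOf_one, a5_card2, a5_card3,
    a5_card5, Finset.coe_insert, Finset.coe_singleton]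

theorem nse_a6 : ((fun m : ℕ => Nat.card {g : alternatingGroup (Fin 6) // orderOf g = m}) ''
    Set.range (orderOf : alternatingGroup (Fin 6) → ℕ)) =
      (({1, 45, 80, 90, 144} : Finset ℕ) : Set ℕ) := by
  rw [Cfsg.Agent.Lib.Helper19.a6_spec]
  simp only [Set.image_insert_eq, Set.image_singleton, card_orderOf_one, a6_card2, a6_card3,
    a6_card4, a6_card5, Finset.coe_insert, Finset.coe_singleton]

end Cfsg.Agent.Lib.Helper19.Nse
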