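import Mathlib
import Cfsg.Agent.Lib.Helper19.NseA4
import Cfsg.Agent.Lib.Helper19.NseA6
import Cfsg.Agent.Lib.Helper24.OrderTwelve
import Cfsg.Agent.Lib.helper23.DegGraphA5
import Cfsg.Agent.S0497

set_option autoImplicit false
set_option linter.style.haveILetI false
set_option linter.unusedSectionVars false

namespace Cfsg.Agent.Lib.Helper19.Nse

variable {G : Type*} [Group G] [Finite G]

/-- if there is only one Sylow `p`-subgroup, all elements of order `p` lie in it -/
theorem cnt_le_card_sylow {p : ℕ} [Fact p.Prime] (P : Sylow p G) (hP : ∀ Q : Sylow p G, Q = P) :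
    cnt G p ≤ Nat.card P := by
  unfold cnt
  have hmem : ∀ g : G, orderOf g = p → g ∈ P := by
    intro g hg
    have hpg : IsPGroup p (Subgroup.zpowers g) := by
      apply IsPGroup.of_card (n := 1)
      rw [Nat.card_zpowers, hg, pow_one]
    obtain ⟨Q, hQ⟩ := hpg.exists_le_sylow
    rw [hP Q] at hQ
    exact hQ (Subgroup.mem_zpowers g)
  apply Nat.card_le_card_of_injective
    (fun g : {g : G // orderOf g = p} => (⟨g.1, hmem g.1 g.2⟩ : P))
  intro a b hab
  apply Subtype.ext
  exact congrArg (fun x : P => (x : G)) hab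

theorem a4_iso
    (h : ((fun m : ℕ => Nat.card {g : G // orderOf g = m}) '' Set.range (orderOf : G → ℕ)) =
      (({1, 3, 8} : Finset ℕ) : Set ℕ)) : Nonempty (G ≃* alternatingGroup (Fin 4)) := by
  have P := profile_of_image_eq h
  obtain ⟨hN, h3⟩ := a4_arith P
  haveI : Fact (Nat.Prime 3) := ⟨Nat.prime_three⟩
  have hcards := (Cfsg.Agent.Lib.Helper24.o12_sylow_cards hN).1
  rcases Cfsg.Agent.Lib.Helper24.o12_num_sylow hN with h1 | h4
  · exfalso
    obtain ⟨Q⟩ : Nonempty (Sylow 3 G) := inferInstance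
    have huniq : ∀ Q' : Sylow 3 G, Q' = Q := by
      haveI : Subsingleton (Sylow 3 G) := (Nat.card_eq_one_iff_unique.1 h1).1
      intro Q'
      exact Subsingleton.elim _ _
    have := cnt_le_card_sylow Q huniq
    rw [h3, hcards Q] at this
    omega
  · exact Cfsg.Agent.Lib.Helper24.o12_alt_of_four hN hcards h4

theorem a5_iso
    (h : ((fun m : ℕ => Nat.card {g : G // orderOf g = m}) '' Set.range (orderOf : G → ℕ)) =
      (({1, 15, 20, 24} : Finset ℕ) : Set ℕ)) : Nonempty (G ≃* alternatingGroup (Fin 5)) := by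
  have P := profile_of_image_eq h
  obtain ⟨hN, h5⟩ := a5_arith P
  haveI : Fact (Nat.Prime 5) := ⟨by norm_num⟩
  haveI : IsSimpleGroup G := by
    apply Cfsg.Agent.Lib.helper23.dga_simple hN
    intro Q hQ
    letI := Sylow.unique_of_normal Q hQ
    have huniq : ∀ Q' : Sylow 5 G, Q' = Q := fun Q' => Subsingleton.elim _ _
    have hle := cnt_le_card_sylow Q huniq
    rw [h5] at hle
    obtain ⟨n, hn⟩ := IsPGroup.iff_card.1 Q.2
    have hdvd : Nat.card Q ∣ 60 := hN ▸ Subgroup.card_subgroup_dvd_card (Q : Subgroup G)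
    rw [hn] at hdvd hle
    have hn2 : n < 2 := by
      by_contra hcon
      have : (5 : ℕ) ^ 2 ∣ 60 := (pow_dvd_pow 5 (by omega : 2 ≤ n)).trans hdvd
      omega
    interval_cases n <;> omega
  exact Cfsg.Agent.S0494.result hN

/-- an element whose order is prime to the index of a normal subgroup lies in it -/
theorem mem_of_coprime_index (H : Subgroup G) [H.Normal] (g : G)
    (hcop : Nat.Coprime (orderOf g) H.index) : g ∈ H := by
  rw [← QuotientGroup.eq_one_iff, ← orderOf_eq_one_iff]
  have h1 : orderOf (QuotientGroup.mk g : G ⧸ H) ∣ orderOf g :=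
    orderOf_map_dvd (QuotientGroup.mk' H) g
  have h2 : orderOf (QuotientGroup.mk g : G ⧸ H) ∣ H.index := by
    rw [Subgroup.index_eq_card]
    exact orderOf_dvd_natCard _
  exact Nat.dvd_one.1 (hcop ▸ Nat.dvd_gcd h1 h2)

theorem cnt_subgroup_eq (H : Subgroup G) (k : ℕ) (hk : ∀ g : G, orderOf g = k → g ∈ H) :
    cnt H k = cnt G k := by
  unfold cnt
  apply Nat.card_congr
  exact
    { toFun := fun x => ⟨x.1.1, by rw [Subgroup.orderOf_coe]; exact x.2⟩
      invFun := fun x => ⟨⟨x.1, hk x.1 x.2⟩, by rw [← Subgroup.orderOf_coe]; exact x.2⟩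
      left_inv := fun x => rfl
      right_inv := fun x => rfl }

theorem cnt_sum_le (l : List ℕ) (hnd : l.Nodup) : (l.map (cnt G)).sum ≤ Nat.card G := by
  rw [← List.sum_toFinset _ hnd]
  calc ∑ k ∈ l.toFinset, cnt G k ≤ ∑ k ∈ (Nat.card G).divisors, cnt G k :=
        Finset.sum_le_sum_of_ne_zero (fun k _ hk =>
          Nat.mem_divisors.2 ⟨dvd_card_of_cnt_ne_zero hk, Nat.card_pos.ne'⟩)
    _ = Nat.card G := card_eq_sum.symm

/-- an element of order 5 normalizing a subgroup and centralizing none of its nontrivial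
elements forces the order of the subgroup to be congruent to 1 modulo 5 -/
theorem card_modEq_one_of_fpf (Q : Subgroup G) (g : G) (hg5 : g ^ 5 = 1)
    (hnorm : g ∈ Subgroup.normalizer (Q : Set G)) (hfix : ∀ h ∈ Q, g * h * g⁻¹ = h → h = 1) :
    Nat.card Q ≡ 1 [MOD 5] := by
  classical
  haveI : Fact (Nat.Prime 5) := ⟨by norm_num⟩
  haveI : Fintype Q := Fintype.ofFinite Q
  let f : Function.End Q := fun h => ⟨g * h * g⁻¹, (Subgroup.mem_normalizer_iff.1 hnorm h).1 h.2⟩
  have hpow : ∀ n : ℕ, ∀ h : Q, (((f ^ n) h : Q) : G) = g ^ n * h * (g ^ n)⁻¹ := by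
    intro n
    induction n with
    | zero =>
      intro h
      simp only [pow_zero, one_mul, inv_one, mul_one]
      rfl
    | succ n ih =>
      intro h
      rw [pow_succ']
      show g * ((f ^ n) h : G) * g⁻¹ = _
      rw [ih h, pow_succ']
      group
  have hf : f ^ 5 ^ 1 = 1 := by
    rw [pow_one]
    funext h
    apply Subtype.ext
    rw [hpow 5 h, hg5]
    simp only [one_mul, inv_one, mul_one]
    rfl
  have key := Equiv.Perm.card_fixedPoints_modEq (f := f) (p := 5) (n := 1) hf
  have hfp : Fintype.card (Function.fixedPoints f) = 1 := by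
    rw [Fintype.card_eq_one_iff]
    refine ⟨⟨1, ?_⟩, ?_⟩
    · show f 1 = 1
      apply Subtype.ext
      show g * (1 : G) * g⁻¹ = 1
      simp
    · rintro ⟨h, hh⟩
      apply Subtype.ext
      have h1 : f h = h := hh
      have h2 : g * (h : G) * g⁻¹ = h := congrArg Subtype.val h1
      exact Subtype.ext (hfix h h.2 h2)
  rw [hfp] at key
  rw [Nat.card_eq_fintype_card]
  exact key

theorem a6_simple (hN : Nat.card G = 360) (h3 : cnt G 3 = 80) (h5 : cnt G 5 = 144)
    (hord : ∀ g : G, orderOf g = 1 ∨ orderOf g = 2 ∨ orderOf g = 3 ∨ orderOf g = 4 ∨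
      orderOf g = 5) : IsSimpleGroup G := by
  haveI : Nontrivial G := by
    rw [← Finite.one_lt_card_iff_nontrivial, hN]; norm_num
  refine ⟨fun H hH => ?_⟩
  by_contra hcon
  rw [not_or] at hcon
  obtain ⟨hbot, htop⟩ := hcon
  have hHcard : Nat.card H ∣ 360 := hN ▸ Subgroup.card_subgroup_dvd_card H
  have hidx : Nat.card H * H.index = 360 := by rw [H.card_mul_index, hN]
  have hH1 : Nat.card H ≠ 1 := fun h => hbot (Subgroup.card_eq_one.1 h)
  have hH360 : Nat.card H ≠ 360 := fun h => htop ((Subgroup.card_eq_iff_eq_top H).1 (h.trans hN.symm))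
  have hHpos : 0 < Nat.card H := Nat.card_pos
  obtain ⟨g5, hg5⟩ : ∃ g : G, orderOf g = 5 := cnt_ne_zero_iff.1 (by rw [h5]; norm_num)
  by_cases c5 : 5 ∣ Nat.card H
  · have hidx5 : ¬ 5 ∣ H.index := by
      intro hd
      have : 5 * 5 ∣ Nat.card H * H.index := Nat.mul_dvd_mul c5 hd
      rw [hidx] at this
      omega
    have hmem5 : ∀ g : G, orderOf g = 5 → g ∈ H := by
      intro g hg
      apply mem_of_coprime_index
      rw [hg]
      exact (Nat.Prime.coprime_iff_not_dvd (by norm_num)).2 hidx5
    have e5 : cnt H 5 = 144 := by rw [cnt_subgroup_eq H 5 hmem5, h5]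
    have hle := cnt_sum_le (G := H) [1, 5] (by decide)
    simp only [List.map_cons, List.map_nil, List.sum_cons, List.sum_nil, add_zero] at hle
    rw [cnt_one, e5] at hle
    have hH180 : Nat.card H = 180 := by
      obtain ⟨c, hc⟩ := hHcard
      have hc2 : c ≤ 2 := by
        by_contra hcon
        have : Nat.card H * 3 ≤ Nat.card H * c := Nat.mul_le_mul_left _ (by omega)
        omega
      interval_cases c <;> omega
    have hidx2 : H.index = 2 := by
      rw [hH180] at hidx
      omega
    have hmem3 : ∀ g : G, orderOf g = 3 → g ∈ H := by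
      intro g hg
      apply mem_of_coprime_index
      rw [hg, hidx2]
      norm_num
    have e3 : cnt H 3 = 80 := by rw [cnt_subgroup_eq H 3 hmem3, h3]
    have hle := cnt_sum_le (G := H) [1, 3, 5] (by decide)
    simp only [List.map_cons, List.map_nil, List.sum_cons, List.sum_nil, add_zero] at hle
    rw [cnt_one, e3, e5] at hle
    omega
  · have hfpf : ∀ Q : Subgroup G, Q ≤ H → ∀ g : G, orderOf g = 5 → g ∈ Subgroup.normalizer (Q : Set G) →
        Nat.card Q ≡ 1 [MOD 5] := by
      intro Q hQ g hg hgn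
      apply card_modEq_one_of_fpf Q g (by rw [← hg]; exact pow_orderOf_eq_one g) hgn
      intro h hh hcomm
      have hc : Commute g h := by
        show g * h = h * g
        calc g * h = g * h * g⁻¹ * g := by group
          _ = h * g := by rw [hcomm]
      have hcop : Nat.Coprime (orderOf g) (orderOf h) := by
        rw [hg]
        apply (Nat.Prime.coprime_iff_not_dvd (by norm_num)).2
        intro hd
        apply c5
        exact hd.trans (Subgroup.orderOf_dvd_natCard H (hQ hh))
      have hmul := hc.orderOf_mul_eq_mul_orderOf_of_coprime hcop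
      have h1 := hord (g * h)
      rw [hmul, hg] at h1
      have hpos := orderOf_pos h
      have h2 : orderOf h = 1 := by omega
      exact orderOf_eq_one_iff.1 h2
    have hmod : Nat.card H ≡ 1 [MOD 5] :=
      hfpf H le_rfl g5 hg5 (by rw [Subgroup.normalizer_eq_top]; trivial)
    have hH72 : Nat.card H ∣ 72 := by
      have : Nat.card H ∣ 72 * 5 ^ 1 := by norm_num; exact hHcard
      exact dvd_of_dvd_mul_pow_of_not_dvd (by norm_num) 1 this c5
    have hmod' : Nat.card H % 5 = 1 := hmod
    have h3H : 3 ∣ Nat.card H := by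
      have hmem : Nat.card H ∈ Nat.divisors 72 := Nat.mem_divisors.2 ⟨hH72, by norm_num⟩
      rw [show Nat.divisors 72 = {1, 2, 3, 4, 6, 8, 9, 12, 18, 24, 36, 72} from by decide] at hmem
      simp only [Finset.mem_insert, Finset.mem_singleton] at hmem
      omega
    haveI : Fact (Nat.Prime 3) := ⟨Nat.prime_three⟩
    obtain ⟨Q⟩ : Nonempty (Sylow 3 H) := inferInstance
    have hfr := Sylow.normalizer_sup_eq_top Q
    have hQ'le : (Q : Subgroup H).map H.subtype ≤ H := Subgroup.map_subtype_le _
    have hQcard : Nat.card ((Q : Subgroup H).map H.subtype) = Nat.card Q :=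
      Subgroup.card_map_of_injective H.subtype_injective
    have hg5top : g5 ∈ Subgroup.normalizer (((Q : Subgroup H).map H.subtype : Subgroup G) : Set G) ⊔ H := by
      rw [hfr]; trivial
    obtain ⟨a, ha, b, hb, hab⟩ := Subgroup.mem_sup_of_normal_right.1 hg5top
    have ha5 : orderOf a = 5 := by
      have hg5H : g5 ∉ H := by
        intro hmem
        apply c5
        have := Subgroup.orderOf_dvd_natCard H hmem
        rwa [hg5] at this
      have hmk : (QuotientGroup.mk a : G ⧸ H) = QuotientGroup.mk g5 := by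
        rw [← hab, QuotientGroup.mk_mul, (QuotientGroup.eq_one_iff b).2 hb, mul_one]
      have ho : orderOf (QuotientGroup.mk g5 : G ⧸ H) = 5 := by
        haveI : Fact (Nat.Prime 5) := ⟨by norm_num⟩
        apply orderOf_eq_prime
        · rw [← QuotientGroup.mk_pow, ← hg5, pow_orderOf_eq_one]; rfl
        · rw [Ne, QuotientGroup.eq_one_iff]; exact hg5H
      have hd : 5 ∣ orderOf a := by
        rw [← ho, ← hmk]
        exact orderOf_map_dvd (QuotientGroup.mk' H) a
      rcases hord a with h | h | h | h | h <;> omega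
    have hmodQ := hfpf _ hQ'le a ha5 ha
    rw [hQcard] at hmodQ
    have hmodQ' : Nat.card Q % 5 = 1 := hmodQ
    obtain ⟨n, hn⟩ := IsPGroup.iff_card.1 Q.2
    have h3Q : 3 ∣ Nat.card Q := Q.dvd_card_of_dvd_card h3H
    have hQdvd : Nat.card Q ∣ 72 := (Subgroup.card_subgroup_dvd_card (Q : Subgroup H)).trans hH72
    rw [hn] at hQdvd h3Q hmodQ'
    have hn3 : n < 3 := by
      by_contra hcon
      have : (3 : ℕ) ^ 3 ∣ 72 := (pow_dvd_pow 3 (by omega : 3 ≤ n)).trans hQdvd
      omega
    interval_cases n <;> omega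

theorem a6_iso
    (h : ((fun m : ℕ => Nat.card {g : G // orderOf g = m}) '' Set.range (orderOf : G → ℕ)) =
      (({1, 45, 80, 90, 144} : Finset ℕ) : Set ℕ)) : Nonempty (G ≃* alternatingGroup (Fin 6)) := by
  have P := profile_of_image_eq h
  obtain ⟨hN, h2, h3, h4, h5, hrest⟩ := a6_arith P
  haveI : IsSimpleGroup G := by
    apply a6_simple hN h3 h5
    intro g
    by_contra hcon
    have hk : orderOf g ∉ [1, 2, 3, 4, 5] := by
      simp only [List.mem_cons, List.not_mem_nil, or_false]
      exact hcon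
    have := hrest _ hk
    exact (cnt_ne_zero_iff.2 ⟨g, rfl⟩) this
  exact Cfsg.Agent.S0497.result hN

end Cfsg.Agent.Lib.Helper19.Nse
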