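import Mathlib
import Cfsg.Agent.Lib.Helper13.O459.Defs
import Cfsg.Agent.Lib.Helper25.CharLinear
import Cfsg.Agent.Lib.Helper25.CharBound
import Cfsg.Agent.Lib.Helper25.Gagola
import Cfsg.Agent.Lib.helper2.CharNat
import Cfsg.Agent.Lib.Helper24.O459SUM38

/-!
# Project O459, piece D56VAL
-/

set_option autoImplicit false
set_option linter.unusedVariables false
set_option linter.unusedSectionVars false

namespace Cfsg.Agent.Lib.Helper13.O459

open Classical
open Cfsg.Agent.Lib.helper7.BR Cfsg.Agent.Lib.Helper25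

universe u

variable {G : Type u} [Group G] [Fintype G]

/-- a non-trivial element of `P` has order divisible by 19. -/
theorem o459d56val_ex (P : Sylow 19 G) (hP : Nat.card ↥(P : Subgroup G) = 19) :
    ∃ x : G, 19 ∣ orderOf x := by
  have h19 : (19 : ℕ).Prime := by norm_num
  have hdvd : 19 ∣ Nat.card ↥(P : Subgroup G) := by rw [hP]
  have : Fact (Nat.Prime 19) := ⟨h19⟩
  obtain ⟨x, hx⟩ := exists_prime_orderOf_dvd_card' (G := ↥(P : Subgroup G)) 19 hdvd
  refine ⟨(x : G), ?_⟩
  rw [Subgroup.orderOf_coe, hx]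

/-- the kernel of an irreducible character that takes the value `-1` somewhere on a 19-singular element is trivial
in a simple group, when its degree is not `-1`. -/
theorem o459d56val_ker [IsSimpleGroup G] (P : Sylow 19 G) (hP : Nat.card ↥(P : Subgroup G) = 19)
    (y : G) (hy : orderOf y = 2) (χ : Cfsg.IrrCharacter G) (d : ℂ) (hd : d ≠ -1)
    (h1 : (χ : G → ℂ) 1 = d) (hval : ∀ g : G, 19 ∣ orderOf g → (χ : G → ℂ) g = -1)
    (hyk : (χ : G → ℂ) y = d) : False := by
  have hmem : y ∈ irrKer χ := by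
    rw [mem_irrKer, hyk, h1]
  rcases (irrKer_normal χ).eq_bot_or_eq_top with hb | ht
  · rw [hb, Subgroup.mem_bot] at hmem
    rw [hmem, orderOf_one] at hy
    omega
  · obtain ⟨x, hx⟩ := o459d56val_ex P hP
    have hxk : x ∈ irrKer χ := by rw [ht]; exact Subgroup.mem_top x
    rw [mem_irrKer, hval x hx, h1] at hxk
    exact hd hxk.symm

/-- D56VAL. -/
theorem d56_val [IsSimpleGroup G] (P : Sylow 19 G) (hP : Nat.card ↥(P : Subgroup G) = 19)
    (y : G) (hy : orderOf y = 2) (hyc : y ∈ cen P) (χ : Cfsg.IrrCharacter G)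
    (h1 : (χ : G → ℂ) 1 = 56) (hval : ∀ g : G, 19 ∣ orderOf g → (χ : G → ℂ) g = -1) :
    (χ : G → ℂ) y = 18 ∨ (χ : G → ℂ) y = -20 := by
  obtain ⟨m, hm⟩ := sum38 P hP y hy hyc (χ : G → ℂ) (Cfsg.Agent.Lib.helper2.isCharacter_of_irr χ) (-1)
    (fun g hg => by rw [hval g hg]; push_cast; ring)
  have hχy : (χ : G → ℂ) y = 38 * (m : ℂ) - 20 := by
    rw [h1] at hm
    push_cast at hm
    linear_combination hm
  have hle := irr_norm_le χ y
  rw [h1, hχy] at hle
  have hm2 : m ≤ 2 := by
    by_contra hcon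
    push Not at hcon
    have h3 : (3 : ℝ) ≤ (m : ℝ) := by exact_mod_cast hcon
    have e1 : (38 * (m : ℂ) - 20) = ((38 * (m : ℝ) - 20 : ℝ) : ℂ) := by push_cast; ring
    rw [e1, Complex.norm_real, Real.norm_eq_abs] at hle
    have e2 : ‖(56 : ℂ)‖ = 56 := by
      rw [show (56 : ℂ) = ((56 : ℝ) : ℂ) by push_cast; ring, Complex.norm_real]
      norm_num
    rw [e2, abs_of_nonneg (by linarith)] at hle
    linarith
  interval_cases m
  · right
    rw [hχy]; norm_num
  · left
    rw [hχy]; norm_num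
  · exfalso
    apply o459d56val_ker P hP y hy χ 56 (by norm_num) h1 hval
    rw [hχy]; norm_num

end Cfsg.Agent.Lib.Helper13.O459
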