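import Mathlib
import Cfsg.Agent.Lib.Helper13.O983.Defs
import Cfsg.Agent.Lib.helper8.SylowBasic
import Cfsg.Agent.Lib.helper8.SimpleEmbed

/-!
# Project O983, row KS: the Sylow + embedding criterion `ns_sylow`
-/

set_option autoImplicit false
set_option linter.style.haveILetI false

namespace Cfsg.Agent.Lib.Helper13.O983

open Cfsg.Agent.Lib.helper8

universe u

theorem ns_sylow (n p a m : ℕ) (hp : p.Prime) (ha : 1 ≤ a) (hn : n = p ^ a * m) (hpm : ¬ p ∣ m)
    (hchk : ChkS n p m) : NoSimple.{u} n := by
  intro G _ _ _ hnc hG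
  haveI : Fact p.Prime := ⟨hp⟩
  have hG' : Nat.card G = p ^ a * m := by rw [hG, hn]
  have hm0 : m ≠ 0 := fun h => hpm (h ▸ dvd_zero p)
  obtain ⟨P⟩ : Nonempty (Sylow p G) := inferInstance
  have hdvd : Nat.card (Sylow p G) ∣ m := h8_nsylow_dvd p a m hG' hpm
  have hmod : Nat.card (Sylow p G) % p = 1 := h8_nsylow_mod (G := G) p
  have hidx := h8_nsylow_eq_index_normalizer p P
  by_cases h1 : Nat.card (Sylow p G) = 1
  · -- the Sylow subgroup is normal, hence everything: `G` is a `p`-group, so abelian
    haveI := h8_normal_of_nsylow_eq_one p h1 P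
    have hPc : Nat.card (P : Subgroup G) = p ^ a := h8_sylow_card p a m hG' hpm P
    rcases h8_simple_normal_eq (P : Subgroup G) with hb | ht
    · rw [hb, Subgroup.card_bot] at hPc
      have : 1 < p ^ a := Nat.one_lt_pow (by omega) hp.one_lt
      omega
    · have hpg : IsPGroup p G := by
        have := P.isPGroup'
        rw [ht] at this
        exact IsPGroup.of_equiv this Subgroup.topEquiv
      haveI : Nontrivial G := IsSimpleGroup.toNontrivial
      haveI := hpg.center_nontrivial
      rcases h8_simple_normal_eq (Subgroup.center G) with hb | ht'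
      · exact absurd hb (Subgroup.nontrivial_iff_ne_bot _ |>.mp inferInstance)
      · apply hnc
        refine ⟨⟨fun x y => ?_⟩⟩
        have hx : x ∈ Subgroup.center G := by rw [ht']; trivial
        exact ((Subgroup.mem_center_iff.mp hx) y).symm
  · -- `n_p = k p + 1` with `k ≥ 1`
    obtain ⟨k, hk⟩ : ∃ k, Nat.card (Sylow p G) = k * p + 1 := by
      refine ⟨Nat.card (Sylow p G) / p, ?_⟩
      have := Nat.div_add_mod (Nat.card (Sylow p G)) p
      rw [hmod] at this
      rw [mul_comm]
      exact this.symm
    have hk1 : 1 ≤ k := by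
      rcases Nat.eq_zero_or_pos k with h | h
      · rw [h, zero_mul, zero_add] at hk; exact absurd hk h1
      · exact h
    have hle : k * p + 1 ≤ m := by
      rw [← hk]; exact Nat.le_of_dvd (Nat.pos_of_ne_zero hm0) hdvd
    have hklt : k < m / p + 1 := by
      have h2 : k * p ≤ m := by omega
      have := (Nat.le_div_iff_mul_le hp.pos).mpr h2
      omega
    obtain ⟨_, hnd⟩ := hchk k hklt hk1 (by rw [← hk]; exact hdvd)
    apply hnd
    have hNtop : Subgroup.normalizer ((P : Subgroup G) : Set G) ≠ ⊤ := by
      intro htop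
      rw [htop, Subgroup.index_top] at hidx
      exact h1 hidx
    have h2 := h8_simple_two_mul_card_dvd_factorial hnc _ hNtop
    rw [← hidx, hk, hG] at h2
    obtain ⟨c, hc⟩ := h2
    refine ⟨c, ?_⟩
    rw [hc, mul_assoc, Nat.mul_div_cancel_left _ (by norm_num : 0 < 2)]

end Cfsg.Agent.Lib.Helper13.O983
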