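import Mathlib
import Cfsg.Agent.Lib.Helper19.O9U.Defs

set_option autoImplicit false

/-!
# Project O9U (designer helper19), rows DVD3 (`dvd3`) and C2 (`pow_eq_one_of_dvd9`).
-/

namespace Cfsg.Agent.Lib.Helper19.O9U

open Polynomial

/-- `X - 1 ∣ X ^ m - 1` -/
theorem o9udvd3_sub (F : Type*) [Field F] (m : ℕ) : (X - 1 : F[X]) ∣ X ^ m - 1 := by
  simpa using sub_dvd_pow_sub_pow (X : F[X]) 1 m

/-- `X + 1 ∣ X ^ m - 1` for even `m` -/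
theorem o9udvd3_add (F : Type*) [Field F] (m : ℕ) (hm : 2 ∣ m) : (X + 1 : F[X]) ∣ X ^ m - 1 := by
  obtain ⟨k, rfl⟩ := hm
  have h1 : (X ^ 2 - 1 : F[X]) ∣ X ^ (2 * k) - 1 := by
    have := sub_dvd_pow_sub_pow ((X : F[X]) ^ 2) 1 k
    rwa [one_pow, ← pow_mul] at this
  refine dvd_trans ⟨X - 1, ?_⟩ h1
  ring

/-- `X - C r` is coprime to `ρ` if `ρ.eval r ≠ 0` -/
theorem o9udvd3_coprime {F : Type*} [Field F] (r : F) (ρ : F[X]) (h : ρ.eval r ≠ 0) :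
    IsCoprime (X - C r) ρ := by
  have hirr : Irreducible (X - C r) := irreducible_X_sub_C r
  rw [hirr.coprime_iff_not_dvd]
  intro hdvd
  exact h (dvd_iff_isRoot.mp hdvd)

theorem dvd3 {F : Type*} [Field F] (h2 : (2 : F) ≠ 0) (a c m k : ℕ) (ρ : F[X]) (h1 : ρ.eval 1 ≠ 0)
    (hm1 : ρ.eval (-1) ≠ 0) (ha : a ≤ k) (hc : c ≤ k) (hcm : c ≠ 0 → 2 ∣ m)
    (hρ : ρ ∣ (X ^ m - 1 : F[X]) ^ k) :
    (X - 1) ^ a * ((X + 1) ^ c * ρ) ∣ (X ^ m - 1 : F[X]) ^ k := by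
  have e1 : (X - 1 : F[X]) = X - C 1 := by rw [C_1]
  have e2 : (X + 1 : F[X]) = X - C (-1) := by rw [C_neg, C_1, sub_neg_eq_add]
  have hc1 : IsCoprime (X - 1 : F[X]) ρ := by rw [e1]; exact o9udvd3_coprime 1 ρ h1
  have hc2 : IsCoprime (X + 1 : F[X]) ρ := by rw [e2]; exact o9udvd3_coprime (-1) ρ hm1
  have hc3 : IsCoprime (X - 1 : F[X]) (X + 1) := by
    rw [e1, e2]
    apply o9udvd3_coprime
    rw [eval_sub, eval_X, eval_C]
    intro h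
    apply h2
    have : (2 : F) = 1 - (-1) := by norm_num
    rw [this, h]
  have hA : (X - 1 : F[X]) ^ a ∣ (X ^ m - 1 : F[X]) ^ k :=
    dvd_trans (pow_dvd_pow_of_dvd (o9udvd3_sub F m) a) (pow_dvd_pow _ ha)
  have hC : (X + 1 : F[X]) ^ c ∣ (X ^ m - 1 : F[X]) ^ k := by
    rcases Nat.eq_zero_or_pos c with rfl | hcpos
    · rw [pow_zero]; exact one_dvd _
    · exact dvd_trans (pow_dvd_pow_of_dvd (o9udvd3_add F m (hcm (by omega))) c) (pow_dvd_pow _ hc)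
  have hCρ : (X + 1 : F[X]) ^ c * ρ ∣ (X ^ m - 1 : F[X]) ^ k :=
    IsCoprime.mul_dvd hc2.pow_left hC hρ
  exact IsCoprime.mul_dvd (IsCoprime.mul_right (hc3.pow) hc1.pow_left) hA hCρ

theorem pow_eq_one_of_dvd9 {F : Type*} [Field F] (p : ℕ) [Fact p.Prime] [CharP F p] {ι : Type} [Fintype ι]
    [DecidableEq ι] (A : Matrix ι ι F) (P : F[X]) (hP : aeval A P = 0) (m t : ℕ)
    (h : P ∣ (X ^ m - 1 : F[X]) ^ (p ^ t)) : A ^ (m * p ^ t) = 1 := by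
  have h0 : aeval A ((X ^ m - 1 : F[X]) ^ (p ^ t)) = 0 := by
    obtain ⟨g, hg⟩ := h
    rw [hg, map_mul, hP, zero_mul]
  have h1 : (A ^ m - 1) ^ (p ^ t) = 0 := by
    simpa using h0
  rcases isEmpty_or_nonempty ι with hι | hι
  · exact Subsingleton.elim _ _
  · have : CharP (Matrix ι ι F) p := Matrix.charP p
    rw [sub_pow_char_pow_of_commute p t (Commute.one_right _), one_pow, ← pow_mul] at h1
    exact sub_eq_zero.mp h1

end Cfsg.Agent.Lib.Helper19.O9U
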