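import Mathlib
import Cfsg.Agent.Lib.Helper19.O9U.Defs

set_option autoImplicit false

/-!
# Project O9U (designer helper19), rows RASSOC (`reverse_eq_of_assoc9`) and C6 (`selfrec_even9`).
-/

namespace Cfsg.Agent.Lib.Helper19.O9U

open Polynomial

/-- `f.reverse.eval 1 = f.eval 1` -/
theorem o9urassoc_eval_one {F : Type*} [Field F] (f : F[X]) : f.reverse.eval 1 = f.eval 1 := by
  let _ : Invertible (1 : F) := invertibleOne
  have h := eval₂_reverse_mul_pow (RingHom.id F) (1 : F) f
  simp only [invOf_one, one_pow, mul_one, eval₂_id] at h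
  exact h

/-- `f.reverse.eval (-1) * (-1) ^ natDegree f = f.eval (-1)` -/
theorem o9urassoc_eval_neg_one {F : Type*} [Field F] (f : F[X]) :
    f.reverse.eval (-1) * (-1) ^ f.natDegree = f.eval (-1) := by
  let _ : Invertible (1 : F) := invertibleOne
  let _ : Invertible (-1 : F) := invertibleNeg 1
  have h := eval₂_reverse_mul_pow (RingHom.id F) (-1 : F) f
  have hinv : ⅟ (-1 : F) = -1 := by
    rw [invOf_eq_inv]
    norm_num
  rw [hinv] at h
  simpa only [eval₂_id] using h

theorem reverse_eq_of_assoc9 {F : Type*} [Field F] (f : F[X]) (h1 : f.eval 1 ≠ 0)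
    (h : Associated f.reverse f) : f.reverse = f := by
  obtain ⟨u, hu⟩ := h
  obtain ⟨c, hc, hcu⟩ := Polynomial.isUnit_iff.mp u.isUnit
  have h2 : (f.reverse * C c).eval 1 = f.eval 1 := by rw [hcu, hu]
  rw [eval_mul, eval_C, o9urassoc_eval_one] at h2
  have hc1 : c = 1 := by
    have : f.eval 1 * c = f.eval 1 * 1 := by rw [h2, mul_one]
    exact mul_left_cancel₀ h1 this
  have h3 : f.reverse * C c = f := by rw [hcu, hu]
  rw [hc1, C_1, mul_one] at h3
  exact h3

theorem selfrec_even9 {F : Type*} [Field F] (h2 : (2 : F) ≠ 0) (g : F[X]) (hr : g.reverse = g)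
    (hm1 : g.eval (-1) ≠ 0) : Even g.natDegree := by
  have h := o9urassoc_eval_neg_one g
  rw [hr] at h
  have hpow : (-1 : F) ^ g.natDegree = 1 := by
    have : g.eval (-1) * (-1) ^ g.natDegree = g.eval (-1) * 1 := by rw [h, mul_one]
    exact mul_left_cancel₀ hm1 this
  by_contra hodd
  rw [Nat.not_even_iff_odd] at hodd
  rw [hodd.neg_one_pow] at hpow
  apply h2
  have : (2 : F) = 1 - (-1) := by norm_num
  rw [this, hpow, sub_self]

end Cfsg.Agent.Lib.Helper19.O9U
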