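import Mathlib
import Cfsg.Agent.Lib.Helper19.O9U.Defs
import Cfsg.Agent.Lib.Helper26.SO8C5
import Cfsg.Agent.Lib.Helper11.SO8C3
import Cfsg.Agent.Lib.Helper27.SO8PEELS
import Cfsg.Agent.Lib.helper17.SO8PEELP

set_option autoImplicit false

/-!
# Project O9U (designer helper19), row STRUCT1, core: `o9ustruct1_core` = `sr_struct_aux9` with the statements of the rows
RASSOC (`reverse_eq_of_assoc9`) and C4 (`irr_self_dvd9`) as hypotheses (the characteristic-free SO8 rows C3, C5, PEELS, PEELP are cited).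
-/

namespace Cfsg.Agent.Lib.Helper19.O9U

open Polynomial

section
variable {F : Type*} [Field F]

theorem o9ustruct1_xpow_dvd (a m : ℕ) (h : a ∣ m) : (X ^ a - 1 : F[X]) ∣ X ^ m - 1 := by
  obtain ⟨k, rfl⟩ := h
  have := sub_dvd_pow_sub_pow ((X : F[X]) ^ a) 1 k
  rwa [one_pow, ← pow_mul] at this

theorem o9ustruct1_coeff0 (g : F[X]) (hg : g ≠ 0) (hr : g.reverse = g) : g.coeff 0 ≠ 0 := by
  rw [← hr, coeff_zero_reverse]
  exact leadingCoeff_ne_zero.mpr hg

/-- the induction step, with the number of factors tracked (`cnt`) -/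
theorem o9ustruct1_step (q n : ℕ) (g P g' : F[X]) (e j : ℕ) (ε : Bool) (hg : g ≠ 0)
    (hd : g.natDegree = 2 * n) (he : 1 ≤ e) (hj : 1 ≤ j) (hP : P.natDegree = 2 * e)
    (hPd : P ∣ (X ^ (tyN q e ε) - 1 : F[X])) (hgeq : g = P ^ j * g') (hcop : IsCoprime P g')
    (cnt' : ℕ)
    (IH : ∀ n' : ℕ, n' < n → g'.natDegree = 2 * n' →
      ∃ w : ℕ → Bool → ℕ, (∑ e ∈ Finset.range (n' + 1), e * (w e true + w e false) = n') ∧
        (∀ e ε, w e ε ≠ 0 → 1 ≤ e ∧ e ≤ n') ∧
        cnt' ≤ ∑ e ∈ Finset.range (n' + 1), (w e true + w e false) ∧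
        ∀ m k : ℕ, (∀ e ε, w e ε ≠ 0 → tyN q e ε ∣ m) → (∀ e ε, w e ε ≤ k) →
          g' ∣ (X ^ m - 1 : F[X]) ^ k) :
    ∃ w : ℕ → Bool → ℕ, (∑ e ∈ Finset.range (n + 1), e * (w e true + w e false) = n) ∧
      (∀ e ε, w e ε ≠ 0 → 1 ≤ e ∧ e ≤ n) ∧
      cnt' + j ≤ ∑ e ∈ Finset.range (n + 1), (w e true + w e false) ∧
      ∀ m k : ℕ, (∀ e ε, w e ε ≠ 0 → tyN q e ε ∣ m) → (∀ e ε, w e ε ≤ k) →
        g ∣ (X ^ m - 1 : F[X]) ^ k := by
  classical
  have hP0 : P ≠ 0 := by
    rintro rfl
    rw [natDegree_zero] at hP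
    omega
  have hg'0 : g' ≠ 0 := by
    rintro rfl
    rw [mul_zero] at hgeq
    exact hg hgeq
  have hdeg : g.natDegree = j * (2 * e) + g'.natDegree := by
    rw [hgeq, natDegree_mul (pow_ne_zero j hP0) hg'0, natDegree_pow, hP]
  have hej : e * j ≤ n := by
    have : j * (2 * e) ≤ 2 * n := by omega
    nlinarith
  have hej1 : 1 ≤ e * j := Nat.mul_pos he hj
  obtain ⟨n', hn'⟩ : ∃ n', n' = n - e * j := ⟨_, rfl⟩
  have hdeg' : g'.natDegree = 2 * n' := by
    have : j * (2 * e) = 2 * (e * j) := by ring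
    omega
  obtain ⟨w', hsum', hsupp', hcnt', hdvd'⟩ := IH n' (by omega) hdeg'
  have hen : e ≤ n := by
    have : e ≤ e * j := Nat.le_mul_of_pos_right e hj
    omega
  refine ⟨fun e' ε' => w' e' ε' + (if e' = e ∧ ε' = ε then j else 0), ?_, ?_, ?_, ?_⟩
  · -- the sum
    have h1 : ∑ e' ∈ Finset.range (n + 1), e' * (w' e' true + w' e' false) = n' := by
      rw [← hsum']
      symm
      apply Finset.sum_subset
      · intro x hx
        rw [Finset.mem_range] at hx ⊢
        omega
      · intro x _ hx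
        rw [Finset.mem_range] at hx
        have ht : w' x true = 0 := by
          by_contra h
          have := (hsupp' x true h).2
          omega
        have hf : w' x false = 0 := by
          by_contra h
          have := (hsupp' x false h).2
          omega
        rw [ht, hf]
        simp
    have h2 : ∑ e' ∈ Finset.range (n + 1),
        e' * ((if e' = e ∧ true = ε then j else 0) + (if e' = e ∧ false = ε then j else 0)) = e * j := by
      rw [Finset.sum_eq_single e]
      · cases ε <;> simp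
      · intro b _ hb
        simp [hb]
      · intro h
        exfalso
        apply h
        rw [Finset.mem_range]
        omega
    calc ∑ e' ∈ Finset.range (n + 1), e' * ((w' e' true + (if e' = e ∧ true = ε then j else 0)) +
          (w' e' false + (if e' = e ∧ false = ε then j else 0)))
        = ∑ e' ∈ Finset.range (n + 1), (e' * (w' e' true + w' e' false) +
          e' * ((if e' = e ∧ true = ε then j else 0) + (if e' = e ∧ false = ε then j else 0))) := by
          apply Finset.sum_congr rfl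
          intro x _
          ring
      _ = n' + e * j := by rw [Finset.sum_add_distrib, h1, h2]
      _ = n := by omega
  · -- support
    intro e' ε' h
    by_cases hc : e' = e ∧ ε' = ε
    · obtain ⟨rfl, rfl⟩ := hc
      exact ⟨he, hen⟩
    · simp only [hc, if_false, add_zero] at h
      have := hsupp' e' ε' h
      omega
  · -- the count
    have h1 : ∑ e' ∈ Finset.range (n + 1), (w' e' true + w' e' false) =
        ∑ e' ∈ Finset.range (n' + 1), (w' e' true + w' e' false) := by
      symm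
      apply Finset.sum_subset
      · intro x hx
        rw [Finset.mem_range] at hx ⊢
        omega
      · intro x _ hx
        rw [Finset.mem_range] at hx
        have ht : w' x true = 0 := by
          by_contra h
          have := (hsupp' x true h).2
          omega
        have hf : w' x false = 0 := by
          by_contra h
          have := (hsupp' x false h).2
          omega
        rw [ht, hf]
        rfl
    have h2 : ∑ e' ∈ Finset.range (n + 1),
        ((if e' = e ∧ true = ε then j else 0) + (if e' = e ∧ false = ε then j else 0)) = j := by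
      rw [Finset.sum_eq_single e]
      · cases ε <;> simp
      · intro b _ hb
        simp [hb]
      · intro h
        exfalso
        apply h
        rw [Finset.mem_range]
        omega
    calc cnt' + j ≤ ∑ e' ∈ Finset.range (n' + 1), (w' e' true + w' e' false) + j := by omega
      _ = ∑ e' ∈ Finset.range (n + 1), ((w' e' true + w' e' false) +
          ((if e' = e ∧ true = ε then j else 0) + (if e' = e ∧ false = ε then j else 0))) := by
          rw [Finset.sum_add_distrib (f := fun e' => w' e' true + w' e' false), h1, h2]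
      _ = _ := by
          apply Finset.sum_congr rfl
          intro x _
          ring
  · intro m k hm ht
    have hw'le : ∀ e' ε', w' e' ε' ≤ w' e' ε' + (if e' = e ∧ ε' = ε then j else 0) := fun _ _ =>
      Nat.le_add_right _ _
    have hg' : g' ∣ (X ^ m - 1 : F[X]) ^ k := by
      apply hdvd' m k
      · intro e' ε' h
        apply hm e' ε'
        show w' e' ε' + (if e' = e ∧ ε' = ε then j else 0) ≠ 0
        have := hw'le e' ε'
        omega
      · intro e' ε'
        exact le_trans (hw'le e' ε') (ht e' ε')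
    have hjw : j ≤ k := by
      have : w' e ε + (if e = e ∧ ε = ε then j else 0) ≤ k := ht e ε
      rw [if_pos ⟨rfl, rfl⟩] at this
      omega
    have hPm : P ∣ (X ^ m - 1 : F[X]) := by
      apply dvd_trans hPd
      apply o9ustruct1_xpow_dvd
      apply hm e ε
      show w' e ε + (if e = e ∧ ε = ε then j else 0) ≠ 0
      rw [if_pos ⟨rfl, rfl⟩]
      omega
    have hPj : P ^ j ∣ (X ^ m - 1 : F[X]) ^ k :=
      dvd_trans (pow_dvd_pow_of_dvd hPm j) (pow_dvd_pow _ hjw)
    rw [hgeq]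
    exact IsCoprime.mul_dvd (hcop.pow_left) hPj hg'

end

/-- the two shapes of a peeling step: `g = P ^ j * g'` with `P` of type `(e, ε)` -/
theorem o9ustruct1_peel {F : Type*} [Field F] [Fintype F]
    (hRA : ∀ f : F[X], f.eval 1 ≠ 0 → Associated f.reverse f → f.reverse = f)
    (hC4 : ∀ f : F[X], Irreducible f → f.coeff 0 ≠ 0 → f.reverse = f → f.eval 1 ≠ 0 →
      f.eval (-1) ≠ 0 →
      ∃ e : ℕ, 1 ≤ e ∧ f.natDegree = 2 * e ∧ f ∣ (X ^ (Fintype.card F ^ e + 1) - 1 : F[X]))
    (g : F[X]) (hg : g ≠ 0) (hr : g.reverse = g) (h1 : g.eval 1 ≠ 0) (hm1 : g.eval (-1) ≠ 0)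
    (hpos : 0 < g.natDegree) :
    ∃ (f : F[X]) (j : ℕ) (g' : F[X]) (e : ℕ) (ε : Bool), Irreducible f ∧ f.coeff 0 ≠ 0 ∧ 1 ≤ j ∧ 1 ≤ e ∧
      g' ≠ 0 ∧ g'.reverse = g' ∧ g'.eval 1 ≠ 0 ∧ g'.eval (-1) ≠ 0 ∧
      ((ε = false ∧ f.reverse = f ∧ f.natDegree = 2 * e ∧ g = f ^ j * g' ∧ IsCoprime f g' ∧
          f ∣ (X ^ (tyN (Fintype.card F) e false) - 1 : F[X])) ∨
        (ε = true ∧ ¬ Associated f.reverse f ∧ f.natDegree = e ∧ g = (f * f.reverse) ^ j * g' ∧
          IsCoprime (f * f.reverse) g' ∧ IsCoprime f f.reverse ∧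
          f * f.reverse ∣ (X ^ (tyN (Fintype.card F) e true) - 1 : F[X]))) := by
  classical
  obtain ⟨f, hf, hfg⟩ := exists_irreducible_of_natDegree_pos (f := g) (by omega)
  obtain ⟨h, hh⟩ := hfg
  have hg0 : g.coeff 0 ≠ 0 := o9ustruct1_coeff0 g hg hr
  have hf1 : f.eval 1 ≠ 0 := by
    intro h0
    apply h1
    rw [hh, eval_mul, h0, zero_mul]
  have hfm1 : f.eval (-1) ≠ 0 := by
    intro h0
    apply hm1
    rw [hh, eval_mul, h0, zero_mul]
  have hf0 : f.coeff 0 ≠ 0 := by
    intro h0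
    apply hg0
    rw [hh, mul_coeff_zero, h0, zero_mul]
  have hfdvd : f ∣ g := ⟨h, hh⟩
  by_cases hass : Associated f.reverse f
  · have hfr : f.reverse = f := hRA f hf1 hass
    obtain ⟨e, he1, hdeg, hdvdf⟩ := hC4 f hf hf0 hfr hf1 hfm1
    obtain ⟨j, g', hj, hgeq, hcop, hr'⟩ := Cfsg.Agent.Lib.Helper19.SO8.peel_self g f hg hr hf hfr hfdvd
    have hg'0 : g' ≠ 0 := by
      rintro rfl
      rw [mul_zero] at hgeq
      exact hg hgeq
    have hg'1 : g'.eval 1 ≠ 0 := by
      intro h0
      apply h1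
      rw [hgeq, eval_mul, h0, mul_zero]
    have hg'm1 : g'.eval (-1) ≠ 0 := by
      intro h0
      apply hm1
      rw [hgeq, eval_mul, h0, mul_zero]
    exact ⟨f, j, g', e, false, hf, hf0, hj, he1, hg'0, hr', hg'1, hg'm1,
      Or.inl ⟨rfl, hfr, hdeg, hgeq, hcop, by rw [tyN_false]; exact hdvdf⟩⟩
  · obtain ⟨j, g', hj, hgeq, hcop, hr', hcopff⟩ :=
      Cfsg.Agent.Lib.Helper19.SO8.peel_pair g f hg hg0 hr hf hass hfdvd
    obtain ⟨hrr, hirr⟩ := Cfsg.Agent.Lib.Helper19.SO8.reverse_irreducible f hf hf0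
    have hg'0 : g' ≠ 0 := by
      rintro rfl
      rw [mul_zero] at hgeq
      exact hg hgeq
    have hg'1 : g'.eval 1 ≠ 0 := by
      intro h0
      apply h1
      rw [hgeq, eval_mul, h0, mul_zero]
    have hg'm1 : g'.eval (-1) ≠ 0 := by
      intro h0
      apply hm1
      rw [hgeq, eval_mul, h0, mul_zero]
    have hf00 : f ≠ 0 := hf.ne_zero
    have hndr : f.reverse.natDegree = f.natDegree := by
      rw [reverse_natDegree]
      have : f.natTrailingDegree = 0 := natTrailingDegree_eq_zero.mpr (Or.inr hf0)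
      omega
    have hr0 : f.reverse.coeff 0 ≠ 0 := by
      rw [coeff_zero_reverse]
      exact leadingCoeff_ne_zero.mpr hf00
    have he1 : 1 ≤ f.natDegree := hf.natDegree_pos
    have hd1 := Cfsg.Agent.Lib.Helper19.SO8.irr_dvd f hf hf0
    have hd2 := Cfsg.Agent.Lib.Helper19.SO8.irr_dvd f.reverse hirr hr0
    rw [hndr] at hd2
    have hPd : f * f.reverse ∣ (X ^ (tyN (Fintype.card F) f.natDegree true) - 1 : F[X]) := by
      rw [tyN_true]
      exact IsCoprime.mul_dvd hcopff hd1 hd2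
    exact ⟨f, j, g', f.natDegree, true, hf, hf0, hj, he1, hg'0, hr', hg'1, hg'm1,
      Or.inr ⟨rfl, hass, rfl, hgeq, hcop, hcopff, hPd⟩⟩

theorem o9ustruct1_core {F : Type*} [Field F] [Fintype F]
    (hRA : ∀ f : F[X], f.eval 1 ≠ 0 → Associated f.reverse f → f.reverse = f)
    (hC4 : ∀ f : F[X], Irreducible f → f.coeff 0 ≠ 0 → f.reverse = f → f.eval 1 ≠ 0 →
      f.eval (-1) ≠ 0 →
      ∃ e : ℕ, 1 ≤ e ∧ f.natDegree = 2 * e ∧ f ∣ (X ^ (Fintype.card F ^ e + 1) - 1 : F[X]))
    (n : ℕ) (g : F[X]) (hg : g ≠ 0)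
    (hr : g.reverse = g) (h1 : g.eval 1 ≠ 0) (hm1 : g.eval (-1) ≠ 0) (hd : g.natDegree = 2 * n) :
    ∃ w : ℕ → Bool → ℕ, (∑ e ∈ Finset.range (n + 1), e * (w e true + w e false) = n) ∧
      (∀ e ε, w e ε ≠ 0 → 1 ≤ e ∧ e ≤ n) ∧
      ∀ m k : ℕ, (∀ e ε, w e ε ≠ 0 → tyN (Fintype.card F) e ε ∣ m) → (∀ e ε, w e ε ≤ k) →
        g ∣ (X ^ m - 1 : F[X]) ^ k := by
  classical
  induction n using Nat.strong_induction_on generalizing g with
  | _ n ih =>
  rcases Nat.eq_zero_or_pos n with hn0 | hnpos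
  · subst hn0
    refine ⟨fun _ _ => 0, by simp, fun e ε h => absurd rfl h, ?_⟩
    intro m k _ _
    have hunit : IsUnit g := by
      rw [mul_zero] at hd
      rw [eq_C_of_natDegree_eq_zero hd]
      apply isUnit_C.mpr
      rw [isUnit_iff_ne_zero]
      intro h
      apply hg
      rw [eq_C_of_natDegree_eq_zero hd, h, C_0]
    exact hunit.dvd
  · obtain ⟨f, j, g', e, ε, hf, hf0, hj, he, hg'0, hr', hg'1, hg'm1, hcase⟩ :=
      o9ustruct1_peel hRA hC4 g hg hr h1 hm1 (by omega)
    have IH : ∀ n' : ℕ, n' < n → g'.natDegree = 2 * n' →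
        ∃ w : ℕ → Bool → ℕ, (∑ e ∈ Finset.range (n' + 1), e * (w e true + w e false) = n') ∧
          (∀ e ε, w e ε ≠ 0 → 1 ≤ e ∧ e ≤ n') ∧
          0 ≤ ∑ e ∈ Finset.range (n' + 1), (w e true + w e false) ∧
          ∀ m k : ℕ, (∀ e ε, w e ε ≠ 0 → tyN (Fintype.card F) e ε ∣ m) → (∀ e ε, w e ε ≤ k) →
            g' ∣ (X ^ m - 1 : F[X]) ^ k := by
      intro n' hn' hdn'
      obtain ⟨w, h1', h2', h3'⟩ := ih n' hn' g' hg'0 hr' hg'1 hg'm1 hdn'
      exact ⟨w, h1', h2', Nat.zero_le _, h3'⟩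
    rcases hcase with ⟨rfl, hfr, hdeg, hgeq, hcop, hdvdf⟩ | ⟨rfl, hass, hdeg, hgeq, hcop, hcopff, hPd⟩
    · obtain ⟨w, h1', h2', _, h3'⟩ := o9ustruct1_step (Fintype.card F) n g f g' e j false hg hd he hj hdeg
        hdvdf hgeq hcop 0 IH
      exact ⟨w, h1', h2', h3'⟩
    · have hndr : f.reverse.natDegree = f.natDegree := by
        rw [reverse_natDegree]
        have : f.natTrailingDegree = 0 := natTrailingDegree_eq_zero.mpr (Or.inr hf0)
        omega
      have hPdeg : (f * f.reverse).natDegree = 2 * e := by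
        have hrne : f.reverse ≠ 0 := by
          intro h
          have := hcopff
          rw [h] at this
          exact hf.not_isUnit (isCoprime_zero_right.mp this)
        rw [natDegree_mul hf.ne_zero hrne, hndr, hdeg]
        ring
      obtain ⟨w, h1', h2', _, h3'⟩ := o9ustruct1_step (Fintype.card F) n g (f * f.reverse) g' e j true hg hd
        he hj hPdeg hPd hgeq hcop 0 IH
      exact ⟨w, h1', h2', h3'⟩

end Cfsg.Agent.Lib.Helper19.O9U
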