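import Mathlib
import Cfsg.Agent.Lib.Helper19.O9U.Defs
import Cfsg.Agent.Lib.Helper19.O9USTRUCT1core

set_option autoImplicit false

/-!
# Project O9U (designer helper19), row SINGLE, core: `o9usingle_core` = `sr_single9` with the statements of the rows
RASSOC (`reverse_eq_of_assoc9`) and C4 (`irr_self_dvd9`) as hypotheses.
-/

namespace Cfsg.Agent.Lib.Helper19.O9U

open Polynomial

/-- a weight function with `Σ e * (..) = n' ≥ 1` has at least one factor -/
theorem o9usingle_cnt (n' : ℕ) (hn' : 1 ≤ n') (w : ℕ → Bool → ℕ)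
    (hsum : ∑ e ∈ Finset.range (n' + 1), e * (w e true + w e false) = n') :
    1 ≤ ∑ e ∈ Finset.range (n' + 1), (w e true + w e false) := by
  by_contra hcon
  have h0 : ∑ e ∈ Finset.range (n' + 1), (w e true + w e false) = 0 := by omega
  rw [Finset.sum_eq_zero_iff] at h0
  have : ∑ e ∈ Finset.range (n' + 1), e * (w e true + w e false) = 0 := by
    apply Finset.sum_eq_zero
    intro x hx
    rw [h0 x hx, mul_zero]
  omega

theorem o9usingle_core {F : Type*} [Field F] [Fintype F]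
    (hRA : ∀ f : F[X], f.eval 1 ≠ 0 → Associated f.reverse f → f.reverse = f)
    (hC4 : ∀ f : F[X], Irreducible f → f.coeff 0 ≠ 0 → f.reverse = f → f.eval 1 ≠ 0 →
      f.eval (-1) ≠ 0 →
      ∃ e : ℕ, 1 ≤ e ∧ f.natDegree = 2 * e ∧ f ∣ (X ^ (Fintype.card F ^ e + 1) - 1 : F[X]))
    (n : ℕ) (hn : 1 ≤ n) (g : F[X]) (hmon : g.Monic)
    (hr : g.reverse = g) (h1 : g.eval 1 ≠ 0) (hm1 : g.eval (-1) ≠ 0) (hd : g.natDegree = 2 * n) :
    Irreducible g ∨
    (∃ f₁ f₂ : F[X], Irreducible f₁ ∧ f₁.Monic ∧ f₂.Monic ∧ f₁.natDegree = n ∧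
      f₁.reverse = C (f₁.coeff 0) * f₂ ∧ f₁ ≠ f₂ ∧ g = f₁ * f₂) ∨
    ∃ w : ℕ → Bool → ℕ, (∑ e ∈ Finset.range (n + 1), e * (w e true + w e false) = n) ∧
      (∀ e ε, w e ε ≠ 0 → 1 ≤ e ∧ e ≤ n) ∧
      2 ≤ ∑ e ∈ Finset.range (n + 1), (w e true + w e false) ∧
      ∀ m k : ℕ, (∀ e ε, w e ε ≠ 0 → tyN (Fintype.card F) e ε ∣ m) → (∀ e ε, w e ε ≤ k) →
        g ∣ (X ^ m - 1 : F[X]) ^ k := by
  classical
  have hg : g ≠ 0 := hmon.ne_zero
  obtain ⟨f, j, g', e, ε, hf, hf0, hj, he, hg'0, hr', hg'1, hg'm1, hcase⟩ :=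
    o9ustruct1_peel hRA hC4 g hg hr h1 hm1 (by omega)
  -- the induction hypothesis with the count
  have IH : ∀ n' : ℕ, n' < n → g'.natDegree = 2 * n' →
      ∃ w : ℕ → Bool → ℕ, (∑ e ∈ Finset.range (n' + 1), e * (w e true + w e false) = n') ∧
        (∀ e ε, w e ε ≠ 0 → 1 ≤ e ∧ e ≤ n') ∧
        (if g'.natDegree = 0 then 0 else 1) ≤ ∑ e ∈ Finset.range (n' + 1), (w e true + w e false) ∧
        ∀ m k : ℕ, (∀ e ε, w e ε ≠ 0 → tyN (Fintype.card F) e ε ∣ m) → (∀ e ε, w e ε ≤ k) →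
          g' ∣ (X ^ m - 1 : F[X]) ^ k := by
    intro n' _ hdn'
    obtain ⟨w, h1', h2', h3'⟩ := o9ustruct1_core hRA hC4 n' g' hg'0 hr' hg'1 hg'm1 hdn'
    refine ⟨w, h1', h2', ?_, h3'⟩
    split_ifs with h0
    · exact Nat.zero_le _
    · exact o9usingle_cnt n' (by omega) w h1'
  -- the generic case: `2 ≤ j` or `g'` not constant
  have hgen : ∀ (P : F[X]) (ε : Bool), P.natDegree = 2 * e →
      P ∣ (X ^ (tyN (Fintype.card F) e ε) - 1 : F[X]) → g = P ^ j * g' → IsCoprime P g' →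
      (2 ≤ j ∨ g'.natDegree ≠ 0) →
      ∃ w : ℕ → Bool → ℕ, (∑ e ∈ Finset.range (n + 1), e * (w e true + w e false) = n) ∧
        (∀ e ε, w e ε ≠ 0 → 1 ≤ e ∧ e ≤ n) ∧
        2 ≤ ∑ e ∈ Finset.range (n + 1), (w e true + w e false) ∧
        ∀ m k : ℕ, (∀ e ε, w e ε ≠ 0 → tyN (Fintype.card F) e ε ∣ m) → (∀ e ε, w e ε ≤ k) →
          g ∣ (X ^ m - 1 : F[X]) ^ k := by
    intro P ε hPdeg hPd hgeq hcop hor
    obtain ⟨w, h1', h2', h3', h4'⟩ := o9ustruct1_step (Fintype.card F) n g P g' e j ε hg hd he hj hPdeg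
      hPd hgeq hcop _ IH
    refine ⟨w, h1', h2', le_trans ?_ h3', h4'⟩
    split_ifs with h0
    · rcases hor with h | h
      · omega
      · exact absurd h0 h
    · omega
  rcases hcase with ⟨rfl, hfr, hdeg, hgeq, hcop, hdvdf⟩ | ⟨rfl, hass, hdeg, hgeq, hcop, hcopff, hPd⟩
  · -- self-reciprocal factor
    by_cases hor : 2 ≤ j ∨ g'.natDegree ≠ 0
    · exact Or.inr (Or.inr (hgen f false hdeg hdvdf hgeq hcop hor))
    · left
      simp only [not_or, not_le, ne_eq, not_not] at hor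
      obtain ⟨hj2, hg'd⟩ := hor
      have hj1 : j = 1 := by omega
      subst hj1
      rw [pow_one] at hgeq
      have hu : IsUnit g' := by
        rw [eq_C_of_natDegree_eq_zero hg'd]
        apply isUnit_C.mpr
        rw [isUnit_iff_ne_zero]
        intro h
        apply hg'0
        rw [eq_C_of_natDegree_eq_zero hg'd, h, C_0]
      rw [hgeq]
      exact (irreducible_mul_isUnit hu).mpr hf
  · -- a pair
    have hrne : f.reverse ≠ 0 := by
      intro h
      have := hcopff
      rw [h] at this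
      exact hf.not_isUnit (isCoprime_zero_right.mp this)
    have hndr : f.reverse.natDegree = f.natDegree := by
      rw [reverse_natDegree]
      have : f.natTrailingDegree = 0 := natTrailingDegree_eq_zero.mpr (Or.inr hf0)
      omega
    have hPdeg : (f * f.reverse).natDegree = 2 * e := by
      rw [natDegree_mul hf.ne_zero hrne, hndr, hdeg]
      ring
    by_cases hor : 2 ≤ j ∨ g'.natDegree ≠ 0
    · exact Or.inr (Or.inr (hgen (f * f.reverse) true hPdeg hPd hgeq hcop hor))
    · right; left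
      simp only [not_or, not_le, ne_eq, not_not] at hor
      obtain ⟨hj2, hg'd⟩ := hor
      have hj1 : j = 1 := by omega
      subst hj1
      rw [pow_one] at hgeq
      -- `g' = C u`
      obtain ⟨u, hu⟩ : ∃ u : F, g' = C u := ⟨_, eq_C_of_natDegree_eq_zero hg'd⟩
      have hu0 : u ≠ 0 := by
        rintro rfl
        apply hg'0
        rw [hu, C_0]
      set a : F := f.leadingCoeff with ha
      set b : F := f.coeff 0 with hb
      have ha0 : a ≠ 0 := leadingCoeff_ne_zero.mpr hf.ne_zero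
      have hlr : f.reverse.leadingCoeff = b := by
        rw [reverse_leadingCoeff, trailingCoeff, natTrailingDegree_eq_zero.mpr (Or.inr hf0)]
      have hm1' : (f * C a⁻¹).Monic := monic_mul_leadingCoeff_inv hf.ne_zero
      have hm2' : (f.reverse * C b⁻¹).Monic := by
        have := monic_mul_leadingCoeff_inv hrne
        rwa [hlr] at this
      -- degree: `n = e`
      have hne : n = e := by
        have h2 : g.natDegree = (f * f.reverse).natDegree + g'.natDegree := by
          rw [hgeq, natDegree_mul (mul_ne_zero hf.ne_zero hrne) hg'0]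
        omega
      -- the constant is 1
      have hgeq2 : g = (f * C a⁻¹) * (f.reverse * C b⁻¹) * C (a * b * u) := by
        rw [hgeq, hu]
        have : C (a * b * u) = C a * C b * C u := by rw [C_mul, C_mul]
        rw [this]
        have h1 : (C a⁻¹ : F[X]) * C a = 1 := by rw [← C_mul, inv_mul_cancel₀ ha0, C_1]
        have h2 : (C b⁻¹ : F[X]) * C b = 1 := by rw [← C_mul, inv_mul_cancel₀ hf0, C_1]
        calc f * f.reverse * C u = f * ((C a⁻¹ : F[X]) * C a) * (f.reverse * ((C b⁻¹ : F[X]) * C b)) * C u := by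
              rw [h1, h2, mul_one, mul_one]
          _ = _ := by ring
      have hc1 : a * b * u = 1 := by
        have hmm : ((f * C a⁻¹) * (f.reverse * C b⁻¹)).Monic := hm1'.mul hm2'
        have := congrArg leadingCoeff hgeq2
        rw [hmon.leadingCoeff, leadingCoeff_mul, hmm.leadingCoeff, one_mul, leadingCoeff_C] at this
        exact this.symm
      rw [hc1, C_1, mul_one] at hgeq2
      refine ⟨f * C a⁻¹, f.reverse * C b⁻¹, ?_, hm1', hm2', ?_, ?_, ?_, hgeq2⟩
      · exact (irreducible_mul_isUnit (isUnit_C.mpr (isUnit_iff_ne_zero.mpr (inv_ne_zero ha0)))).mpr hf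
      · rw [natDegree_mul_C (inv_ne_zero ha0), hdeg, hne]
      · rw [reverse_mul_of_domain, reverse_C, mul_coeff_zero, coeff_C_zero, C_mul]
        have h2 : (C b : F[X]) * C b⁻¹ = 1 := by rw [← C_mul, mul_inv_cancel₀ hf0, C_1]
        calc f.reverse * C a⁻¹ = C a⁻¹ * ((C b : F[X]) * C b⁻¹) * f.reverse := by rw [h2]; ring
          _ = _ := by ring
      · intro heq
        apply hass
        have hunit : IsUnit (C (b⁻¹ * a) : F[X]) :=
          isUnit_C.mpr (isUnit_iff_ne_zero.mpr (mul_ne_zero (inv_ne_zero hf0) ha0))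
        refine ⟨hunit.unit, ?_⟩
        show f.reverse * C (b⁻¹ * a) = f
        have h1 : (C a⁻¹ : F[X]) * C a = 1 := by rw [← C_mul, inv_mul_cancel₀ ha0, C_1]
        calc f.reverse * C (b⁻¹ * a) = (f.reverse * C b⁻¹) * C a := by rw [C_mul]; ring
          _ = (f * C a⁻¹) * C a := by rw [heq]
          _ = f * ((C a⁻¹ : F[X]) * C a) := by ring
          _ = f := by rw [h1, mul_one]

end Cfsg.Agent.Lib.Helper19.O9U
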