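import Mathlib
import Cfsg.Agent.Lib.Helper19.O9U.Defs
import Cfsg.Agent.Lib.Helper19.O9USTRUCT1core
import Cfsg.Agent.Lib.Helper19.O9USINGLEcore
import Cfsg.Agent.Lib.Helper19.O9URASSOC
import Cfsg.Agent.Lib.Helper11.O9UC4

set_option autoImplicit false

/-!
# Project O9U (designer helper19), rows STRUCT1 (`sr_struct_aux9`) and SINGLE (`sr_single9`): the cores on the landed rows RASSOC and C4.
-/

namespace Cfsg.Agent.Lib.Helper19.O9U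

open Polynomial

theorem sr_struct_aux9 {F : Type*} [Field F] [Fintype F] (n : ℕ) (g : F[X]) (hg : g ≠ 0)
    (hr : g.reverse = g) (h1 : g.eval 1 ≠ 0) (hm1 : g.eval (-1) ≠ 0) (hd : g.natDegree = 2 * n) :
    ∃ w : ℕ → Bool → ℕ, (∑ e ∈ Finset.range (n + 1), e * (w e true + w e false) = n) ∧
      (∀ e ε, w e ε ≠ 0 → 1 ≤ e ∧ e ≤ n) ∧
      ∀ m k : ℕ, (∀ e ε, w e ε ≠ 0 → tyN (Fintype.card F) e ε ∣ m) → (∀ e ε, w e ε ≤ k) →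
        g ∣ (X ^ m - 1 : F[X]) ^ k :=
  o9ustruct1_core (fun f h1 h => reverse_eq_of_assoc9 f h1 h)
    (fun f hf h0 hr h1 hm1 => irr_self_dvd9 f hf h0 hr h1 hm1) n g hg hr h1 hm1 hd

theorem sr_single9 {F : Type*} [Field F] [Fintype F] (n : ℕ) (hn : 1 ≤ n) (g : F[X]) (hmon : g.Monic)
    (hr : g.reverse = g) (h1 : g.eval 1 ≠ 0) (hm1 : g.eval (-1) ≠ 0) (hd : g.natDegree = 2 * n) :
    Irreducible g ∨
    (∃ f₁ f₂ : F[X], Irreducible f₁ ∧ f₁.Monic ∧ f₂.Monic ∧ f₁.natDegree = n ∧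
      f₁.reverse = C (f₁.coeff 0) * f₂ ∧ f₁ ≠ f₂ ∧ g = f₁ * f₂) ∨
    ∃ w : ℕ → Bool → ℕ, (∑ e ∈ Finset.range (n + 1), e * (w e true + w e false) = n) ∧
      (∀ e ε, w e ε ≠ 0 → 1 ≤ e ∧ e ≤ n) ∧
      2 ≤ ∑ e ∈ Finset.range (n + 1), (w e true + w e false) ∧
      ∀ m k : ℕ, (∀ e ε, w e ε ≠ 0 → tyN (Fintype.card F) e ε ∣ m) → (∀ e ε, w e ε ≤ k) →
        g ∣ (X ^ m - 1 : F[X]) ^ k :=
  o9usingle_core (fun f h1 h => reverse_eq_of_assoc9 f h1 h)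
    (fun f hf h0 hr h1 hm1 => irr_self_dvd9 f hf h0 hr h1 hm1) n hn g hmon hr h1 hm1 hd

end Cfsg.Agent.Lib.Helper19.O9U
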