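import Mathlib
import Cfsg.Prelude.Def_Classical
import Cfsg.Prelude.Def_GeometricClasses
import Cfsg.Agent.Lib.Helper19.O9U.Defs
import Cfsg.Agent.Lib.Helper19.O9USTRUCT1
import Cfsg.Agent.Lib.Helper19.O9UDVD3
import Cfsg.Agent.Lib.helper2.O9UARITHH

set_option autoImplicit false

/-!
# Project O9U (designer helper19), row UPPER, core: `o9uupper_core` = `omega9_upper` with the statements of the rows
PEELPM (`peel_pm`), G1 (`charpoly_reverse9`, `d = 4`), ARITH (`arith9`), of helper11's `O9M.o9m_main` (specialised) and of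
helper16's `O9H.o9h_plus` / `O9H.o9h_minus` as hypotheses.  Landed rows STRUCT1, SINGLE, DVD3, C2, ARITHH are cited.
-/

namespace Cfsg.Agent.Lib.Helper19.O9U

open Polynomial

local notation "J9" => (Unit ⊕ (Fin 4 ⊕ Fin 4))

/-- extend a sum over `range (r + 1)` to `range 5` when the terms vanish beyond `r` -/
theorem o9uupper_sum_ext (r : ℕ) (hr : r ≤ 4) (f : ℕ → ℕ) (h0 : ∀ e, r < e → f e = 0) :
    ∑ e ∈ Finset.range 5, f e = ∑ e ∈ Finset.range (r + 1), f e := by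
  symm
  apply Finset.sum_subset
  · intro x hx
    rw [Finset.mem_range] at hx ⊢
    omega
  · intro x _ hx
    rw [Finset.mem_range] at hx
    exact h0 x (by omega)

theorem o9uupper_core {F : Type*} [Field F] [Fintype F] (hF : Odd (Fintype.card F)) (p : ℕ) [Fact p.Prime]
    [CharP F p]
    (hPEEL : ∀ χ : F[X], χ ≠ 0 → χ.reverse = -χ → Odd χ.natDegree →
      ∃ (a c : ℕ) (ρ : F[X]), χ = (X - 1) ^ a * ((X + 1) ^ c * ρ) ∧ Odd a ∧ Even c ∧ ρ.eval 1 ≠ 0 ∧
        ρ.eval (-1) ≠ 0 ∧ ρ.reverse = ρ ∧ Even ρ.natDegree)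
    (hG1 : ∀ x : GL J9 F, x ∈ Cfsg.Geo.omegaGL (Cfsg.quadFormOdd 4 F) →
      (x : Matrix J9 J9 F).charpoly.reverse = -(x : Matrix J9 J9 F).charpoly)
    (hARITH : ∀ (a c : ℕ) (w : ℕ → Bool → ℕ), Odd a → Even c →
      a + c + 2 * ∑ e ∈ Finset.range 5, e * (w e true + w e false) = 9 →
      (∀ e ε, w e ε ≠ 0 → 1 ≤ e ∧ e ≤ 4) →
      (c ≠ 0 ∨ ∑ e ∈ Finset.range 5, (w e true + w e false) ≠ 1) →
      ∃ N, InT9 (Fintype.card F) p N ∧ ∃ m t : ℕ, m * p ^ t ∣ N ∧
        (∀ e ε, w e ε ≠ 0 → tyN (Fintype.card F) e ε ∣ m) ∧ (c ≠ 0 → 2 ∣ m) ∧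
        a ≤ p ^ t ∧ c ≤ p ^ t + 1 ∧ ∀ e ε, w e ε ≤ p ^ t)
    (hM : ∀ x : GL J9 F, x ∈ Cfsg.Geo.omegaGL (Cfsg.quadFormOdd 4 F) → ∀ (b : ℕ) (r : F[X]),
      (x : Matrix J9 J9 F).charpoly = (X + 1) ^ b * r → r.eval (-1) ≠ 0 → Even b → 2 ≤ b →
      aeval (x : Matrix J9 J9 F) ((X + 1) ^ (b - 1) * r) = 0)
    (hHp : ∀ x : GL J9 F, x ∈ Cfsg.Geo.omegaGL (Cfsg.quadFormOdd 4 F) → ∀ (a e : ℕ), 1 ≤ e →
      ∀ f₁ f₂ : F[X], Irreducible f₁ → f₁.Monic → f₂.Monic → f₁.natDegree = e →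
      f₁.reverse = C (f₁.coeff 0) * f₂ → f₁ ≠ f₂ →
      (x : Matrix J9 J9 F).charpoly = (X - 1) ^ a * (f₁ * f₂) →
      ∀ m : ℕ, 2 * m = Fintype.card F ^ e - 1 → f₁ * f₂ ∣ (X ^ m - 1 : F[X]))
    (hHm : ∀ x : GL J9 F, x ∈ Cfsg.Geo.omegaGL (Cfsg.quadFormOdd 4 F) → ∀ (a e : ℕ), 1 ≤ e →
      ∀ f : F[X], Irreducible f → f.reverse = f → f.natDegree = 2 * e →
      (x : Matrix J9 J9 F).charpoly = (X - 1) ^ a * f →
      ∀ m : ℕ, 2 * m = Fintype.card F ^ e + 1 → f ∣ (X ^ m - 1 : F[X]))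
    (x : GL J9 F) (hx : x ∈ Cfsg.Geo.omegaGL (Cfsg.quadFormOdd 4 F)) :
    ∃ N, InT9 (Fintype.card F) p N ∧ orderOf x ∣ N := by
  classical
  have hp : p.Prime := Fact.out
  -- `2 ≠ 0`, `p ≥ 3`, `q ≥ 3`
  have hpq : p ∣ Fintype.card F := by
    have h0 : ((Fintype.card F : ℕ) : F) = 0 := Nat.cast_card_eq_zero F
    exact (CharP.cast_eq_zero_iff F p _).mp h0
  have hp2 : p ≠ 2 := by
    rintro rfl
    obtain ⟨k, hk⟩ := hF
    omega
  have hp3 : 3 ≤ p := by
    have := hp.two_le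
    omega
  have hq3 : 3 ≤ Fintype.card F := le_trans hp3 (Nat.le_of_dvd Fintype.card_pos hpq)
  have h2 : (2 : F) ≠ 0 := by
    intro h
    have h' : ((2 : ℕ) : F) = 0 := by exact_mod_cast h
    have hd : p ∣ 2 := (CharP.cast_eq_zero_iff F p 2).mp h'
    have := Nat.le_of_dvd (by norm_num) hd
    omega
  obtain ⟨A, hA⟩ : ∃ A : Matrix J9 J9 F, A = (x : Matrix J9 J9 F) := ⟨_, rfl⟩
  have hmon : A.charpoly.Monic := Matrix.charpoly_monic A
  have hdeg : A.charpoly.natDegree = 9 := by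
    rw [Matrix.charpoly_natDegree_eq_dim]
    simp
  have hrevA : A.charpoly.reverse = -A.charpoly := by
    rw [hA]
    exact hG1 x hx
  have hoddA : Odd A.charpoly.natDegree := by
    rw [hdeg]
    exact ⟨4, by norm_num⟩
  obtain ⟨a, c, ρ, hχ, ha, hc, hρ1, hρm1, hρr, hρe⟩ := hPEEL A.charpoly hmon.ne_zero hrevA hoddA
  have hρ0 : ρ ≠ 0 := by
    rintro rfl
    rw [eval_zero] at hρ1
    exact hρ1 rfl
  have hmon1 : ((X - 1 : F[X]) ^ a).Monic := by
    have := (monic_X_sub_C (1 : F)).pow a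
    rwa [C_1] at this
  have hmon2 : ((X + 1 : F[X]) ^ c).Monic := by
    have := (monic_X_add_C (1 : F)).pow c
    rwa [C_1] at this
  have hρmon : ρ.Monic := by
    have h3 : ((X + 1 : F[X]) ^ c * ρ).Monic := by
      apply Monic.of_mul_monic_left hmon1
      rw [← hχ]
      exact hmon
    exact Monic.of_mul_monic_left hmon2 h3
  obtain ⟨r, hr⟩ := hρe
  have hsum : a + c + 2 * r = 9 := by
    have h3 : A.charpoly.natDegree = a + (c + ρ.natDegree) := by
      conv_lhs => rw [hχ]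
      rw [Monic.natDegree_mul hmon1 (hmon2.mul hρmon), Monic.natDegree_mul hmon2 hρmon]
      have e1 : (X - 1 : F[X]).natDegree = 1 := by
        have := natDegree_X_sub_C (1 : F)
        rwa [C_1] at this
      have e2 : (X + 1 : F[X]).natDegree = 1 := by
        have := natDegree_X_add_C (1 : F)
        rwa [C_1] at this
      rw [natDegree_pow, natDegree_pow, e1, e2]
      ring
    omega
  have hρd : ρ.natDegree = 2 * r := by omega
  -- order from a power
  have hord : ∀ M : ℕ, A ^ M = 1 → orderOf x ∣ M := by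
    intro M hM
    apply orderOf_dvd_of_pow_eq_one
    apply Units.ext
    rw [Units.val_pow_eq_pow_val, ← hA]
    exact hM
  -- the generic finish
  have hfinish : ∀ w : ℕ → Bool → ℕ,
      (∑ e ∈ Finset.range (r + 1), e * (w e true + w e false) = r) →
      (∀ e ε, w e ε ≠ 0 → 1 ≤ e ∧ e ≤ r) →
      (c ≠ 0 ∨ ∑ e ∈ Finset.range (r + 1), (w e true + w e false) ≠ 1) →
      (∀ m k : ℕ, (∀ e ε, w e ε ≠ 0 → tyN (Fintype.card F) e ε ∣ m) → (∀ e ε, w e ε ≤ k) →
        ρ ∣ (X ^ m - 1 : F[X]) ^ k) →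
      ∃ N, InT9 (Fintype.card F) p N ∧ orderOf x ∣ N := by
    intro w hs hsupp hns hdvd
    have hr4 : r ≤ 4 := by omega
    have hw0 : ∀ e, r < e → ∀ ε, w e ε = 0 := by
      intro e he ε
      by_contra h
      have := (hsupp e ε h).2
      omega
    have hs5 : ∑ e ∈ Finset.range 5, e * (w e true + w e false) = r := by
      rw [o9uupper_sum_ext r hr4 (fun e => e * (w e true + w e false))
        (fun e he => by simp only [hw0 e he, add_zero, mul_zero])]
      exact hs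
    have hc5 : ∑ e ∈ Finset.range 5, (w e true + w e false) =
        ∑ e ∈ Finset.range (r + 1), (w e true + w e false) :=
      o9uupper_sum_ext r hr4 (fun e => w e true + w e false)
        (fun e he => by simp only [hw0 e he, add_zero])
    obtain ⟨N, hN, m, t, hmt, htyN, hcm, hat, hct, hwt⟩ := hARITH a c w ha hc (by rw [hs5]; omega)
      (fun e ε h => ⟨(hsupp e ε h).1, by have := (hsupp e ε h).2; omega⟩) (by rw [hc5]; exact hns)
    refine ⟨N, hN, dvd_trans (hord (m * p ^ t) ?_) hmt⟩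
    have hρdvd := hdvd m (p ^ t) htyN hwt
    rcases Nat.eq_zero_or_pos c with hc0 | hcpos
    · have h3 : A.charpoly ∣ (X ^ m - 1 : F[X]) ^ (p ^ t) := by
        rw [hχ]
        exact dvd3 h2 a c m (p ^ t) ρ hρ1 hρm1 hat (by omega) hcm hρdvd
      exact pow_eq_one_of_dvd9 p A A.charpoly (Matrix.aeval_self_charpoly A) m t h3
    · have hc2 : 2 ≤ c := by
        obtain ⟨k, hk⟩ := hc
        omega
      have hχ' : A.charpoly = (X + 1) ^ c * ((X - 1) ^ a * ρ) := by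
        rw [hχ]
        ring
      have hr' : ((X - 1 : F[X]) ^ a * ρ).eval (-1) ≠ 0 := by
        rw [eval_mul, eval_pow, eval_sub, eval_X, eval_one]
        apply mul_ne_zero (pow_ne_zero _ _) hρm1
        intro h
        apply h2
        have : (2 : F) = -((-1 : F) - 1) := by norm_num
        rw [this, h, neg_zero]
      have hann : aeval A ((X + 1 : F[X]) ^ (c - 1) * ((X - 1) ^ a * ρ)) = 0 := by
        rw [hA] at hχ' ⊢
        exact hM x hx c _ hχ' hr' hc hc2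
      have h3 : (X + 1 : F[X]) ^ (c - 1) * ((X - 1) ^ a * ρ) ∣ (X ^ m - 1 : F[X]) ^ (p ^ t) := by
        have h4 := dvd3 h2 a (c - 1) m (p ^ t) ρ hρ1 hρm1 hat (by omega)
          (fun _ => hcm (by omega)) hρdvd
        have e : (X + 1 : F[X]) ^ (c - 1) * ((X - 1) ^ a * ρ) =
            (X - 1) ^ a * ((X + 1) ^ (c - 1) * ρ) := by ring
        rw [e]
        exact h4
      exact pow_eq_one_of_dvd9 p A _ hann m t h3
  -- case split
  by_cases hsingle : c = 0 ∧ 1 ≤ r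
  · obtain ⟨hc0, hr1⟩ := hsingle
    have hχ2 : A.charpoly = (X - 1) ^ a * ρ := by
      rw [hχ, hc0, pow_zero, one_mul]
    rcases sr_single9 r hr1 ρ hρmon hρr hρ1 hρm1 hρd with
      hirr | ⟨f₁, f₂, hf₁, hm₁, hm₂, hd₁, hrev, hne, hρeq⟩ | ⟨w, hs, hsupp, hcnt, hdvd⟩
    · -- minus halving
      obtain ⟨N, hN, t, hdvdN, hat⟩ :=
        arith9_halv (Fintype.card F) p hF hq3 hp hp3 a r hr1 (by omega) false
      obtain ⟨m, hm⟩ : ∃ m, 2 * m = Fintype.card F ^ r + 1 := by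
        obtain ⟨k, hk⟩ := (hF.pow : Odd (Fintype.card F ^ r))
        exact ⟨k + 1, by omega⟩
      have hm2 : tyN (Fintype.card F) r false / 2 = m := by
        rw [tyN_false]
        omega
      rw [hm2, mul_comm] at hdvdN
      refine ⟨N, hN, dvd_trans (hord (m * p ^ t) ?_) hdvdN⟩
      have hρdvd : ρ ∣ (X ^ m - 1 : F[X]) := by
        rw [hA] at hχ2
        exact hHm x hx a r hr1 ρ hirr hρr hρd hχ2 m hm
      have h3 : A.charpoly ∣ (X ^ m - 1 : F[X]) ^ (p ^ t) := by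
        rw [hχ]
        exact dvd3 h2 a c m (p ^ t) ρ hρ1 hρm1 hat (by omega) (fun h => absurd hc0 h)
          (dvd_pow hρdvd (pow_ne_zero t hp.ne_zero))
      exact pow_eq_one_of_dvd9 p A A.charpoly (Matrix.aeval_self_charpoly A) m t h3
    · -- plus halving
      obtain ⟨N, hN, t, hdvdN, hat⟩ :=
        arith9_halv (Fintype.card F) p hF hq3 hp hp3 a r hr1 (by omega) true
      obtain ⟨m, hm⟩ : ∃ m, 2 * m = Fintype.card F ^ r - 1 := by
        obtain ⟨k, hk⟩ := (hF.pow : Odd (Fintype.card F ^ r))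
        exact ⟨k, by omega⟩
      have hm2 : tyN (Fintype.card F) r true / 2 = m := by
        rw [tyN_true]
        omega
      rw [hm2, mul_comm] at hdvdN
      refine ⟨N, hN, dvd_trans (hord (m * p ^ t) ?_) hdvdN⟩
      have hρdvd : ρ ∣ (X ^ m - 1 : F[X]) := by
        rw [hA] at hχ2
        rw [hρeq]
        exact hHp x hx a r hr1 f₁ f₂ hf₁ hm₁ hm₂ hd₁ hrev hne (by rw [hχ2, hρeq]) m hm
      have h3 : A.charpoly ∣ (X ^ m - 1 : F[X]) ^ (p ^ t) := by
        rw [hχ]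
        exact dvd3 h2 a c m (p ^ t) ρ hρ1 hρm1 hat (by omega) (fun h => absurd hc0 h)
          (dvd_pow hρdvd (pow_ne_zero t hp.ne_zero))
      exact pow_eq_one_of_dvd9 p A A.charpoly (Matrix.aeval_self_charpoly A) m t h3
    · exact hfinish w hs hsupp (Or.inr (by omega)) hdvd
  · obtain ⟨w, hs, hsupp, hdvd⟩ := sr_struct_aux9 r ρ hρ0 hρr hρ1 hρm1 hρd
    apply hfinish w hs hsupp ?_ hdvd
    by_cases hc0 : c = 0
    · right
      have hr0 : r = 0 := by
        by_contra h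
        exact hsingle ⟨hc0, by omega⟩
      subst hr0
      have h0 : ∀ ε, w 0 ε = 0 := by
        intro ε
        by_contra h
        have := (hsupp 0 ε h).1
        omega
      simp [h0]
    · exact Or.inl hc0

end Cfsg.Agent.Lib.Helper19.O9U
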