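import Mathlib
import Cfsg.Prelude.Def_Classical
import Cfsg.Prelude.Def_GeometricClasses
import Cfsg.Agent.Lib.Helper19.O9U.Defs
import Cfsg.Agent.Lib.Helper19.O9UUPPERcore
import Cfsg.Agent.Lib.Helper9.O9UG1
import Cfsg.Agent.Lib.Helper9.O9UPEELPM
import Cfsg.Agent.Lib.Helper20.O9UARITH
import Cfsg.Agent.Lib.Helper11.O9MWRAP
import Cfsg.Agent.Lib.Helper16.OA25
import Cfsg.Agent.Lib.helper15.S5972STDCTX

set_option autoImplicit false

/-!
# Project O9U (designer helper19), row UPPER on the statements of helper16's O9H only: `o9uupper_of_o9h`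
(all other rows are landed and cited).
-/

namespace Cfsg.Agent.Lib.Helper19.O9U

open Polynomial

local notation "J9" => (Unit ⊕ (Fin 4 ⊕ Fin 4))

/-- the `(X + 1)`-refinement (helper11's `o9m_main`) for elements of `Ω₉(q)` -/
theorem o9uupper_o9m {F : Type*} [Field F] (h2 : (2 : F) ≠ 0) (x : GL J9 F)
    (hx : x ∈ Cfsg.Geo.omegaGL (Cfsg.quadFormOdd 4 F)) (b : ℕ) (r : F[X])
    (hχ : (x : Matrix J9 J9 F).charpoly = (X + 1) ^ b * r) (hr : r.eval (-1) ≠ 0) (hb : Even b)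
    (hb2 : 2 ≤ b) : aeval (x : Matrix J9 J9 F) ((X + 1) ^ (b - 1) * r) = 0 := by
  have hQ : ∀ v, (∀ y, QuadraticMap.polar (⇑(Cfsg.Agent.Lib.Helper16.qfOdd 4 F)) v y = 0) → v = 0 := by
    intro v hv
    have h := Cfsg.Agent.Lib.Helper16.OA.qfOdd_nondeg (F := F) 4 h2
    exact h.1 v (fun y => by rw [QuadraticMap.polarBilin_apply_apply]; exact hv y)
  have hiso : x ∈ Cfsg.isometryGroup F (⇑(Cfsg.Agent.Lib.Helper16.qfOdd 4 F)) :=
    Cfsg.Agent.Lib.helper15.S5972.omegaGL_le 4 x hx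
  exact Cfsg.Agent.Lib.Helper11.O9M.o9m_main h2 (Cfsg.Agent.Lib.Helper16.qfOdd 4 F) hQ x hiso b r hχ hr hb hb2

theorem o9uupper_of_o9h {F : Type*} [Field F] [Fintype F] (hF : Odd (Fintype.card F)) (p : ℕ) [Fact p.Prime]
    [CharP F p]
    (hHp : ∀ x : GL J9 F, x ∈ Cfsg.Geo.omegaGL (Cfsg.quadFormOdd 4 F) → ∀ (a e : ℕ), 1 ≤ e →
      ∀ f₁ f₂ : F[X], Irreducible f₁ → f₁.Monic → f₂.Monic → f₁.natDegree = e →
      f₁.reverse = C (f₁.coeff 0) * f₂ → f₁ ≠ f₂ →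
      (x : Matrix J9 J9 F).charpoly = (X - 1) ^ a * (f₁ * f₂) →
      ∀ m : ℕ, 2 * m = Fintype.card F ^ e - 1 → f₁ * f₂ ∣ (X ^ m - 1 : F[X]))
    (hHm : ∀ x : GL J9 F, x ∈ Cfsg.Geo.omegaGL (Cfsg.quadFormOdd 4 F) → ∀ (a e : ℕ), 1 ≤ e →
      ∀ f : F[X], Irreducible f → f.reverse = f → f.natDegree = 2 * e →
      (x : Matrix J9 J9 F).charpoly = (X - 1) ^ a * f →
      ∀ m : ℕ, 2 * m = Fintype.card F ^ e + 1 → f ∣ (X ^ m - 1 : F[X]))
    (x : GL J9 F) (hx : x ∈ Cfsg.Geo.omegaGL (Cfsg.quadFormOdd 4 F)) :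
    ∃ N, InT9 (Fintype.card F) p N ∧ orderOf x ∣ N := by
  have hp : p.Prime := Fact.out
  have hpq : p ∣ Fintype.card F := by
    have h0 : ((Fintype.card F : ℕ) : F) = 0 := Nat.cast_card_eq_zero F
    exact (CharP.cast_eq_zero_iff F p _).mp h0
  have hp2 : p ≠ 2 := by
    rintro rfl
    obtain ⟨k, hk⟩ := hF
    omega
  have hp3 : 3 ≤ p := by
    have := hp.two_le
    omega
  have hq3 : 3 ≤ Fintype.card F := le_trans hp3 (Nat.le_of_dvd Fintype.card_pos hpq)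
  have h2 : (2 : F) ≠ 0 := by
    intro h
    have h' : ((2 : ℕ) : F) = 0 := by exact_mod_cast h
    have hd : p ∣ 2 := (CharP.cast_eq_zero_iff F p 2).mp h'
    have := Nat.le_of_dvd (by norm_num) hd
    omega
  exact o9uupper_core hF p (fun χ h1 h3 h4 => peel_pm h2 χ h1 h3 h4)
    (fun x hx => charpoly_reverse9 h2 4 x hx)
    (fun a c w h1 h3 h4 h5 h6 => arith9 (Fintype.card F) p hF hq3 hp hp3 a c w h1 h3 h4 h5 h6)
    (fun x hx b r h1 h3 h4 h5 => o9uupper_o9m h2 x hx b r h1 h3 h4 h5) hHp hHm x hx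

end Cfsg.Agent.Lib.Helper19.O9U
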