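import Mathlib
import Cfsg.Prelude.Def_Classical
import Cfsg.Prelude.Def_GeometricClasses
import Cfsg.Agent.Lib.Helper19.O9U.Defs
import Cfsg.Agent.Lib.Helper19.O9UUPPERh
import Cfsg.Agent.Lib.Helper16.O9H.Main
import Cfsg.Agent.Lib.Helper26.O9UMAIN9core

set_option autoImplicit false

/-!
# Project O9U (designer helper19), rows UPPER (`omega9_upper`) and MAIN9 (`o9u_main`): every element order of `Ω₉(q)`, `q` odd,
divides some `N` with `InT9 q p N`.  (`o9uupper_of_o9h` on helper16's `o9h_plus`, `o9h_minus`; helper26's `o9umain9_core`.)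
-/

namespace Cfsg.Agent.Lib.Helper19.O9U

open Polynomial

theorem omega9_upper {F : Type*} [Field F] [Fintype F] (hF : Odd (Fintype.card F)) (p : ℕ) [Fact p.Prime]
    [CharP F p] (x : GL I9 F) (hx : x ∈ Cfsg.Geo.omegaGL (Cfsg.quadFormOdd 4 F)) :
    ∃ N, InT9 (Fintype.card F) p N ∧ orderOf x ∣ N :=
  o9uupper_of_o9h hF p
    (fun x hx a e he f₁ f₂ h1 h2 h3 h4 h5 h6 h7 m hm =>
      Cfsg.Agent.Lib.Helper16.O9H.o9h_plus hF 4 x hx a e he f₁ f₂ h1 h2 h3 h4 h5 h6 h7 m hm)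
    (fun x hx a e he f h1 h2 h3 h4 m hm =>
      Cfsg.Agent.Lib.Helper16.O9H.o9h_minus hF 4 x hx a e he f h1 h2 h3 h4 m hm) x hx

theorem o9u_main {F : Type*} [Field F] [Fintype F] (hF : Odd (Fintype.card F)) (p : ℕ) [Fact p.Prime]
    [CharP F p] (x : Cfsg.POmega F (Cfsg.quadFormOdd 4 F)) :
    ∃ N, InT9 (Fintype.card F) p N ∧ orderOf x ∣ N :=
  o9umain9_core hF p (fun x hx => omega9_upper hF p x hx) x

end Cfsg.Agent.Lib.Helper19.O9U
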