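import Mathlib
import Cfsg.Agent.Lib.Helper1.OMO.Defs
import Cfsg.Agent.Lib.helper14.JTc

set_option autoImplicit false
set_option linter.unusedVariables false
set_option linter.unusedSectionVars false

/-!
# Project OMO, row HALF (helper19): `N = x - 1`, `N² = 0`: `N W` is totally singular of dimension `finrank W - dk 1`.
-/

namespace Cfsg.Agent.Lib.Helper1.OMO

open Module Cfsg.Agent.Lib.helper14.JTa Cfsg.Agent.Lib.Helper9.OPH

variable {F : Type*} [Field F] {ι : Type} [Fintype ι] [DecidableEq ι]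

/-- `Q (N w) = 0` when `x = 1 + N` is an isometry and `N² = 0` -/
theorem omohalf_sing (h2 : (2 : F) ≠ 0) (Q : QuadraticForm F (ι → F)) (x : Matrix ι ι F)
    (hx : ∀ v, Q (x.mulVec v) = Q v) (hK : (x - 1) ^ 2 = 0) (w : ι → F) :
    Q ((x - 1).mulVec w) = 0 := by
  set n : ι → F := (x - 1).mulVec w with hn
  have hnn : (x - 1).mulVec n = 0 := by
    rw [hn, Matrix.mulVec_mulVec, ← pow_two, hK, Matrix.zero_mulVec]
  have hxw : x.mulVec w = w + n := by
    rw [hn, Matrix.sub_mulVec, Matrix.one_mulVec]; abel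
  have hxn : x.mulVec n = n := by
    have h := hnn
    rw [Matrix.sub_mulVec, Matrix.one_mulVec, sub_eq_zero] at h
    exact h
  have h1 : Q (w + n) = Q w := by rw [← hxw, hx]
  have h2' : Q (w - n) = Q w := by
    have h : x.mulVec (w - n) = w := by
      rw [Matrix.mulVec_sub, hxw, hxn]; abel
    rw [← hx (w - n), h]
  have e1 : Q (w + n) = Q w + Q n + QuadraticMap.polar (⇑Q) w n := by
    unfold QuadraticMap.polar
    ring
  have e2 : Q (w - n) = Q w + Q n - QuadraticMap.polar (⇑Q) w n := by
    have h5 : Q (w + -n) = Q w + Q (-n) + QuadraticMap.polar (⇑Q) w (-n) := by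
      unfold QuadraticMap.polar
      ring
    rw [sub_eq_add_neg, h5, QuadraticMap.map_neg, QuadraticMap.polar_neg_right]
    ring
  have h3 : (2 : F) * Q n = 0 := by
    linear_combination h1 + h2' - e1 - e2
  rcases mul_eq_zero.mp h3 with h | h
  · exact absurd h h2
  · exact h

/-- HALF [M] -/
theorem omo_half (h2 : (2 : F) ≠ 0) (Q : QuadraticForm F (ι → F)) (x : Matrix ι ι F)
    (hx : ∀ v, Q (x.mulVec v) = Q v) (hK : (x - 1) ^ 2 = 0) (W : Submodule F (ι → F))
    (hN : ∀ v ∈ W, (Matrix.toLin' x - 1) v ∈ W)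
    (hdim : 2 * dk ((Matrix.toLin' x - 1).restrict hN) 1 = finrank F W) :
    Cfsg.Geo.IsPlusTypeOn (⇑Q) W := by
  classical
  set N : Module.End F (ι → F) := Matrix.toLin' x - 1 with hNdef
  have hNmul : ∀ w, N w = (x - 1).mulVec w := by
    intro w
    rw [hNdef, LinearMap.sub_apply, Matrix.toLin'_apply, Module.End.one_apply, Matrix.sub_mulVec,
      Matrix.one_mulVec]
  refine ⟨W.map N, ?_, ?_, ?_⟩
  · rintro _ ⟨w, hw, rfl⟩
    exact hN w hw
  · rintro _ ⟨w, hw, rfl⟩
    rw [hNmul]
    exact omohalf_sing h2 Q x hx hK w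
  · set f : ↥W →ₗ[F] ↥W := N.restrict hN with hf
    have hrn := LinearMap.finrank_range_add_finrank_ker f
    have hdk : dk f 1 = finrank F (LinearMap.ker f) := by
      unfold dk
      rw [pow_one]
    have hcomp : W.subtype ∘ₗ f = N.domRestrict W := by
      ext w
      rfl
    have hmap : (LinearMap.range f).map W.subtype = W.map N := by
      rw [← LinearMap.range_comp, hcomp, LinearMap.range_domRestrict]
    have hfr : finrank F ↥(W.map N) = finrank F ↥(LinearMap.range f) := by
      rw [← hmap]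
      exact (Submodule.equivMapOfInjective W.subtype W.subtype_injective _).finrank_eq.symm
    rw [hdk] at hdim
    omega

end Cfsg.Agent.Lib.Helper1.OMO
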