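import Mathlib
import Cfsg.Agent.Lib.Helper1.OMO.Defs
import Cfsg.Agent.Lib.helper14.JTc
import Cfsg.Agent.Lib.Helper19.OMOHALF

set_option autoImplicit false
set_option linter.unusedVariables false
set_option linter.unusedSectionVars false

/-!
# Project OMO, row TYPE2, core (helper19): the element of type `(2^n, 1, 1)`, `n` even; the conclusion of NEC is a hypothesis.
-/

namespace Cfsg.Agent.Lib.Helper1.OMO

open Module Cfsg.Agent.Lib.helper14.JTa Cfsg.Agent.Lib.Helper9.OPH

variable {F : Type*} [Field F] {ι : Type} [Fintype ι] [DecidableEq ι]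

theorem omotype2_sum (ν : Multiset ℕ) (h : ∀ a ∈ ν, a = 1 ∨ a = 2) :
    ν.sum = 2 * ν.count 2 + ν.count 1 := by
  induction ν using Multiset.induction_on with
  | empty => simp
  | cons a s ih =>
    have hs : ∀ b ∈ s, b = 1 ∨ b = 2 := fun b hb => h b (Multiset.mem_cons_of_mem hb)
    have ha := h a (Multiset.mem_cons_self a s)
    rw [Multiset.sum_cons, ih hs]
    rcases ha with rfl | rfl
    · rw [Multiset.count_cons_self, Multiset.count_cons_of_ne (by norm_num)]
      ring
    · rw [Multiset.count_cons_self, Multiset.count_cons_of_ne (by norm_num)]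
      ring

theorem omotype2_ty_two (n : ℕ) : ty (Multiset.replicate n 2 + {1, 1}) 2 = 2 * n + 2 := by
  unfold ty
  rw [Multiset.map_add, Multiset.sum_add, Multiset.map_replicate, Multiset.sum_replicate]
  simp
  ring

/-- the matrix `(x - 1)^2` vanishes -/
theorem omotype2_sq (x : Matrix ι ι F) (n : ℕ) (hcard : Fintype.card ι = 2 * n + 2)
    (hty : ∀ k, dk (Matrix.toLin' x - 1) k = ty (Multiset.replicate n 2 + {1, 1}) k) :
    (x - 1) ^ 2 = 0 := by
  have h1 : dk (Matrix.toLin' x - 1) 2 = finrank F (ι → F) := by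
    rw [hty, omotype2_ty_two, Module.finrank_fintype_fun_eq_card, hcard]
  have h2 := pow_eq_zero_of_dk _ 2 h1
  have h3 : Matrix.toLin' x - 1 = Matrix.toLin' (x - 1) := by
    rw [map_sub, Matrix.toLin'_one]
    rfl
  rw [h3, ← Matrix.toLin'_pow] at h2
  exact (Matrix.toLin' (R := F) (m := ι) (n := ι)).injective (by rw [h2, map_zero])

theorem omotype2_core (h2 : (2 : F) ≠ 0) (Q : QuadraticForm F (ι → F)) (x : Matrix ι ι F)
    (hx : ∀ v, Q (x.mulVec v) = Q v) (n : ℕ) (hn : Even n) (hcard : Fintype.card ι = 2 * n + 2)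
    (hty : ∀ k, dk (Matrix.toLin' x - 1) k = ty (Multiset.replicate n 2 + {1, 1}) k)
    (W : Submodule F (ι → F)) (hWe : Even (finrank F W))
    (hN : ∀ v ∈ W, (Matrix.toLin' x - 1) v ∈ W)
    (hnec : ∃ ν : Multiset ℕ, ν ≤ Multiset.replicate n 2 + {1, 1} ∧ ν.sum = finrank F W ∧
      (∀ e : ℕ, Even e → Even (ν.count e)) ∧
      ∀ k, ν.count (k + 1) + dk ((Matrix.toLin' x - 1).restrict hN) k +
        dk ((Matrix.toLin' x - 1).restrict hN) (k + 2)
        = 2 * dk ((Matrix.toLin' x - 1).restrict hN) (k + 1))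
    (hnot : ¬ Cfsg.Geo.IsPlusTypeOn (⇑Q) W) : finrank F W % 4 = 2 := by
  classical
  have hK : (x - 1) ^ 2 = 0 := omotype2_sq x n hcard hty
  obtain ⟨ν, hνμ, hνs, hνe, hcnt⟩ := hnec
  have hmem : ∀ a ∈ ν, a = 1 ∨ a = 2 := by
    intro a ha
    have := Multiset.mem_of_le hνμ ha
    rw [Multiset.mem_add] at this
    rcases this with h | h
    · right; exact Multiset.eq_of_mem_replicate h
    · left
      simp at h
      exact h
  have hsum := omotype2_sum ν hmem
  have hc1 : ν.count 1 ≤ 2 := by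
    have := Multiset.count_le_of_le 1 hνμ
    rw [Multiset.count_add, Multiset.count_replicate] at this
    simp at this
    exact this
  obtain ⟨j, hj⟩ := hνe 2 (by norm_num)
  obtain ⟨w, hw⟩ := hWe
  by_contra hne
  have hc10 : ν.count 1 = 0 := by omega
  -- the count formula at `k = 0`
  have h0 := hcnt 0
  rw [zero_add, hc10, dk_zero, zero_add] at h0
  have hres2 : ((Matrix.toLin' x - 1).restrict hN) ^ 2 = 0 := by
    have h3 : Matrix.toLin' x - 1 = Matrix.toLin' (x - 1) := by
      rw [map_sub, Matrix.toLin'_one]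
      rfl
    have h4 : (Matrix.toLin' x - 1) ^ 2 = 0 := by
      rw [h3, ← Matrix.toLin'_pow, hK, map_zero]
    ext v
    have h5 : ((((Matrix.toLin' x - 1).restrict hN) ^ 2) v : ι → F) =
        ((Matrix.toLin' x - 1 : Module.End F (ι → F)) ^ 2) (v : ι → F) := by
      rw [pow_two, pow_two]
      rfl
    rw [h5, h4]
    rfl
  have hd2 := dk_of_pow_eq_zero _ 2 hres2
  rw [hd2] at h0
  exact hnot (omo_half h2 Q x hx hK W hN (by omega))

end Cfsg.Agent.Lib.Helper1.OMO
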