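import Mathlib
import Cfsg.Agent.Lib.Helper1.OMO.Defs
import Cfsg.Agent.Lib.helper14.JTc
import Cfsg.Agent.Lib.Helper19.OMOTYPE2core
import Cfsg.Agent.Lib.Helper11.OMONEC

set_option autoImplicit false
set_option linter.unusedVariables false
set_option linter.unusedSectionVars false

/-!
# Project OMO, row TYPE2 (helper19): verbatim wrapper (core in `OMOTYPE2core`, NEC by helper11).
-/

namespace Cfsg.Agent.Lib.Helper1.OMO

open Module Cfsg.Agent.Lib.helper14.JTa Cfsg.Agent.Lib.Helper9.OPH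

variable {F : Type*} [Field F] {ι : Type} [Fintype ι] [DecidableEq ι]

/-- TYPE2 [M-L] -/
theorem omo_type2 (h2 : (2 : F) ≠ 0) (Q : QuadraticForm F (ι → F)) (x : Matrix ι ι F) (hdet : IsUnit x)
    (hx : ∀ v, Q (x.mulVec v) = Q v) (n : ℕ) (hn : Even n) (hcard : Fintype.card ι = 2 * n + 2)
    (hty : ∀ k, dk (Matrix.toLin' x - 1) k = ty (Multiset.replicate n 2 + {1, 1}) k)
    (W : Submodule F (ι → F)) (hW : Cfsg.Geo.IsNondegenerateOn (QuadraticMap.polar (⇑Q)) W)
    (hxW : W.map (Matrix.toLin' x) ≤ W) (hWe : Even (finrank F W))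
    (hnot : ¬ Cfsg.Geo.IsPlusTypeOn (⇑Q) W) : finrank F W % 4 = 2 := by
  have hN : ∀ v ∈ W, (Matrix.toLin' x - 1) v ∈ W := by
    intro v hv
    rw [LinearMap.sub_apply, Module.End.one_apply]
    exact W.sub_mem (hxW ⟨v, hv, rfl⟩) hv
  have hμ0 : ∀ e ∈ Multiset.replicate n 2 + ({1, 1} : Multiset ℕ), 0 < e := by
    intro e he
    rw [Multiset.mem_add] at he
    rcases he with h | h
    · rw [Multiset.eq_of_mem_replicate h]; norm_num
    · simp at h
      omega
  exact omotype2_core h2 Q x hx n hn hcard hty W hWe hN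
    (omo_nec h2 Q x hdet hx 2 (omotype2_sq x n hcard hty) _ hμ0 hty W hW hxW hN) hnot

end Cfsg.Agent.Lib.Helper1.OMO
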