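import Mathlib
import Cfsg.Agent.Lib.Helper12.TC.ONP1Pres
import Cfsg.Agent.Lib.Helper12.TCG.ONPres

/-! Project ONM (helper17), piece HCAP, core with light imports: lifts of `a, ..., f` satisfying the relators of `ONP1` generate a
subgroup meeting the kernel trivially. -/

set_option autoImplicit false
set_option linter.unusedVariables false
set_option linter.unusedSimpArgs false

namespace Cfsg.Agent.Lib.helper17.ONM

open Cfsg.Spor Cfsg.Agent.Lib.Helper12.TC Cfsg.Agent.Lib.Helper12.TCG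
  Cfsg.Agent.Lib.Helper12.Ord

universe u v

theorem onmhcap_wprod_congr {K : Type*} [Group K] (ψ f : ℕ → K) (l : List ℕ)
    (h : ∀ s ∈ l, ψ s = f s) : wprod ψ l = wprod f l := by
  induction l with
  | nil => rfl
  | cons s l ih =>
    rw [wprod_cons, wprod_cons, ih (fun t ht => h t (List.mem_cons_of_mem _ ht)),
      h s List.mem_cons_self]

theorem onmhcap_words_eq :
    coxWords ONP1.edges ONP1Pres.gen 6 = coxWords ON.edges ONPres.gen 6 := by decide

theorem onmhcap_words_lt : ∀ b ∈ coxWords ON.edges ONPres.gen 6, ∀ s ∈ b, s < 6 := by decide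

/-- the homomorphism from the presented group `ONP1.Grp` -/
theorem onmhcap_hom {Γ : Type*} [Group Γ] (f : ℕ → Γ)
    (hsq : ∀ s < 6, f s * f s = 1)
    (hcox : ∀ b ∈ coxWords ON.edges ONPres.gen 6, wprod f b = 1)
    (hx2 : wprod f [0, 5, 3, 2, 3, 2, 3, 2, 3, 2] = 1) :
    ∃ φ : ONP1.Grp →* Γ, ∀ y : ONP1.Gen, φ (PresentedGroup.of y) = f (ONP1Pres.idx y) := by
  let F : ONP1.Gen → Γ := fun y => f (ONP1Pres.idx y)
  have hF : ∀ y, FreeGroup.lift F (FreeGroup.of y) = f (ONP1Pres.idx y) := fun y => by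
    rw [FreeGroup.lift_apply_of]
  have hsq' : ∀ y, FreeGroup.lift F (FreeGroup.of y) * FreeGroup.lift F (FreeGroup.of y) = 1 := by
    intro y
    rw [hF]
    exact hsq _ (ONP1Pres.hidx y).1
  have hψ : ∀ s < 6, FreeGroup.lift F (FreeGroup.of (ONP1Pres.gen s)) = f s := by
    intro s hs
    rw [hF, ONP1Pres.hgi s hs]
  have hrel : ∀ r ∈ coxRelators ONP1.edges ∪ {r | r ∈ ONP1.extra}, FreeGroup.lift F r = 1 := by
    intro r hr
    rcases hr with hr | hr
    · refine cox_hom_of_words ONP1.edges ONP1Pres.gen (FreeGroup.lift F) 6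
        (fun y => ⟨ONP1Pres.idx y, (ONP1Pres.hidx y).1, (ONP1Pres.hidx y).2⟩) hsq' ?_ r hr
      intro b hb
      rw [onmhcap_words_eq] at hb
      rw [onmhcap_wprod_congr _ f b (fun s hs => hψ s (onmhcap_words_lt b hb s hs))]
      exact hcox b hb
    · have hr' : r = ONP1.a * ONP1.f * ((ONP1.c * ONP1.d) ^ 4)⁻¹ := by
        simpa only [ONP1.extra, List.mem_cons, List.not_mem_nil, or_false, Set.mem_ofPred_eq] using hr
      have hi : ∀ y, (FreeGroup.lift F (FreeGroup.of y))⁻¹ = FreeGroup.lift F (FreeGroup.of y) :=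
        fun y => inv_eq_of_mul_eq_one_left (hsq' y)
      have e0 : FreeGroup.lift F (ONP1.a * ONP1.f * ((ONP1.c * ONP1.d) ^ 4)⁻¹) =
          wprod (fun i => FreeGroup.lift F (FreeGroup.of (ONP1Pres.gen i)))
            [0, 5, 3, 2, 3, 2, 3, 2, 3, 2] := by
        simp only [map_mul, map_inv, mul_inv_rev, pow_succ, pow_zero, one_mul, hi, wprod,
          List.map, List.prod_cons, List.prod_nil, mul_one, mul_assoc, ONP1Pres.gen]
      rw [hr', e0, onmhcap_wprod_congr _ f _ (fun s hs => hψ s ?_)]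
      · exact hx2
      · revert s
        decide
  refine ⟨PresentedGroup.toGroup hrel, fun y => ?_⟩
  rw [PresentedGroup.toGroup.of]

/-- HCAP core: the order facts about `ONP1.Grp` and `Hs` are hypotheses -/
theorem onmhcap_core {Γ : Type*} [Group Γ] (σ : Γ →* ON) (f : ℕ → Γ)
    (hσf : ∀ s < 6, σ (f s) = ONPres.v s)
    (hsq : ∀ s < 6, f s * f s = 1)
    (hcox : ∀ b ∈ coxWords ON.edges ONPres.gen 6, wprod f b = 1)
    (hx2 : wprod f [0, 5, 3, 2, 3, 2, 3, 2, 3, 2] = 1)
    (c : ℕ) (hP1 : Finite ONP1.Grp ∧ Nat.card ONP1.Grp ≤ c)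
    (Hs : Subgroup ON)
    (hHs : Hs = Subgroup.closure {γ | ∃ w ∈ [[0], [1], [2], [3], [4], [5]], γ = wprod ONPres.v w})
    (hcard : Nat.card Hs = c) :
    ∀ y ∈ Subgroup.closure {y : Γ | ∃ s < 6, y = f s}, σ y = 1 → y = 1 := by
  obtain ⟨φ, hφ⟩ := onmhcap_hom f hsq hcox hx2
  obtain ⟨hfin, hcardP⟩ := hP1
  have hrange : Subgroup.closure {y : Γ | ∃ s < 6, y = f s} ≤ φ.range := by
    rw [Subgroup.closure_le]
    rintro y ⟨s, hs, rfl⟩
    exact ⟨PresentedGroup.of (ONP1Pres.gen s), by rw [hφ, ONP1Pres.hgi s hs]⟩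
  have hψr : Hs ≤ (σ.comp φ).range := by
    rw [hHs, Subgroup.closure_le]
    rintro γ ⟨w, hw, rfl⟩
    have hw' : ∃ s < 6, w = [s] := by
      simp only [List.mem_cons, List.not_mem_nil, or_false] at hw
      rcases hw with rfl | rfl | rfl | rfl | rfl | rfl
      · exact ⟨0, by omega, rfl⟩
      · exact ⟨1, by omega, rfl⟩
      · exact ⟨2, by omega, rfl⟩
      · exact ⟨3, by omega, rfl⟩
      · exact ⟨4, by omega, rfl⟩
      · exact ⟨5, by omega, rfl⟩
    obtain ⟨s, hs, rfl⟩ := hw'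
    refine ⟨PresentedGroup.of (ONP1Pres.gen s), ?_⟩
    rw [MonoidHom.comp_apply, hφ, ONP1Pres.hgi s hs, hσf s hs, wprod_cons, wprod_nil, mul_one]
  have hinj : Function.Injective (σ.comp φ) := by
    have : Finite ONP1.Grp := hfin
    have : Finite (σ.comp φ).range :=
      Finite.of_surjective _ (σ.comp φ).rangeRestrict_surjective
    have h1 : Nat.card Hs ≤ Nat.card (σ.comp φ).range :=
      Subgroup.card_le_of_le hψr
    have hs : Function.Surjective (σ.comp φ).rangeRestrict := (σ.comp φ).rangeRestrict_surjective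
    have hb := hs.bijective_of_nat_card_le (by rw [hcard] at h1; omega)
    intro a b hab
    apply hb.1
    exact Subtype.ext hab
  intro y hy hσy
  obtain ⟨x, rfl⟩ := hrange hy
  have h1 : (σ.comp φ) x = (σ.comp φ) 1 := by
    rw [map_one]
    exact hσy
  rw [hinj h1, map_one]

end Cfsg.Agent.Lib.helper17.ONM
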