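import Mathlib
import Cfsg.Prelude.Def_KGroupFacts
import Cfsg.Agent.Lib.Helper12.Ord.ONOrder
import Cfsg.Agent.Lib.helper17.ONM.Defs
import Cfsg.Agent.Lib.Helper19.ONMHCAPcore

/-! Project ONM (helper17), piece HCAP: lifts of `a, ..., f` satisfying the relators of `ONP1` generate a
subgroup meeting the kernel trivially. -/

set_option autoImplicit false
set_option linter.unusedVariables false

namespace Cfsg.Agent.Lib.helper17.ONM

open Cfsg.Spor Cfsg.Agent.Lib.Helper12.TC Cfsg.Agent.Lib.Helper12.TCG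
  Cfsg.Agent.Lib.Helper12.Ord

universe u v

/-- HCAP -/
theorem onm_hcap {Γ : Type*} [Group Γ] (σ : Γ →* ON) (f : ℕ → Γ)
    (hσf : ∀ s < 6, σ (f s) = ONPres.v s)
    (hsq : ∀ s < 6, f s * f s = 1)
    (hcox : ∀ b ∈ coxWords ON.edges ONPres.gen 6, wprod f b = 1)
    (hx2 : wprod f [0, 5, 3, 2, 3, 2, 3, 2, 3, 2] = 1) :
    ∀ y ∈ Subgroup.closure {y : Γ | ∃ s < 6, y = f s}, σ y = 1 → y = 1 :=
  onmhcap_core σ f hσf hsq hcox hx2 3753792 ONOrder.finite_card_P1 ONx122760.Hs ONx122760.hH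
    ONOrder.card_Hs

end Cfsg.Agent.Lib.helper17.ONM
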