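import Mathlib
import Cfsg.Agent.Lib.Helper19.ORE.Defs

/-!
# ORE row C1 (field_piece): second copy by helper19 under own names
`orec1_h19_field_piece` has exactly the statement of `field_piece`.
-/

set_option autoImplicit false
set_option linter.style.haveILetI false
set_option linter.unusedSimpArgs false

namespace Cfsg.Agent.Lib.Helper19.ORE



theorem orec1_h19_arith (q d e : ℕ) (hq : 2 ≤ q) (he : 1 ≤ e) (hed : e < d)
    (h : (q ^ d - 1) / (q - 1) ∣ q ^ e - 1) : False := by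
  have hdvd : q - 1 ∣ q ^ d - 1 := by
    simpa only [one_pow] using Nat.sub_dvd_pow_sub_pow q 1 d
  obtain ⟨N, hN⟩ := hdvd
  have hq1 : 0 < q - 1 := by omega
  have hNdiv : (q ^ d - 1) / (q - 1) = N := by
    rw [hN]; exact Nat.mul_div_cancel_left N hq1
  rw [hNdiv] at h
  have ha : 2 ≤ q ^ e := by
    calc 2 ≤ q := hq
      _ = q ^ 1 := (pow_one q).symm
      _ ≤ q ^ e := Nat.pow_le_pow_right (by omega) he
  have hle : N ≤ q ^ e - 1 := Nat.le_of_dvd (by omega) h
  have hpow : q ^ (e + 1) ≤ q ^ d := Nat.pow_le_pow_right (by omega) hed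
  rw [pow_succ] at hpow
  obtain ⟨s, rfl⟩ : ∃ s, q = s + 2 := ⟨q - 2, by omega⟩
  obtain ⟨a, ha'⟩ : ∃ a, (s + 2) ^ e = a + 2 := ⟨(s + 2) ^ e - 2, by omega⟩
  rw [ha'] at hpow hle
  have h1 : (s + 2) ^ d = (s + 2 - 1) * N + 1 := by
    have : 1 ≤ (s + 2) ^ d := Nat.one_le_pow _ _ (by omega)
    omega
  have h2 : s + 2 - 1 = s + 1 := by omega
  rw [h2] at h1
  have h3 : N ≤ a + 1 := by omega
  nlinarith




open Polynomial Module IntermediateField

universe u

theorem orec1_h19_adjoin_top {F : Type u} [Field F] [Fintype F] {E : Type} [Field E] [Algebra F E]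
    [Finite E] (d : ℕ) (hd : finrank F E = d) (ζ : Eˣ)
    (hζ : orderOf ζ = Fintype.card F ^ d - 1) :
    Algebra.adjoin F {((ζ ^ (Fintype.card F - 1) : Eˣ) : E)} = ⊤ := by
  classical
  set q := Fintype.card F with hq
  have hq2 : 2 ≤ q := Fintype.one_lt_card
  set η : Eˣ := ζ ^ (q - 1) with hη
  haveI : FiniteDimensional F E := Module.Finite.of_finite
  have hint : IsAlgebraic F (η : E) := Algebra.IsAlgebraic.isAlgebraic _
  have hK : F⟮(η : E)⟯.toSubalgebra = Algebra.adjoin F {(η : E)} :=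
    IntermediateField.adjoin_simple_toSubalgebra_of_isAlgebraic hint
  rw [← hK]
  suffices h : F⟮(η : E)⟯ = ⊤ by rw [h]; rfl
  set K := F⟮(η : E)⟯ with hKdef
  set e := finrank F K with he
  have hed : e ≤ d := by
    rw [← hd]
    exact Submodule.finrank_le K.toSubalgebra.toSubmodule
  have he1 : 1 ≤ e := Module.finrank_pos
  -- orders
  have hdvd : q - 1 ∣ q ^ d - 1 := by
    simpa only [one_pow] using Nat.sub_dvd_pow_sub_pow q 1 d
  have hordη : orderOf η = (q ^ d - 1) / (q - 1) := by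
    rw [hη, orderOf_pow' ζ (by omega : q - 1 ≠ 0), hζ, Nat.gcd_eq_right hdvd]
  -- η ^ (q^e - 1) = 1
  have hcardK : Nat.card K = q ^ e := by
    rw [Module.natCard_eq_pow_finrank (K := F) (V := K), Nat.card_eq_fintype_card]
  have hpow : (η : E) ^ (q ^ e - 1) = 1 := by
    have hmem : (η : E) ∈ K := mem_adjoin_simple_self F _
    haveI : Fintype K := Fintype.ofFinite K
    have hne : (⟨(η : E), hmem⟩ : K) ≠ 0 := by
      intro h0
      have := congrArg (fun x : K => (x : E)) h0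
      simp at this
    have := FiniteField.pow_card_sub_one_eq_one (⟨(η : E), hmem⟩ : K) hne
    rw [← Nat.card_eq_fintype_card, hcardK] at this
    have h2 := congrArg (fun x : K => (x : E)) this
    simpa using h2
  have hdvd2 : orderOf η ∣ q ^ e - 1 := by
    apply orderOf_dvd_of_pow_eq_one
    ext
    simpa using hpow
  rw [hordη] at hdvd2
  have hed' : e = d := by
    by_contra hne
    exact orec1_h19_arith q d e hq2 he1 (lt_of_le_of_ne hed hne) hdvd2
  -- K = ⊤ by dimension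
  apply IntermediateField.toSubalgebra_injective
  apply Subalgebra.toSubmodule_injective
  apply Submodule.eq_top_of_finrank_eq
  show finrank F K = finrank F E
  rw [hd, ← hed']


end Cfsg.Agent.Lib.Helper19.ORE


namespace Cfsg.Agent.Lib.Helper19.ORE

open Polynomial Module

universe u

section
variable {F : Type u} [Field F] {E : Type} [Field E] [Algebra F E]

/-- multiplication by a unit of `E` as an `F`-linear automorphism. -/
noncomputable def orec1_h19_mulU (x : Eˣ) : E ≃ₗ[F] E where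
  toFun y := (x : E) * y
  map_add' := mul_add _
  map_smul' c y := by simp
  invFun y := ((x⁻¹ : Eˣ) : E) * y
  left_inv y := by simp
  right_inv y := by simp

theorem orec1_h19_mulU_apply (x : Eˣ) (y : E) : (orec1_h19_mulU (F := F) x) y = (x : E) * y := rfl

theorem orec1_h19_mulU_coe (x : Eˣ) :
    ((orec1_h19_mulU (F := F) x : E ≃ₗ[F] E) : E →ₗ[F] E) = Algebra.lmul F E (x : E) := by
  ext y; simp [orec1_h19_mulU_apply]

theorem orec1_h19_mulU_mul (x y : Eˣ) :
    orec1_h19_mulU (F := F) (x * y) = orec1_h19_mulU x * orec1_h19_mulU y := by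
  ext z; simp [orec1_h19_mulU_apply, mul_assoc]

theorem orec1_h19_det_mulU (x : Eˣ) :
    ((LinearEquiv.det (orec1_h19_mulU (F := F) x) : Fˣ) : F) = Algebra.norm F (x : E) := by
  rw [LinearEquiv.coe_det, orec1_h19_mulU_coe, Algebra.norm_apply]

theorem orec1_h19_det_mulU' (x : Eˣ) :
    LinearEquiv.det (orec1_h19_mulU (F := F) x) = Units.map (Algebra.norm F (S := E)) x := by
  ext
  rw [orec1_h19_det_mulU]
  rfl

theorem orec1_h19_aeval_mulU (x : Eˣ) (p : F[X]) :
    aeval ((orec1_h19_mulU (F := F) x : E ≃ₗ[F] E) : E →ₗ[F] E) p = Algebra.lmul F E (aeval (x : E) p) := by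
  rw [orec1_h19_mulU_coe, Polynomial.aeval_algHom_apply]

end

theorem orec1_h19_onE {F : Type u} [Field F] [Fintype F] {E : Type} [Field E] [Algebra F E]
    [Finite E] (d : ℕ) (hd : finrank F E = d) :
    ∃ (m : E ≃ₗ[F] E) (p : F[X]) (D₀ : Fˣ),
      IsCyc m ∧ LinearEquiv.det m = 1 ∧
      (∀ k : ℕ, ¬ (Fintype.card F ^ d - 1 ∣ k) → IsCoprime p (X ^ k - 1)) ∧
      ∀ E' : Fˣ, SolP m D₀ E' p := by
  classical
  haveI : FiniteDimensional F E := Module.Finite.of_finite
  set q := Fintype.card F with hq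
  have hq2 : 2 ≤ q := Fintype.one_lt_card
  -- generator
  obtain ⟨ζ, hζgen⟩ := IsCyclic.exists_generator (α := Eˣ)
  have hcardE : Nat.card E = q ^ d := by
    rw [Module.natCard_eq_pow_finrank (K := F) (V := E), Nat.card_eq_fintype_card, hd]
  have hζ : orderOf ζ = q ^ d - 1 := by
    rw [orderOf_eq_card_of_forall_mem_zpowers hζgen, Nat.card_units, hcardE]
  set η : Eˣ := ζ ^ (q - 1) with hη
  have hadj : Algebra.adjoin F {(η : E)} = ⊤ := orec1_h19_adjoin_top d hd ζ hζ
  -- Frobenius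
  let φ : E ≃ₐ[F] E := FiniteField.frobeniusAlgEquivOfAlgebraic F E
  have hφ : ∀ x : E, φ x = x ^ q := fun x => by
    show (FiniteField.frobeniusAlgEquivOfAlgebraic F E) x = x ^ q
    rw [FiniteField.coe_frobeniusAlgEquivOfAlgebraic]
  let φL : E ≃ₗ[F] E := φ.toLinearEquiv
  have hφL : ∀ x, φL x = x ^ q := hφ
  refine ⟨orec1_h19_mulU η, minpoly F (ζ : E), LinearEquiv.det (orec1_h19_mulU (F := F) ζ), ?_, ?_, ?_, ?_⟩
  · -- cyclic
    refine ⟨1, fun x => ?_⟩
    have hx : x ∈ Algebra.adjoin F {(η : E)} := by rw [hadj]; trivial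
    rw [Algebra.adjoin_singleton_eq_range_aeval] at hx
    obtain ⟨p, hp⟩ := hx
    refine ⟨p, ?_⟩
    rw [orec1_h19_aeval_mulU]
    have hp' : aeval (η : E) p = x := hp
    rw [hp']
    simp
  · -- det = 1
    rw [orec1_h19_det_mulU', hη, map_pow]
    have : Fintype.card Fˣ = q - 1 := by rw [Fintype.card_units]
    rw [← this]
    exact pow_card_eq_one
  · -- coprimality
    intro k hk
    have hint : IsIntegral F (ζ : E) := Algebra.IsIntegral.isIntegral _
    have hirr := minpoly.irreducible hint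
    rw [Irreducible.coprime_iff_not_dvd hirr]
    intro hdvd
    apply hk
    rw [← hζ]
    apply orderOf_dvd_of_pow_eq_one
    have h0 : aeval (ζ : E) (X ^ k - 1 : F[X]) = 0 := by
      obtain ⟨r, hr⟩ := hdvd
      rw [hr, map_mul, minpoly.aeval, zero_mul]
    ext
    simp only [map_sub, map_pow, aeval_X, map_one] at h0
    simpa [sub_eq_zero] using h0
  · -- solutions
    intro E'
    obtain ⟨z, hz⟩ := FiniteField.unitsMap_norm_surjective F E ((LinearEquiv.det φL)⁻¹ * E')
    refine ⟨orec1_h19_mulU ζ, φL * orec1_h19_mulU z, ?_, rfl, ?_, ?_⟩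
    · -- equation
      ext x
      simp only [LinearEquiv.mul_apply, orec1_h19_mulU_apply, mul_inv_rev]
      have h1 : ∀ y, φL⁻¹ y = φ.symm y := fun y => rfl
      have h2 : ∀ y, (orec1_h19_mulU (F := F) z)⁻¹ y = ((z⁻¹ : Eˣ) : E) * y := fun y => rfl
      rw [hφL]
      rw [h2, h1, mul_pow, mul_pow, mul_pow, ← hφ (φ.symm x)]
      have : φ (φ.symm x) = x := φ.apply_symm_apply x
      rw [this, hη]
      have hzz : ((z : E)) ^ q * (((z⁻¹ : Eˣ) : E)) ^ q = 1 := by
        rw [← mul_pow]; simp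
      have hq1 : q - 1 + 1 = q := by omega
      calc (ζ : E) * (((ζ ^ (q - 1) : Eˣ) : E) * x)
          = (ζ : E) ^ (q - 1 + 1) * x := by push_cast; ring
        _ = (ζ : E) ^ q * x := by rw [hq1]
        _ = (z : E) ^ q * ((ζ : E) ^ q * ((((z⁻¹ : Eˣ) : E)) ^ q * x)) := by
            rw [show (z : E) ^ q * ((ζ : E) ^ q * ((((z⁻¹ : Eˣ) : E)) ^ q * x)) =
              ((z : E) ^ q * (((z⁻¹ : Eˣ) : E)) ^ q) * ((ζ : E) ^ q * x) by ring, hzz, one_mul]
    · rw [map_mul, orec1_h19_det_mulU', hz]; simp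
    · rw [orec1_h19_aeval_mulU, minpoly.aeval]; simp


end Cfsg.Agent.Lib.Helper19.ORE



namespace Cfsg.Agent.Lib.Helper19.ORE

open Polynomial Module

universe u v w

section
variable {F : Type u} [Field F] {E : Type v} {W : Type w} [AddCommGroup E] [Module F E]
  [AddCommGroup W] [Module F W]

/-- conjugation by `e` as a group homomorphism. -/
noncomputable def orec1_h19_conjHom (e : E ≃ₗ[F] W) : (E ≃ₗ[F] E) →* (W ≃ₗ[F] W) :=
  MonoidHom.mk' (fun f => (e.symm.trans f).trans e) (by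
    intro f g
    ext x
    simp [LinearEquiv.mul_apply])

theorem orec1_h19_conjHom_apply (e : E ≃ₗ[F] W) (f : E ≃ₗ[F] E) (x : W) :
    orec1_h19_conjHom e f x = e (f (e.symm x)) := rfl

theorem orec1_h19_coe_conj (e : E ≃ₗ[F] W) (f : E ≃ₗ[F] E) :
    ((orec1_h19_conjHom e f : W ≃ₗ[F] W) : W →ₗ[F] W) = e.conj (f : E →ₗ[F] E) := by
  ext x
  simp [orec1_h19_conjHom_apply, LinearEquiv.conj_apply]

theorem orec1_h19_aeval_conj (e : E ≃ₗ[F] W) (f : E →ₗ[F] E) (p : F[X]) :
    aeval (e.conj f) p = e.conj (aeval f p) := by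
  have := Polynomial.aeval_algHom_apply (LinearEquiv.conjAlgEquiv F e).toAlgHom f p
  exact this

theorem orec1_h19_det_conjHom (e : E ≃ₗ[F] W) (f : E ≃ₗ[F] E) :
    LinearEquiv.det (orec1_h19_conjHom e f) = LinearEquiv.det f :=
  LinearEquiv.det_conj f e

theorem orec1_h19_solP_conj (e : E ≃ₗ[F] W) (g : E ≃ₗ[F] E) {D E' : Fˣ} {p : F[X]}
    (h : SolP g D E' p) : SolP (orec1_h19_conjHom e g) D E' p := by
  obtain ⟨A, y, h1, h2, h3, h4⟩ := h
  refine ⟨orec1_h19_conjHom e A, orec1_h19_conjHom e y, ?_, ?_, ?_, ?_⟩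
  · rw [← map_mul, h1, map_mul, map_mul, map_inv]
  · rw [orec1_h19_det_conjHom, h2]
  · rw [orec1_h19_det_conjHom, h3]
  · rw [orec1_h19_coe_conj, orec1_h19_aeval_conj, h4, map_zero]

theorem orec1_h19_isCyc_conj (e : E ≃ₗ[F] W) (g : E ≃ₗ[F] E) (h : IsCyc g) :
    IsCyc (orec1_h19_conjHom e g) := by
  obtain ⟨v, hv⟩ := h
  refine ⟨e v, fun x => ?_⟩
  obtain ⟨p, hp⟩ := hv (e.symm x)
  refine ⟨p, ?_⟩
  rw [orec1_h19_coe_conj, orec1_h19_aeval_conj, LinearEquiv.conj_apply]
  simp [← hp]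

end

theorem orec1_h19_field_piece {F : Type u} [Field F] [Fintype F] (d : ℕ) (hd : 1 ≤ d) :
    ∃ (m : (Fin d → F) ≃ₗ[F] (Fin d → F)) (p : F[X]) (D₀ : Fˣ),
      IsCyc m ∧ LinearEquiv.det m = 1 ∧
      (∀ k : ℕ, ¬ (Fintype.card F ^ d - 1 ∣ k) → IsCoprime p (X ^ k - 1)) ∧
      ∀ E' : Fˣ, SolP m D₀ E' p := by
  classical
  obtain ⟨p, hp⟩ := CharP.exists F
  haveI : Fact p.Prime := ⟨CharP.char_is_prime F p⟩
  haveI : NeZero d := ⟨by omega⟩
  have hfr : finrank F (FiniteField.Extension F p d) = d := FiniteField.finrank_extension F p d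
  obtain ⟨m, P, D₀, h1, h2, h3, h4⟩ := orec1_h19_onE (F := F) (E := FiniteField.Extension F p d) d hfr
  haveI : FiniteDimensional F (FiniteField.Extension F p d) := Module.Finite.of_finite
  let b : Basis (Fin d) F (FiniteField.Extension F p d) := Module.finBasisOfFinrankEq F _ hfr
  let e : FiniteField.Extension F p d ≃ₗ[F] (Fin d → F) := b.equivFun
  refine ⟨orec1_h19_conjHom e m, P, D₀, orec1_h19_isCyc_conj e m h1, ?_, h3, fun E' => orec1_h19_solP_conj e m (h4 E')⟩
  rw [orec1_h19_det_conjHom, h2]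


end Cfsg.Agent.Lib.Helper19.ORE
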