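import Mathlib
import Cfsg.Agent.Lib.Helper19.ORE.Defs
import Cfsg.Agent.Lib.Helper24.OREC1
import Cfsg.Agent.Lib.Helper26.OREB4

/-!
# ORE rows C2 (cyc_piece) and C3 (line_sol): spare copies by helper19 under own names
-/

set_option autoImplicit false
set_option linter.style.haveILetI false

namespace Cfsg.Agent.Lib.Helper19.ORE

open Polynomial Module

universe u v

section
variable {F : Type u} [Field F]

theorem orec2_h19_cyc_piece [Fintype F] {V : Type v} [AddCommGroup V] [Module F V]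
    [FiniteDimensional F V]
    (g : V ≃ₗ[F] V) (hg : IsCyc g) (d : ℕ) (hd : 1 ≤ d) (hV : finrank F V = d + 1) :
    ∃ (m : (Fin d → F) ≃ₗ[F] (Fin d → F)) (p : F[X]) (D₀ : Fˣ),
      Split g m (smulE (LinearEquiv.det g)) ∧
      (∀ k : ℕ, ¬ (Fintype.card F ^ d - 1 ∣ k) → IsCoprime p (X ^ k - 1)) ∧
      ∀ E' : Fˣ, SolP m D₀ E' p := by
  obtain ⟨m, p, D₀, h1, h2, h3, h4⟩ := field_piece (F := F) d hd
  refine ⟨m, p, D₀, ?_, h3, h4⟩
  have := one_chain g m d hV (by simp) hg h1
  rwa [h2, inv_one, mul_one] at this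

theorem orec3_h19_line_sol {V : Type v} [AddCommGroup V] [Module F V] (g : V ≃ₗ[F] V)
    (h1 : finrank F V = 1) (hdet : LinearEquiv.det g = 1) (a e : Fˣ) :
    SolP g a e (X - C (a : F)) := by
  haveI : FiniteDimensional F V := Module.finite_of_finrank_pos (by omega)
  -- every automorphism of a line is a scalar
  have key : ∀ f : V ≃ₗ[F] V, ∀ x, f x = ((LinearEquiv.det f : Fˣ) : F) • x := by
    intro f x
    obtain ⟨c, hc⟩ : ∃ c : F, ∀ y, f y = c • y := by
      obtain ⟨v, hv⟩ := finrank_eq_one_iff'.mp h1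
      obtain ⟨c, hc⟩ := hv.2 (f v)
      refine ⟨c, fun y => ?_⟩
      obtain ⟨t, rfl⟩ := hv.2 y
      rw [map_smul, ← hc, smul_comm]
    have hdetf : ((LinearEquiv.det f : Fˣ) : F) = c := by
      rw [LinearEquiv.coe_det]
      have : (f : V →ₗ[F] V) = c • LinearMap.id := by
        ext y; simp [hc]
      rw [this, LinearMap.det_smul, h1, pow_one, LinearMap.det_id, mul_one]
    rw [hdetf, hc]
  have hg1 : g = 1 := by
    ext x
    rw [key g x, hdet]; simp
  have hsm : ∀ (c : Fˣ) (y : V), (LinearEquiv.smulOfUnit c : V ≃ₗ[F] V) y = (c : F) • y :=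
    fun c y => rfl
  have hdetsm : ∀ c : Fˣ, LinearEquiv.det (LinearEquiv.smulOfUnit c : V ≃ₗ[F] V) = c := by
    intro c
    ext
    rw [LinearEquiv.coe_det]
    have : ((LinearEquiv.smulOfUnit c : V ≃ₗ[F] V) : V →ₗ[F] V) = (c : F) • LinearMap.id := by
      ext y; simp [hsm]
    rw [this, LinearMap.det_smul, h1, pow_one, LinearMap.det_id, mul_one]
  refine ⟨LinearEquiv.smulOfUnit a, LinearEquiv.smulOfUnit e, ?_, hdetsm a, hdetsm e, ?_⟩
  · rw [hg1, mul_one, mul_assoc]
    ext x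
    simp only [LinearEquiv.mul_apply]
    have h2 : ∀ y, (LinearEquiv.smulOfUnit e : V ≃ₗ[F] V)⁻¹ y = ((e⁻¹ : Fˣ) : F) • y := fun y => rfl
    rw [h2, hsm, hsm, hsm, smul_smul, smul_smul]
    congr 1
    rw [mul_comm (e : F), mul_assoc, ← Units.val_mul, mul_inv_cancel, Units.val_one, mul_one]
  · ext x
    simp only [map_sub, aeval_X, aeval_C, LinearMap.sub_apply, LinearEquiv.coe_coe,
      hsm, Module.algebraMap_end_apply, LinearMap.zero_apply]
    exact sub_self _

end

end Cfsg.Agent.Lib.Helper19.ORE
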