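import Mathlib
import Cfsg.Agent.Lib.Helper19.ORE.Defs
import Cfsg.Agent.Lib.helper15.ORED1gen

/-!
# ORE row D1 (exists_cyc_summand): spare copy by helper19 under own names,
on top of helper15's `ored1_split`.
-/

set_option autoImplicit false
set_option linter.style.haveILetI false
set_option linter.unusedSimpArgs false

namespace Cfsg.Agent.Lib.Helper19.ORE

open Polynomial Module

universe u v

section
variable {F : Type u} [Field F]

theorem ored1_h19_restr_inj {V : Type v} [AddCommGroup V] [Module F V]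
    (g : V ≃ₗ[F] V) (W : Submodule F V) (hW : ∀ w ∈ W, g w ∈ W) :
    Function.Injective ((g : V →ₗ[F] V).restrict hW) := by
  intro a b hab
  have := congrArg Subtype.val hab
  simp only [LinearMap.coe_restrict_apply, LinearEquiv.coe_coe] at this
  exact Subtype.ext (g.injective this)

/-- restriction of an automorphism to an invariant subspace (finite dimension). -/
noncomputable def ored1_h19_restr {V : Type v} [AddCommGroup V] [Module F V]
    [FiniteDimensional F V] (g : V ≃ₗ[F] V) (W : Submodule F V) (hW : ∀ w ∈ W, g w ∈ W) :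
    W ≃ₗ[F] W :=
  LinearEquiv.ofInjectiveEndo ((g : V →ₗ[F] V).restrict hW) (ored1_h19_restr_inj g W hW)

theorem ored1_h19_restr_apply {V : Type v} [AddCommGroup V] [Module F V]
    [FiniteDimensional F V] (g : V ≃ₗ[F] V) (W : Submodule F V) (hW : ∀ w ∈ W, g w ∈ W)
    (w : W) : ((ored1_h19_restr g W hW) w : V) = g (w : V) := by
  unfold ored1_h19_restr
  rw [LinearEquiv.coe_ofInjectiveEndo]
  rfl

theorem ored1_h19_aeval_restr {V : Type v} [AddCommGroup V] [Module F V]
    [FiniteDimensional F V] (g : V ≃ₗ[F] V) (W : Submodule F V) (hW : ∀ w ∈ W, g w ∈ W)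
    (f : F[X]) (w : W) :
    ((aeval ((ored1_h19_restr g W hW : W ≃ₗ[F] W) : W →ₗ[F] W) f) w : V) =
      (aeval (g : V →ₗ[F] V) f) (w : V) := by
  induction f using Polynomial.induction_on' with
  | add p q hp hq => simp [map_add, hp, hq]
  | monomial n a =>
    simp only [aeval_monomial, Module.algebraMap_end_eq_smul_id, LinearMap.smul_apply,
      Module.End.mul_apply, LinearMap.id_coe, id_eq]
    have : ∀ (k : ℕ) (w : W), ((((ored1_h19_restr g W hW : W ≃ₗ[F] W) : W →ₗ[F] W) ^ k) w : V) =
        ((g : V →ₗ[F] V) ^ k) (w : V) := by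
      intro k
      induction k with
      | zero => intro w; simp
      | succ k ih =>
        intro w
        rw [pow_succ, pow_succ, Module.End.mul_apply, Module.End.mul_apply, ih]
        congr 1
    simp [this]

theorem ored1_h19_exists_cyc_summand {V : Type v} [AddCommGroup V] [Module F V]
    [FiniteDimensional F V] [Nontrivial V] (g : V ≃ₗ[F] V) :
    ∃ (V₁ V₂ : Submodule F V) (g₁ : V₁ ≃ₗ[F] V₁) (g₂ : V₂ ≃ₗ[F] V₂) (e : V ≃ₗ[F] V₁ × V₂),
      Conj e g (g₁.prodCongr g₂) ∧ IsCyc g₁ ∧ 0 < finrank F V₁ := by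
  classical
  obtain ⟨W, W', v, p, e, hp, he, hc, hW, hW', hspan, hann⟩ :=
    Cfsg.Agent.Lib.helper15.OREgen.ored1_split (g : V →ₗ[F] V)
  have hW1 : ∀ w ∈ W, g w ∈ W := hW
  have hW2 : ∀ w ∈ W', g w ∈ W' := hW'
  have hvW : v ∈ W := by
    rw [hspan]
    exact Submodule.subset_span ⟨0, by simp⟩
  have hv0 : v ≠ 0 := by
    intro h0
    have h1 : (aeval (g : V →ₗ[F] V) (1 : F[X])) v = 0 := by simp [h0]
    have h2 := (hann 1).mp h1
    have h3 : IsUnit (p ^ e) := isUnit_of_dvd_one h2
    have h4 : IsUnit p := (isUnit_pow_iff (Nat.pos_iff_ne_zero.mp he)).mp h3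
    exact hp.not_isUnit h4
  let E : V ≃ₗ[F] W × W' := (Submodule.prodEquivOfIsCompl W W' hc).symm
  refine ⟨W, W', ored1_h19_restr g W hW1, ored1_h19_restr g W' hW2, E, ?_, ?_, ?_⟩
  · intro x
    apply (Submodule.prodEquivOfIsCompl W W' hc).injective
    show (Submodule.prodEquivOfIsCompl W W' hc) (E (g x)) = _
    rw [show (Submodule.prodEquivOfIsCompl W W' hc) (E (g x)) = g x from
      LinearEquiv.apply_symm_apply _ _]
    rw [Submodule.coe_prodEquivOfIsCompl']
    simp only [LinearEquiv.prodCongr_apply, Prod.map_fst, Prod.map_snd]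
    rw [ored1_h19_restr_apply, ored1_h19_restr_apply, ← map_add]
    congr 1
    have := LinearEquiv.apply_symm_apply (Submodule.prodEquivOfIsCompl W W' hc) x
    rw [Submodule.coe_prodEquivOfIsCompl'] at this
    exact this.symm
  · refine ⟨⟨v, hvW⟩, fun x => ?_⟩
    have hx : (x : V) ∈ Submodule.span F (Set.range fun k : ℕ => ((g : V →ₗ[F] V) ^ k) v) := by
      rw [← hspan]; exact x.2
    -- the set of polynomial images is a submodule containing the iterates
    have key : ∀ y ∈ Submodule.span F (Set.range fun k : ℕ => ((g : V →ₗ[F] V) ^ k) v),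
        ∃ f : F[X], y = (aeval (g : V →ₗ[F] V) f) v := by
      intro y hy
      induction hy using Submodule.span_induction with
      | mem z hz =>
        obtain ⟨k, rfl⟩ := hz
        exact ⟨X ^ k, by simp⟩
      | zero => exact ⟨0, by simp⟩
      | add a b _ _ ha hb =>
        obtain ⟨fa, rfl⟩ := ha
        obtain ⟨fb, rfl⟩ := hb
        exact ⟨fa + fb, by simp⟩
      | smul c a _ ha =>
        obtain ⟨fa, rfl⟩ := ha
        exact ⟨C c * fa, by simp [Module.algebraMap_end_apply]⟩
    obtain ⟨f, hf⟩ := key _ hx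
    refine ⟨f, Subtype.ext ?_⟩
    rw [ored1_h19_aeval_restr]
    exact hf
  · apply Module.finrank_pos_iff_exists_ne_zero.mpr
    exact ⟨⟨v, hvW⟩, fun h => hv0 (congrArg Subtype.val h)⟩

end

end Cfsg.Agent.Lib.Helper19.ORE
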