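import Mathlib
import Cfsg.Agent.Lib.Helper19.ORE.Defs
import Cfsg.Agent.Lib.Helper24.OREB3

/-!
# ORE row D2 (rep_one, rep_two, rep_smulE): spare copies by helper19 under own names
-/

set_option autoImplicit false
set_option linter.style.haveILetI false

namespace Cfsg.Agent.Lib.Helper19.ORE

open Polynomial Module

universe u v

section
variable {F : Type u} [Field F]

theorem ored2_h19_rep_smulE (κ : Fˣ) : Rep (smulE κ) (mat1 (κ : F)) := by
  refine ⟨(LinearEquiv.funUnique (Fin 1) F F).symm, fun x => ?_⟩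
  ext i
  have hi : i = 0 := Subsingleton.elim _ _
  subst hi
  simp [mat1, Matrix.mulVec, dotProduct, smulE]
  rfl

theorem ored2_h19_scalar {V : Type v} [AddCommGroup V] [Module F V] (f : V ≃ₗ[F] V)
    (h1 : finrank F V = 1) (x : V) : f x = ((LinearEquiv.det f : Fˣ) : F) • x := by
  haveI : FiniteDimensional F V := Module.finite_of_finrank_pos (by omega)
  obtain ⟨c, hc⟩ : ∃ c : F, ∀ y, f y = c • y := by
    obtain ⟨v, hv⟩ := finrank_eq_one_iff'.mp h1
    obtain ⟨c, hc⟩ := hv.2 (f v)
    refine ⟨c, fun y => ?_⟩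
    obtain ⟨t, rfl⟩ := hv.2 y
    rw [map_smul, ← hc, smul_comm]
  have hdetf : ((LinearEquiv.det f : Fˣ) : F) = c := by
    rw [LinearEquiv.coe_det]
    have : (f : V →ₗ[F] V) = c • LinearMap.id := by
      ext y; simp [hc]
    rw [this, LinearMap.det_smul, h1, pow_one, LinearMap.det_id, mul_one]
  rw [hdetf, hc]

theorem ored2_h19_rep_one {V : Type v} [AddCommGroup V] [Module F V] (g : V ≃ₗ[F] V)
    (h1 : finrank F V = 1) : Rep g (mat1 ((LinearEquiv.det g : Fˣ) : F)) := by
  haveI : FiniteDimensional F V := Module.finite_of_finrank_pos (by omega)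
  let b : Basis (Fin 1) F V := Module.finBasisOfFinrankEq F V h1
  refine ⟨b.equivFun, fun x => ?_⟩
  rw [ored2_h19_scalar g h1 x, map_smul]
  ext i
  have hi : i = 0 := Subsingleton.elim _ _
  subst hi
  simp [mat1, Matrix.mulVec, dotProduct]

theorem ored2_h19_rep_two {V : Type v} [AddCommGroup V] [Module F V] [FiniteDimensional F V]
    (g : V ≃ₗ[F] V) (hg : IsCyc g) (h2 : finrank F V = 2) :
    ∃ t : F, Rep g (comp2 t ((LinearEquiv.det g : Fˣ) : F)) := by
  classical
  obtain ⟨v, b, hb⟩ := cyc_basis g hg 2 h2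
  have hb0 : b 0 = v := by simpa using hb 0
  have hb1 : b 1 = g v := by simpa using hb 1
  set α := b.repr (g (g v)) 0 with hα
  set β := b.repr (g (g v)) 1 with hβ
  have hgg : g (g v) = α • v + β • g v := by
    have := b.sum_repr (g (g v))
    rw [Fin.sum_univ_two, hb0, hb1] at this
    exact this.symm
  -- matrix of g in the basis b
  have hM : LinearMap.toMatrix b b (g : V →ₗ[F] V) = !![0, α; 1, β] := by
    ext i j
    rw [LinearMap.toMatrix_apply]
    fin_cases j
    · simp only [Fin.zero_eta, LinearEquiv.coe_coe]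
      rw [hb0, ← hb1]
      fin_cases i <;> simp
    · simp only [Fin.mk_one, LinearEquiv.coe_coe]
      rw [hb1]
      fin_cases i <;> simp [hα, hβ]
  have hdet : ((LinearEquiv.det g : Fˣ) : F) = -α := by
    rw [LinearEquiv.coe_det, ← LinearMap.det_toMatrix b, hM, Matrix.det_fin_two_of]
    ring
  refine ⟨β, b.equivFun, fun x => ?_⟩
  rw [hdet]
  have hc : comp2 β (-α) = !![0, α; 1, β] := by
    unfold comp2
    rw [neg_neg]
  have : ∀ y : V, b.equivFun (g y) = (LinearMap.toMatrix b b (g : V →ₗ[F] V)).mulVec (b.equivFun y) := by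
    intro y
    have := LinearMap.toMatrix_mulVec_repr b b (g : V →ₗ[F] V) y
    exact this.symm
  rw [this x, hM, hc]

end

end Cfsg.Agent.Lib.Helper19.ORE
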