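import Mathlib

set_option autoImplicit false

/-!
From a core-free subgroup `H` of order 18 and a central element `z ∉ H` of order 3 in a group of
order 162 to an isomorphism with the centralizer of `(012)(345)(678)` in `Sym(9)`.
-/

namespace Cfsg.Agent.Lib.Helper19.Ord162Perm

/-- the permutation `(0 1 2)(3 4 5)(6 7 8)` as written in the statement -/
def sigma9 : Equiv.Perm (Fin 9) :=
  Equiv.swap (0 : Fin 9) 1 * Equiv.swap 1 2 * Equiv.swap 3 4 * Equiv.swap 4 5 *
    Equiv.swap 6 7 * Equiv.swap 7 8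

theorem cycleType_of_fpf3 (τ : Equiv.Perm (Fin 9)) (h3 : τ ^ 3 = 1) (hfpf : ∀ i, τ i ≠ i) :
    τ.cycleType = {3, 3, 3} := by
  have hne : τ ≠ 1 := by
    intro h
    exact hfpf 0 (by rw [h]; rfl)
  have hord : orderOf τ = 3 := orderOf_eq_prime h3 hne
  obtain ⟨n, hn⟩ := Equiv.Perm.cycleType_prime_order (σ := τ) (by rw [hord]; exact Nat.prime_three)
  have hsum := Equiv.Perm.sum_cycleType τ
  have hsupp : τ.support = Finset.univ := by
    ext i
    simp [hfpf i]
  rw [hsupp, Finset.card_univ, Fintype.card_fin, hn, hord, Multiset.sum_replicate] at hsum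
  have h2 : n = 2 := by
    simp at hsum
    omega
  rw [hn, hord, h2]
  rfl

theorem sigma9_pow : sigma9 ^ 3 = 1 := by decide

theorem sigma9_fpf : ∀ i, sigma9 i ≠ i := by decide

theorem iso_of_core_free {G : Type*} [Group G] [Finite G] (hG : Nat.card G = 162)
    (H : Subgroup G) (z : G) (h18 : Nat.card H = 18) (hz3 : z ^ 3 = 1)
    (hzc : ∀ g, g * z = z * g) (hzH : z ∉ H) (hcore : H.normalCore = ⊥) :
    Nonempty (G ≃* Subgroup.centralizer ({sigma9} : Set (Equiv.Perm (Fin 9)))) := by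
  classical
  have hidx : H.index = 9 := by
    have := H.card_mul_index
    rw [h18, hG] at this
    omega
  have hcard : Nat.card (G ⧸ H) = 9 := hidx
  let e : G ⧸ H ≃ Fin 9 := Finite.equivFinOfCardEq hcard
  let φ : G →* Equiv.Perm (G ⧸ H) := MulAction.toPermHom G (G ⧸ H)
  let ψ : G →* Equiv.Perm (Fin 9) := (e.permCongrHom : _ →* _).comp φ
  have hφinj : Function.Injective φ := by
    rw [← MonoidHom.ker_eq_bot_iff, ← Subgroup.normalCore_eq_ker, hcore]
  have hψinj : Function.Injective ψ := e.permCongrHom.injective.comp hφinj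
  have h3 : (ψ z) ^ 3 = 1 := by rw [← map_pow, hz3, map_one]
  have hψapp : ∀ (g : G) (i : Fin 9), ψ g i = e (g • e.symm i) := fun g i => rfl
  have hfpf : ∀ i, ψ z i ≠ i := by
    intro i hi
    rw [hψapp] at hi
    have h1 : z • e.symm i = e.symm i := by
      apply e.injective
      rw [hi, Equiv.apply_symm_apply]
    obtain ⟨g, hg⟩ := QuotientGroup.mk_surjective (e.symm i)
    rw [← hg] at h1
    have h2 : ((z * g : G) : G ⧸ H) = (g : G ⧸ H) := h1
    rw [QuotientGroup.eq] at h2
    have h4 : (z * g)⁻¹ * g = z⁻¹ := by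
      rw [← hzc g]
      group
    rw [h4] at h2
    exact hzH (by simpa using H.inv_mem h2)
  have hct := cycleType_of_fpf3 (ψ z) h3 hfpf
  have hσ := cycleType_of_fpf3 sigma9 sigma9_pow sigma9_fpf
  obtain ⟨π, hπ⟩ := isConj_iff.1 (Equiv.Perm.isConj_iff_cycleType_eq.2 (hct.trans hσ.symm))
  let Ψ : G →* Equiv.Perm (Fin 9) := (MulAut.conj π).toMonoidHom.comp ψ
  have hΨinj : Function.Injective Ψ := (MulAut.conj π).injective.comp hψinj
  have hΨz : Ψ z = sigma9 := hπ
  have hmem : ∀ g, Ψ g ∈ Subgroup.centralizer ({sigma9} : Set (Equiv.Perm (Fin 9))) := by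
    intro g
    rw [Subgroup.mem_centralizer_iff]
    intro h hh
    rw [Set.mem_singleton_iff] at hh
    subst hh
    rw [← hΨz, ← map_mul, ← map_mul, hzc]
  let Ψ' : G →* Subgroup.centralizer ({sigma9} : Set (Equiv.Perm (Fin 9))) :=
    Ψ.codRestrict _ hmem
  have hΨ'inj : Function.Injective Ψ' := by
    intro a b hab
    apply hΨinj
    exact congrArg Subtype.val hab
  have hcardC : Nat.card (Subgroup.centralizer ({sigma9} : Set (Equiv.Perm (Fin 9)))) = 162 := by
    rw [Equiv.Perm.nat_card_centralizer, hσ]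
    decide
  have hbij : Function.Bijective Ψ' :=
    (Nat.bijective_iff_injective_and_card Ψ').2 ⟨hΨ'inj, by rw [hG, hcardC]⟩
  exact ⟨MulEquiv.ofBijective Ψ' hbij⟩

end Cfsg.Agent.Lib.Helper19.Ord162Perm
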