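import Mathlib
import Cfsg.Agent.Lib.Helper1.Nilp

set_option autoImplicit false

/-!
Structure of the group of order 162 in S3376: a core-free subgroup of order 18 avoiding the
central element `z` of order 3.
-/

namespace Cfsg.Agent.Lib.Helper19.Ord162Struct

theorem fact3 : (162 : ℕ).factorization 3 = 4 := by
  have h : (162 : ℕ) = 3 ^ 4 * 2 := by norm_num
  rw [h, Nat.factorization_mul (by norm_num) (by norm_num),
    Nat.Prime.factorization_pow Nat.prime_three]
  simp [Nat.factorization_eq_zero_of_not_dvd]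

theorem fact2 : (162 : ℕ).factorization 2 = 1 := by
  have h : (162 : ℕ) = 2 ^ 1 * 81 := by norm_num
  rw [h, Nat.factorization_mul (by norm_num) (by norm_num),
    Nat.Prime.factorization_pow Nat.prime_two]
  simp [Nat.factorization_eq_zero_of_not_dvd]

section
variable {G : Type*} [Group G]

/-- a `t`-invariant subgroup `B`, `t² = 1`, gives the subgroup `B ∪ Bt` -/
def joinInv (B : Subgroup G) (t : G) (ht2 : t * t = 1)
    (hB : ∀ b ∈ B, t * b * t⁻¹ ∈ B) : Subgroup G where
  carrier := {g | g ∈ B ∨ g * t ∈ B}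
  one_mem' := Or.inl B.one_mem
  mul_mem' := by
    have htinv : t⁻¹ = t := inv_eq_of_mul_eq_one_right ht2
    have hB' : ∀ b ∈ B, t * b * t ∈ B := fun b hb => by
      have := hB b hb
      rwa [htinv] at this
    rintro g h (hg | hg) (hh | hh)
    · exact Or.inl (B.mul_mem hg hh)
    · right
      rw [mul_assoc]
      exact B.mul_mem hg hh
    · right
      have : g * h * t = (g * t) * (t * h * t) := by
        calc g * h * t = g * (t * t) * h * t := by rw [ht2, mul_one]
          _ = (g * t) * (t * h * t) := by simp only [mul_assoc]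
      rw [this]
      exact B.mul_mem hg (hB' h hh)
    · left
      have : g * h = (g * t) * (t * (h * t) * t) := by
        calc g * h = g * (t * t) * h * (t * t) := by rw [ht2, mul_one, mul_one]
          _ = (g * t) * (t * (h * t) * t) := by simp only [mul_assoc]
      rw [this]
      exact B.mul_mem hg (hB' _ hh)
  inv_mem' := by
    have htinv : t⁻¹ = t := inv_eq_of_mul_eq_one_right ht2
    have hB' : ∀ b ∈ B, t * b * t ∈ B := fun b hb => by
      have := hB b hb
      rwa [htinv] at this
    rintro g (hg | hg)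
    · exact Or.inl (B.inv_mem hg)
    · right
      have : g⁻¹ * t = t * (g * t)⁻¹ * t := by
        rw [mul_inv_rev, htinv]
        calc g⁻¹ * t = (t * t) * g⁻¹ * t := by rw [ht2, one_mul]
          _ = t * (t * g⁻¹) * t := by simp only [mul_assoc]
      rw [this]
      exact hB' _ (B.inv_mem hg)

theorem mem_joinInv (B : Subgroup G) (t : G) (ht2 : t * t = 1)
    (hB : ∀ b ∈ B, t * b * t⁻¹ ∈ B) (g : G) :
    g ∈ joinInv B t ht2 hB ↔ g ∈ B ∨ g * t ∈ B := Iff.rfl

theorem card_joinInv [Finite G] (B : Subgroup G) (t : G) (ht2 : t * t = 1)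
    (hB : ∀ b ∈ B, t * b * t⁻¹ ∈ B) (ht : t ∉ B) :
    Nat.card (joinInv B t ht2 hB) = 2 * Nat.card B := by
  have htinv : t⁻¹ = t := inv_eq_of_mul_eq_one_right ht2
  have hset : ((joinInv B t ht2 hB : Subgroup G) : Set G) =
      (B : Set G) ∪ (fun b => b * t) '' (B : Set G) := by
    ext g
    constructor
    · rintro (hg | hg)
      · exact Or.inl hg
      · right
        refine ⟨g * t, hg, ?_⟩
        show g * t * t = g
        rw [mul_assoc, ht2, mul_one]
    · rintro (hg | ⟨b, hb, rfl⟩)
      · exact Or.inl hg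
      · right
        show b * t * t ∈ B
        rw [mul_assoc, ht2, mul_one]
        exact hb
  have hdisj : Disjoint (B : Set G) ((fun b => b * t) '' (B : Set G)) := by
    rw [Set.disjoint_left]
    rintro g hg ⟨b, hb, rfl⟩
    apply ht
    have : t = b⁻¹ * (b * t) := by group
    rw [this]
    exact B.mul_mem (B.inv_mem hb) hg
  have h1 : Nat.card (joinInv B t ht2 hB) = Set.ncard ((joinInv B t ht2 hB : Subgroup G) : Set G) :=
    (Nat.card_coe_set_eq _)
  have h2 : Nat.card B = Set.ncard (B : Set G) := (Nat.card_coe_set_eq _)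
  rw [h1, hset, Set.ncard_union_eq hdisj (Set.toFinite _) (Set.toFinite _),
    Set.ncard_image_of_injective _ (mul_left_injective t), ← h2]
  ring

end

section main
variable {G : Type*} [Group G] [Finite G]

open scoped IsMulCommutative in
theorem exists_B (J : Subgroup G) [hJn : J.Normal] (hJcomm : IsMulCommutative J)
    (hJexp : ∀ a ∈ J, a ^ 3 = 1) (hJcard : Nat.card J = 27)
    (t z : G) (ht2 : t * t = 1) (hzJ : z ∈ J) (hz1 : z ≠ 1) (hzt : t * z * t⁻¹ = z) :
    ∃ B : Subgroup G, B ≤ J ∧ Nat.card B = 9 ∧ z ∉ B ∧ ∀ b ∈ B, t * b * t⁻¹ ∈ B := by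
  classical
  have : NeZero (Monoid.exponent J) := ⟨Monoid.exponent_ne_zero_of_finite⟩
  obtain ⟨φ, hφ⟩ := CommGroup.exists_apply_ne_one_of_hasEnoughRootsOfUnity J ℂ (a := ⟨z, hzJ⟩)
    (by intro h; exact hz1 (congrArg Subtype.val h))
  let c : J →* J := (MulAut.conjNormal t : J ≃* J).toMonoidHom
  let f : J →* ℂˣ := φ * φ.comp c
  have hc : ∀ a : J, ((c a : J) : G) = t * a * t⁻¹ := fun a => MulAut.conjNormal_apply t a
  have hfapp : ∀ a : J, f a = φ a * φ (c a) := fun a => rfl
  have hpow3 : ∀ a : J, a ^ 3 = 1 := fun a => Subtype.ext (by simpa using hJexp a a.2)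
  have hfz : f ⟨z, hzJ⟩ ≠ 1 := by
    have hcz : c ⟨z, hzJ⟩ = ⟨z, hzJ⟩ := Subtype.ext (by rw [hc]; exact hzt)
    rw [hfapp, hcz]
    intro h
    have h3 : φ ⟨z, hzJ⟩ ^ 3 = 1 := by rw [← map_pow, hpow3, map_one]
    apply hφ
    calc φ ⟨z, hzJ⟩ = φ ⟨z, hzJ⟩ ^ 3 * (φ ⟨z, hzJ⟩ * φ ⟨z, hzJ⟩)⁻¹ := by group
      _ = 1 := by rw [h3, h, inv_one, mul_one]
  have hrange : f.range ≤ rootsOfUnity 3 ℂ := by
    rintro _ ⟨a, rfl⟩
    rw [mem_rootsOfUnity, ← map_pow, hpow3, map_one]
  have hcardrange : Nat.card f.range = 3 := by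
    have hdvd : Nat.card f.range ∣ 3 := by
      have := Subgroup.card_dvd_of_le hrange
      rwa [Complex.card_rootsOfUnity] at this
    rcases (Nat.dvd_prime Nat.prime_three).1 hdvd with h | h
    · exfalso
      have hbot : f.range = ⊥ := Subgroup.card_eq_one.1 h
      have hm : f ⟨z, hzJ⟩ ∈ f.range := ⟨_, rfl⟩
      rw [hbot, Subgroup.mem_bot] at hm
      exact hfz hm
    · exact h
  have hker : Nat.card f.ker = 9 := by
    have h1 := f.ker.card_mul_index
    rw [Subgroup.index_ker, hcardrange, hJcard] at h1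
    omega
  refine ⟨f.ker.map J.subtype, Subgroup.map_subtype_le _, ?_, ?_, ?_⟩
  · rw [Subgroup.card_map_of_injective J.subtype_injective]
    exact hker
  · rintro ⟨a, ha, haz⟩
    have : a = ⟨z, hzJ⟩ := Subtype.ext haz
    rw [this] at ha
    exact hfz ha
  · rintro _ ⟨a, ha, rfl⟩
    refine ⟨c a, ?_, hc a⟩
    have hcc : c (c a) = a := by
      apply Subtype.ext
      rw [hc, hc]
      have htinv : t⁻¹ = t := inv_eq_of_mul_eq_one_right ht2
      rw [htinv]
      calc t * (t * ↑a * t) * t = (t * t) * ↑a * (t * t) := by simp only [mul_assoc]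
        _ = ↑a := by rw [ht2, one_mul, mul_one]
    have ha' : f a = 1 := ha
    show f (c a) = 1
    rw [hfapp, hcc, mul_comm, ← hfapp]
    exact ha'

omit [Finite G] in
theorem eq_one_of_sq_of_pgroup (S : Sylow 3 G) (x : G) (hx : x ∈ (S : Subgroup G))
    (hx2 : x ^ 2 = 1) : x = 1 := by
  obtain ⟨k, hk⟩ := S.isPGroup' ⟨x, hx⟩
  have hk' : x ^ 3 ^ k = 1 := by
    have := congrArg Subtype.val hk
    simpa using this
  have h1 : orderOf x ∣ 2 := orderOf_dvd_of_pow_eq_one hx2
  have h2 : orderOf x ∣ 3 ^ k := orderOf_dvd_of_pow_eq_one hk'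
  have h3 : orderOf x ∣ Nat.gcd 2 (3 ^ k) := Nat.dvd_gcd h1 h2
  have h4 : Nat.gcd 2 (3 ^ k) = 1 := by
    apply Nat.Coprime.pow_right
    norm_num
  rw [h4] at h3
  exact orderOf_eq_one_iff.1 (Nat.dvd_one.1 h3)

theorem main (hG : Nat.card G = 162)
    (S : Sylow 3 G) (T : Sylow 2 G) (J : Subgroup G) [hJn : J.Normal]
    (hJcomm : IsMulCommutative J)
    (hJexp : ∀ a ∈ J, a ^ 3 = 1) (hJcard : Nat.card J = 27)
    (Z : Subgroup G)
    (hZ : Z = (S : Subgroup G) ⊓ Subgroup.centralizer ((S : Subgroup G) : Set G))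
    (hZcard : Nat.card Z = 3)
    (hZT : Z ≤ Subgroup.centralizer ((T : Subgroup G) : Set G))
    (hST : (S : Subgroup G) ⊓ Subgroup.centralizer ((T : Subgroup G) : Set G) ≠ S) :
    ∃ (H : Subgroup G) (z : G), Nat.card H = 18 ∧ z ^ 3 = 1 ∧ (∀ g, g * z = z * g) ∧ z ∉ H ∧
      H.normalCore = ⊥ := by
  classical
  have hS : Nat.card (S : Subgroup G) = 81 := by
    rw [Sylow.card_eq_multiplicity, hG, fact3]; norm_num
  have hT : Nat.card (T : Subgroup G) = 2 := by
    rw [Sylow.card_eq_multiplicity, hG, fact2]; norm_num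
  have hSidx : (S : Subgroup G).index = 2 := by
    have := (S : Subgroup G).card_mul_index
    rw [hS, hG] at this
    omega
  have hSn : (S : Subgroup G).Normal := Subgroup.normal_of_index_eq_two hSidx
  -- the involution t
  obtain ⟨t, htT, ht1⟩ : ∃ t ∈ (T : Subgroup G), t ≠ 1 := by
    have hnt : Nontrivial (T : Subgroup G) := by
      rw [← Finite.one_lt_card_iff_nontrivial, hT]; norm_num
    obtain ⟨x, hx⟩ := exists_ne (1 : (T : Subgroup G))
    exact ⟨x, x.2, fun h => hx (Subtype.ext h)⟩
  have ht2' : t ^ 2 = 1 := by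
    have := pow_card_eq_one' (G := (T : Subgroup G)) (x := ⟨t, htT⟩)
    rw [hT] at this
    exact congrArg Subtype.val this
  have ht2 : t * t = 1 := by rw [← pow_two]; exact ht2'
  have htinv : t⁻¹ = t := inv_eq_of_mul_eq_one_right ht2
  have hTmem : ∀ x ∈ (T : Subgroup G), x = 1 ∨ x = t := by
    intro x hx
    by_cases hx1 : x = 1
    · exact Or.inl hx1
    · right
      obtain ⟨y, -, hy⟩ := (Nat.card_eq_two_iff' (1 : (T : Subgroup G))).1 hT
      have h1 : (⟨x, hx⟩ : (T : Subgroup G)) = y := hy _ (fun h => hx1 (congrArg Subtype.val h))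
      have h2 : (⟨t, htT⟩ : (T : Subgroup G)) = y := hy _ (fun h => ht1 (congrArg Subtype.val h))
      exact congrArg Subtype.val (h1.trans h2.symm)
  have htS : t ∉ (S : Subgroup G) := fun h => ht1 (eq_one_of_sq_of_pgroup S t h ht2')
  -- J ≤ S
  have hJS : J ≤ (S : Subgroup G) := by
    intro a ha
    have h1 : a = (a ^ 2) ^ 2 := by
      rw [← pow_mul]
      have : a ^ (2 * 2) = a ^ 3 * a := by rw [← pow_succ]
      rw [this, hJexp a ha, one_mul]
    rw [h1]
    exact (S : Subgroup G).pow_mem (Subgroup.sq_mem_of_index_two hSidx a) 2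
  -- the central element z
  obtain ⟨z, hzZ, hz1⟩ : ∃ z ∈ Z, z ≠ 1 := by
    have hnt : Nontrivial Z := by
      rw [← Finite.one_lt_card_iff_nontrivial, hZcard]; norm_num
    obtain ⟨x, hx⟩ := exists_ne (1 : Z)
    exact ⟨x, x.2, fun h => hx (Subtype.ext h)⟩
  have hz3 : z ^ 3 = 1 := by
    have := pow_card_eq_one' (G := Z) (x := ⟨z, hzZ⟩)
    rw [hZcard] at this
    exact congrArg Subtype.val this
  have hzZ' : z ∈ (S : Subgroup G) ⊓ Subgroup.centralizer ((S : Subgroup G) : Set G) := hZ ▸ hzZ
  have hzS : z ∈ (S : Subgroup G) := hzZ'.1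
  have hzcS : ∀ s ∈ (S : Subgroup G), s * z = z * s := fun s hs =>
    (Subgroup.mem_centralizer_iff.1 hzZ'.2) s hs
  have hzt : t * z = z * t := (Subgroup.mem_centralizer_iff.1 (hZT hzZ)) t htT
  have hzc : ∀ g, g * z = z * g := by
    intro g
    by_cases hg : g ∈ (S : Subgroup G)
    · exact hzcS g hg
    · have hgt : g * t ∈ (S : Subgroup G) :=
        (Subgroup.mul_mem_iff_of_index_two hSidx).2 ⟨fun h => absurd h hg, fun h => absurd h htS⟩
      have hg' : g = (g * t) * t := by rw [mul_assoc, ht2, mul_one]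
      rw [hg']
      calc g * t * t * z = g * t * (t * z) := by rw [mul_assoc]
        _ = g * t * (z * t) := by rw [hzt]
        _ = (g * t * z) * t := by simp only [mul_assoc]
        _ = (z * (g * t)) * t := by rw [hzcS _ hgt]
        _ = z * (g * t * t) := by simp only [mul_assoc]
  -- z ∈ J
  have hZlt : ∀ K : Subgroup G, K ≤ Z → K ≠ ⊥ → K = Z := by
    intro K hK hKne
    apply Subgroup.eq_of_le_of_card_ge hK
    have hdvd := Subgroup.card_dvd_of_le hK
    rw [hZcard] at hdvd ⊢
    rcases (Nat.dvd_prime Nat.prime_three).1 hdvd with h | h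
    · exact absurd (Subgroup.card_eq_one.1 h) hKne
    · exact h.ge
  have hJcomm' : ∀ a ∈ J, ∀ b ∈ J, a * b = b * a :=
    (Cfsg.Agent.Lib.Helper1.isMulCommutative_subgroup_iff J).1 hJcomm
  have hzJ : z ∈ J := by
    by_contra hzJ
    have hle1 : J ≤ J ⊔ Z := le_sup_left
    have hle2 : J ⊔ Z ≤ (S : Subgroup G) := sup_le hJS (hZ ▸ inf_le_left)
    have hd1 := Subgroup.card_dvd_of_le hle1
    have hd2 := Subgroup.card_dvd_of_le hle2
    rw [hJcard] at hd1
    rw [hS] at hd2
    have hne27 : Nat.card (J ⊔ Z : Subgroup G) ≠ 27 := by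
      intro h
      have : J = J ⊔ Z := Subgroup.eq_of_le_of_card_ge hle1 (by rw [h, hJcard])
      apply hzJ
      rw [this]
      exact (le_sup_right : Z ≤ J ⊔ Z) hzZ
    have h81 : Nat.card (J ⊔ Z : Subgroup G) = 81 := by
      have hd2' : Nat.card (J ⊔ Z : Subgroup G) ∣ 3 ^ 4 := by norm_num; exact hd2
      obtain ⟨k, hk, hk'⟩ := (Nat.dvd_prime_pow Nat.prime_three).1 hd2'
      rw [hk'] at hd1 hne27 ⊢
      interval_cases k
      · norm_num at hd1
      · norm_num at hd1
      · norm_num at hd1
      · exact absurd (by norm_num) hne27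
      · norm_num
    have hJZS : J ⊔ Z = (S : Subgroup G) :=
      Subgroup.eq_of_le_of_card_ge hle2 (by rw [h81, hS])
    have hScent : (S : Subgroup G) ≤ Subgroup.centralizer (J : Set G) := by
      rw [← hJZS]
      apply sup_le
      · intro a ha
        rw [Subgroup.mem_centralizer_iff]
        intro b hb
        exact hJcomm' b hb a ha
      · intro a ha
        rw [Subgroup.mem_centralizer_iff]
        intro b hb
        have haZ' : a ∈ (S : Subgroup G) ⊓ Subgroup.centralizer ((S : Subgroup G) : Set G) :=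
          hZ ▸ ha
        exact (Subgroup.mem_centralizer_iff.1 haZ'.2) b (hJS hb)
    have hJZ : J ≤ Z := by
      intro a ha
      rw [hZ]
      refine Subgroup.mem_inf.2 ⟨hJS ha, ?_⟩
      rw [Subgroup.mem_centralizer_iff]
      intro s hs
      exact ((Subgroup.mem_centralizer_iff.1 (hScent hs)) a ha).symm
    have := Subgroup.card_le_of_le hJZ
    rw [hJcard, hZcard] at this
    omega
  -- the subgroup B
  have hztconj : t * z * t⁻¹ = z := by rw [hzt, mul_assoc, mul_inv_cancel, mul_one]
  obtain ⟨B, hBJ, hBcard, hzB, hBinv⟩ :=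
    exists_B J hJcomm hJexp hJcard t z ht2 hzJ hz1 hztconj
  have htB : t ∉ B := fun h => htS (hJS (hBJ h))
  refine ⟨joinInv B t ht2 hBinv, z, ?_, hz3, hzc, ?_, ?_⟩
  · rw [card_joinInv B t ht2 hBinv htB, hBcard]
  · rintro (h | h)
    · exact hzB h
    · apply htS
      have : t = z⁻¹ * (z * t) := by group
      rw [this]
      exact (S : Subgroup G).mul_mem ((S : Subgroup G).inv_mem hzS) (hJS (hBJ h))
  · -- core-free
    set H := joinInv B t ht2 hBinv with hH
    have hzH : z ∉ H := by
      rintro (h | h)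
      · exact hzB h
      · apply htS
        have : t = z⁻¹ * (z * t) := by group
        rw [this]
        exact (S : Subgroup G).mul_mem ((S : Subgroup G).inv_mem hzS) (hJS (hBJ h))
    by_contra hN
    have hNn : H.normalCore.Normal := Subgroup.normalCore_normal H
    have hNH : H.normalCore ≤ H := Subgroup.normalCore_le H
    by_cases hNS : Disjoint H.normalCore (S : Subgroup G)
    · -- a normal subgroup meeting S trivially: central involution
      obtain ⟨⟨n, hnN⟩, hn1⟩ := Subgroup.ne_bot_iff_exists_ne_one.1 hN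
      have hn1 : n ≠ 1 := fun h => hn1 (Subtype.ext h)
      have hdis : ∀ x, x ∈ H.normalCore → x ∈ (S : Subgroup G) → x = 1 := fun x h1 h2 =>
        Subgroup.disjoint_def.1 hNS h1 h2
      have hnS : n ∉ (S : Subgroup G) := fun h => hn1 (hdis n hnN h)
      have hn2 : n * n = 1 := by
        apply hdis
        · exact H.normalCore.mul_mem hnN hnN
        · rw [← pow_two]; exact Subgroup.sq_mem_of_index_two hSidx n
      have hninv : n⁻¹ = n := inv_eq_of_mul_eq_one_right hn2
      have hncentral : ∀ g, g * n * g⁻¹ = n := by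
        intro g
        have h1 : g * n * g⁻¹ ∈ H.normalCore := hNn.conj_mem n hnN g
        have h2 : g * n * g⁻¹ ∉ (S : Subgroup G) := by
          intro h
          apply hnS
          have := hSn.conj_mem _ h g⁻¹
          simpa [mul_assoc] using this
        have h3 : g * n * g⁻¹ * n ∈ (S : Subgroup G) :=
          (Subgroup.mul_mem_iff_of_index_two hSidx).2 ⟨fun h => absurd h h2, fun h => absurd h hnS⟩
        have h4 := hdis _ (H.normalCore.mul_mem h1 hnN) h3
        calc g * n * g⁻¹ = (g * n * g⁻¹ * n) * n := by rw [mul_assoc _ n n, hn2, mul_one]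
          _ = n := by rw [h4, one_mul]
      have htn : t * n ∈ (S : Subgroup G) :=
        (Subgroup.mul_mem_iff_of_index_two hSidx).2 ⟨fun h => absurd h htS, fun h => absurd h hnS⟩
      have hcomm : t * n = n * t := by
        have := hncentral t
        calc t * n = (t * n * t⁻¹) * t := by group
          _ = n * t := by rw [this]
      have htn2 : (t * n) ^ 2 = 1 := by
        rw [pow_two]
        calc t * n * (t * n) = t * (n * t) * n := by simp only [mul_assoc]
          _ = t * (t * n) * n := by rw [hcomm]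
          _ = (t * t) * (n * n) := by simp only [mul_assoc]
          _ = 1 := by rw [ht2, hn2, one_mul]
      have htn1 : t * n = 1 := eq_one_of_sq_of_pgroup S _ htn htn2
      have hnt : n = t := by
        calc n = t * (t * n) := by rw [← mul_assoc, ht2, one_mul]
          _ = t := by rw [htn1, mul_one]
      apply hST
      apply le_antisymm inf_le_left
      intro s hs
      refine Subgroup.mem_inf.2 ⟨hs, ?_⟩
      rw [Subgroup.mem_centralizer_iff]
      intro x hx
      rcases hTmem x hx with h | h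
      · rw [h]; simp
      · rw [h]
        have h5 := hncentral s
        rw [hnt] at h5
        calc t * s = (s * t * s⁻¹) * s := by rw [h5]
          _ = s * t := by group
    · -- N meets S: then N meets Z
      have hnil : Group.IsNilpotent (S : Subgroup G) := S.isPGroup'.isNilpotent
      have hne : H.normalCore.subgroupOf (S : Subgroup G) ≠ ⊥ := by
        rw [Ne, Subgroup.subgroupOf_eq_bot]
        exact hNS
      have hnorm : (H.normalCore.subgroupOf (S : Subgroup G)).Normal := inferInstance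
      have hcen := Cfsg.Agent.Lib.Helper1.normal_inf_center_ne_bot
        (H.normalCore.subgroupOf (S : Subgroup G)) hne
      obtain ⟨⟨x, hx⟩, hx1⟩ := Subgroup.ne_bot_iff_exists_ne_one.1 hcen
      have hx1 : x ≠ 1 := fun h => hx1 (Subtype.ext h)
      have hxN : (x : G) ∈ H.normalCore := Subgroup.mem_subgroupOf.1 hx.1
      have hxZ : (x : G) ∈ Z := by
        rw [hZ]
        refine Subgroup.mem_inf.2 ⟨x.2, ?_⟩
        rw [Subgroup.mem_centralizer_iff]
        intro s hs
        have := Subgroup.mem_center_iff.1 hx.2 ⟨s, hs⟩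
        exact congrArg Subtype.val this
      have hxne : (x : G) ≠ 1 := fun h => hx1 (Subtype.ext h)
      have hK : H.normalCore ⊓ Z = Z := by
        apply hZlt _ inf_le_right
        intro hbot
        have : (x : G) ∈ H.normalCore ⊓ Z := ⟨hxN, hxZ⟩
        rw [hbot, Subgroup.mem_bot] at this
        exact hxne this
      have hzK : z ∈ H.normalCore ⊓ Z := by rw [hK]; exact hzZ
      exact hzH (hNH hzK.1)

end main


end Cfsg.Agent.Lib.Helper19.Ord162Struct
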