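import Mathlib

set_option autoImplicit false

namespace Cfsg.Agent.Lib.Helper19.SylTools

open MulAction

section transferLemma

variable {G : Type*} [Group G] [Finite G] [IsSimpleGroup G] {p : ℕ} [Fact p.Prime]

open scoped IsMulCommutative in
/-- In a simple group, an abelian Sylow subgroup (not the whole group) meets the centre of its
normaliser trivially. -/
theorem abelian_sylow_center_normalizer (P : Sylow p G) [IsMulCommutative P]
    (hP : (P : Subgroup G) ≠ ⊤) (f : G) (hf : f ∈ P)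
    (hcent : ∀ n ∈ Subgroup.normalizer ((P : Subgroup G) : Set G), n * f = f * n) : f = 1 := by
  have key : ∀ (k : ℕ) (g₀ : G), g₀⁻¹ * f ^ k * g₀ ∈ (P : Subgroup G) →
      g₀⁻¹ * f ^ k * g₀ = f ^ k := by
    intro k g₀ hk
    obtain ⟨n, hn, hconj⟩ := P.conj_eq_normalizer_conj_of_mem (f ^ k) g₀
      ((P : Subgroup G).pow_mem hf k) hk
    rw [hconj]
    have h1 : Commute n f := hcent n hn
    have h2 : n * f ^ k = f ^ k * n := (h1.pow_right k)
    rw [mul_assoc, ← h2, inv_mul_cancel_left]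
  have hV := MonoidHom.transfer_eq_pow (MonoidHom.id ↥(P : Subgroup G)) f key
  set V : G →* ↥(P : Subgroup G) := MonoidHom.transfer (MonoidHom.id ↥(P : Subgroup G)) with hVdef
  rcases (MonoidHom.normal_ker V).eq_bot_or_eq_top with h | h
  · exfalso
    apply hP
    have hinj : Function.Injective V := (MonoidHom.ker_eq_bot_iff V).mp h
    have hle : Nat.card G ≤ Nat.card (P : Subgroup G) := Nat.card_le_card_of_injective V hinj
    exact Subgroup.eq_top_of_le_card _ hle
  · have hker : f ∈ V.ker := by rw [h]; trivial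
    rw [MonoidHom.mem_ker, hV] at hker
    have h1 : f ^ (P : Subgroup G).index = 1 := by
      have := congrArg Subtype.val hker
      simpa using this
    have h2 : f ^ Nat.card (P : Subgroup G) = 1 := by
      have h := pow_card_eq_one' (G := ↥(P : Subgroup G)) (x := ⟨f, hf⟩)
      exact congrArg Subtype.val h
    have hcop : (Nat.card (P : Subgroup G)).Coprime (P : Subgroup G).index := P.card_coprime_index
    have h3 : orderOf f ∣ Nat.gcd (Nat.card (P : Subgroup G)) (P : Subgroup G).index :=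
      Nat.dvd_gcd (orderOf_dvd_of_pow_eq_one h2) (orderOf_dvd_of_pow_eq_one h1)
    rw [hcop] at h3
    exact orderOf_eq_one_iff.mp (Nat.dvd_one.mp h3)

end transferLemma

section regular

variable {G : Type*} [Group G] [Finite G] {p : ℕ} [Fact p.Prime]

/-- Sylow subgroups of prime order intersect trivially. -/
theorem ti_of_prime_card (hcard : ∀ P : Sylow p G, Nat.card P = p) (P Q : Sylow p G)
    (hPQ : P ≠ Q) : (P : Subgroup G) ⊓ (Q : Subgroup G) = ⊥ := by
  by_contra hD
  have hp : p.Prime := Fact.out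
  have h1 : Nat.card ((P : Subgroup G) ⊓ (Q : Subgroup G) : Subgroup G) ∣ p := by
    have := Subgroup.card_dvd_of_le (inf_le_left : (P : Subgroup G) ⊓ (Q : Subgroup G) ≤ P)
    rwa [hcard P] at this
  rcases (Nat.dvd_prime hp).mp h1 with h | h
  · exact hD (Subgroup.card_eq_one.mp h)
  · have h4 : (P : Subgroup G) ⊓ (Q : Subgroup G) = P :=
      Subgroup.eq_of_le_of_card_ge inf_le_left (by rw [h, hcard P])
    have h5 : (P : Subgroup G) ≤ Q := by rw [← h4]; exact inf_le_right
    have h6 : (P : Subgroup G) = Q := Subgroup.eq_of_le_of_card_ge h5 (by rw [hcard P, hcard Q])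
    exact hPQ (Sylow.ext h6)

theorem ti_semireg (hTI : ∀ P Q : Sylow p G, P ≠ Q → (P : Subgroup G) ⊓ (Q : Subgroup G) = ⊥)
    {P Q : Sylow p G} (hQP : Q ≠ P) {x : G} (hx : x ∈ P) (hxQ : x • Q = Q) : x = 1 := by
  have h1 : x ∈ (P : Subgroup G) ⊓ Subgroup.normalizer (Q : Set G) :=
    ⟨hx, Sylow.smul_eq_iff_mem_normalizer.mp hxQ⟩
  rw [IsPGroup.inf_normalizer_sylow P.2 Q, hTI P Q (Ne.symm hQP), Subgroup.mem_bot] at h1
  exact h1

omit [Finite G] in
theorem ti_smul_self {P : Sylow p G} {x : G} (hx : x ∈ P) : x • P = P :=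
  Sylow.smul_eq_iff_mem_normalizer.mpr (Subgroup.le_normalizer hx)

theorem ti_trans (hTI : ∀ P Q : Sylow p G, P ≠ Q → (P : Subgroup G) ⊓ (Q : Subgroup G) = ⊥)
    {m : ℕ} (hcard : ∀ P : Sylow p G, Nat.card P = m) (hn : Nat.card (Sylow p G) = m + 1)
    {P Q₁ Q₂ : Sylow p G} (h1 : Q₁ ≠ P) (h2 : Q₂ ≠ P) :
    ∃ x ∈ P, x • Q₁ = Q₂ := by
  classical
  have hne : ∀ x : P, (x : G) • Q₁ ≠ P := by
    intro x h
    have h3 : (x : G) • P = P := ti_smul_self x.2
    exact h1 (MulAction.injective (x : G) (h.trans h3.symm))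
  let f : P → {Q : Sylow p G // Q ≠ P} := fun x => ⟨(x : G) • Q₁, hne x⟩
  have hf : Function.Injective f := by
    intro x y hxy
    have h3 : (x : G) • Q₁ = (y : G) • Q₁ := congrArg Subtype.val hxy
    have h4 : ((y : G)⁻¹ * (x : G)) • Q₁ = Q₁ := by rw [mul_smul, h3, inv_smul_smul]
    have h5 := ti_semireg hTI h1 ((P : Subgroup G).mul_mem ((P : Subgroup G).inv_mem y.2) x.2) h4
    apply Subtype.ext
    have : (x : G) = (y : G) * ((y : G)⁻¹ * (x : G)) := by group
    rw [this, h5, mul_one]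
  have hc : Nat.card {Q : Sylow p G // Q ≠ P} ≤ Nat.card P := by
    letI : Fintype (Sylow p G) := Fintype.ofFinite _
    rw [Nat.card_eq_fintype_card, Fintype.card_subtype_compl, Fintype.card_subtype_eq,
      ← Nat.card_eq_fintype_card, hn, hcard P]
    omega
  obtain ⟨x, hx⟩ := (hf.bijective_of_nat_card_le hc).2 ⟨Q₂, h2⟩
  exact ⟨x, x.2, congrArg Subtype.val hx⟩

theorem ti_two (hTI : ∀ P Q : Sylow p G, P ≠ Q → (P : Subgroup G) ⊓ (Q : Subgroup G) = ⊥)
    {m : ℕ} (hcard : ∀ P : Sylow p G, Nat.card P = m) (hn : Nat.card (Sylow p G) = m + 1)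
    {a b c d : Sylow p G} (hab : a ≠ b) (hcd : c ≠ d) :
    ∃ g : G, g • a = c ∧ g • b = d := by
  obtain ⟨g, hg⟩ := MulAction.exists_smul_eq G a c
  have h1 : g • b ≠ c := fun h => hab (MulAction.injective g (hg.trans h.symm))
  obtain ⟨x, hx, hxb⟩ := ti_trans hTI hcard hn h1 (Ne.symm hcd)
  exact ⟨x * g, by rw [mul_smul, hg, ti_smul_self hx], by rw [mul_smul, hxb]⟩

theorem ti_exists_pair {m : ℕ} (hm : 1 ≤ m) (hn : Nat.card (Sylow p G) = m + 1) :
    ∃ a b : Sylow p G, a ≠ b := by
  classical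
  letI : Fintype (Sylow p G) := Fintype.ofFinite _
  have : 1 < Fintype.card (Sylow p G) := by
    rw [← Nat.card_eq_fintype_card, hn]
    omega
  exact Fintype.exists_pair_of_one_lt_card this

theorem ti_faithful [IsSimpleGroup G] {a b : Sylow p G} (hab : a ≠ b) :
    FaithfulSMul G (Sylow p G) := by
  have hker : (MulAction.toPermHom G (Sylow p G)).ker = ⊥ := by
    rcases (MonoidHom.normal_ker (MulAction.toPermHom G (Sylow p G))).eq_bot_or_eq_top with h | h
    · exact h
    · exfalso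
      obtain ⟨g, hg⟩ := MulAction.exists_smul_eq G a b
      have h1 : g ∈ (MulAction.toPermHom G (Sylow p G)).ker := by rw [h]; trivial
      rw [MonoidHom.mem_ker] at h1
      have h2 : g • a = a := by
        have := congrArg (fun σ : Equiv.Perm (Sylow p G) => σ a) h1
        simpa using this
      exact hab (h2.symm.trans hg)
  constructor
  intro g g' h
  have h1 : g'⁻¹ * g ∈ (MulAction.toPermHom G (Sylow p G)).ker := by
    rw [MonoidHom.mem_ker]
    ext x
    simp [mul_smul, h x]
  rw [hker, Subgroup.mem_bot] at h1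
  have : g = g' * (g'⁻¹ * g) := by group
  rw [this, h1, mul_one]

/-- order of the point stabiliser in terms of the two-point stabiliser -/
theorem ti_card_stab (hTI : ∀ P Q : Sylow p G, P ≠ Q → (P : Subgroup G) ⊓ (Q : Subgroup G) = ⊥)
    {m : ℕ} (hcard : ∀ P : Sylow p G, Nat.card P = m) (hn : Nat.card (Sylow p G) = m + 1)
    {a b : Sylow p G} (hab : a ≠ b) :
    Nat.card (stabilizer G a) = m * Nat.card ↥(stabilizer G a ⊓ stabilizer G b) := by
  let H : Subgroup G := stabilizer G a ⊓ stabilizer G b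
  have hHmem : ∀ h : G, h ∈ H ↔ h • a = a ∧ h • b = b := by
    intro h
    simp only [H, Subgroup.mem_inf, MulAction.mem_stabilizer_iff]
  let A : Subgroup G := a
  let f : ↥A × ↥H → stabilizer G a := fun xh =>
    ⟨(xh.1 : G) * (xh.2 : G), by
      rw [mem_stabilizer_iff, mul_smul, ((hHmem _).mp xh.2.2).1, ti_smul_self xh.1.2]⟩
  have hf : Function.Bijective f := by
    constructor
    · rintro ⟨x, h⟩ ⟨x', h'⟩ hxy
      have h2 : (x : G) * (h : G) = (x' : G) * (h' : G) := congrArg Subtype.val hxy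
      have h3 : ((x' : G)⁻¹ * (x : G)) = (h' : G) * (h : G)⁻¹ := by
        calc ((x' : G)⁻¹ * (x : G)) = (x' : G)⁻¹ * ((x : G) * (h : G)) * (h : G)⁻¹ := by group
          _ = (h' : G) * (h : G)⁻¹ := by rw [h2]; group
      have h4 : ((x' : G)⁻¹ * (x : G)) • b = b := by
        rw [h3]
        exact ((hHmem _).mp (H.mul_mem h'.2 (H.inv_mem h.2))).2
      have h5 := ti_semireg hTI (Ne.symm hab)
        ((a : Subgroup G).mul_mem ((a : Subgroup G).inv_mem x'.2) x.2) h4
      have hx : x = x' := by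
        apply Subtype.ext
        have : (x : G) = (x' : G) * ((x' : G)⁻¹ * (x : G)) := by group
        rw [this, h5, mul_one]
      have hh : h = h' := by
        apply Subtype.ext
        rw [h5] at h3
        have : (h : G) = ((h' : G) * (h : G)⁻¹)⁻¹ * (h' : G) := by group
        rw [this, ← h3, inv_one, one_mul]
      rw [hx, hh]
    · rintro ⟨g, hg⟩
      rw [mem_stabilizer_iff] at hg
      have h2 : g • b ≠ a := fun h => hab (MulAction.injective g (hg.trans h.symm))
      obtain ⟨x, hx, hxb⟩ := ti_trans hTI hcard hn (Ne.symm hab) h2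
      refine ⟨⟨⟨x, hx⟩, ⟨x⁻¹ * g, (hHmem _).mpr ⟨?_, ?_⟩⟩⟩, ?_⟩
      · rw [mul_smul, hg, inv_smul_eq_iff, ti_smul_self hx]
      · rw [mul_smul, inv_smul_eq_iff, hxb]
      · apply Subtype.ext
        show x * (x⁻¹ * g) = g
        group
  rw [← Nat.card_eq_of_bijective f hf, Nat.card_prod]
  show Nat.card ↥(a : Subgroup G) * _ = _
  rw [hcard a]

theorem ti_card_stab_mul {m : ℕ} (hn : Nat.card (Sylow p G) = m + 1) (a : Sylow p G) :
    Nat.card (stabilizer G a) * (m + 1) = Nat.card G := by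
  rw [Sylow.stabilizer_eq_normalizer, ← hn, Sylow.card_eq_index_normalizer a]
  exact Subgroup.card_mul_index _

/-- an element fixing three points commutes with the element of the first point
carrying the second to the third -/
theorem ti_fix_comm (hTI : ∀ P Q : Sylow p G, P ≠ Q → (P : Subgroup G) ⊓ (Q : Subgroup G) = ⊥)
    {m : ℕ} (hcard : ∀ P : Sylow p G, Nat.card P = m) (hn : Nat.card (Sylow p G) = m + 1)
    {a b c : Sylow p G} (hab : a ≠ b) (hac : a ≠ c) (t : G)
    (ha : t • a = a) (hb : t • b = b) (hc : t • c = c) :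
    ∃ k ∈ (a : Subgroup G), k • b = c ∧ t * k * t⁻¹ = k := by
  have htN : ∀ k ∈ (a : Subgroup G), t * k * t⁻¹ ∈ (a : Subgroup G) := by
    intro k hk
    have htn : t ∈ Subgroup.normalizer ((a : Subgroup G) : Set G) :=
      Sylow.smul_eq_iff_mem_normalizer.mp ha
    exact (Subgroup.mem_normalizer_iff.mp htn k).mp hk
  obtain ⟨k, hk, hky⟩ := ti_trans hTI hcard hn (Ne.symm hab) (Ne.symm hac)
  refine ⟨k, hk, hky, ?_⟩
  have h6 : (t * k * t⁻¹) • b = k • b := by
    rw [mul_smul, mul_smul, inv_smul_eq_iff.mpr hb.symm, hky, hc]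
  have h7 : (k⁻¹ * (t * k * t⁻¹)) • b = b := by rw [mul_smul, h6, inv_smul_smul]
  have h8 := ti_semireg hTI (Ne.symm hab)
    ((a : Subgroup G).mul_mem ((a : Subgroup G).inv_mem hk) (htN k hk)) h7
  have : t * k * t⁻¹ = k * (k⁻¹ * (t * k * t⁻¹)) := by group
  rw [this, h8, mul_one]

end regular

section sharp

variable {G α : Type*} [Group G] [MulAction G α] [Finite α]

/-- the orbit map of the two-point stabiliser on a third point, into the remaining points -/
noncomputable def twoStabMap {a b : α} (c : α) (hca : c ≠ a) (hcb : c ≠ b) :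
    ↥(stabilizer G a ⊓ stabilizer G b) → ↥(({a, b} : Set α)ᶜ) := fun h =>
  ⟨(h : G) • c, by
    have h1 : (h : G) • a = a := mem_stabilizer_iff.mp (Subgroup.mem_inf.mp h.2).1
    have h2 : (h : G) • b = b := mem_stabilizer_iff.mp (Subgroup.mem_inf.mp h.2).2
    rw [Set.mem_compl_iff, Set.mem_insert_iff, Set.mem_singleton_iff, not_or]
    constructor
    · intro h3
      exact hca (MulAction.injective (h : G) (h3.trans h1.symm))
    · intro h3
      exact hcb (MulAction.injective (h : G) (h3.trans h2.symm))⟩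

omit [Finite α] in
theorem twoStabMap_injective
    (S3 : ∀ g : G, ∀ a b c : α, a ≠ b → b ≠ c → a ≠ c → g • a = a → g • b = b → g • c = c → g = 1)
    {a b : α} (hab : a ≠ b) (c : α) (hca : c ≠ a) (hcb : c ≠ b) :
    Function.Injective (twoStabMap (G := G) c hca hcb) := by
  intro h h' hhh
  have h0 : (h : G) • c = (h' : G) • c := congrArg Subtype.val hhh
  have hm : (h'⁻¹ * h : ↥(stabilizer G a ⊓ stabilizer G b)).1 ∈ stabilizer G a ⊓ stabilizer G b :=
    (h'⁻¹ * h).2
  have h1 := mem_stabilizer_iff.mp (Subgroup.mem_inf.mp hm).1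
  have h2 := mem_stabilizer_iff.mp (Subgroup.mem_inf.mp hm).2
  have h3 : ((h'⁻¹ * h : ↥(stabilizer G a ⊓ stabilizer G b)) : G) • c = c := by
    show (((h' : G)⁻¹ * (h : G)) : G) • c = c
    rw [mul_smul, h0, inv_smul_smul]
  have h4 := S3 _ a b c hab (Ne.symm hcb) (Ne.symm hca) h1 h2 h3
  have h5 : h'⁻¹ * h = 1 := Subtype.ext h4
  have : h = h' * (h'⁻¹ * h) := by group
  rw [this, h5, mul_one]

theorem card_compl_pair {a b : α} (hab : a ≠ b) :
    Nat.card ↥(({a, b} : Set α)ᶜ) + 2 = Nat.card α := by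
  rw [Nat.card_coe_set_eq, ← Set.ncard_add_ncard_compl ({a, b} : Set α), Set.ncard_pair hab]
  omega

theorem two_stab_card_le
    (S3 : ∀ g : G, ∀ a b c : α, a ≠ b → b ≠ c → a ≠ c → g • a = a → g • b = b → g • c = c → g = 1)
    {a b c : α} (hab : a ≠ b) (hca : c ≠ a) (hcb : c ≠ b) :
    Nat.card ↥(stabilizer G a ⊓ stabilizer G b) + 2 ≤ Nat.card α := by
  rw [← card_compl_pair hab]
  exact Nat.add_le_add_right
    (Nat.card_le_card_of_injective _ (twoStabMap_injective S3 hab c hca hcb)) 2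

theorem two_stab_trans
    (S3 : ∀ g : G, ∀ a b c : α, a ≠ b → b ≠ c → a ≠ c → g • a = a → g • b = b → g • c = c → g = 1)
    {a b c c' : α} (hab : a ≠ b) (hca : c ≠ a) (hcb : c ≠ b) (hca' : c' ≠ a) (hcb' : c' ≠ b)
    (hcard : Nat.card ↥(stabilizer G a ⊓ stabilizer G b) + 2 = Nat.card α) :
    ∃ h : G, h • a = a ∧ h • b = b ∧ h • c = c' := by
  have hinj := twoStabMap_injective S3 hab c hca hcb
  have hle : Nat.card ↥(({a, b} : Set α)ᶜ) ≤ Nat.card ↥(stabilizer G a ⊓ stabilizer G b) := by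
    have := card_compl_pair hab
    omega
  have hc'mem : c' ∈ (({a, b} : Set α)ᶜ) := by
    rw [Set.mem_compl_iff, Set.mem_insert_iff, Set.mem_singleton_iff, not_or]
    exact ⟨hca', hcb'⟩
  obtain ⟨h, hh⟩ := (hinj.bijective_of_nat_card_le hle).2 ⟨c', hc'mem⟩
  exact ⟨h, mem_stabilizer_iff.mp (Subgroup.mem_inf.mp h.2).1,
    mem_stabilizer_iff.mp (Subgroup.mem_inf.mp h.2).2, congrArg Subtype.val hh⟩

/-- two-transitive, three points determine, and the right count give three-transitivity -/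
theorem t3_of_two
    (two : ∀ a b c d : α, a ≠ b → c ≠ d → ∃ g : G, g • a = c ∧ g • b = d)
    (S3 : ∀ g : G, ∀ a b c : α, a ≠ b → b ≠ c → a ≠ c → g • a = a → g • b = b → g • c = c → g = 1)
    (hH : ∀ a b : α, a ≠ b → Nat.card ↥(stabilizer G a ⊓ stabilizer G b) + 2 = Nat.card α)
    (a b c a' b' c' : α) (hab : a ≠ b) (hbc : b ≠ c) (hac : a ≠ c) (hab' : a' ≠ b')
    (hbc' : b' ≠ c') (hac' : a' ≠ c') :
    ∃ g : G, g • a = a' ∧ g • b = b' ∧ g • c = c' := by
  obtain ⟨g, hga, hgb⟩ := two a b a' b' hab hab'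
  have h1 : g • c ≠ a' := fun h => hac (MulAction.injective g (hga.trans h.symm))
  have h2 : g • c ≠ b' := fun h => hbc (MulAction.injective g (hgb.trans h.symm))
  obtain ⟨h, hha, hhb, hhc⟩ := two_stab_trans S3 hab' h1 h2 (Ne.symm hac') (Ne.symm hbc')
    (hH a' b' hab')
  exact ⟨h * g, by rw [mul_smul, hga, hha], by rw [mul_smul, hgb, hhb], by rw [mul_smul, hhc]⟩

end sharp

section central

variable {G : Type*} [Group G] [Finite G] {p : ℕ} [Fact p.Prime]

omit [Finite G] in
theorem conj_mem_smul {P : Sylow p G} {x : G} (hx : x ∈ P) (g : G) :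
    g * x * g⁻¹ ∈ ((g • P : Sylow p G) : Subgroup G) := by
  rw [Sylow.coe_subgroup_smul]
  have := Subgroup.smul_mem_pointwise_smul x (MulAut.conj g) (P : Subgroup G) hx
  rwa [MulAut.smul_def, MulAut.conj_apply] at this

theorem ti_centralizer_le_normalizer
    (hTI : ∀ P Q : Sylow p G, P ≠ Q → (P : Subgroup G) ⊓ (Q : Subgroup G) = ⊥)
    {P : Sylow p G} {x : G} (hx : x ∈ P) (hx1 : x ≠ 1) :
    Subgroup.centralizer {x} ≤ Subgroup.normalizer ((P : Subgroup G) : Set G) := by
  intro g hg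
  rw [Subgroup.mem_centralizer_singleton_iff] at hg
  have h1 : g * x * g⁻¹ = x := by rw [hg, mul_inv_cancel_right]
  have h2 := conj_mem_smul hx g
  rw [h1] at h2
  have h3 : g • P = P := by
    by_contra hne
    have : x ∈ ((g • P : Sylow p G) : Subgroup G) ⊓ (P : Subgroup G) := ⟨h2, hx⟩
    rw [hTI _ _ hne, Subgroup.mem_bot] at this
    exact hx1 this
  exact Sylow.smul_eq_iff_mem_normalizer.mp h3

/-- centraliser of a nonidentity element of an abelian TI Sylow subgroup of index two in its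
normaliser, in a simple group -/
theorem ti_card_centralizer [IsSimpleGroup G]
    (hTI : ∀ P Q : Sylow p G, P ≠ Q → (P : Subgroup G) ⊓ (Q : Subgroup G) = ⊥)
    (P : Sylow p G) (hcomm : ∀ x ∈ P, ∀ y ∈ P, x * y = y * x) (hP : (P : Subgroup G) ≠ ⊤)
    (hN : Nat.card (Subgroup.normalizer ((P : Subgroup G) : Set G)) = 2 * Nat.card P)
    {x : G} (hx : x ∈ P) (hx1 : x ≠ 1) :
    Nat.card (Subgroup.centralizer {x}) = Nat.card P := by
  have h1 : (P : Subgroup G) ≤ Subgroup.centralizer {x} := by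
    intro y hy
    rw [Subgroup.mem_centralizer_singleton_iff]
    exact hcomm y hy x hx
  have h2 := ti_centralizer_le_normalizer hTI hx hx1
  have d1 := Subgroup.card_dvd_of_le h1
  have d2 := Subgroup.card_dvd_of_le h2
  rw [hN] at d2
  obtain ⟨j, hj⟩ := d1
  have hPpos : 0 < Nat.card (P : Subgroup G) := Nat.card_pos
  have hj2 : j ∣ 2 := by
    rw [hj, mul_comm 2] at d2
    exact Nat.dvd_of_mul_dvd_mul_left hPpos d2
  have hjle : j ≤ 2 := Nat.le_of_dvd (by norm_num) hj2
  have hjpos : 0 < j := Nat.pos_of_dvd_of_pos hj2 (by norm_num)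
  interval_cases j
  · rw [hj, mul_one]
  · exfalso
    have h3 : Subgroup.centralizer {x} = Subgroup.normalizer ((P : Subgroup G) : Set G) :=
      Subgroup.eq_of_le_of_card_ge h2 (by rw [hN, hj]; omega)
    haveI : IsMulCommutative ↥(P : Subgroup G) :=
      ⟨⟨fun a b => Subtype.ext (hcomm a a.2 b b.2)⟩⟩
    apply hx1
    apply abelian_sylow_center_normalizer P hP x hx
    intro n hn
    rw [← h3, Subgroup.mem_centralizer_singleton_iff] at hn
    exact hn

/-- the number of nonidentity elements lying in Sylow subgroups, in the TI case -/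
theorem ti_card_elements
    (hTI : ∀ P Q : Sylow p G, P ≠ Q → (P : Subgroup G) ⊓ (Q : Subgroup G) = ⊥)
    {m : ℕ} (hcard : ∀ P : Sylow p G, Nat.card P = m) :
    ({g : G | g ≠ 1 ∧ ∃ P : Sylow p G, g ∈ P} : Set G).ncard = Nat.card (Sylow p G) * (m - 1) := by
  classical
  letI : Fintype (Sylow p G) := Fintype.ofFinite _
  rw [← Nat.card_coe_set_eq]
  let β : Sylow p G → Type _ := fun P => {g : G // g ∈ (P : Subgroup G) ∧ g ≠ 1}
  let f : (Σ P, β P) → ↥({g : G | g ≠ 1 ∧ ∃ P : Sylow p G, g ∈ P} : Set G) :=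
    fun x => ⟨x.2.1, x.2.2.2, x.1, x.2.2.1⟩
  have hf : Function.Bijective f := by
    constructor
    · rintro ⟨P, g, hg, hg1⟩ ⟨Q, g', hg', hg1'⟩ h
      have hgg : g = g' := congrArg Subtype.val h
      subst hgg
      have hPQ : P = Q := by
        by_contra hne
        have : g ∈ (P : Subgroup G) ⊓ (Q : Subgroup G) := ⟨hg, hg'⟩
        rw [hTI P Q hne, Subgroup.mem_bot] at this
        exact hg1 this
      subst hPQ
      rfl
    · rintro ⟨g, hg1, P, hgP⟩
      exact ⟨⟨P, g, hgP, hg1⟩, rfl⟩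
  rw [← Nat.card_eq_of_bijective f hf, Nat.card_sigma]
  have hβ : ∀ P : Sylow p G, Nat.card (β P) = m - 1 := by
    intro P
    have e : β P ≃ {x : ↥(P : Subgroup G) // x ≠ 1} :=
      { toFun := fun g => ⟨⟨g.1, g.2.1⟩, fun h => g.2.2 (congrArg Subtype.val h)⟩
        invFun := fun x => ⟨x.1.1, x.1.2, fun h => x.2 (Subtype.ext h)⟩
        left_inv := fun g => rfl
        right_inv := fun x => rfl }
    rw [Nat.card_congr e]
    letI : Fintype ↥(P : Subgroup G) := Fintype.ofFinite _
    rw [Nat.card_eq_fintype_card, Fintype.card_subtype_compl, Fintype.card_subtype_eq,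
      ← Nat.card_eq_fintype_card, hcard P]
  simp only [hβ, Finset.sum_const, Finset.card_univ, smul_eq_mul, Nat.card_eq_fintype_card]

omit [Fact p.Prime] in
/-- class equation for one class -/
theorem card_centralizer_mul_ncard_class (z : G) :
    Nat.card (Subgroup.centralizer {z}) * ({g : G | ∃ c : G, c * z * c⁻¹ = g} : Set G).ncard
      = Nat.card G := by
  have h1 : ({g : G | ∃ c : G, c * z * c⁻¹ = g} : Set G) = orbit (ConjAct G) z := by
    ext g
    rw [ConjAct.mem_orbit_conjAct, isConj_comm, isConj_iff]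
    rfl
  rw [h1, ← MulAction.index_stabilizer, Subgroup.nat_card_centralizer_nat_card_stabilizer]
  exact Subgroup.card_mul_index _

/-- with `p + 1` Sylow subgroups of prime order `p` in a simple group, only the identity fixes
three of them -/
theorem ti_fix_three_of_prime [IsSimpleGroup G] (hcard : ∀ P : Sylow p G, Nat.card P = p)
    (hn : Nat.card (Sylow p G) = p + 1)
    {a b c : Sylow p G} (hab : a ≠ b) (hbc : b ≠ c) (hac : a ≠ c) (h : G)
    (ha : h • a = a) (hb : h • b = b) (hc : h • c = c) : h = 1 := by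
  have hp : p.Prime := Fact.out
  have hTI := ti_of_prime_card hcard
  haveI := ti_faithful (G := G) hab
  obtain ⟨k, hk, hkb, hcomm⟩ := ti_fix_comm hTI hcard hn hab hac h ha hb hc
  have hk1 : k ≠ 1 := by
    rintro rfl
    rw [one_smul] at hkb
    exact hbc hkb
  -- the centraliser of `h` in `a` is all of `a`
  have hC : (a : Subgroup G) ⊓ Subgroup.centralizer {h} = a := by
    have h1 : Nat.card ((a : Subgroup G) ⊓ Subgroup.centralizer {h} : Subgroup G) ∣ p := by
      have := Subgroup.card_dvd_of_le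
        (inf_le_left : (a : Subgroup G) ⊓ Subgroup.centralizer {h} ≤ a)
      rwa [hcard a] at this
    rcases (Nat.dvd_prime hp).mp h1 with h2 | h2
    · exfalso
      have h3 := Subgroup.card_eq_one.mp h2
      have h4 : k ∈ (a : Subgroup G) ⊓ Subgroup.centralizer {h} := by
        refine ⟨hk, ?_⟩
        show k ∈ Subgroup.centralizer {h}
        rw [Subgroup.mem_centralizer_singleton_iff]
        calc k * h = (h * k * h⁻¹) * h := by rw [hcomm]
          _ = h * k := by group
      rw [h3, Subgroup.mem_bot] at h4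
      exact hk1 h4
    · exact Subgroup.eq_of_le_of_card_ge inf_le_left (by rw [h2, hcard a])
  apply FaithfulSMul.eq_of_smul_eq_smul (α := Sylow p G)
  intro y
  rw [one_smul]
  by_cases hya : y = a
  · rw [hya, ha]
  · obtain ⟨x, hx, hxy⟩ := ti_trans hTI hcard hn (Ne.symm hab) hya
    have hxC : x ∈ (a : Subgroup G) ⊓ Subgroup.centralizer {h} := by rw [hC]; exact hx
    have hxh : x * h = h * x := Subgroup.mem_centralizer_singleton_iff.mp hxC.2
    rw [← hxy, ← mul_smul, ← hxh, mul_smul, hb]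

end central

end Cfsg.Agent.Lib.Helper19.SylTools
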