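import Mathlib
import Cfsg.Agent.Lib.Helper19.Ord360A
import Cfsg.Agent.Lib.Helper19.SylTools

set_option autoImplicit false

namespace Cfsg.Agent.Lib.Helper19.Ord504A

open MulAction Cfsg.Agent.Lib.Helper19.Ord360A Cfsg.Agent.Lib.Helper19.SylTools

variable {G : Type*} [Group G] [Finite G] [IsSimpleGroup G]

theorem card_sylow7 (hG : Nat.card G = 504) (P : Sylow 7 G) : Nat.card P = 7 := by
  haveI : Fact (Nat.Prime 7) := ⟨by norm_num⟩
  rw [Sylow.card_eq_multiplicity, hG]
  have : (504 : ℕ).factorization 7 = 1 := fact_eq 7 1 72 (by norm_num) (by norm_num)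
  rw [this]
  norm_num

theorem card_sylow3 (hG : Nat.card G = 504) (P : Sylow 3 G) : Nat.card P = 9 := by
  rw [Sylow.card_eq_multiplicity, hG]
  have : (504 : ℕ).factorization 3 = 2 := fact_eq 3 2 56 Nat.prime_three (by norm_num)
  rw [this]
  norm_num

theorem card_sylow2 (hG : Nat.card G = 504) (P : Sylow 2 G) : Nat.card P = 8 := by
  rw [Sylow.card_eq_multiplicity, hG]
  have : (504 : ℕ).factorization 2 = 3 := fact_eq 2 3 63 Nat.prime_two (by norm_num)
  rw [this]
  norm_num

theorem card_normal_aux (hG : Nat.card G = 504) (N : Subgroup G) [N.Normal] :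
    Nat.card N = 1 ∨ Nat.card N = 504 := by
  rcases IsSimpleGroup.eq_bot_or_eq_top_of_normal N inferInstance with h | h
  · left
    rw [h, Subgroup.card_bot]
  · right
    rw [h, Subgroup.card_top, hG]

/-- no subgroup of index seven -/
theorem index_ne_seven (hG : Nat.card G = 504) (M : Subgroup G) : M.index ≠ 7 := by
  classical
  intro h7
  letI : Fintype (G ⧸ M) := Fintype.ofFinite _
  have hcard : Nat.card (G ⧸ M) = 7 := by rw [← Subgroup.index_eq_card, h7]
  have hM : M ≠ ⊤ := by
    intro h
    rw [h, Subgroup.index_top] at h7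
    omega
  have hinj := toPerm_injective M hM
  have hsign : ∀ g : G, MulAction.toPermHom G (G ⧸ M) g ∈ alternatingGroup (G ⧸ M) := by
    intro g
    rw [Equiv.Perm.mem_alternatingGroup]
    exact sign_trivial (by rw [hG]; norm_num) (MulAction.toPermHom G (G ⧸ M)) g
  let ψ : G →* alternatingGroup (G ⧸ M) :=
    (MulAction.toPermHom G (G ⧸ M)).codRestrict (alternatingGroup (G ⧸ M)) hsign
  have hψ : Function.Injective ψ := by
    intro x y hxy
    apply hinj
    exact congrArg Subtype.val hxy
  haveI : Nontrivial (G ⧸ M) := by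
    rw [← Finite.one_lt_card_iff_nontrivial, hcard]
    norm_num
  have hA : Nat.card (alternatingGroup (G ⧸ M)) = 2520 := by
    rw [nat_card_alternatingGroup, hcard]
    decide
  haveI : IsSimpleGroup (alternatingGroup (G ⧸ M)) :=
    alternatingGroup.isSimpleGroup (by rw [hcard]; norm_num)
  have hK : Nat.card ψ.range = 504 := by
    rw [← hG]
    exact (Nat.card_congr (MonoidHom.ofInjective hψ).toEquiv).symm
  have hidx : ψ.range.index = 5 := by
    have := Subgroup.card_mul_index ψ.range
    rw [hK, hA] at this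
    omega
  have hne : ψ.range ≠ ⊤ := by
    intro h
    rw [h, Subgroup.index_top] at hidx
    omega
  have := card_dvd_factorial ψ.range hne
  rw [hidx, hA] at this
  revert this
  decide

/-- proper subgroups have index at least 8 -/
theorem eight_le_index (hG : Nat.card G = 504) (M : Subgroup G) (hM : M ≠ ⊤) : 8 ≤ M.index := by
  have h1 := card_dvd_factorial M hM
  rw [hG] at h1
  have h7 := index_ne_seven hG M
  by_contra hlt
  push Not at hlt
  have h4 : (M.index).factorial ∣ (6 : ℕ).factorial := Nat.factorial_dvd_factorial (by omega)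
  have h5 : 504 ∣ (6 : ℕ).factorial := h1.trans h4
  revert h5
  decide

/-- proper subgroups have order at most 63 -/
theorem card_le_63 (hG : Nat.card G = 504) (M : Subgroup G) (hM : M ≠ ⊤) : Nat.card M ≤ 63 := by
  have h2 := Subgroup.card_mul_index M
  rw [hG] at h2
  have h3 := eight_le_index hG M hM
  nlinarith

theorem seven_prime_fact : Fact (Nat.Prime 7) := ⟨by norm_num⟩

attribute [local instance] seven_prime_fact

theorem card_normalizer_mul (hG : Nat.card G = 504) {p : ℕ} [Fact p.Prime] (P : Sylow p G) :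
    Nat.card (Subgroup.normalizer ((P : Subgroup G) : Set G)) * Nat.card (Sylow p G) = 504 := by
  rw [Sylow.card_eq_index_normalizer P, ← hG]
  exact Subgroup.card_mul_index _

theorem eight_le_card_sylow (hG : Nat.card G = 504) {p : ℕ} [Fact p.Prime] (P : Sylow p G)
    (h1 : Nat.card P ≠ 1) (h504 : Nat.card P ≠ 504) : 8 ≤ Nat.card (Sylow p G) := by
  rw [Sylow.card_eq_index_normalizer P]
  apply eight_le_index hG
  intro h
  haveI : (P : Subgroup G).Normal := Subgroup.normalizer_eq_top_iff.mp h
  rcases card_normal_aux hG (P : Subgroup G) with h2 | h2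
  · exact h1 h2
  · exact h504 h2

theorem card_sylow_seven (hG : Nat.card G = 504) : Nat.card (Sylow 7 G) = 36 := by
  have h1 : Nat.card (Sylow 7 G) ≡ 1 [MOD 7] := card_sylow_modEq_one 7 G
  obtain ⟨P⟩ : Nonempty (Sylow 7 G) := inferInstance
  have hP7 := card_sylow7 hG P
  have h2 : Nat.card (Sylow 7 G) ∣ (P : Subgroup G).index := Sylow.card_dvd_index P
  have hidx : (P : Subgroup G).index = 72 := by
    have := Subgroup.card_mul_index (P : Subgroup G)
    rw [hP7, hG] at this
    omega
  rw [hidx] at h2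
  have h8 := eight_le_card_sylow hG P (by rw [hP7]; norm_num) (by rw [hP7]; norm_num)
  set n := Nat.card (Sylow 7 G) with hn
  have hcases : n = 8 ∨ n = 36 := by
    have hle : n ≤ 72 := Nat.le_of_dvd (by norm_num) h2
    have hmod : n % 7 = 1 := h1
    interval_cases n <;> omega
  rcases hcases with h | h
  · exfalso
    have hcard : ∀ P : Sylow 7 G, Nat.card P = 7 := card_sylow7 hG
    have hTI := ti_of_prime_card hcard
    obtain ⟨a, b, hab⟩ := ti_exists_pair (p := 7) (G := G) (m := 7) (by norm_num) h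
    have hS3 : ∀ g : G, ∀ a b c : Sylow 7 G, a ≠ b → b ≠ c → a ≠ c →
        g • a = a → g • b = b → g • c = c → g = 1 := by
      intro g a b c hab hbc hac ha hb hc
      exact ti_fix_three_of_prime hcard h hab hbc hac g ha hb hc
    have hst := ti_card_stab_mul (p := 7) (G := G) h a
    rw [hG] at hst
    have hH := ti_card_stab hTI hcard h hab
    -- a third point
    have hc : ∃ c : Sylow 7 G, c ≠ a ∧ c ≠ b := by
      by_contra hcon
      push Not at hcon
      have : Nat.card (Sylow 7 G) ≤ 2 := by
        classical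
        letI : Fintype (Sylow 7 G) := Fintype.ofFinite _
        rw [Nat.card_eq_fintype_card]
        have hsub : (Finset.univ : Finset (Sylow 7 G)) ⊆ {a, b} := by
          intro y _
          by_cases hya : y = a
          · simp [hya]
          · simp [hcon y hya]
        calc Fintype.card (Sylow 7 G) = (Finset.univ : Finset (Sylow 7 G)).card := rfl
          _ ≤ ({a, b} : Finset (Sylow 7 G)).card := Finset.card_le_card hsub
          _ ≤ 2 := Finset.card_le_two
      omega
    obtain ⟨c, hca, hcb⟩ := hc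
    have hle := two_stab_card_le hS3 hab hca hcb
    rw [← hn, h] at hle
    omega
  · exact h

theorem card_sylow_three (hG : Nat.card G = 504) : Nat.card (Sylow 3 G) = 28 := by
  have h1 : Nat.card (Sylow 3 G) ≡ 1 [MOD 3] := card_sylow_modEq_one 3 G
  obtain ⟨P⟩ : Nonempty (Sylow 3 G) := inferInstance
  have hP9 := card_sylow3 hG P
  have h2 : Nat.card (Sylow 3 G) ∣ (P : Subgroup G).index := Sylow.card_dvd_index P
  have hidx : (P : Subgroup G).index = 56 := by
    have := Subgroup.card_mul_index (P : Subgroup G)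
    rw [hP9, hG] at this
    omega
  rw [hidx] at h2
  have h8 := eight_le_card_sylow hG P (by rw [hP9]; norm_num) (by rw [hP9]; norm_num)
  set n := Nat.card (Sylow 3 G) with hn
  have hle : n ≤ 56 := Nat.le_of_dvd (by norm_num) h2
  have hmod : n % 3 = 1 := h1
  interval_cases n <;> omega

theorem sylow3_comm (hG : Nat.card G = 504) (P : Sylow 3 G) (x : G) (hx : x ∈ P) (y : G)
    (hy : y ∈ P) : x * y = y * x := by
  have h := IsPGroup.isMulCommutative_of_card_eq_prime_sq (p := 3) (G := ↥(P : Subgroup G))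
    (by rw [card_sylow3 hG P]; norm_num)
  have := h.is_comm.comm (⟨x, hx⟩ : ↥(P : Subgroup G)) ⟨y, hy⟩
  exact congrArg Subtype.val this

theorem sylow7_comm (hG : Nat.card G = 504) (P : Sylow 7 G) (x : G) (hx : x ∈ P) (y : G)
    (hy : y ∈ P) : x * y = y * x := by
  haveI : IsCyclic ↥(P : Subgroup G) := isCyclic_of_prime_card (p := 7) (card_sylow7 hG P)
  have h : IsMulCommutative ↥(P : Subgroup G) := IsCyclic.isMulCommutative
  have := h.is_comm.comm (⟨x, hx⟩ : ↥(P : Subgroup G)) ⟨y, hy⟩
  exact congrArg Subtype.val this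

theorem card_normalizer3 (hG : Nat.card G = 504) (P : Sylow 3 G) :
    Nat.card (Subgroup.normalizer ((P : Subgroup G) : Set G)) = 18 := by
  have := card_normalizer_mul hG P
  rw [card_sylow_three hG] at this
  omega

theorem card_normalizer7 (hG : Nat.card G = 504) (P : Sylow 7 G) :
    Nat.card (Subgroup.normalizer ((P : Subgroup G) : Set G)) = 14 := by
  have := card_normalizer_mul hG P
  rw [card_sylow_seven hG] at this
  omega

theorem sylow3_ne_top (hG : Nat.card G = 504) (P : Sylow 3 G) : (P : Subgroup G) ≠ ⊤ := by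
  intro h
  have := card_sylow3 hG P
  rw [h, Subgroup.card_top, hG] at this
  omega

theorem sylow7_ne_top (hG : Nat.card G = 504) (P : Sylow 7 G) : (P : Subgroup G) ≠ ⊤ := by
  intro h
  have := card_sylow7 hG P
  rw [h, Subgroup.card_top, hG] at this
  omega

theorem exists_invol_normalizer (hG : Nat.card G = 504) (P : Sylow 3 G) :
    ∃ t ∈ Subgroup.normalizer ((P : Subgroup G) : Set G), t ≠ 1 ∧ t * t = 1 := by
  obtain ⟨j, hj⟩ := exists_prime_orderOf_dvd_card'
    (G := ↥(Subgroup.normalizer ((P : Subgroup G) : Set G))) 2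
    (by rw [card_normalizer3 hG P]; norm_num)
  have hj2 : orderOf (j : G) = 2 := by rw [Subgroup.orderOf_coe, hj]
  refine ⟨j, j.2, ?_, ?_⟩
  · intro h
    rw [h, orderOf_one] at hj2
    omega
  · rw [← pow_two, ← hj2]
    exact pow_orderOf_eq_one _

/-- an element of a Sylow 3-subgroup that commutes with an involution of the normaliser is
trivial -/
theorem invol_fixes_trivial (hG : Nat.card G = 504) (P : Sylow 3 G) (t : G)
    (ht : t ∈ Subgroup.normalizer ((P : Subgroup G) : Set G)) (ht1 : t ≠ 1) (ht2 : t * t = 1)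
    (f : G) (hf : f ∈ P) (hcomm : t * f = f * t) : f = 1 := by
  have hP9 := card_sylow3 hG P
  have hN18 := card_normalizer3 hG P
  have htP : t ∉ (P : Subgroup G) := by
    intro h
    have h1 : orderOf t ∣ 9 := by
      rw [← hP9]
      exact Subgroup.orderOf_dvd_natCard _ h
    have h2 : orderOf t = 2 := orderOf_eq_prime (by rw [pow_two]; exact ht2) ht1
    rw [h2] at h1
    revert h1
    decide
  set N : Subgroup G := Subgroup.normalizer ((P : Subgroup G) : Set G) with hNdef
  set K : Subgroup G := Subgroup.centralizer {f} ⊓ N with hK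
  have hPK : (P : Subgroup G) ≤ K := by
    intro y hy
    refine ⟨?_, Subgroup.le_normalizer hy⟩
    show y ∈ Subgroup.centralizer {f}
    rw [Subgroup.mem_centralizer_singleton_iff]
    exact sylow3_comm hG P y hy f hf
  have htK : t ∈ K := by
    refine ⟨?_, ht⟩
    show t ∈ Subgroup.centralizer {f}
    rw [Subgroup.mem_centralizer_singleton_iff]
    exact hcomm
  have d1 := Subgroup.card_dvd_of_le hPK
  have d2 := Subgroup.card_dvd_of_le (inf_le_right : K ≤ N)
  rw [hP9] at d1
  rw [hN18] at d2
  have hne9 : Nat.card K ≠ 9 := by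
    intro h
    have : (P : Subgroup G) = K := Subgroup.eq_of_le_of_card_ge hPK (by rw [h, hP9])
    apply htP
    rw [this]
    exact htK
  have hK18 : Nat.card K = 18 := by
    have hle : Nat.card K ≤ 18 := Nat.le_of_dvd (by norm_num) d2
    obtain ⟨j, hj⟩ := d1
    rw [hj] at d2 hle hne9 ⊢
    have : j ≤ 2 := by omega
    interval_cases j
    · revert d2; decide
    · omega
    · rfl
  have hKN : K = N := Subgroup.eq_of_le_of_card_ge inf_le_right (by rw [hK18, hN18])
  haveI : IsMulCommutative ↥(P : Subgroup G) :=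
    ⟨⟨fun a b => Subtype.ext (sylow3_comm hG P a a.2 b b.2)⟩⟩
  apply abelian_sylow_center_normalizer P (sylow3_ne_top hG P) f hf
  intro n hn
  have hn' : n ∈ K := by rw [hKN]; exact hn
  exact Subgroup.mem_centralizer_singleton_iff.mp hn'.1

theorem invol_inverts (hG : Nat.card G = 504) (P : Sylow 3 G) (t : G)
    (ht : t ∈ Subgroup.normalizer ((P : Subgroup G) : Set G)) (ht1 : t ≠ 1) (ht2 : t * t = 1)
    (x : G) (hx : x ∈ P) : t * x * t⁻¹ = x⁻¹ := by
  have htx : t * x * t⁻¹ ∈ (P : Subgroup G) := (Subgroup.mem_normalizer_iff.mp ht x).mp hx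
  have hti : t⁻¹ = t := inv_eq_of_mul_eq_one_left ht2
  have hf : x * (t * x * t⁻¹) ∈ (P : Subgroup G) := (P : Subgroup G).mul_mem hx htx
  have hcomm : t * (x * (t * x * t⁻¹)) = (x * (t * x * t⁻¹)) * t := by
    have h1 : (t * x * t⁻¹) * x = x * (t * x * t⁻¹) := sylow3_comm hG P _ htx _ hx
    calc t * (x * (t * x * t⁻¹)) = (t * x * t⁻¹) * ((t * t) * x * t⁻¹) := by group
      _ = (t * x * t⁻¹) * x * t⁻¹ := by rw [ht2, one_mul]; group
      _ = x * (t * x * t⁻¹) * t := by rw [h1, hti]
  have h1 := invol_fixes_trivial hG P t ht ht1 ht2 _ hf hcomm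
  exact (eq_inv_of_mul_eq_one_right h1)

/-- Sylow 3-subgroups of a simple group of order 504 intersect trivially. -/
theorem sylow3_TI (hG : Nat.card G = 504) (P Q : Sylow 3 G) (hPQ : P ≠ Q) :
    (P : Subgroup G) ⊓ (Q : Subgroup G) = ⊥ := by
  by_contra hD
  have hP9 := card_sylow3 hG P
  have hQ9 := card_sylow3 hG Q
  set D : Subgroup G := (P : Subgroup G) ⊓ (Q : Subgroup G) with hDdef
  have hDP : D ≤ P := inf_le_left
  have hDQ : D ≤ Q := inf_le_right
  have hD3 : Nat.card D = 3 := by
    have h1 : Nat.card D ∣ 9 := by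
      have := Subgroup.card_dvd_of_le hDP
      rwa [hP9] at this
    have h2 : Nat.card D ≠ 1 := fun h => hD (Subgroup.card_eq_one.mp h)
    have h3 : Nat.card D ≠ 9 := by
      intro h
      have h4 : D = P := Subgroup.eq_of_le_of_card_ge hDP (by rw [h, hP9])
      have h5 : (P : Subgroup G) ≤ Q := by rw [← h4]; exact hDQ
      have h6 : (P : Subgroup G) = Q := Subgroup.eq_of_le_of_card_ge h5 (by rw [hP9, hQ9])
      exact hPQ (Sylow.ext h6)
    have hle : Nat.card D ≤ 9 := Nat.le_of_dvd (by norm_num) h1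
    interval_cases (Nat.card D) <;> omega
  set C : Subgroup G := Subgroup.centralizer (D : Set G) with hCdef
  set M : Subgroup G := Subgroup.normalizer (D : Set G) with hMdef
  have hPC : (P : Subgroup G) ≤ C := by
    intro x hx
    rw [hCdef, Subgroup.mem_centralizer_iff]
    intro d hd
    exact sylow3_comm hG P d (hDP hd) x hx
  have hQC : (Q : Subgroup G) ≤ C := by
    intro x hx
    rw [hCdef, Subgroup.mem_centralizer_iff]
    intro d hd
    exact sylow3_comm hG Q d (hDQ hd) x hx
  have hC27 : 27 ≤ Nat.card C := by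
    have := card_mul_le (P : Subgroup G) (Q : Subgroup G) C hPC hQC
    rw [hP9, hQ9, ← hDdef, hD3] at this
    omega
  have hCM : C ≤ M := Subgroup.centralizer_le_normalizer _
  obtain ⟨t, ht, ht1, ht2⟩ := exists_invol_normalizer hG P
  have hinv := invol_inverts hG P t ht ht1 ht2
  have hti : t⁻¹ = t := inv_eq_of_mul_eq_one_left ht2
  have htM : t ∈ M := by
    rw [hMdef, Subgroup.mem_normalizer_iff]
    intro d
    constructor
    · intro hd
      rw [hinv d (hDP hd)]
      exact D.inv_mem hd
    · intro hd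
      have h1 := hinv _ (hDP hd)
      have h2 : t * (t * d * t⁻¹) * t⁻¹ = d := by
        calc t * (t * d * t⁻¹) * t⁻¹ = (t * t) * d * (t * t)⁻¹ := by group
          _ = d := by rw [ht2]; group
      rw [h2] at h1
      rw [h1]
      exact D.inv_mem hd
  have htC : t ∉ C := by
    intro h
    obtain ⟨d, hd, hd1⟩ := (Subgroup.ne_bot_iff_exists_ne_one (H := D)).mp hD |>.imp
      (fun d h => h) |> fun ⟨d, h⟩ => (⟨(d : G), d.2, fun h' => h (Subtype.ext h')⟩ :
        ∃ d : G, d ∈ D ∧ d ≠ 1)
    rw [hCdef, Subgroup.mem_centralizer_iff] at h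
    have h1 := h d hd
    have h2 := hinv d (hDP hd)
    have h3 : d = d⁻¹ := by
      rw [← h2, ← h1, mul_inv_cancel_right]
    have h4 : d ^ 2 = 1 := by
      rw [pow_two]
      nth_rewrite 1 [h3]
      exact inv_mul_cancel d
    have h5 : orderOf d ∣ 2 := orderOf_dvd_of_pow_eq_one h4
    have h6 : orderOf d ∣ 9 := by
      rw [← hP9]
      exact Subgroup.orderOf_dvd_natCard _ (hDP hd)
    have h7 : orderOf d ∣ Nat.gcd 2 9 := Nat.dvd_gcd h5 h6
    have h8 : orderOf d = 1 := Nat.dvd_one.mp (by simpa using h7)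
    exact hd1 (orderOf_eq_one_iff.mp h8)
  have hMtop : M ≠ ⊤ := by
    intro h
    haveI : D.Normal := Subgroup.normalizer_eq_top_iff.mp h
    rcases card_normal_aux hG D with h5 | h5 <;> omega
  have hM63 := card_le_63 hG M hMtop
  have hCM2 : 2 * Nat.card C ≤ Nat.card M := by
    obtain ⟨j, hj⟩ := Subgroup.card_dvd_of_le hCM
    have hj1 : j ≠ 1 := by
      intro h
      rw [h, mul_one] at hj
      have : C = M := Subgroup.eq_of_le_of_card_ge hCM (by rw [hj])
      apply htC
      rw [this]
      exact htM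
    have hj0 : j ≠ 0 := by
      intro h
      rw [h, mul_zero] at hj
      have : 0 < Nat.card M := Nat.card_pos
      omega
    have : 2 ≤ j := by omega
    rw [hj]
    nlinarith
  have hC9 : 9 ∣ Nat.card C := by
    have := Subgroup.card_dvd_of_le hPC
    rwa [hP9] at this
  have hC504 : Nat.card C ∣ 504 := by
    have := Subgroup.card_subgroup_dvd_card C
    rwa [hG] at this
  obtain ⟨k, hk⟩ := hC9
  rw [hk] at hC504 hC27 hCM2
  have hk3 : k = 3 := by omega
  rw [hk3] at hC504
  revert hC504
  decide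

theorem card_centralizer3 (hG : Nat.card G = 504) (P : Sylow 3 G) {x : G} (hx : x ∈ P)
    (hx1 : x ≠ 1) : Nat.card (Subgroup.centralizer {x}) = 9 := by
  rw [ti_card_centralizer (sylow3_TI hG) P (sylow3_comm hG P) (sylow3_ne_top hG P)
    (by rw [card_normalizer3 hG P, card_sylow3 hG P]) hx hx1, card_sylow3 hG P]

theorem sylow7_TI (hG : Nat.card G = 504) (P Q : Sylow 7 G) (hPQ : P ≠ Q) :
    (P : Subgroup G) ⊓ (Q : Subgroup G) = ⊥ :=
  ti_of_prime_card (card_sylow7 hG) P Q hPQ

theorem card_centralizer7 (hG : Nat.card G = 504) (P : Sylow 7 G) {x : G} (hx : x ∈ P)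
    (hx1 : x ≠ 1) : Nat.card (Subgroup.centralizer {x}) = 7 := by
  rw [ti_card_centralizer (sylow7_TI hG) P (sylow7_comm hG P) (sylow7_ne_top hG P)
    (by rw [card_normalizer7 hG P, card_sylow7 hG P]) hx hx1, card_sylow7 hG P]

end Cfsg.Agent.Lib.Helper19.Ord504A
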