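import Mathlib
import Cfsg.Agent.Lib.Helper19.Ord504A

set_option autoImplicit false

namespace Cfsg.Agent.Lib.Helper19.Ord504B

open MulAction Cfsg.Agent.Lib.Helper19.Ord360A Cfsg.Agent.Lib.Helper19.SylTools
  Cfsg.Agent.Lib.Helper19.Ord504A

attribute [local instance] seven_prime_fact

section generic

variable {G : Type*} [Group G] [Finite G]

/-- an element of prime power order lies in a Sylow subgroup -/
theorem exists_sylow_mem (p : ℕ) [Fact p.Prime] (k : G) (n : ℕ) (hk : orderOf k = p ^ n) :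
    ∃ P : Sylow p G, k ∈ P := by
  have h1 : IsPGroup p (Subgroup.zpowers k) := IsPGroup.of_card (n := n) (by
    rw [Nat.card_zpowers, hk])
  obtain ⟨P, hP⟩ := h1.exists_le_sylow
  exact ⟨P, hP (Subgroup.mem_zpowers k)⟩

theorem orderOf_invol {z : G} (hz1 : z ≠ 1) (hz2 : z * z = 1) : orderOf z = 2 :=
  orderOf_eq_prime (by rw [pow_two]; exact hz2) hz1

/-- an element whose order divides coprime numbers is trivial -/
theorem eq_one_of_orderOf_dvd {g : G} {a b : ℕ} (ha : orderOf g ∣ a) (hb : orderOf g ∣ b)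
    (hab : Nat.Coprime a b) : g = 1 := by
  have h7 : orderOf g ∣ Nat.gcd a b := Nat.dvd_gcd ha hb
  rw [hab] at h7
  exact orderOf_eq_one_iff.mp (Nat.dvd_one.mp h7)

end generic

variable {G : Type*} [Group G] [Finite G] [IsSimpleGroup G]

theorem ncard_U7 (hG : Nat.card G = 504) :
    ({g : G | g ≠ 1 ∧ ∃ P : Sylow 7 G, g ∈ P} : Set G).ncard = 216 := by
  rw [ti_card_elements (sylow7_TI hG) (card_sylow7 hG), card_sylow_seven hG]

theorem ncard_U3 (hG : Nat.card G = 504) :
    ({g : G | g ≠ 1 ∧ ∃ P : Sylow 3 G, g ∈ P} : Set G).ncard = 224 := by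
  rw [ti_card_elements (sylow3_TI hG) (card_sylow3 hG), card_sylow_three hG]

/-- the complement of the identity, the 7-elements and the 3-elements -/
def W (G : Type*) [Group G] : Set G :=
  ({1} ∪ ({g : G | g ≠ 1 ∧ ∃ P : Sylow 7 G, g ∈ P} ∪ {g : G | g ≠ 1 ∧ ∃ P : Sylow 3 G, g ∈ P}))ᶜ

theorem mem_W (g : G) : g ∈ W G ↔ g ≠ 1 ∧ (∀ P : Sylow 7 G, g ∉ P) ∧ (∀ P : Sylow 3 G, g ∉ P) := by
  unfold W
  simp only [Set.mem_compl_iff, Set.mem_union, Set.mem_singleton_iff, Set.mem_setOf_eq, not_or,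
    not_and, not_exists]
  constructor
  · rintro ⟨h1, h2, h3⟩
    exact ⟨h1, h2 h1, h3 h1⟩
  · rintro ⟨h1, h2, h3⟩
    exact ⟨h1, fun _ => h2, fun _ => h3⟩

theorem ncard_W (hG : Nat.card G = 504) : (W G).ncard = 63 := by
  have hd1 : Disjoint ({g : G | g ≠ 1 ∧ ∃ P : Sylow 7 G, g ∈ P} : Set G)
      {g : G | g ≠ 1 ∧ ∃ P : Sylow 3 G, g ∈ P} := by
    rw [Set.disjoint_left]
    rintro g ⟨hg1, P, hP⟩ ⟨-, Q, hQ⟩
    apply hg1
    have h1 : orderOf g ∣ 7 := by
      rw [← card_sylow7 hG P]; exact Subgroup.orderOf_dvd_natCard _ hP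
    have h2 : orderOf g ∣ 9 := by
      rw [← card_sylow3 hG Q]; exact Subgroup.orderOf_dvd_natCard _ hQ
    exact eq_one_of_orderOf_dvd h1 h2 (by norm_num)
  have hd2 : Disjoint ({1} : Set G)
      ({g : G | g ≠ 1 ∧ ∃ P : Sylow 7 G, g ∈ P} ∪ {g : G | g ≠ 1 ∧ ∃ P : Sylow 3 G, g ∈ P}) := by
    rw [Set.disjoint_left]
    rintro g hg (⟨hg1, -⟩ | ⟨hg1, -⟩) <;> exact hg1 hg
  have h1 := Set.ncard_add_ncard_compl
    (({1} : Set G) ∪ ({g : G | g ≠ 1 ∧ ∃ P : Sylow 7 G, g ∈ P} ∪
      {g : G | g ≠ 1 ∧ ∃ P : Sylow 3 G, g ∈ P}))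
  rw [Set.ncard_union_eq hd2, Set.ncard_union_eq hd1, ncard_U7 hG, ncard_U3 hG,
    Set.ncard_singleton, hG] at h1
  unfold W
  omega

theorem invol_card_centralizer_dvd (hG : Nat.card G = 504) (z : G) (hz1 : z ≠ 1)
    (hz2 : z * z = 1) : Nat.card (Subgroup.centralizer {z}) ∣ 8 := by
  have ho := orderOf_invol hz1 hz2
  have h504 : Nat.card (Subgroup.centralizer {z}) ∣ 504 := by
    have := Subgroup.card_subgroup_dvd_card (Subgroup.centralizer {z})
    rwa [hG] at this
  have h7 : ¬ 7 ∣ Nat.card (Subgroup.centralizer {z}) := by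
    intro hd
    obtain ⟨k, hk⟩ := exists_prime_orderOf_dvd_card' (G := ↥(Subgroup.centralizer {z})) 7 hd
    have hk7 : orderOf (k : G) = 7 := by rw [Subgroup.orderOf_coe, hk]
    obtain ⟨P, hP⟩ := exists_sylow_mem 7 (k : G) 1 (by rw [hk7, pow_one])
    have hk1 : (k : G) ≠ 1 := by
      intro h
      rw [h, orderOf_one] at hk7
      omega
    have hc := card_centralizer7 hG P hP hk1
    have hzk : z ∈ Subgroup.centralizer {(k : G)} := by
      rw [Subgroup.mem_centralizer_singleton_iff]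
      exact (Subgroup.mem_centralizer_singleton_iff.mp k.2).symm
    have := Subgroup.orderOf_dvd_natCard _ hzk
    rw [ho, hc] at this
    revert this
    decide
  have h3 : ¬ 3 ∣ Nat.card (Subgroup.centralizer {z}) := by
    intro hd
    obtain ⟨k, hk⟩ := exists_prime_orderOf_dvd_card' (G := ↥(Subgroup.centralizer {z})) 3 hd
    have hk7 : orderOf (k : G) = 3 := by rw [Subgroup.orderOf_coe, hk]
    obtain ⟨P, hP⟩ := exists_sylow_mem 3 (k : G) 1 (by rw [hk7, pow_one])
    have hk1 : (k : G) ≠ 1 := by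
      intro h
      rw [h, orderOf_one] at hk7
      omega
    have hc := card_centralizer3 hG P hP hk1
    have hzk : z ∈ Subgroup.centralizer {(k : G)} := by
      rw [Subgroup.mem_centralizer_singleton_iff]
      exact (Subgroup.mem_centralizer_singleton_iff.mp k.2).symm
    have := Subgroup.orderOf_dvd_natCard _ hzk
    rw [ho, hc] at this
    revert this
    decide
  have hcop : Nat.Coprime (Nat.card (Subgroup.centralizer {z})) 63 := by
    have c7 : Nat.Coprime (Nat.card (Subgroup.centralizer {z})) 7 :=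
      ((Nat.Prime.coprime_iff_not_dvd (by norm_num)).mpr h7).symm
    have c3 : Nat.Coprime (Nat.card (Subgroup.centralizer {z})) 3 :=
      ((Nat.Prime.coprime_iff_not_dvd Nat.prime_three).mpr h3).symm
    have : (63 : ℕ) = 3 * 3 * 7 := by norm_num
    rw [this]
    exact (c3.mul_right c3).mul_right c7
  have : (504 : ℕ) = 8 * 63 := by norm_num
  rw [this] at h504
  exact hcop.dvd_of_dvd_mul_right h504

/-- the class of an involution is exactly `W`, and its centraliser has order 8 -/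
theorem invol_class (hG : Nat.card G = 504) (z : G) (hz1 : z ≠ 1) (hz2 : z * z = 1) :
    Nat.card (Subgroup.centralizer {z}) = 8 ∧
      ({g : G | ∃ c : G, c * z * c⁻¹ = g} : Set G) = W G := by
  have ho := orderOf_invol hz1 hz2
  have hsub : ({g : G | ∃ c : G, c * z * c⁻¹ = g} : Set G) ⊆ W G := by
    rintro g ⟨c, rfl⟩
    have hog : orderOf (c * z * c⁻¹) = 2 := by
      have hne : c * z * c⁻¹ ≠ 1 := by
        intro h
        apply hz1
        have : z = c⁻¹ * (c * z * c⁻¹) * c := by group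
        rw [this, h]
        group
      have hsq : c * z * c⁻¹ * (c * z * c⁻¹) = 1 := by
        calc c * z * c⁻¹ * (c * z * c⁻¹) = c * (z * z) * c⁻¹ := by group
          _ = 1 := by rw [hz2]; group
      exact orderOf_invol hne hsq
    rw [mem_W]
    refine ⟨?_, ?_, ?_⟩
    · intro h
      rw [h, orderOf_one] at hog
      omega
    · intro P hP
      have := Subgroup.orderOf_dvd_natCard _ hP
      rw [hog, card_sylow7 hG P] at this
      revert this
      decide
    · intro P hP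
      have := Subgroup.orderOf_dvd_natCard _ hP
      rw [hog, card_sylow3 hG P] at this
      revert this
      decide
  have hle := Set.ncard_le_ncard hsub (Set.toFinite _)
  rw [ncard_W hG] at hle
  have hmul := card_centralizer_mul_ncard_class z
  rw [hG] at hmul
  have hdvd := invol_card_centralizer_dvd hG z hz1 hz2
  have hc8 : Nat.card (Subgroup.centralizer {z}) ≤ 8 := Nat.le_of_dvd (by norm_num) hdvd
  have hcard : Nat.card (Subgroup.centralizer {z}) = 8 ∧
      ({g : G | ∃ c : G, c * z * c⁻¹ = g} : Set G).ncard = 63 := by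
    constructor <;> nlinarith
  refine ⟨hcard.1, ?_⟩
  exact Set.eq_of_subset_of_ncard_le hsub (by rw [ncard_W hG, hcard.2]) (Set.toFinite _)

theorem exists_invol (hG : Nat.card G = 504) : ∃ z : G, z ≠ 1 ∧ z * z = 1 := by
  obtain ⟨j, hj⟩ := exists_prime_orderOf_dvd_card' (G := G) 2 (by rw [hG]; norm_num)
  refine ⟨j, ?_, ?_⟩
  · intro h
    rw [h, orderOf_one] at hj
    omega
  · rw [← pow_two, ← hj]
    exact pow_orderOf_eq_one _

/-- every element of `W` is an involution with centraliser of order 8 -/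
theorem W_invol (hG : Nat.card G = 504) (g : G) (hg : g ∈ W G) :
    g ≠ 1 ∧ g * g = 1 ∧ Nat.card (Subgroup.centralizer {g}) = 8 := by
  obtain ⟨z, hz1, hz2⟩ := exists_invol hG
  obtain ⟨-, hcl⟩ := invol_class hG z hz1 hz2
  rw [← hcl] at hg
  obtain ⟨c, rfl⟩ := hg
  have h1 : c * z * c⁻¹ ≠ 1 := by
    intro h
    apply hz1
    have : z = c⁻¹ * (c * z * c⁻¹) * c := by group
    rw [this, h]
    group
  have h2 : c * z * c⁻¹ * (c * z * c⁻¹) = 1 := by
    calc c * z * c⁻¹ * (c * z * c⁻¹) = c * (z * z) * c⁻¹ := by group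
      _ = 1 := by rw [hz2]; group
  exact ⟨h1, h2, (invol_class hG _ h1 h2).1⟩

theorem sylow2_mem_W (hG : Nat.card G = 504) (S : Sylow 2 G) (s : G) (hs : s ∈ S) (hs1 : s ≠ 1) :
    s ∈ W G := by
  have h8 : orderOf s ∣ 8 := by
    rw [← card_sylow2 hG S]; exact Subgroup.orderOf_dvd_natCard _ hs
  rw [mem_W]
  refine ⟨hs1, ?_, ?_⟩
  · intro P hP
    apply hs1
    have h1 : orderOf s ∣ 7 := by
      rw [← card_sylow7 hG P]; exact Subgroup.orderOf_dvd_natCard _ hP
    exact eq_one_of_orderOf_dvd h8 h1 (by norm_num)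
  · intro P hP
    apply hs1
    have h1 : orderOf s ∣ 9 := by
      rw [← card_sylow3 hG P]; exact Subgroup.orderOf_dvd_natCard _ hP
    exact eq_one_of_orderOf_dvd h8 h1 (by norm_num)

theorem sylow2_sq (hG : Nat.card G = 504) (S : Sylow 2 G) (s : G) (hs : s ∈ S) : s * s = 1 := by
  by_cases hs1 : s = 1
  · rw [hs1, one_mul]
  · exact (W_invol hG s (sylow2_mem_W hG S s hs hs1)).2.1

theorem sylow2_comm (hG : Nat.card G = 504) (S : Sylow 2 G) (x : G) (hx : x ∈ S) (y : G)
    (hy : y ∈ S) : x * y = y * x := by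
  have h1 := sylow2_sq hG S x hx
  have h2 := sylow2_sq hG S y hy
  have h3 := sylow2_sq hG S (x * y) ((S : Subgroup G).mul_mem hx hy)
  have e1 : x⁻¹ = x := inv_eq_of_mul_eq_one_left h1
  have e2 : y⁻¹ = y := inv_eq_of_mul_eq_one_left h2
  have e3 : (x * y)⁻¹ = x * y := inv_eq_of_mul_eq_one_left h3
  rw [← e3, mul_inv_rev, e1, e2]

theorem sylow2_centralizer (hG : Nat.card G = 504) (S : Sylow 2 G) (s : G) (hs : s ∈ S)
    (hs1 : s ≠ 1) : (S : Subgroup G) = Subgroup.centralizer {s} := by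
  have h8 := (W_invol hG s (sylow2_mem_W hG S s hs hs1)).2.2
  apply Subgroup.eq_of_le_of_card_ge
  · intro y hy
    rw [Subgroup.mem_centralizer_singleton_iff]
    exact sylow2_comm hG S y hy s hs
  · rw [h8, card_sylow2 hG S]

theorem sylow2_TI (hG : Nat.card G = 504) (P Q : Sylow 2 G) (hPQ : P ≠ Q) :
    (P : Subgroup G) ⊓ (Q : Subgroup G) = ⊥ := by
  rw [eq_bot_iff]
  intro s hs
  rw [Subgroup.mem_bot]
  by_contra hs1
  apply hPQ
  apply Sylow.ext
  rw [sylow2_centralizer hG P s hs.1 hs1, sylow2_centralizer hG Q s hs.2 hs1]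

theorem card_sylow_two (hG : Nat.card G = 504) : Nat.card (Sylow 2 G) = 9 := by
  obtain ⟨P⟩ : Nonempty (Sylow 2 G) := inferInstance
  have hP8 := card_sylow2 hG P
  have h2 : Nat.card (Sylow 2 G) ∣ (P : Subgroup G).index := Sylow.card_dvd_index P
  have hidx : (P : Subgroup G).index = 63 := by
    have := Subgroup.card_mul_index (P : Subgroup G)
    rw [hP8, hG] at this
    omega
  rw [hidx] at h2
  have h8 := eight_le_card_sylow hG P (by rw [hP8]; norm_num) (by rw [hP8]; norm_num)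
  have hcount := ti_card_elements (sylow2_TI hG) (card_sylow2 hG)
  have hsub : ({g : G | g ≠ 1 ∧ ∃ P : Sylow 2 G, g ∈ P} : Set G) ⊆ W G := by
    rintro g ⟨hg1, S, hS⟩
    exact sylow2_mem_W hG S g hS hg1
  have hle := Set.ncard_le_ncard hsub (Set.toFinite _)
  rw [ncard_W hG, hcount] at hle
  set n := Nat.card (Sylow 2 G) with hn
  have hn9 : n ≤ 9 := by omega
  interval_cases n
  · revert h2; decide
  · rfl

/-- only the identity fixes three Sylow 2-subgroups -/
theorem fix_three (hG : Nat.card G = 504) (g : G) (a b c : Sylow 2 G) (hab : a ≠ b) (hbc : b ≠ c)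
    (hac : a ≠ c) (ha : g • a = a) (hb : g • b = b) (hc : g • c = c) : g = 1 := by
  have hcard := card_sylow2 hG
  have hn : Nat.card (Sylow 2 G) = 8 + 1 := card_sylow_two hG
  have hTI := sylow2_TI hG
  obtain ⟨k, hk, hkb, hcomm⟩ := ti_fix_comm hTI hcard hn hab hac g ha hb hc
  have hk1 : k ≠ 1 := by
    rintro rfl
    rw [one_smul] at hkb
    exact hbc hkb
  have hk8 := (W_invol hG k (sylow2_mem_W hG a k hk hk1)).2.2
  have hgC : g ∈ Subgroup.centralizer {k} := by
    rw [Subgroup.mem_centralizer_singleton_iff]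
    calc g * k = (g * k * g⁻¹) * g := by group
      _ = k * g := by rw [hcomm]
  have h8 : orderOf g ∣ 8 := by
    rw [← hk8]; exact Subgroup.orderOf_dvd_natCard _ hgC
  -- the two-point stabiliser has order 7
  have hst := ti_card_stab_mul (p := 2) (G := G) hn a
  rw [hG] at hst
  have hH := ti_card_stab hTI hcard hn hab
  have hH7 : Nat.card ↥(stabilizer G a ⊓ stabilizer G b) = 7 := by omega
  have hgH : g ∈ stabilizer G a ⊓ stabilizer G b := by
    rw [Subgroup.mem_inf, mem_stabilizer_iff, mem_stabilizer_iff]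
    exact ⟨ha, hb⟩
  have h7 : orderOf g ∣ 7 := by
    rw [← hH7]; exact Subgroup.orderOf_dvd_natCard _ hgH
  exact eq_one_of_orderOf_dvd h8 h7 (by norm_num)

theorem card_two_stab (hG : Nat.card G = 504) (a b : Sylow 2 G) (hab : a ≠ b) :
    Nat.card ↥(stabilizer G a ⊓ stabilizer G b) + 2 = Nat.card (Sylow 2 G) := by
  have hcard := card_sylow2 hG
  have hn : Nat.card (Sylow 2 G) = 8 + 1 := card_sylow_two hG
  have hTI := sylow2_TI hG
  have hst := ti_card_stab_mul (p := 2) (G := G) hn a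
  rw [hG] at hst
  have hH := ti_card_stab hTI hcard hn hab
  rw [hn]
  omega

theorem three_trans (hG : Nat.card G = 504) (a b c a' b' c' : Sylow 2 G) (hab : a ≠ b)
    (hbc : b ≠ c) (hac : a ≠ c) (hab' : a' ≠ b') (hbc' : b' ≠ c') (hac' : a' ≠ c') :
    ∃ g : G, g • a = a' ∧ g • b = b' ∧ g • c = c' := by
  have hcard := card_sylow2 hG
  have hn : Nat.card (Sylow 2 G) = 8 + 1 := card_sylow_two hG
  have hTI := sylow2_TI hG
  exact t3_of_two (fun a b c d hab hcd => ti_two hTI hcard hn hab hcd) (fix_three hG)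
    (card_two_stab hG) a b c a' b' c' hab hbc hac hab' hbc' hac'

theorem exists_three (hG : Nat.card G = 504) :
    ∃ a b c : Sylow 2 G, b ≠ c ∧ a ≠ b ∧ a ≠ c := by
  classical
  letI : Fintype (Sylow 2 G) := Fintype.ofFinite _
  have h9 : Fintype.card (Sylow 2 G) = 9 := by
    rw [← Nat.card_eq_fintype_card, card_sylow_two hG]
  have h2 : 2 < Fintype.card (Sylow 2 G) := by rw [h9]; norm_num
  obtain ⟨a, b, c, hab, hac, hbc⟩ := Fintype.two_lt_card_iff.mp h2
  exact ⟨a, b, c, hbc, hab, hac⟩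

end Cfsg.Agent.Lib.Helper19.Ord504B
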