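import Mathlib
import Cfsg.Agent.Lib.Helper19.Ord504B
import Cfsg.Agent.Lib.helper6.Sharp3
import Cfsg.Agent.Lib.helper6.PGLSL

set_option autoImplicit false

namespace Cfsg.Agent.Lib.Helper19.Ord504C

open MulAction Cfsg.Agent.Lib.Helper19.Ord360A Cfsg.Agent.Lib.Helper19.SylTools
  Cfsg.Agent.Lib.Helper19.Ord504A Cfsg.Agent.Lib.Helper19.Ord504B

/-- the centre is preserved by a group isomorphism -/
theorem map_center_eq {A B : Type*} [Group A] [Group B] (e : A ≃* B) :
    (Subgroup.center A).map e.toMonoidHom = Subgroup.center B := by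
  ext x
  rw [Subgroup.mem_map, Subgroup.mem_center_iff]
  constructor
  · rintro ⟨a, ha, rfl⟩ g
    rw [Subgroup.mem_center_iff] at ha
    obtain ⟨g', rfl⟩ := e.surjective g
    show e g' * e a = e a * e g'
    rw [← map_mul, ← map_mul, ha g']
  · intro hx
    refine ⟨e.symm x, ?_, by simp⟩
    rw [Subgroup.mem_center_iff]
    intro g
    apply e.injective
    rw [map_mul, map_mul, e.apply_symm_apply]
    exact hx (e g)

/-- `PSL₂` of isomorphic fields are isomorphic -/
theorem psl_congr {K K' : Type*} [Field K] [Field K'] (e : K ≃+* K') :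
    Nonempty (Matrix.ProjectiveSpecialLinearGroup (Fin 2) K ≃*
      Matrix.ProjectiveSpecialLinearGroup (Fin 2) K') := by
  let f : Matrix.SpecialLinearGroup (Fin 2) K ≃* Matrix.SpecialLinearGroup (Fin 2) K' :=
    { toFun := Matrix.SpecialLinearGroup.map e.toRingHom
      invFun := Matrix.SpecialLinearGroup.map e.symm.toRingHom
      left_inv := by
        intro A
        ext i j
        show e.symm (e ((A : Matrix (Fin 2) (Fin 2) K) i j)) = _
        simp
      right_inv := by
        intro A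
        ext i j
        show e (e.symm ((A : Matrix (Fin 2) (Fin 2) K') i j)) = _
        simp
      map_mul' := fun A B => map_mul _ A B }
  exact ⟨QuotientGroup.congr _ _ f (map_center_eq f)⟩

theorem two_eq_zero_of_card_eight {F : Type*} [Field F] [Fintype F] (hF : Fintype.card F = 8) :
    (2 : F) = 0 := by
  obtain ⟨p, hchar⟩ := CharP.exists F
  obtain ⟨n, hp, hn⟩ := FiniteField.card F p
  rw [hF] at hn
  have h1 : p ∣ 2 ^ 3 := by
    have : (2 : ℕ) ^ 3 = 8 := by norm_num
    rw [this, hn]
    exact dvd_pow_self p n.ne_zero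
  have h2 : p = 2 := (Nat.prime_dvd_prime_iff_eq hp Nat.prime_two).mp (hp.dvd_of_dvd_pow h1)
  subst h2
  have := CharP.cast_eq_zero F 2
  exact_mod_cast this

open Cfsg.Agent.Lib.helper6.Sharp3 Cfsg.Agent.Lib.helper6.PGLSL in
/-- a simple group of order 504 is `PSL₂(8)` -/
theorem exists_psl8 {G : Type*} [Group G] [Finite G] [IsSimpleGroup G] (hG : Nat.card G = 504) :
    ∃ (F : Type) (_ : Field F) (_ : Fintype F), Fintype.card F = 8 ∧
      Nonempty (G ≃* Matrix.ProjectiveSpecialLinearGroup (Fin 2) F) := by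
  classical
  letI : Fintype (Sylow 2 G) := Fintype.ofFinite _
  have hΩ : Fintype.card (Sylow 2 G) = 9 := by
    rw [← Nat.card_eq_fintype_card, card_sylow_two hG]
  obtain ⟨pinf, p0, p1, h01, hi0, hi1⟩ := exists_three hG
  haveI := ti_faithful (G := G) hi0
  have hodd : Odd (Fintype.card (Sylow 2 G)) := by rw [hΩ]; decide
  obtain ⟨F, i1, i2, hF, ⟨e⟩⟩ := sharp3_odd hodd (three_trans hG) (fix_three hG) h01 hi0 hi1
  have hF8 : Fintype.card F = 8 := by omega
  have h2 : (2 : F) = 0 := two_eq_zero_of_card_eight hF8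
  obtain ⟨e2⟩ := nonempty_PGL2_mulEquiv_SL2 h2
  have e3 : Matrix.ProjectiveSpecialLinearGroup (Fin 2) F ≃* Matrix.SpecialLinearGroup (Fin 2) F := by
    unfold Matrix.ProjectiveSpecialLinearGroup
    exact (QuotientGroup.quotientMulEquivOfEq (center_SL2_bot h2)).trans
      (QuotientGroup.quotientBot)
  exact ⟨F, i1, i2, hF8, ⟨(e.trans e2).trans e3.symm⟩⟩

/-- a simple group of order 504 is `PSL₂(F)` for every field with 8 elements -/
theorem psl8 {G : Type*} [Group G] [Finite G] [IsSimpleGroup G] (hG : Nat.card G = 504)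
    {F : Type*} [Field F] [Fintype F] (hF : Fintype.card F = 8) :
    Nonempty (G ≃* Matrix.ProjectiveSpecialLinearGroup (Fin 2) F) := by
  obtain ⟨F', i1, i2, hF', ⟨e⟩⟩ := exists_psl8 hG
  have hcard : Fintype.card F' = Fintype.card F := by rw [hF', hF]
  obtain ⟨e2⟩ := psl_congr (FiniteField.ringEquivOfCardEq hcard)
  exact ⟨e.trans e2⟩

end Cfsg.Agent.Lib.Helper19.Ord504C
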