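import Mathlib

set_option autoImplicit false

open Matrix Polynomial

namespace Cfsg.Agent.Lib.Helper19.PGL2Spec


variable {F : Type*} [Field F]

/-- Cayley–Hamilton for 2×2 matrices. -/
theorem ch2 (g : Matrix (Fin 2) (Fin 2) F) :
    g * g = g.trace • g - g.det • (1 : Matrix (Fin 2) (Fin 2) F) := by
  ext i j
  fin_cases i <;> fin_cases j <;>
    simp [Matrix.mul_apply, Fin.sum_univ_two, Matrix.trace_fin_two, Matrix.det_fin_two] <;> ring

/-- the characteristic polynomial kills the matrix -/
theorem aeval_chi (g : Matrix (Fin 2) (Fin 2) F) :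
    aeval g (X ^ 2 - C g.trace * X + C g.det : F[X]) = 0 := by
  simp only [map_add, map_sub, map_mul, map_pow, aeval_X, aeval_C]
  rw [pow_two, ch2 g]
  simp [Algebra.algebraMap_eq_smul_one]

theorem aeval_eq_zero_of_dvd (g : Matrix (Fin 2) (Fin 2) F) (P : F[X])
    (h : (X ^ 2 - C g.trace * X + C g.det : F[X]) ∣ P) : aeval g P = 0 := by
  obtain ⟨r, rfl⟩ := h
  rw [map_mul, aeval_chi, zero_mul]

/-- (i) split case with distinct eigenvalues -/
theorem pow_of_split (g : Matrix (Fin 2) (Fin 2) F) (α β c : F) (hne : α ≠ β)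
    (htr : g.trace = α + β) (hdet : g.det = α * β) (k : ℕ) (hα : α ^ k = c) (hβ : β ^ k = c) :
    g ^ k = c • (1 : Matrix (Fin 2) (Fin 2) F) := by
  have hfac : (X ^ 2 - C g.trace * X + C g.det : F[X]) = (X - C α) * (X - C β) := by
    rw [htr, hdet]; simp only [map_add, map_mul]; ring
  have h1 : (X - C α : F[X]) ∣ X ^ k - C c := by
    rw [dvd_iff_isRoot]; simp [hα]
  have h2 : (X - C β : F[X]) ∣ X ^ k - C c := by
    rw [dvd_iff_isRoot]; simp [hβ]
  have hcop : IsCoprime (X - C α : F[X]) (X - C β) :=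
    Polynomial.isCoprime_X_sub_C_of_isUnit_sub (sub_ne_zero.mpr hne).isUnit
  have h3 := aeval_eq_zero_of_dvd g (X ^ k - C c) (hfac ▸ hcop.mul_dvd h1 h2)
  simp only [map_sub, map_pow, aeval_X, aeval_C] at h3
  rw [sub_eq_zero] at h3
  rw [h3, Algebra.algebraMap_eq_smul_one]






/-- (ii) double eigenvalue -/
theorem pow_char_of_double (p : ℕ) [Fact p.Prime] [CharP F p] (g : Matrix (Fin 2) (Fin 2) F) (α : F)
    (htr : g.trace = α + α) (hdet : g.det = α * α) :
    g ^ p = (α ^ p) • (1 : Matrix (Fin 2) (Fin 2) F) := by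
  set N : Matrix (Fin 2) (Fin 2) F := g - α • 1 with hN
  have hN2 : N * N = 0 := by
    have := ch2 g
    rw [htr, hdet] at this
    rw [hN]
    simp only [sub_mul, mul_sub, this, smul_mul_assoc, mul_smul_comm, one_mul, mul_one, smul_sub, smul_smul, add_smul]
    abel
  have hg : g = α • 1 + N := by rw [hN]; abel
  have hcomm : Commute (α • (1 : Matrix (Fin 2) (Fin 2) F)) N := by
    rw [Commute, SemiconjBy]; simp
  have hp2 : 2 ≤ p := (Fact.out : p.Prime).two_le
  have hNp : N ^ p = 0 := by
    have : p = 2 + (p - 2) := by omega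
    rw [this, pow_add, pow_two, hN2, zero_mul]
  rw [hg, add_pow_char_of_commute p hcomm, hNp, add_zero, _root_.smul_pow, one_pow]






theorem X_pow_card_sub_X_eq_prod [Fintype F] :
    (X ^ Fintype.card F - X : F[X]) = ∏ a : F, (X - C a) := by
  have hmonic : (X ^ Fintype.card F - X : F[X]).Monic :=
    Polynomial.monic_X_pow_sub (by
      rw [degree_X]; exact_mod_cast Fintype.one_lt_card)
  have hroots := FiniteField.roots_X_pow_card_sub_X F
  have hcard : (X ^ Fintype.card F - X : F[X]).roots.card = (X ^ Fintype.card F - X : F[X]).natDegree := by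
    rw [hroots, FiniteField.X_pow_card_sub_X_natDegree_eq F Fintype.one_lt_card]
    simp
  have := Polynomial.prod_multiset_X_sub_C_of_monic_of_roots_card_eq hmonic hcard
  rw [hroots] at this
  rw [← this]
  rfl

/-- (iii) irreducible characteristic polynomial -/
theorem pow_card_of_noroot [Fintype F] (g : Matrix (Fin 2) (Fin 2) F)
    (hno : ∀ a : F, a ^ 2 - g.trace * a + g.det ≠ 0) :
    g ^ Fintype.card F = g.trace • (1 : Matrix (Fin 2) (Fin 2) F) - g := by
  set q := Fintype.card F with hq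
  set y := g ^ q with hy
  set χ : F[X] := X ^ 2 - C g.trace * X + C g.det with hχ
  -- y is a root of chi
  have h1 : aeval y χ = 0 := by
    rw [hy, ← expand_aeval, hq, FiniteField.expand_card, map_pow, aeval_chi, zero_pow Fintype.card_ne_zero]
  simp only [hχ, map_add, map_sub, map_mul, map_pow, aeval_X, aeval_C, Algebra.algebraMap_eq_smul_one] at h1
  have hcomm : y * g = g * y := by
    rw [hy]; exact ((Commute.refl g).pow_left q).eq
  have h2 : (y - g) * (y - (g.trace • (1 : Matrix (Fin 2) (Fin 2) F) - g)) = 0 := by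
    have hch := ch2 g
    have : (y - g) * (y - (g.trace • (1 : Matrix (Fin 2) (Fin 2) F) - g))
        = (y ^ 2 - g.trace • (1 : Matrix (Fin 2) (Fin 2) F) * y + g.det • 1)
          + (y * g - g * y) + (g.trace • g - g.det • 1 - g * g) := by
      simp only [sub_mul, mul_sub, smul_mul_assoc, mul_smul_comm, one_mul, mul_one, pow_two, smul_sub]
      abel
    rw [this, h1, hcomm, hch]; simp
  -- y - g is invertible, by Bezout
  have hcop : IsCoprime χ (X ^ q - X : F[X]) := by
    rw [hq, X_pow_card_sub_X_eq_prod]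
    refine IsCoprime.prod_right (fun a _ => ?_)
    refine IsCoprime.symm ?_
    rw [(irreducible_X_sub_C a).coprime_iff_not_dvd, dvd_iff_isRoot]
    simp only [hχ, IsRoot.def, eval_add, eval_sub, eval_mul, eval_pow, eval_X, eval_C]
    exact hno a
  obtain ⟨u, v, huv⟩ := hcop
  have h3 : aeval g v * (y - g) = 1 := by
    have := congrArg (aeval g) huv
    rw [map_add, map_mul, map_mul, map_one, show (aeval g) χ = 0 from aeval_chi g, mul_zero, zero_add] at this
    rw [← this]; simp [hy]
  have h5 : (y - (g.trace • (1 : Matrix (Fin 2) (Fin 2) F) - g)) = 0 := by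
    have := congrArg (fun z => aeval g v * z) h2
    simp only [← mul_assoc, h3, one_mul, mul_zero] at this
    exact this
  exact sub_eq_zero.mp h5

theorem pow_card_succ_of_noroot [Fintype F] (g : Matrix (Fin 2) (Fin 2) F)
    (hno : ∀ a : F, a ^ 2 - g.trace * a + g.det ≠ 0) :
    g ^ (Fintype.card F + 1) = g.det • (1 : Matrix (Fin 2) (Fin 2) F) := by
  rw [pow_succ, pow_card_of_noroot g hno, sub_mul, ch2 g]
  simp




/-- `(mk g)^k = 1` in `PGL₂` iff `g^k` is a scalar matrix. -/
theorem mk_pow_eq_one_iff (g : GL (Fin 2) F) (k : ℕ) :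
    ((QuotientGroup.mk g : GL (Fin 2) F ⧸ Subgroup.center (GL (Fin 2) F)) ^ k = 1) ↔
      ∃ c : F, ((g : Matrix (Fin 2) (Fin 2) F) ^ k) = c • (1 : Matrix (Fin 2) (Fin 2) F) := by
  rw [← QuotientGroup.mk_pow, QuotientGroup.eq_one_iff, Matrix.GeneralLinearGroup.center_eq_range_scalar]
  constructor
  · rintro ⟨u, hu⟩
    refine ⟨(u : F), ?_⟩
    have := congrArg (fun x : GL (Fin 2) F => (x : Matrix (Fin 2) (Fin 2) F)) hu
    simp only [Matrix.GeneralLinearGroup.coe_scalar, Units.val_pow_eq_pow_val] at this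
    rw [← this, Matrix.smul_one_eq_diagonal]; rfl
  · rintro ⟨c, hc⟩
    have hc0 : c ≠ 0 := by
      rintro rfl
      have h1 : IsUnit ((g : Matrix (Fin 2) (Fin 2) F) ^ k) := by
        rw [← Units.val_pow_eq_pow_val]; exact (g ^ k).isUnit
      rw [hc, zero_smul] at h1
      exact not_isUnit_zero h1
    refine ⟨Units.mk0 c hc0, ?_⟩
    apply Units.ext
    simp only [Matrix.GeneralLinearGroup.coe_scalar, Units.val_pow_eq_pow_val, Units.val_mk0]
    rw [hc, Matrix.smul_one_eq_diagonal]; rfl


end Cfsg.Agent.Lib.Helper19.PGL2Spec
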