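import Mathlib
import Cfsg.Agent.Lib.Helper19.PGL2SpecA

set_option autoImplicit false

open Matrix Polynomial

namespace Cfsg.Agent.Lib.Helper19.PGL2Spec

variable {F : Type*} [Field F] [Fintype F]

/-- every element order of `PGL₂(F)` divides `q-1`, divides `q+1` or equals `p`. -/
theorem orderOf_mem (p : ℕ) [Fact p.Prime] [CharP F p]
    (x : GL (Fin 2) F ⧸ Subgroup.center (GL (Fin 2) F)) :
    orderOf x ∣ Fintype.card F - 1 ∨ orderOf x ∣ Fintype.card F + 1 ∨ orderOf x = p := by
  induction x using QuotientGroup.induction_on with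
  | H g =>
  set M : Matrix (Fin 2) (Fin 2) F := (g : Matrix (Fin 2) (Fin 2) F) with hM
  have hdet : M.det ≠ 0 := by
    have := Matrix.isUnits_det_units g
    exact this.ne_zero
  by_cases hroot : ∃ a : F, a ^ 2 - M.trace * a + M.det = 0
  · obtain ⟨α, hα⟩ := hroot
    set β := M.trace - α with hβ
    have htr : M.trace = α + β := by rw [hβ]; ring
    have hdt : M.det = α * β := by rw [hβ]; linear_combination hα
    by_cases hne : α = β
    · -- double root
      have h1 := pow_char_of_double p M α (by rw [htr, ← hne]) (by rw [hdt, ← hne])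
      have h2 : (QuotientGroup.mk g : GL (Fin 2) F ⧸ Subgroup.center (GL (Fin 2) F)) ^ p = 1 :=
        (mk_pow_eq_one_iff g p).mpr ⟨α ^ p, h1⟩
      have h3 := orderOf_dvd_of_pow_eq_one h2
      rcases (Nat.dvd_prime (Fact.out : p.Prime)).mp h3 with h | h
      · left; rw [h]; exact one_dvd _
      · right; right; exact h
    · left
      have hα0 : α ≠ 0 := by rintro rfl; apply hdet; rw [hdt, zero_mul]
      have hβ0 : β ≠ 0 := by intro h; apply hdet; rw [hdt, h, mul_zero]
      have h1 := pow_of_split M α β 1 hne htr hdt (Fintype.card F - 1)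
        (FiniteField.pow_card_sub_one_eq_one α hα0) (FiniteField.pow_card_sub_one_eq_one β hβ0)
      exact orderOf_dvd_of_pow_eq_one ((mk_pow_eq_one_iff g _).mpr ⟨1, h1⟩)
  · right; left
    push Not at hroot
    have h1 := pow_card_succ_of_noroot M hroot
    exact orderOf_dvd_of_pow_eq_one ((mk_pow_eq_one_iff g _).mpr ⟨_, h1⟩)

end Cfsg.Agent.Lib.Helper19.PGL2Spec
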