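import Mathlib
import Cfsg.Agent.Lib.Helper19.PGL2SpecB

set_option autoImplicit false

open Matrix Polynomial

namespace Cfsg.Agent.Lib.Helper19.PGL2Spec

universe u
variable {F : Type u} [Field F] [Fintype F]



theorem exists_orderOf_of_dvd_of_orderOf {G : Type*} [Group G] (x : G) (n d : ℕ) (hn : 0 < n)
    (hx : orderOf x = n) (hd : d ∣ n) : ∃ y : G, orderOf y = d := by
  obtain ⟨e, rfl⟩ := hd
  refine ⟨x ^ e, ?_⟩
  have he : 0 < e := Nat.pos_of_mul_pos_left (by simpa using hn) |> fun h => by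
    rcases Nat.eq_zero_or_pos e with h0 | h0
    · subst h0; simp at hn
    · exact h0
  rw [orderOf_pow' x he.ne', hx, Nat.gcd_eq_right (Dvd.intro_left d rfl)]
  exact Nat.mul_div_cancel _ he

/-- split torus: elements of all orders dividing `q - 1` -/
theorem exists_orderOf_split (d : ℕ) (hd : d ∣ Fintype.card F - 1) :
    ∃ x : GL (Fin 2) F ⧸ Subgroup.center (GL (Fin 2) F), orderOf x = d := by
  classical
  obtain ⟨γ, hγ⟩ := IsCyclic.exists_generator (α := Fˣ)
  have hord : orderOf γ = Fintype.card F - 1 := by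
    rw [orderOf_eq_card_of_forall_mem_zpowers hγ, Nat.card_eq_fintype_card, Fintype.card_units]
  have hq : 0 < Fintype.card F - 1 := by
    have := Fintype.one_lt_card (α := F); omega
  set D : Matrix (Fin 2) (Fin 2) F := Matrix.diagonal ![(γ : F), 1] with hD
  have hDdet : D.det ≠ 0 := by
    rw [hD, Matrix.det_diagonal]; simp
  set g : GL (Fin 2) F := Matrix.GeneralLinearGroup.mkOfDetNeZero D hDdet with hg
  have hpow : ∀ k : ℕ, ((QuotientGroup.mk g : GL (Fin 2) F ⧸ Subgroup.center (GL (Fin 2) F)) ^ k = 1)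
      ↔ (Fintype.card F - 1) ∣ k := by
    intro k
    rw [mk_pow_eq_one_iff, ← hord, orderOf_dvd_iff_pow_eq_one]
    have hgD : (g : Matrix (Fin 2) (Fin 2) F) = D := rfl
    rw [hgD, hD, Matrix.diagonal_pow]
    constructor
    · rintro ⟨c, hc⟩
      have h00 := congrFun (congrFun hc 0) 0
      have h11 := congrFun (congrFun hc 1) 1
      simp at h00 h11
      apply Units.ext
      rw [Units.val_pow_eq_pow_val, Units.val_one, h00, ← h11]
    · intro h
      refine ⟨1, ?_⟩
      have h' : (γ : F) ^ k = 1 := by rw [← Units.val_pow_eq_pow_val, h, Units.val_one]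
      ext i j
      fin_cases i <;> fin_cases j <;> simp [h']
  have hx : orderOf (QuotientGroup.mk g : GL (Fin 2) F ⧸ Subgroup.center (GL (Fin 2) F))
      = Fintype.card F - 1 := by
    apply Nat.dvd_antisymm
    · exact orderOf_dvd_of_pow_eq_one ((hpow _).mpr dvd_rfl)
    · exact (hpow _).mp (pow_orderOf_eq_one _)
  exact exists_orderOf_of_dvd_of_orderOf _ _ d hq hx hd




omit [Fintype F] in
theorem unip_pow (k : ℕ) : (!![1, 1; 0, 1] : Matrix (Fin 2) (Fin 2) F) ^ k = !![1, (k : F); 0, 1] := by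
  induction k with
  | zero => ext i j; fin_cases i <;> fin_cases j <;> simp
  | succ k ih =>
    rw [pow_succ, ih]
    ext i j; fin_cases i <;> fin_cases j <;> simp [Matrix.mul_apply, Fin.sum_univ_two, add_comm]

/-- an element of order `p` -/
theorem exists_orderOf_char (p : ℕ) [Fact p.Prime] [CharP F p] :
    ∃ x : GL (Fin 2) F ⧸ Subgroup.center (GL (Fin 2) F), orderOf x = p := by
  set U : Matrix (Fin 2) (Fin 2) F := !![1, 1; 0, 1] with hU
  have hUdet : U.det ≠ 0 := by rw [hU, Matrix.det_fin_two]; simp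
  set g : GL (Fin 2) F := Matrix.GeneralLinearGroup.mkOfDetNeZero U hUdet with hg
  have hgU : (g : Matrix (Fin 2) (Fin 2) F) = U := rfl
  have hpow : ∀ k : ℕ, ((QuotientGroup.mk g : GL (Fin 2) F ⧸ Subgroup.center (GL (Fin 2) F)) ^ k = 1)
      ↔ p ∣ k := by
    intro k
    rw [mk_pow_eq_one_iff, hgU, hU, unip_pow, ← CharP.cast_eq_zero_iff F p]
    constructor
    · rintro ⟨c, hc⟩
      have h01 := congrFun (congrFun hc 0) 1
      simpa using h01
    · intro h
      refine ⟨1, ?_⟩
      ext i j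
      fin_cases i <;> fin_cases j <;> simp [h]
  refine ⟨QuotientGroup.mk g, ?_⟩
  apply Nat.dvd_antisymm
  · exact orderOf_dvd_of_pow_eq_one ((hpow _).mpr dvd_rfl)
  · exact (hpow _).mp (pow_orderOf_eq_one _)




theorem exists_quadratic_noroot : ∃ c : F, ∀ a : F, a ^ 2 - a - c ≠ 0 := by
  have hninj : ¬ Function.Injective (fun a : F => a ^ 2 - a) := by
    intro h
    have : (0 : F) = 1 := h (by simp)
    exact zero_ne_one this
  have hnsurj : ¬ Function.Surjective (fun a : F => a ^ 2 - a) :=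
    fun h => hninj (Finite.injective_iff_surjective.mpr h)
  rw [Function.Surjective] at hnsurj
  push Not at hnsurj
  obtain ⟨c, hc⟩ := hnsurj
  exact ⟨c, fun a h => hc a (sub_eq_zero.mp h)⟩

/-- A quadratic field extension gives an element of order `q + 1` in `PGL₂(F)`. -/
theorem exists_orderOf_card_succ_of_quadratic (p : ℕ) [Fact p.Prime] [CharP F p]
    (K : Type*) [Field K] [Algebra F K] [Module.Finite F K] (hK : Module.finrank F K = 2) :
    ∃ x : GL (Fin 2) F ⧸ Subgroup.center (GL (Fin 2) F), orderOf x = Fintype.card F + 1 := by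
  classical
  have : Finite K := Module.finite_of_finite F
  letI : Fintype K := Fintype.ofFinite K
  set q := Fintype.card F with hq
  have hq1 : 1 < q := Fintype.one_lt_card
  have hcardK : Fintype.card K = q ^ 2 := by
    rw [Module.card_eq_pow_finrank (K := F) (V := K), hK]
  let b : Module.Basis (Fin 2) F K := Module.finBasisOfFinrankEq F K hK
  let ι : K →ₐ[F] Matrix (Fin 2) (Fin 2) F := Algebra.leftMulMatrix b
  have hιinj : Function.Injective ι := Algebra.leftMulMatrix_injective b
  obtain ⟨θ, hθ⟩ := IsCyclic.exists_generator (α := Kˣ)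
  have hord : orderOf θ = q ^ 2 - 1 := by
    rw [orderOf_eq_card_of_forall_mem_zpowers hθ, Nat.card_eq_fintype_card, Fintype.card_units, hcardK]
  set Θ : GL (Fin 2) F := Units.map (ι : K →* Matrix (Fin 2) (Fin 2) F) θ with hΘ
  have hΘpow : ∀ k : ℕ, ((Θ : Matrix (Fin 2) (Fin 2) F)) ^ k = ι ((θ : K) ^ k) := by
    intro k; rw [map_pow]; rfl
  have hdvd : (q + 1) ∣ orderOf (QuotientGroup.mk Θ : GL (Fin 2) F ⧸ Subgroup.center (GL (Fin 2) F)) := by
    have h1 := pow_orderOf_eq_one (QuotientGroup.mk Θ : GL (Fin 2) F ⧸ Subgroup.center (GL (Fin 2) F))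
    set k := orderOf (QuotientGroup.mk Θ : GL (Fin 2) F ⧸ Subgroup.center (GL (Fin 2) F)) with hk
    rw [mk_pow_eq_one_iff] at h1
    obtain ⟨c, hc⟩ := h1
    rw [hΘpow] at hc
    have h2 : (θ : K) ^ k = algebraMap F K c := by
      apply hιinj
      rw [hc, AlgHom.commutes, Algebra.algebraMap_eq_smul_one]
    have hc0 : c ≠ 0 := by
      rintro rfl
      rw [map_zero] at h2
      exact (pow_ne_zero k θ.ne_zero) h2
    have h3 : ((θ : K) ^ k) ^ (q - 1) = 1 := by
      rw [h2, ← map_pow, FiniteField.pow_card_sub_one_eq_one c hc0, map_one]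
    have h4 : θ ^ (k * (q - 1)) = 1 := by
      apply Units.ext
      rw [Units.val_pow_eq_pow_val, pow_mul, h3, Units.val_one]
    have h5 := orderOf_dvd_of_pow_eq_one h4
    rw [hord] at h5
    have h6 : q ^ 2 - 1 = (q + 1) * (q - 1) := by
      have : q ^ 2 = (q + 1) * (q - 1) + 1 := by
        obtain ⟨m, hm⟩ : ∃ m, q = m + 1 := ⟨q - 1, by omega⟩
        rw [hm]; simp; ring
      omega
    rw [h6] at h5
    exact Nat.dvd_of_mul_dvd_mul_right (by omega) h5
  refine ⟨QuotientGroup.mk Θ, ?_⟩
  have hpos : 0 < orderOf (QuotientGroup.mk Θ : GL (Fin 2) F ⧸ Subgroup.center (GL (Fin 2) F)) :=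
    orderOf_pos _
  rcases orderOf_mem p (QuotientGroup.mk Θ : GL (Fin 2) F ⧸ Subgroup.center (GL (Fin 2) F)) with h | h | h
  · exfalso
    have := Nat.le_of_dvd (by omega) (dvd_trans hdvd h)
    omega
  · exact Nat.dvd_antisymm h hdvd
  · exfalso
    rw [h] at hdvd
    have h1 := Nat.le_of_dvd (Fact.out : p.Prime).pos hdvd
    have h2 : p ≤ q := by
      have : p ∣ q := by
        have := CharP.cast_eq_zero_iff F p q |>.mp (by rw [hq]; exact FiniteField.cast_card_eq_zero F)
        exact this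
      exact Nat.le_of_dvd (by omega) this
    omega




omit [Fintype F] in
theorem exists_quadratic_ext (hno : ∃ c : F, ∀ a : F, a ^ 2 - a - c ≠ 0) :
    ∃ (K : Type u) (_ : Field K) (_ : Algebra F K) (_ : Module.Finite F K), Module.finrank F K = 2 := by
  obtain ⟨c, hc⟩ := hno
  set f : F[X] := X ^ 2 - X - C c with hf
  have hdeg : f.natDegree = 2 := by
    rw [hf]; compute_degree!
  have hf0 : f ≠ 0 := by
    intro h; rw [h, natDegree_zero] at hdeg; omega
  have hirr : Irreducible f := by
    apply irreducible_of_degree_le_three_of_not_isRoot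
    · rw [hdeg]; decide
    · intro a
      simp only [hf, IsRoot.def, eval_sub, eval_pow, eval_X, eval_C]
      exact hc a
  have : Fact (Irreducible f) := ⟨hirr⟩
  refine ⟨AdjoinRoot f, inferInstance, inferInstance, ?_, ?_⟩
  · exact (AdjoinRoot.powerBasis hf0).finite
  · rw [(AdjoinRoot.powerBasis hf0).finrank, AdjoinRoot.powerBasis_dim, hdeg]


/-- The spectrum of `PGL₂(F)`, `|F| = q`, `char F = p`. -/
theorem spec (p : ℕ) [Fact p.Prime] [CharP F p] :
    Set.range (orderOf : GL (Fin 2) F ⧸ Subgroup.center (GL (Fin 2) F) → ℕ) =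
      {n | n ∣ Fintype.card F - 1 ∨ n ∣ Fintype.card F + 1 ∨ n = p} := by
  ext n
  simp only [Set.mem_range, Set.mem_ofPred_eq]
  constructor
  · rintro ⟨x, rfl⟩
    exact orderOf_mem p x
  · rintro (h | h | h)
    · exact exists_orderOf_split n h
    · obtain ⟨K, _, _, _, hK⟩ := exists_quadratic_ext (exists_quadratic_noroot (F := F))
      obtain ⟨x, hx⟩ := exists_orderOf_card_succ_of_quadratic p K hK
      exact exists_orderOf_of_dvd_of_orderOf x _ n (Nat.succ_pos _) hx h
    · rw [h]; exact exists_orderOf_char p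

end Cfsg.Agent.Lib.Helper19.PGL2Spec
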