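import Mathlib
import Cfsg.Agent.Lib.Helper1.FrobPQ.Props

set_option autoImplicit false

namespace Cfsg.Agent.Lib.Helper19.PQWrap

open Cfsg.Agent.Lib.Helper1.FrobPQ Cfsg.Agent.Lib.Helper1.Ward
open scoped commutatorElement
open SemidirectProduct

universe u v

theorem minFac_mul_of_lt {p q : ℕ} (hp : p.Prime) (hq : q.Prime) (hqp : q < p) :
    (p * q).minFac = q := by
  have h1 : (p * q).minFac ≤ q := Nat.minFac_le_of_dvd hq.two_le (dvd_mul_left q p)
  have h2 : (p * q).minFac.Prime := by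
    apply Nat.minFac_prime
    have := Nat.mul_le_mul hp.two_le hq.two_le
    omega
  have h3 : (p * q).minFac ∣ p * q := Nat.minFac_dvd _
  rcases (Nat.Prime.dvd_mul h2).mp h3 with h4 | h4
  · have := (Nat.prime_dvd_prime_iff_eq h2 hp).mp h4
    omega
  · exact (Nat.prime_dvd_prime_iff_eq h2 hq).mp h4

theorem quotient_nilpotent_of_lcs_le {G : Type u} [Group G] (N : Subgroup G) [N.Normal] {k : ℕ}
    (hk : (⊤ : Subgroup G).lowerCentralSeries k ≤ N) : Group.IsNilpotent (G ⧸ N) := by
  rw [Subgroup.nilpotent_iff_lowerCentralSeries]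
  refine ⟨k, ?_⟩
  have h1 : (⊤ : Subgroup (G ⧸ N)) = (⊤ : Subgroup G).map (QuotientGroup.mk' N) := by
    rw [← MonoidHom.range_eq_map, MonoidHom.range_eq_top.mpr (QuotientGroup.mk'_surjective N)]
  rw [h1, ← Subgroup.map_lowerCentralSeries, eq_bot_iff]
  refine le_trans (Subgroup.map_mono hk) ?_
  rw [Subgroup.map_le_iff_le_comap]
  intro x hx
  rw [Subgroup.mem_comap, Subgroup.mem_bot]
  exact (QuotientGroup.eq_one_iff x).mpr hx

theorem pq_core
    (hmain : ∀ (Γ : Type (max u v)) [Group Γ] [Finite Γ] (p q : ℕ) (A F G : Subgroup Γ),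
      GoodF p q A F G → ∃ k, G.lowerCentralSeries k ≤ Cfsg.fittingOf G)
    {G : Type u} {A : Type v} [Group G] [Finite G] [Group.IsSolvable G] [Group A] [Finite A]
    [MulDistribMulAction A G] (p q : ℕ) (hp : p.Prime) (hq : q.Prime) (hqp : q < p)
    (hA : Nat.card A = p * q) (hAna : ¬ IsMulCommutative A)
    (hcop : (Nat.card G).Coprime (p * q))
    (hfpf : ∀ g : G, (∀ a : A, a • g = g) → g = 1) :
    ∃ F : Subgroup G, ∃ hF : F.Normal, Group.IsNilpotent ↥F ∧ Group.IsNilpotent (G ⧸ F) := by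
  obtain ⟨φ, hφ⟩ : ∃ φ : A →* MulAut G, φ = MulDistribMulAction.toMulAut A G := ⟨_, rfl⟩
  have hφa : ∀ (a : A) (n : G), φ a n = a • n := by
    intro a n; rw [hφ]; rfl
  have hfinΓ : Finite (G ⋊[φ] A) := Finite.of_equiv _ (SemidirectProduct.equivProd).symm
  have hGn : ((inl : G →* G ⋊[φ] A).range).Normal := by
    rw [SemidirectProduct.range_inl_eq_ker_rightHom]
    infer_instance
  have hcardA : Nat.card ↥((inr : A →* G ⋊[φ] A).range) = p * q := by
    rw [Nat.card_congr (MonoidHom.ofInjective (inr_injective (φ := φ))).toEquiv.symm, hA]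
  -- a subgroup of order p
  have := Fact.mk hp
  obtain ⟨K, hK⟩ := Sylow.exists_subgroup_card_pow_prime (G := A) p (n := 1)
    (by rw [pow_one, hA]; exact dvd_mul_right p q)
  rw [pow_one] at hK
  have hKidx : K.index = q := by
    have h1 := K.card_mul_index
    rw [hK, hA] at h1
    exact Nat.eq_of_mul_eq_mul_left hp.pos h1
  have hKn : K.Normal := by
    apply Subgroup.normal_of_index_eq_minFac_card
    rw [hKidx, hA, minFac_mul_of_lt hp hq hqp]
  have hcardF : Nat.card ↥(K.map (inr : A →* G ⋊[φ] A)) = p := by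
    rw [Subgroup.card_map_of_injective inr_injective, hK]
  have hgood : GoodF p q (inr : A →* G ⋊[φ] A).range (K.map (inr : A →* G ⋊[φ] A))
      (inl : G →* G ⋊[φ] A).range := by
    refine ⟨⟨⟨hp, hq, hcardA, ?_⟩, ?_, hcardF, ?_⟩, hGn, ?_, ?_, ?_⟩
    · intro hcomm
      apply hAna
      refine ⟨⟨fun a b => ?_⟩⟩
      have := hcomm (inr a) ⟨a, rfl⟩ (inr b) ⟨b, rfl⟩
      rw [← map_mul, ← map_mul] at this
      exact inr_injective this
    · rw [MonoidHom.range_eq_map]
      exact Subgroup.map_mono le_top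
    · rintro _ ⟨a, rfl⟩
      rw [Subgroup.mem_normalizer_iff]
      intro h
      constructor
      · rintro ⟨t, ht, rfl⟩
        refine ⟨a * t * a⁻¹, ?_, ?_⟩
        · exact hKn.conj_mem t ht a
        · rw [map_mul, map_mul, map_inv]
      · intro hh
        obtain ⟨t, ht, hte⟩ := hh
        refine ⟨a⁻¹ * t * a, ?_, ?_⟩
        · have := hKn.conj_mem t ht a⁻¹
          rwa [inv_inv] at this
        · rw [map_mul, map_mul, hte, map_inv]
          group
    · have e : Nat.card ↥((inl : G →* G ⋊[φ] A).range) = Nat.card G :=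
        Nat.card_congr (MonoidHom.ofInjective inl_injective).toEquiv.symm
      rw [e]
      exact hcop
    · exact Group.isSolvable_of_surjective
        (MonoidHom.ofInjective (inl_injective (φ := φ))).surjective
    · rintro _ ⟨n, rfl⟩ hfix
      have h1 : n = 1 := by
        apply hfpf n
        intro a
        have h2 := hfix (inr a) ⟨a, rfl⟩
        have h3 : (inl (φ a n) : G ⋊[φ] A) = inl n := by
          rw [inl_aut, h2, mul_assoc, ← map_mul, mul_inv_cancel, map_one, mul_one]
        have h4 := inl_injective h3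
        rw [hφa] at h4
        exact h4
      rw [h1, map_one]
  obtain ⟨k, hk⟩ := hmain _ _ _ _ _ _ hgood
  have hFn := fitOf_normal (inl : G →* G ⋊[φ] A).range
  have hFn' : ((Cfsg.fittingOf (inl : G →* G ⋊[φ] A).range).comap inl).Normal := hFn.comap _
  refine ⟨(Cfsg.fittingOf (inl : G →* G ⋊[φ] A).range).comap inl, hFn', ?_, ?_⟩
  · have h1 : ((Cfsg.fittingOf (inl : G →* G ⋊[φ] A).range).comap inl).map
        (inl : G →* G ⋊[φ] A) = Cfsg.fittingOf (inl : G →* G ⋊[φ] A).range := by
      rw [Subgroup.map_comap_eq, inf_eq_right]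
      exact fitOf_le _
    have h2 : Group.IsNilpotent ↥(((Cfsg.fittingOf (inl : G →* G ⋊[φ] A).range).comap inl).map
        (inl : G →* G ⋊[φ] A)) := by
      rw [h1]; exact fitOf_nilpotent _
    exact (Group.isNilpotent_congr (Subgroup.equivMapOfInjective _ _ inl_injective)).mpr h2
  · apply @quotient_nilpotent_of_lcs_le _ _ _ hFn' k
    rw [← Subgroup.map_le_iff_le_comap, Subgroup.map_lowerCentralSeries, ← MonoidHom.range_eq_map]
    exact hk

theorem pq_wrapper
    (hmain : ∀ (Γ : Type (max u v)) [Group Γ] [Finite Γ] (p q : ℕ) (A F G : Subgroup Γ),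
      GoodF p q A F G → ∃ k, G.lowerCentralSeries k ≤ Cfsg.fittingOf G)
    {G : Type u} {A : Type v} [Group G] [Finite G] [Group.IsSolvable G] [Group A] [Finite A]
    [MulDistribMulAction A G] (p q : ℕ) (hp : p.Prime) (hq : q.Prime) (hpq : p ≠ q)
    (hA : Nat.card A = p * q) (hAna : ¬ IsMulCommutative A)
    (hcop : (Nat.card G).Coprime (p * q))
    (hfpf : ∀ g : G, (∀ a : A, a • g = g) → g = 1) :
    ∃ F : Subgroup G, ∃ hF : F.Normal, Group.IsNilpotent ↥F ∧ Group.IsNilpotent (G ⧸ F) := by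
  rcases lt_or_gt_of_ne hpq with h | h
  · exact pq_core.{u, v} hmain q p hq hp h (by rw [hA, mul_comm]) hAna (by rwa [mul_comm]) hfpf
  · exact pq_core.{u, v} hmain p q hp hq h hA hAna hcop hfpf

end Cfsg.Agent.Lib.Helper19.PQWrap
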