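import Mathlib
import Cfsg.Agent.Lib.Helper16.PS4.Hyps

/-! PS4-CZ for helper16's S5320 project (part B). -/

set_option autoImplicit false
set_option linter.unusedSimpArgs false
set_option linter.unusedVariables false

namespace Cfsg.Agent.Lib.Helper19.PS4

open Matrix Cfsg.Agent.Lib.Helper16.PS4

section
variable (F : Type*) [Field F]

theorem zt_coe : ((zt : Sp4 F) : Matrix (Fin 2 ⊕ Fin 2) (Fin 2 ⊕ Fin 2) F) =
    blkM (-1) 1 := by
  unfold zt
  rw [blk_coe]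
  simp

theorem cent_zt (h2 : (2 : F) ≠ 0) (g : Sp4 F) (hg : g * zt = zt * g) :
    ∃ p : SL2 F × SL2 F, g = blk p := by
  have hm : (g : Matrix (Fin 2 ⊕ Fin 2) (Fin 2 ⊕ Fin 2) F) * blkM (-1) 1 =
      blkM (-1) 1 * (g : Matrix (Fin 2 ⊕ Fin 2) (Fin 2 ⊕ Fin 2) F) := by
    have := congrArg Subtype.val hg
    rw [Submonoid.coe_mul, Submonoid.coe_mul, zt_coe] at this
    exact this
  have hz : ∀ x : F, x = -x → x = 0 := by
    intro x hx
    have : (2 : F) * x = 0 := by linear_combination hx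
    rcases mul_eq_zero.1 this with h | h
    · exact absurd h h2
    · exact h
  -- off-diagonal blocks vanish
  have z1 : (g : Matrix (Fin 2 ⊕ Fin 2) (Fin 2 ⊕ Fin 2) F) (Sum.inl 0) (Sum.inl 1) = 0 := by
    have := congrFun (congrFun hm (Sum.inl 0)) (Sum.inl 1)
    simp [blkM_apply, Matrix.mul_apply, Fintype.sum_sum_type, Fin.sum_univ_two,
      Matrix.one_apply] at this
    exact hz _ this
  have z2 : (g : Matrix (Fin 2 ⊕ Fin 2) (Fin 2 ⊕ Fin 2) F) (Sum.inl 0) (Sum.inr 1) = 0 := by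
    have := congrFun (congrFun hm (Sum.inl 0)) (Sum.inr 1)
    simp [blkM_apply, Matrix.mul_apply, Fintype.sum_sum_type, Fin.sum_univ_two,
      Matrix.one_apply] at this
    exact hz _ this
  have z3 : (g : Matrix (Fin 2 ⊕ Fin 2) (Fin 2 ⊕ Fin 2) F) (Sum.inr 0) (Sum.inl 1) = 0 := by
    have := congrFun (congrFun hm (Sum.inr 0)) (Sum.inl 1)
    simp [blkM_apply, Matrix.mul_apply, Fintype.sum_sum_type, Fin.sum_univ_two,
      Matrix.one_apply] at this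
    exact hz _ this
  have z4 : (g : Matrix (Fin 2 ⊕ Fin 2) (Fin 2 ⊕ Fin 2) F) (Sum.inr 0) (Sum.inr 1) = 0 := by
    have := congrFun (congrFun hm (Sum.inr 0)) (Sum.inr 1)
    simp [blkM_apply, Matrix.mul_apply, Fintype.sum_sum_type, Fin.sum_univ_two,
      Matrix.one_apply] at this
    exact hz _ this
  have z5 : (g : Matrix (Fin 2 ⊕ Fin 2) (Fin 2 ⊕ Fin 2) F) (Sum.inl 1) (Sum.inl 0) = 0 := by
    have := congrFun (congrFun hm (Sum.inl 1)) (Sum.inl 0)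
    simp [blkM_apply, Matrix.mul_apply, Fintype.sum_sum_type, Fin.sum_univ_two,
      Matrix.one_apply] at this
    exact hz _ this.symm
  have z6 : (g : Matrix (Fin 2 ⊕ Fin 2) (Fin 2 ⊕ Fin 2) F) (Sum.inl 1) (Sum.inr 0) = 0 := by
    have := congrFun (congrFun hm (Sum.inl 1)) (Sum.inr 0)
    simp [blkM_apply, Matrix.mul_apply, Fintype.sum_sum_type, Fin.sum_univ_two,
      Matrix.one_apply] at this
    exact hz _ this.symm
  have z7 : (g : Matrix (Fin 2 ⊕ Fin 2) (Fin 2 ⊕ Fin 2) F) (Sum.inr 1) (Sum.inl 0) = 0 := by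
    have := congrFun (congrFun hm (Sum.inr 1)) (Sum.inl 0)
    simp [blkM_apply, Matrix.mul_apply, Fintype.sum_sum_type, Fin.sum_univ_two,
      Matrix.one_apply] at this
    exact hz _ this.symm
  have z8 : (g : Matrix (Fin 2 ⊕ Fin 2) (Fin 2 ⊕ Fin 2) F) (Sum.inr 1) (Sum.inr 0) = 0 := by
    have := congrFun (congrFun hm (Sum.inr 1)) (Sum.inr 0)
    simp [blkM_apply, Matrix.mul_apply, Fintype.sum_sum_type, Fin.sum_univ_two,
      Matrix.one_apply] at this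
    exact hz _ this.symm
  -- the two diagonal blocks
  obtain ⟨A, hA⟩ : ∃ A : Matrix (Fin 2) (Fin 2) F, A =
      !![(g : Matrix (Fin 2 ⊕ Fin 2) (Fin 2 ⊕ Fin 2) F) (Sum.inl 0) (Sum.inl 0),
        (g : Matrix (Fin 2 ⊕ Fin 2) (Fin 2 ⊕ Fin 2) F) (Sum.inl 0) (Sum.inr 0);
        (g : Matrix (Fin 2 ⊕ Fin 2) (Fin 2 ⊕ Fin 2) F) (Sum.inr 0) (Sum.inl 0),
        (g : Matrix (Fin 2 ⊕ Fin 2) (Fin 2 ⊕ Fin 2) F) (Sum.inr 0) (Sum.inr 0)] := ⟨_, rfl⟩
  obtain ⟨B, hB⟩ : ∃ B : Matrix (Fin 2) (Fin 2) F, B =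
      !![(g : Matrix (Fin 2 ⊕ Fin 2) (Fin 2 ⊕ Fin 2) F) (Sum.inl 1) (Sum.inl 1),
        (g : Matrix (Fin 2 ⊕ Fin 2) (Fin 2 ⊕ Fin 2) F) (Sum.inl 1) (Sum.inr 1);
        (g : Matrix (Fin 2 ⊕ Fin 2) (Fin 2 ⊕ Fin 2) F) (Sum.inr 1) (Sum.inl 1),
        (g : Matrix (Fin 2 ⊕ Fin 2) (Fin 2 ⊕ Fin 2) F) (Sum.inr 1) (Sum.inr 1)] := ⟨_, rfl⟩
  have hgAB : (g : Matrix (Fin 2 ⊕ Fin 2) (Fin 2 ⊕ Fin 2) F) = blkM A B := by
    ext s t
    rcases s with s | s <;> rcases t with t | t <;> fin_cases s <;> fin_cases t <;>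
      simp [blkM_apply, hA, hB, z1, z2, z3, z4, z5, z6, z7, z8]
  have hsymp := (SymplecticGroup.mem_iff).1 g.2
  have hdA : A.det = 1 := by
    have := congrFun (congrFun hsymp (Sum.inl 0)) (Sum.inr 0)
    simp [Matrix.mul_apply, Fintype.sum_sum_type, Fin.sum_univ_two, Matrix.J,
      Matrix.fromBlocks, Matrix.transpose_apply, z1, z2, z3, z4, Matrix.one_apply] at this
    rw [hA, Matrix.det_fin_two_of]
    linear_combination -this
  have hdB : B.det = 1 := by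
    have := congrFun (congrFun hsymp (Sum.inl 1)) (Sum.inr 1)
    simp [Matrix.mul_apply, Fintype.sum_sum_type, Fin.sum_univ_two, Matrix.J,
      Matrix.fromBlocks, Matrix.transpose_apply, z5, z6, z7, z8, Matrix.one_apply] at this
    rw [hB, Matrix.det_fin_two_of]
    linear_combination -this
  refine ⟨(⟨A, hdA⟩, ⟨B, hdB⟩), ?_⟩
  apply Subtype.ext
  rw [hgAB, blk_coe]

end

end Cfsg.Agent.Lib.Helper19.PS4
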