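import Mathlib
import Cfsg.Agent.S0001

/-!
# Project PSB, piece FRA : Frattini argument for complements of a normal `p`-subgroup
-/

set_option autoImplicit false

namespace Cfsg.Agent.Lib.Helper10.PSB

open scoped Pointwise

/-- FRA: if `H` is a `p'`-complement of the normal `p`-subgroup `Q` in the normal subgroup `K`,
then `G = Q N_G(H)`. -/
theorem frattini_compl {G : Type*} [Group G] [Finite G] (p : ℕ) [Fact p.Prime]
    (Q K H : Subgroup G) [Q.Normal] [K.Normal] (hQ : IsPGroup p Q)
    (hHQ : H ⊓ Q = ⊥) (hHK : H ⊔ Q = K) (hH : (Nat.card H).Coprime p) :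
    Q ⊔ Subgroup.normalizer (H : Set G) = ⊤ := by
  have hHleK : H ≤ K := hHK ▸ le_sup_left
  have hQleK : Q ≤ K := hHK ▸ le_sup_right
  -- the data inside `↥K`
  have hNnormal : (Q.subgroupOf K).Normal := inferInstance
  have hcardN : Nat.card (Q.subgroupOf K) = Nat.card Q :=
    Nat.card_congr (Subgroup.subgroupOfEquivOfLe hQleK).toEquiv
  have hcardH : Nat.card (H.subgroupOf K) = Nat.card H :=
    Nat.card_congr (Subgroup.subgroupOfEquivOfLe hHleK).toEquiv
  -- the first complement
  have hc1 : Subgroup.IsComplement' (Q.subgroupOf K) (H.subgroupOf K) := by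
    apply Subgroup.isComplement'_of_disjoint_and_mul_eq_univ
    · rw [disjoint_iff, eq_bot_iff]
      intro x hx
      rw [Subgroup.mem_inf, Subgroup.mem_subgroupOf, Subgroup.mem_subgroupOf] at hx
      have : (x : G) ∈ H ⊓ Q := ⟨hx.2, hx.1⟩
      rw [hHQ, Subgroup.mem_bot] at this
      rw [Subgroup.mem_bot]
      exact Subtype.ext this
    · rw [← Subgroup.normal_mul, ← Subgroup.subgroupOf_sup hQleK hHleK, sup_comm, hHK,
        Subgroup.subgroupOf_self, Subgroup.coe_top]
  have hidx : (Q.subgroupOf K).index = Nat.card H := by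
    rw [← hcardH]; exact hc1.symm.index_eq_card
  have hcop : (Nat.card (Q.subgroupOf K)).Coprime (Q.subgroupOf K).index := by
    rw [hidx, hcardN]
    obtain ⟨a, ha⟩ := IsPGroup.iff_card.mp hQ
    rw [ha]
    exact (Nat.Coprime.symm hH).pow_left a
  have hpN : IsPGroup p (Q.subgroupOf K) := hQ.comap_subtype
  have hsolv : Group.IsSolvable (Q.subgroupOf K) := by
    have := hpN.isNilpotent
    infer_instance
  have hcardK : Nat.card (Q.subgroupOf K) * Nat.card H = Nat.card K := by
    rw [← hcardH]; exact hc1.card_mul_card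
  -- the main step
  rw [eq_top_iff]
  intro g _
  -- the conjugate complement
  set Hg : Subgroup G := H.map (MulAut.conj g).toMonoidHom with hHg
  have hHgK : Hg ≤ K := by
    rintro x ⟨h, hh, rfl⟩
    have : g * h * g⁻¹ ∈ K := (inferInstance : K.Normal).conj_mem h (hHleK hh) g
    simpa using this
  have hcardHg : Nat.card (Hg.subgroupOf K) = Nat.card H := by
    rw [Nat.card_congr (Subgroup.subgroupOfEquivOfLe hHgK).toEquiv]
    exact Subgroup.card_map_of_injective (MulAut.conj g).injective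
  have hc2 : Subgroup.IsComplement' (Q.subgroupOf K) (Hg.subgroupOf K) := by
    apply Subgroup.isComplement'_of_card_mul_and_disjoint
    · rw [hcardHg]; exact hcardK
    · rw [disjoint_iff, eq_bot_iff]
      intro x hx
      rw [Subgroup.mem_inf, Subgroup.mem_subgroupOf, Subgroup.mem_subgroupOf] at hx
      obtain ⟨hxQ, h, hh, hx2⟩ := hx
      have hx3 : (x : G) = g * h * g⁻¹ := by rw [← hx2]; simp
      have hhQ : h ∈ Q := by
        have : g⁻¹ * (x : G) * g⁻¹⁻¹ ∈ Q := (inferInstance : Q.Normal).conj_mem _ hxQ g⁻¹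
        rw [hx3] at this
        simpa [mul_assoc] using this
      have h1 : h ∈ H ⊓ Q := ⟨hh, hhQ⟩
      rw [hHQ, Subgroup.mem_bot] at h1
      rw [Subgroup.mem_bot]
      apply Subtype.ext
      rw [hx3, h1]; simp
  obtain ⟨k, hk⟩ := Cfsg.Agent.S0001.result (Q.subgroupOf K) hcop (Or.inl hsolv)
    (H.subgroupOf K) (Hg.subgroupOf K) hc1 hc2
  -- `g⁻¹ k` normalizes `H`
  have hnorm : g⁻¹ * (k : G) ∈ Subgroup.normalizer (H : Set G) := by
    apply Subgroup.mem_normalizer_fintype
    intro h hh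
    have hh' : (⟨h, hHleK hh⟩ : K) ∈ H.subgroupOf K := by
      rw [Subgroup.mem_subgroupOf]; exact hh
    have h2 : MulAut.conj k • (⟨h, hHleK hh⟩ : K) ∈ MulAut.conj k • H.subgroupOf K :=
      Subgroup.smul_mem_pointwise_smul _ _ _ hh'
    rw [hk, Subgroup.mem_subgroupOf] at h2
    obtain ⟨h', hh', e⟩ := h2
    have e' : g * h' * g⁻¹ = (k : G) * h * (k : G)⁻¹ := by
      have := e
      simp only [MulEquiv.coe_toMonoidHom, MulAut.conj_apply, MulAut.smul_def] at this
      rw [this]; simp
    have : g⁻¹ * (k : G) * h * (g⁻¹ * (k : G))⁻¹ = h' := by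
      have e3 : g⁻¹ * (k : G) * h * (g⁻¹ * (k : G))⁻¹ = g⁻¹ * ((k : G) * h * (k : G)⁻¹) * g := by
        group
      rw [e3, ← e']; group
    rw [this]; exact hh'
  have hkmem : (k : G) ∈ Q ⊔ Subgroup.normalizer (H : Set G) := by
    have h1 : K ≤ Q ⊔ Subgroup.normalizer (H : Set G) := by
      rw [← hHK]
      exact sup_le (le_trans Subgroup.le_normalizer le_sup_right) le_sup_left
    exact h1 k.2
  have : g = (k : G) * (g⁻¹ * (k : G))⁻¹ := by group
  rw [this]
  exact Subgroup.mul_mem _ hkmem (Subgroup.inv_mem _ (le_sup_right (a := Q) hnorm))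

end Cfsg.Agent.Lib.Helper10.PSB
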