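import Mathlib
import Cfsg.Prelude.Def_Characters
import Cfsg.Prelude.Def_Blocks
import Cfsg.Prelude.Def_Local
import Cfsg.Prelude.Def_CaseTheorems
import Cfsg.Agent.Lib.Helper1.Cores
import Cfsg.Agent.Lib.Helper1.Fitting
import Cfsg.Agent.Lib.Helper19.PSBFRA

/-!
# Project PSB, piece GT (core) : the group-theoretic reduction, with CPL and HH as hypotheses
-/

set_option autoImplicit false

namespace Cfsg.Agent.Lib.Helper10.PSB

/-- GT core: `hcpl` is the statement of `exists_compl`, `hhh` the statement of `cent_compl_le`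
(both for this `G` and `p`); `frattini_compl` is used directly. -/
theorem psbgt_core {G : Type*} [Group G] [Finite G] (p : ℕ) [Fact p.Prime]
    (hcpl : ∀ (Q K : Subgroup G) [Q.Normal], Q ≤ K → IsPGroup p Q → (Q.relIndex K).Coprime p →
      ∃ H : Subgroup G, H ≤ K ∧ H ⊓ Q = ⊥ ∧ H ⊔ Q = K ∧ (Nat.card H).Coprime p)
    (hhh : ∀ H : Subgroup G, H ⊔ Cfsg.pCore p G =
        (Cfsg.pPrimeCore p (G ⧸ Cfsg.pCore p G)).comap (QuotientGroup.mk' (Cfsg.pCore p G)) →
      ∀ x : G, x ∈ Subgroup.centralizer (H : Set G) → ∀ k : ℕ, x ^ p ^ k = 1 →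
        x ∈ Cfsg.pCore p G) :
    ∃ H P : Subgroup G, (Nat.card H).Coprime p ∧ IsPGroup p P ∧
      P ≤ Subgroup.normalizer (H : Set G) ∧
      ((Cfsg.pCore p G).index).factorization p +
        (Nat.card ↥(P ⊓ Subgroup.centralizer (H : Set G))).factorization p ≤
          (Nat.card P).factorization p := by
  set Q : Subgroup G := Cfsg.pCore p G with hQdef
  set K : Subgroup G :=
    (Cfsg.pPrimeCore p (G ⧸ Q)).comap (QuotientGroup.mk' Q) with hKdef
  have hQp : IsPGroup p Q := Cfsg.Agent.Lib.Helper1.pCore_isPGroup p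
  have hQK : Q ≤ K := by
    intro x hx
    rw [hKdef, Subgroup.mem_comap]
    have : (QuotientGroup.mk' Q) x = 1 := by
      rw [QuotientGroup.mk'_apply, QuotientGroup.eq_one_iff]; exact hx
    rw [this]; exact Subgroup.one_mem _
  have hKn : K.Normal := by rw [hKdef]; infer_instance
  have hidx : (Q.relIndex K).Coprime p := by
    have h1 : Q.relIndex K = Nat.card (K.map (QuotientGroup.mk' Q)) := by
      have := Subgroup.relIndex_ker (QuotientGroup.mk' Q) (K := K)
      rwa [QuotientGroup.ker_mk'] at this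
    rw [h1, hKdef, Subgroup.map_comap_eq_self_of_surjective (QuotientGroup.mk'_surjective Q)]
    exact Cfsg.Agent.Lib.Helper1.pPrimeCore_card_coprime p
  obtain ⟨H, hHK, hHQ, hHsup, hHcop⟩ := hcpl Q K hQK hQp hidx
  have hfra : Q ⊔ Subgroup.normalizer (H : Set G) = ⊤ :=
    frattini_compl p Q K H hQp hHQ hHsup hHcop
  set N : Subgroup G := Subgroup.normalizer (H : Set G) with hNdef
  obtain ⟨P0⟩ := (inferInstance : Nonempty (Sylow p N))
  refine ⟨H, (P0 : Subgroup N).map N.subtype, hHcop, ?_, ?_, ?_⟩
  · exact P0.isPGroup'.map N.subtype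
  · rintro x ⟨y, _, rfl⟩
    exact y.2
  · -- counting
    have hcardP : Nat.card ((P0 : Subgroup N).map N.subtype) = Nat.card (P0 : Subgroup N) :=
      Subgroup.card_map_of_injective N.subtype_injective
    have hcardP0 : Nat.card (P0 : Subgroup N) = p ^ (Nat.card N).factorization p :=
      P0.card_eq_multiplicity
    have hp : p.Prime := Fact.out
    have hvP : (Nat.card ((P0 : Subgroup N).map N.subtype)).factorization p =
        (Nat.card N).factorization p := by
      rw [hcardP, hcardP0, hp.factorization_pow]; simp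
    -- index of `Q`
    have hQidx : Q.index = (Q.subgroupOf N).index := by
      have h1 : Q.relIndex (Q ⊔ N) = Q.relIndex N := Subgroup.relIndex_sup_left N Q
      rw [hfra, Subgroup.relIndex_top_right] at h1
      exact h1
    have hmul : Nat.card (Q.subgroupOf N) * (Q.subgroupOf N).index = Nat.card N :=
      Subgroup.card_mul_index _
    have hpos1 : Nat.card (Q.subgroupOf N) ≠ 0 := Nat.card_pos.ne'
    have hpos2 : (Q.subgroupOf N).index ≠ 0 := by
      intro h0; rw [h0, mul_zero] at hmul
      exact (Nat.card_pos (α := N)).ne' hmul.symm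
    have hv : (Nat.card N).factorization p =
        (Nat.card (Q.subgroupOf N)).factorization p + ((Q.subgroupOf N).index).factorization p := by
      rw [← hmul, Nat.factorization_mul hpos1 hpos2]; rfl
    -- `P ⊓ C(H) ≤ Q ⊓ N`
    have hle : (P0 : Subgroup N).map N.subtype ⊓ Subgroup.centralizer (H : Set G) ≤ Q ⊓ N := by
      intro x hx
      obtain ⟨⟨y, hy, rfl⟩, hxc⟩ := hx
      refine ⟨?_, y.2⟩
      obtain ⟨k, hk⟩ := (P0.isPGroup') ⟨y, hy⟩
      have hk' : (N.subtype y) ^ p ^ k = 1 := by
        have := congrArg (fun z : (P0 : Subgroup N) => ((z : N) : G)) hk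
        simpa using this
      exact hhh H hHsup _ hxc k hk'
    have hcardQN : Nat.card (Q.subgroupOf N) = Nat.card (Q ⊓ N : Subgroup G) := by
      rw [← Subgroup.inf_subgroupOf_right]
      exact Nat.card_congr (Subgroup.subgroupOfEquivOfLe inf_le_right).toEquiv
    have hdvd : Nat.card ↥((P0 : Subgroup N).map N.subtype ⊓ Subgroup.centralizer (H : Set G)) ∣
        Nat.card (Q.subgroupOf N) := by
      rw [hcardQN]; exact Subgroup.card_dvd_of_le hle
    have hvle : (Nat.card ↥((P0 : Subgroup N).map N.subtype ⊓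
        Subgroup.centralizer (H : Set G))).factorization p ≤
        (Nat.card (Q.subgroupOf N)).factorization p :=
      (Nat.factorization_le_iff_dvd Nat.card_pos.ne' hpos1).2 hdvd p
    rw [hvP, hv, hQidx]
    omega

end Cfsg.Agent.Lib.Helper10.PSB
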