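import Mathlib
import Cfsg.Prelude.Def_Characters
import Cfsg.Prelude.Def_Blocks
import Cfsg.Prelude.Def_Local
import Cfsg.Prelude.Def_CaseTheorems
import Cfsg.Agent.Lib.Helper19.PSBGTcore
import Cfsg.Agent.Lib.Helper22.PSBCPL
import Cfsg.Agent.Lib.Helper21.PSBHH

/-!
# Project PSB, piece GT : the group-theoretic reduction (verbatim wrapper of `psbgt_core`)
-/

set_option autoImplicit false

namespace Cfsg.Agent.Lib.Helper10.PSB

/-- GT -/
theorem gt_main {G : Type*} [Group G] [Finite G] (p : ℕ) [Fact p.Prime]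
    (hsolv : Cfsg.IsPSolvable p G) :
    ∃ H P : Subgroup G, (Nat.card H).Coprime p ∧ IsPGroup p P ∧
      P ≤ Subgroup.normalizer (H : Set G) ∧
      ((Cfsg.pCore p G).index).factorization p +
        (Nat.card ↥(P ⊓ Subgroup.centralizer (H : Set G))).factorization p ≤
          (Nat.card P).factorization p :=
  psbgt_core p (fun Q K _ hQK hQ hidx => exists_compl p Q K hQK hQ hidx)
    (fun H hHK x hx k hxk => cent_compl_le p hsolv H hHK x hx k hxk)

end Cfsg.Agent.Lib.Helper10.PSB
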