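import Mathlib
import Cfsg.Agent.S0255
import Cfsg.Agent.Lib.Helper19.L211b
import Cfsg.Agent.Lib.Helper19.A5Pairs

set_option autoImplicit false

namespace Cfsg.Agent.Lib.Helper19.PSL211

open Matrix Equiv Cfsg.Agent.Lib.helper15.St2 Cfsg.Agent.Lib.Helper19.L211b
open scoped Pointwise

theorem inv_app (f : Perm (Fin 11)) (x : Fin 11) : f⁻¹ (f x) = x := by simp

theorem app_inv (f : Perm (Fin 11)) (x : Fin 11) : f (f⁻¹ x) = x := by simp

/-- a permutation of 11 points of order dividing 3 has two fixed points -/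
theorem two_fixed (σ : Perm (Fin 11)) (h : σ ^ 3 = 1) :
    ∃ i j, i ≠ j ∧ σ i = i ∧ σ j = j := by
  have : Fact (Nat.Prime 3) := ⟨by norm_num⟩
  have h1 := Equiv.Perm.card_compl_support_modEq (p := 3) (n := 1) (σ := σ) (by simpa using h)
  rw [Fintype.card_fin] at h1
  have h2 : 1 < (σ.support)ᶜ.card := by
    unfold Nat.ModEq at h1
    omega
  obtain ⟨a, ha, b, hb, hab⟩ := Finset.one_lt_card.1 h2
  refine ⟨a, b, hab, ?_, ?_⟩
  · simpa using ha
  · simpa using hb

/-- the index of a point stabilizer of a transitive action on 11 points -/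
theorem index_stab {G : Type*} [Group G] (φ : G →* Perm (Fin 11)) (i0 : Fin 11)
    (ht : ∀ j, ∃ g, φ g i0 = j) :
    ((MulAction.stabilizer (Perm (Fin 11)) i0).comap φ).index = 11 := by
  set H : Subgroup G := (MulAction.stabilizer (Perm (Fin 11)) i0).comap φ with hH
  have hmem : ∀ g, g ∈ H ↔ φ g i0 = i0 := fun g => Iff.rfl
  let pt : (G ⧸ H) → Fin 11 := fun q =>
    Quotient.liftOn' q (fun g => φ g i0) (by
      intro a b hab
      rw [QuotientGroup.leftRel_apply, hmem] at hab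
      have h1 : φ a (φ (a⁻¹ * b) i0) = φ b i0 := by
        rw [← Perm.mul_apply, ← map_mul, mul_inv_cancel_left]
      show φ a i0 = φ b i0
      rw [← h1, hab])
  have hpt : ∀ g : G, pt (QuotientGroup.mk g) = φ g i0 := fun g => rfl
  have hpt_inj : Function.Injective pt := by
    intro a b
    refine Quotient.inductionOn₂' a b ?_
    intro g g' h
    apply Quotient.sound'
    rw [QuotientGroup.leftRel_apply, hmem]
    have h' : φ g i0 = φ g' i0 := h
    rw [map_mul, map_inv, Perm.mul_apply, ← h', inv_app]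
  have hpt_surj : Function.Surjective pt := by
    intro i
    obtain ⟨g, hg⟩ := ht i
    exact ⟨QuotientGroup.mk g, hg⟩
  show Nat.card (G ⧸ H) = 11
  rw [Nat.card_congr (Equiv.ofBijective pt ⟨hpt_inj, hpt_surj⟩), Nat.card_fin]

/-- the data: a Steinberg datum generating `G`, and an injective hom to `PP` -/
structure Model (G : Type*) [Group G] where
  S : St (ZMod 11) G
  gen : Subgroup.closure (Set.range fun p : Bool × ZMod 11 => S.X p.1 p.2) = ⊤
  ρ : G →* PP
  inj : Function.Injective ρ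
  hρ : ∀ b t, ρ (S.X b t) = M2 b t
  card : Nat.card G = 660

/-- projections of `PP` -/
def prc (c : Bool) : PP →* Perm (Fin 11) :=
  match c with
  | true => MonoidHom.fst _ _
  | false => MonoidHom.snd _ _

lemma prc_apply (c : Bool) (z : PP) : prc c z = sel c z := by
  cases c <;> rfl

namespace Model

variable {G : Type*} [Group G] (m : Model G)

lemma ρ_x (a : ZMod 11) : m.ρ (m.S.x a) = D2.x a := m.hρ true a
lemma ρ_y (a : ZMod 11) : m.ρ (m.S.y a) = D2.y a := m.hρ false a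
lemma ρ_w (t : ZMod 11) : m.ρ (m.S.w t) = D2.w t := by
  rw [St.w_def, St.w_def, map_mul, map_mul, ρ_x, ρ_y]
lemma ρ_h (t : ZMod 11) : m.ρ (m.S.h t) = D2.h t := by
  show m.ρ (m.S.w t * m.S.w (-1)) = D2.w t * D2.w (-1)
  rw [map_mul, ρ_w, ρ_w]

theorem range_evp (g : G) : ∃ p, m.ρ g = evp p := by
  rcases m.S.nf_all m.gen g with ⟨a, t, _, rfl⟩ | ⟨a, t, b, _, rfl⟩
  · refine ⟨(a, t, none), ?_⟩
    rw [map_mul, ρ_x, ρ_h]
    rfl
  · refine ⟨(a, t, some b), ?_⟩
    rw [map_mul, map_mul, ρ_x, ρ_w, ρ_x]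
    rfl

theorem evp_range (p : ZMod 11 × ZMod 11 × Option (ZMod 11)) : ∃ g, m.ρ g = evp p := by
  obtain ⟨a, t, b⟩ := p
  cases b with
  | none =>
    refine ⟨m.S.x a * m.S.h t, ?_⟩
    rw [map_mul, ρ_x, ρ_h]
    rfl
  | some b =>
    refine ⟨m.S.x a * m.S.w t * m.S.x b, ?_⟩
    rw [map_mul, map_mul, ρ_x, ρ_w, ρ_x]
    rfl

/-- the two actions on 11 points -/
def φ (c : Bool) : G →* Perm (Fin 11) := (prc c).comp m.ρ

lemma φ_apply (c : Bool) (g : G) : m.φ c g = sel c (m.ρ g) := prc_apply _ _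

/-- the 22 point stabilizers -/
def Hs (c : Bool) (i : Fin 11) : Subgroup G :=
  (MulAction.stabilizer (Perm (Fin 11)) i).comap (m.φ c)

lemma mem_Hs {c : Bool} {i : Fin 11} {g : G} : g ∈ m.Hs c i ↔ m.φ c g i = i := Iff.rfl

lemma trans0 (c : Bool) (i : Fin 11) : ∃ g, m.φ c g 0 = i := by
  obtain ⟨k, hk⟩ := trans1 c i
  refine ⟨m.S.X true 1 ^ k.val, ?_⟩
  rw [φ_apply, map_pow, m.hρ]
  exact hk

lemma trans (c : Bool) (i j : Fin 11) : ∃ g, m.φ c g i = j := by
  obtain ⟨g1, h1⟩ := m.trans0 c i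
  obtain ⟨g2, h2⟩ := m.trans0 c j
  refine ⟨g2 * g1⁻¹, ?_⟩
  rw [map_mul, map_inv, Perm.mul_apply, ← h1, inv_app, h2]

lemma index_Hs (c : Bool) (i : Fin 11) : (m.Hs c i).index = 11 :=
  index_stab (m.φ c) i (m.trans c i)

lemma card_Hs (c : Bool) (i : Fin 11) : Nat.card (m.Hs c i) = 60 := by
  have h := Subgroup.index_mul_card (m.Hs c i)
  rw [m.index_Hs, m.card] at h
  omega

lemma conj_Hs (c : Bool) (i : Fin 11) (g : G) :
    MulAut.conj g • m.Hs c i = m.Hs c (m.φ c g i) := by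
  ext h
  rw [Subgroup.mem_pointwise_smul_iff_inv_smul_mem, mem_Hs, mem_Hs]
  have h0 : (MulAut.conj g)⁻¹ • h = g⁻¹ * h * g := by
    simp [MulAut.smul_def]
  rw [h0, map_mul, map_mul, map_inv, Perm.mul_apply, Perm.mul_apply]
  constructor
  · intro h1
    have h2 := congrArg (m.φ c g) h1
    rwa [app_inv] at h2
  · intro h1
    rw [h1, inv_app]

/-- generators of the stabilizers of the point 0 -/
def x3g (c : Bool) : G :=
  cond c (m.S.X true 2 * m.S.X false 5) (m.S.X true 1 * m.S.X false 10)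
def w2g (c : Bool) : G :=
  cond c (m.S.X true 1 * m.S.X false (-1) * m.S.X true 1)
    (m.S.X true 6 * m.S.X false (-2) * m.S.X true 6)
def y5g (c : Bool) : G :=
  cond c (m.S.X false (-5) * m.S.X true (-2) * m.w2g true)
    (m.S.X false (-10) * m.S.X true (-1) * m.w2g false)

lemma ρ_x3g (c : Bool) : m.ρ (m.x3g c) = x3c c := by
  cases c <;> simp only [x3g, cond_true, cond_false, map_mul, m.hρ] <;> rfl

lemma ρ_w2g_true : m.ρ (m.w2g true) = w2a := by
  simp only [w2g, cond_true, map_mul, m.hρ]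
  rfl

lemma ρ_w2g_false : m.ρ (m.w2g false) = w2b := by
  simp only [w2g, cond_false, map_mul, m.hρ]
  rfl

lemma ρ_y5g (c : Bool) : m.ρ (m.y5g c) = y5c c := by
  cases c
  · simp only [y5g, cond_false, map_mul, m.hρ, ρ_w2g_false]
    rfl
  · simp only [y5g, cond_true, map_mul, m.hρ, ρ_w2g_true]
    rfl

lemma card_A5 : Nat.card (alternatingGroup (Fin 5)) = 60 := Cfsg.Agent.S3377.card_alt

theorem iso_Hs0 (c : Bool) : Nonempty (m.Hs c 0 ≃* alternatingGroup (Fin 5)) := by
  have r1 : m.x3g c ^ 3 = 1 := by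
    apply m.inj
    rw [map_pow, map_one, ρ_x3g]
    exact x3c_pow c
  have r2 : m.y5g c ^ 5 = 1 := by
    apply m.inj
    rw [map_pow, map_one, ρ_y5g]
    exact y5c_pow c
  have r3 : (m.x3g c * m.y5g c) ^ 2 = 1 := by
    apply m.inj
    rw [map_pow, map_mul, map_one, ρ_x3g, ρ_y5g]
    exact xyc_pow c
  have r4 : m.x3g c ≠ 1 := by
    intro h
    have h2 := congrArg m.ρ h
    rw [ρ_x3g, map_one] at h2
    exact x3c_ne c h2
  obtain ⟨τ, hτinj, hτr⟩ := A5Pairs.exists_hom_of_pair _ _ r1 r2 r3 r4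
  have hle : τ.range ≤ m.Hs c 0 := by
    rw [hτr, Subgroup.closure_le]
    rintro z (rfl | rfl)
    · show m.φ c (m.x3g c) 0 = 0
      rw [φ_apply, ρ_x3g]
      exact x3c_zero c
    · show m.φ c (m.y5g c) 0 = 0
      rw [φ_apply, ρ_y5g]
      exact y5c_zero c
  have hcr : Nat.card τ.range = 60 := by
    rw [← Nat.card_congr (MonoidHom.ofInjective hτinj).toEquiv, card_A5]
  have : Finite G := Nat.finite_of_card_ne_zero (by rw [m.card]; norm_num)
  have heq : τ.range = m.Hs c 0 :=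
    Subgroup.eq_of_le_of_card_ge hle (by rw [hcr, m.card_Hs])
  exact ⟨(MulEquiv.subgroupCongr heq).symm.trans (MonoidHom.ofInjective hτinj).symm⟩

theorem iso_Hs (c : Bool) (i : Fin 11) : Nonempty (m.Hs c i ≃* alternatingGroup (Fin 5)) := by
  obtain ⟨g, hg⟩ := m.trans0 c i
  obtain ⟨e⟩ := m.iso_Hs0 c
  have h := m.conj_Hs c 0 g
  rw [hg] at h
  exact ⟨((Subgroup.equivSMul (MulAut.conj g) (m.Hs c 0)).trans (MulEquiv.subgroupCongr h)).symm.trans e⟩

theorem two_trans (i j : Fin 11) (hij : i ≠ j) : ∃ g, m.φ true g 0 = i ∧ m.φ true g 1 = j := by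
  have hφ : ∀ g, m.φ true g = (m.ρ g).1 := fun g => rfl
  have h1 : m.φ true (m.S.X true 1 ^ i.val) 0 = i := by
    rw [hφ, map_pow, m.hρ, A_pow]
  have hj' : (m.φ true (m.S.X true 1 ^ i.val))⁻¹ j ≠ 0 := by
    intro h
    apply hij
    rw [Perm.inv_eq_iff_eq] at h
    rw [h, h1]
  obtain ⟨k, l, ee, h0, h2⟩ := trans2 _ hj'
  have h3 : m.φ true (m.y5g true ^ k.val * m.w2g true ^ ee.val * m.y5g true ^ l.val) =
      (y5a ^ k.val * w2a ^ ee.val * y5a ^ l.val).1 := by
    rw [hφ]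
    simp only [map_mul, map_pow, ρ_y5g, ρ_w2g_true]
    rfl
  refine ⟨m.S.X true 1 ^ i.val * (m.y5g true ^ k.val * m.w2g true ^ ee.val * m.y5g true ^ l.val),
    ?_, ?_⟩
  · rw [map_mul, Perm.mul_apply, h3, h0, h1]
  · rw [map_mul, Perm.mul_apply, h3, h2, app_inv]

theorem Hs_inj {c c' : Bool} {i i' : Fin 11} (h : m.Hs c i = m.Hs c' i') : (c, i) = (c', i') := by
  by_contra hne
  obtain ⟨p, hp1, hp2⟩ := distinct c i c' i' hne
  obtain ⟨g, hg⟩ := m.evp_range p
  have h1 : g ∈ m.Hs c i := by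
    rw [mem_Hs, φ_apply, hg]
    exact hp1
  rw [h, mem_Hs, φ_apply, hg] at h1
  exact hp2 h1

theorem eq_Hs_of_iso (L : Subgroup G) (e : L ≃* alternatingGroup (Fin 5)) :
    ∃ c i, L = m.Hs c i := by
  have : Finite G := Nat.finite_of_card_ne_zero (by rw [m.card]; norm_num)
  obtain ⟨x, y, hx, hy, hxy, hx1, hL⟩ := A5Pairs.exists_pair_of_iso L e
  obtain ⟨i, j, hij, hi, hj⟩ := two_fixed (m.φ true x) (by rw [← map_pow, hx, map_one])
  obtain ⟨g, hg0, hg1⟩ := m.two_trans i j hij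
  -- conjugate
  have hx' : (g⁻¹ * x * g) ^ 3 = 1 := by
    have := conj_pow (a := g⁻¹) (b := x) (i := 3)
    rw [inv_inv] at this
    rw [this, hx, mul_one, inv_mul_cancel]
  have hy' : (g⁻¹ * y * g) ^ 5 = 1 := by
    have := conj_pow (a := g⁻¹) (b := y) (i := 5)
    rw [inv_inv] at this
    rw [this, hy, mul_one, inv_mul_cancel]
  have hxy' : ((g⁻¹ * x * g) * (g⁻¹ * y * g)) ^ 2 = 1 := by
    have h1 : (g⁻¹ * x * g) * (g⁻¹ * y * g) = g⁻¹ * (x * y) * g := by group
    have := conj_pow (a := g⁻¹) (b := x * y) (i := 2)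
    rw [inv_inv] at this
    rw [h1, this, hxy, mul_one, inv_mul_cancel]
  have hx1' : g⁻¹ * x * g ≠ 1 := by
    intro h
    apply hx1
    have : x = g * (g⁻¹ * x * g) * g⁻¹ := by group
    rw [this, h, mul_one, mul_inv_cancel]
  have hφ : ∀ z, m.φ true z = (m.ρ z).1 := fun z => rfl
  have h0 : (m.ρ (g⁻¹ * x * g)).1 0 = 0 := by
    rw [← hφ, map_mul, map_mul, map_inv, Perm.mul_apply, Perm.mul_apply, hg0, hi, ← hg0, inv_app]
  have h1 : (m.ρ (g⁻¹ * x * g)).1 1 = 1 := by
    rw [← hφ, map_mul, map_mul, map_inv, Perm.mul_apply, Perm.mul_apply, hg1, hj, ← hg1, inv_app]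
  obtain ⟨p, hp⟩ := m.range_evp (g⁻¹ * x * g)
  obtain ⟨q, hq⟩ := m.range_evp (g⁻¹ * y * g)
  have key : ∃ c : Bool, ∃ i' : Fin 11, sel c (m.ρ (g⁻¹ * x * g)) i' = i' ∧
      sel c (m.ρ (g⁻¹ * y * g)) i' = i' := by
    have hA : (evp q) ^ 5 = 1 := by rw [← hq, ← map_pow, hy', map_one]
    rcases ord3_chk p (by rw [← hp]; exact h0) (by rw [← hp]; exact h1)
      (by rw [← hp, ← map_pow, hx', map_one]) with h | h | h
    · exfalso
      apply hx1'
      apply m.inj
      rw [hp, h, map_one]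
    · have hB : (X1 * evp q) ^ 2 = 1 := by
        rw [← h, ← hp, ← hq, ← map_mul, ← map_pow, hxy', map_one]
      rcases main_chk1 q with h3 | h3 | h3
      · rw [hp, hq, h]
        exact h3
      · exact absurd hB h3
      · exact absurd hA h3
    · have hB : (X2 * evp q) ^ 2 = 1 := by
        rw [← h, ← hp, ← hq, ← map_mul, ← map_pow, hxy', map_one]
      rcases main_chk2 q with h3 | h3 | h3
      · rw [hp, hq, h]
        exact h3
      · exact absurd hB h3
      · exact absurd hA h3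
  obtain ⟨c, i', hc1, hc2⟩ := key
  refine ⟨c, m.φ c g i', ?_⟩
  have hxm : x ∈ m.Hs c (m.φ c g i') := by
    rw [← conj_Hs, Subgroup.mem_pointwise_smul_iff_inv_smul_mem]
    have h0 : (MulAut.conj g)⁻¹ • x = g⁻¹ * x * g := by
      simp [MulAut.smul_def]
    rw [h0, mem_Hs, φ_apply]
    exact hc1
  have hym : y ∈ m.Hs c (m.φ c g i') := by
    rw [← conj_Hs, Subgroup.mem_pointwise_smul_iff_inv_smul_mem]
    have h0 : (MulAut.conj g)⁻¹ • y = g⁻¹ * y * g := by
      simp [MulAut.smul_def]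
    rw [h0, mem_Hs, φ_apply]
    exact hc2
  have hle : L ≤ m.Hs c (m.φ c g i') := by
    rw [hL, Subgroup.closure_le]
    rintro z (rfl | rfl)
    · exact hxm
    · exact hym
  have hcL : Nat.card L = 60 := by
    rw [Nat.card_congr e.toEquiv, card_A5]
  exact Subgroup.eq_of_le_of_card_ge hle (by rw [hcL, m.card_Hs])

end Model

/-- the model exists for `PSL₂(F)`, `|F| = 11` -/
theorem exists_model {F : Type*} [Field F] [Fintype F] (hF : Fintype.card F = 11) :
    Nonempty (Model (Matrix.ProjectiveSpecialLinearGroup (Fin 2) F)) := by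
  have p11 : Nat.Prime 11 := by norm_num
  let e11 : ZMod 11 ≃+* F := ZMod.ringEquivOfPrime F p11 hF
  let SG : St (ZMod 11) (Matrix.ProjectiveSpecialLinearGroup (Fin 2) F) :=
    Cfsg.Agent.S0255.comapRing (Cfsg.Agent.S0255.mapHom stSL (QuotientGroup.mk' _)) e11
  have hSG : ∀ b t, SG.X b t = QuotientGroup.mk (cond b (xm (e11 t)) (ym (e11 t))) :=
    fun b t => rfl
  let S' : St F PP := Cfsg.Agent.S0255.comapRing D2 e11.symm
  obtain ⟨ψ, hψx, hψy⟩ := Cfsg.Agent.S0255.exists_lift S'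
  have hX : ∀ b t, S'.X b t = M2 b (e11.symm t) := fun b t => rfl
  have hneg : ψ (-1) = 1 := by
    rw [Cfsg.Agent.S0255.neg_one_eq, map_mul, map_mul, map_mul, hψx, hψy, hX, hX, map_neg, map_one]
    exact M2_w
  have hcen : ∀ z ∈ Subgroup.center (Matrix.SpecialLinearGroup (Fin 2) F), ψ z = 1 := by
    intro z hz
    rcases Cfsg.Agent.S0255.center_sl2 z hz with rfl | rfl
    · exact map_one ψ
    · exact hneg
  let ρ : Matrix.ProjectiveSpecialLinearGroup (Fin 2) F →* PP :=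
    QuotientGroup.lift _ ψ hcen
  have hsimple : IsSimpleGroup (Matrix.ProjectiveSpecialLinearGroup (Fin 2) F) :=
    Matrix.ProjectiveSpecialLinearGroup.rank_two_simple
      (by rw [Nat.card_eq_fintype_card, hF]; norm_num)
  have hne : ρ (QuotientGroup.mk (xm 1)) ≠ 1 := by
    intro h
    have h0 : ρ (QuotientGroup.mk (xm 1)) = ψ (xm 1) := rfl
    rw [h0, hψx, hX, map_one] at h
    exact M2_ne h
  have hinj : Function.Injective ρ := by
    rw [← MonoidHom.ker_eq_bot_iff]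
    rcases (Subgroup.Normal.eq_bot_or_eq_top (H := ρ.ker) inferInstance) with h | h
    · exact h
    · exfalso
      apply hne
      have : (QuotientGroup.mk (xm 1) : Matrix.ProjectiveSpecialLinearGroup (Fin 2) F) ∈ ρ.ker := by
        rw [h]
        trivial
      exact this
  have hρ : ∀ b t, ρ (SG.X b t) = M2 b t := by
    intro b t
    rw [hSG]
    cases b
    · show ψ (ym (e11 t)) = _
      rw [hψy, hX, e11.symm_apply_apply]
    · show ψ (xm (e11 t)) = _
      rw [hψx, hX, e11.symm_apply_apply]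
  have hgen : Subgroup.closure (Set.range fun p : Bool × ZMod 11 => SG.X p.1 p.2) = ⊤ := by
    set C := Subgroup.closure (Set.range fun p : Bool × ZMod 11 => SG.X p.1 p.2) with hC
    have hx : ∀ t : F, (QuotientGroup.mk (xm t) :
        Matrix.ProjectiveSpecialLinearGroup (Fin 2) F) ∈ C := by
      intro t
      apply Subgroup.subset_closure
      refine ⟨(true, e11.symm t), ?_⟩
      show SG.X true (e11.symm t) = _
      rw [hSG, e11.apply_symm_apply]
      rfl
    have hy : ∀ t : F, (QuotientGroup.mk (ym t) :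
        Matrix.ProjectiveSpecialLinearGroup (Fin 2) F) ∈ C := by
      intro t
      apply Subgroup.subset_closure
      refine ⟨(false, e11.symm t), ?_⟩
      show SG.X false (e11.symm t) = _
      rw [hSG, e11.apply_symm_apply]
      rfl
    have hsurj := surjective_of ((C.comap (QuotientGroup.mk' _)).subtype)
      (fun t => ⟨⟨xm t, hx t⟩, rfl⟩) (fun t => ⟨⟨ym t, hy t⟩, rfl⟩)
    rw [eq_top_iff]
    intro g _
    induction g using QuotientGroup.induction_on with
    | H A =>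
      obtain ⟨⟨A', hA'⟩, rfl⟩ := hsurj A
      exact hA'
  have hG : Nat.card (Matrix.ProjectiveSpecialLinearGroup (Fin 2) F) = 660 := by
    have h := Cfsg.Agent.S0254.card_psl2 (F := F) (by rw [hF])
    rw [hF] at h
    omega
  exact ⟨⟨SG, hgen, ρ, hinj, hρ, hG⟩⟩

end Cfsg.Agent.Lib.Helper19.PSL211
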