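import Mathlib

set_option autoImplicit false

namespace Cfsg.Agent.Lib.Helper19.Q8Norm

open Matrix

variable {F : Type*} [Field F]

/-- Cayley–Hamilton for 2×2 matrices. -/
theorem ch2 (M : Matrix (Fin 2) (Fin 2) F) : M * M = M.trace • M - M.det • (1 : Matrix (Fin 2) (Fin 2) F) := by
  ext i j
  fin_cases i <;> fin_cases j <;>
    simp [Matrix.mul_apply, Fin.sum_univ_two, Matrix.det_fin_two, Matrix.trace_fin_two] <;> ring

theorem det_one_add (M : Matrix (Fin 2) (Fin 2) F) : (1 + M).det = 1 + M.trace + M.det := by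
  simp [Matrix.det_fin_two, Matrix.trace_fin_two]
  ring

theorem det_smul2 (c : F) (M : Matrix (Fin 2) (Fin 2) F) : (c • M).det = c * c * M.det := by
  rw [Matrix.det_fin_two, Matrix.det_fin_two]
  simp only [Matrix.smul_apply, smul_eq_mul]
  ring

theorem trace_one2 : (1 : Matrix (Fin 2) (Fin 2) F).trace = 2 := by
  simp [Matrix.trace_fin_two]

/-- a 2×2 matrix with all "scalar tests" passing is scalar -/
theorem scalar_of_entries (M : Matrix (Fin 2) (Fin 2) F) (h01 : M 0 1 = 0) (h10 : M 1 0 = 0) (hd : M 0 0 = M 1 1) :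
    M = M 0 0 • (1 : Matrix (Fin 2) (Fin 2) F) := by
  ext i j
  fin_cases i <;> fin_cases j <;> simp [h01, h10, hd]

/-- nonscalar matrix squaring to `-1` has trace 0 and det 1. -/
theorem trace_det_of_sq_neg_one (M : Matrix (Fin 2) (Fin 2) F) (h : M * M = -1) (hns : ∀ z : F, M ≠ z • 1) :
    M.trace = 0 ∧ M.det = 1 := by
  have hch := ch2 M
  rw [h] at hch
  have ht : M.trace = 0 := by
    by_contra ht
    apply hns ((M.det - 1) / M.trace)
    have : M.trace • M = (M.det - 1) • (1 : Matrix (Fin 2) (Fin 2) F) := by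
      rw [sub_smul, one_smul]
      have : M.trace • M = -1 + M.det • (1 : Matrix (Fin 2) (Fin 2) F) := by rw [hch]; abel
      rw [this]; abel
    calc M = (M.trace)⁻¹ • (M.trace • M) := by rw [smul_smul, inv_mul_cancel₀ ht, one_smul]
      _ = ((M.det - 1) / M.trace) • 1 := by rw [this, smul_smul]; congr 1; field_simp
  refine ⟨ht, ?_⟩
  rw [ht, zero_smul, zero_sub] at hch
  have h00 := congrFun (congrFun hch 0) 0
  simp at h00
  exact h00.symm


open Matrix

variable {F : Type*} [Field F]

/-- the "cyclic vector" matrix `[v | x v]` -/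
def cyc (x : Matrix (Fin 2) (Fin 2) F) (v : Fin 2 → F) : Matrix (Fin 2) (Fin 2) F :=
  Matrix.of ![![v 0, (x.mulVec v) 0], ![v 1, (x.mulVec v) 1]]

/-- companion matrix of `X^2 - t X + 1` -/
def comp (t : F) : Matrix (Fin 2) (Fin 2) F := Matrix.of ![![0, -1], ![1, t]]

theorem mul_cyc (x : Matrix (Fin 2) (Fin 2) F) (hx : x.det = 1) (v : Fin 2 → F) :
    x * cyc x v = cyc x v * comp x.trace := by
  have hch := ch2 x
  rw [hx, one_smul] at hch
  have h2 : x.mulVec (x.mulVec v) = x.trace • x.mulVec v - v := by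
    rw [Matrix.mulVec_mulVec, hch, Matrix.sub_mulVec, Matrix.smul_mulVec, Matrix.one_mulVec]
  have h20 := congrFun h2 0
  have h21 := congrFun h2 1
  simp only [Matrix.mulVec, dotProduct, Fin.sum_univ_two, Pi.sub_apply, Pi.smul_apply, smul_eq_mul] at h20 h21
  ext i j
  fin_cases i <;> fin_cases j <;>
    simp [cyc, comp, Matrix.mul_apply, Fin.sum_univ_two, Matrix.mulVec, dotProduct]
  · linear_combination h20
  · linear_combination h21

theorem exists_cyc (x : Matrix (Fin 2) (Fin 2) F) (hns : ∀ z : F, x ≠ z • 1) :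
    ∃ v : Fin 2 → F, (cyc x v).det ≠ 0 := by
  by_cases h10 : x 1 0 = 0
  · by_cases h01 : x 0 1 = 0
    · have hd : x 0 0 ≠ x 1 1 := by
        intro hd
        apply hns (x 0 0)
        ext i j
        fin_cases i <;> fin_cases j <;> simp [h01, h10, hd]
      refine ⟨![1, 1], ?_⟩
      simp [cyc, Matrix.det_fin_two, Matrix.mulVec, dotProduct, Fin.sum_univ_two, h01, h10]
      intro h
      apply hd
      linear_combination -h
    · refine ⟨![0, 1], ?_⟩
      simp [cyc, Matrix.det_fin_two, Matrix.mulVec, dotProduct, Fin.sum_univ_two]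
      exact h01
  · refine ⟨![1, 0], ?_⟩
    simp [cyc, Matrix.det_fin_two, Matrix.mulVec, dotProduct, Fin.sum_univ_two]
    exact h10

theorem det_add_smul (w : Matrix (Fin 2) (Fin 2) F) (a b : F) :
    (a • (1 : Matrix (Fin 2) (Fin 2) F) + b • w).det = a ^ 2 + w.trace * a * b + w.det * b ^ 2 := by
  simp [Matrix.det_fin_two, Matrix.trace_fin_two]
  ring

/-- conjugacy in `SL₂` of nonscalar matrices with equal trace, when the norm form is universal. -/
theorem exists_conj (x w : Matrix (Fin 2) (Fin 2) F) (hx : x.det = 1) (hw : w.det = 1)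
    (ht : x.trace = w.trace) (hxs : ∀ z : F, x ≠ z • 1) (hws : ∀ z : F, w ≠ z • 1)
    (hform : ∀ d : F, d ≠ 0 → ∃ a b : F, a ^ 2 + w.trace * a * b + b ^ 2 = d) :
    ∃ G : Matrix (Fin 2) (Fin 2) F, G.det = 1 ∧ x * G = G * w := by
  obtain ⟨v, hv⟩ := exists_cyc x hxs
  obtain ⟨u, hu⟩ := exists_cyc w hws
  set P := cyc x v with hP
  set Q := cyc w u with hQ
  have hxP : x * P = P * comp w.trace := by rw [← ht]; exact mul_cyc x hx v
  have hwQ : w * Q = Q * comp w.trace := mul_cyc w hw u
  -- G₀ = P * adj Q intertwines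
  have hQa : Q * Q.adjugate = Q.det • (1 : Matrix (Fin 2) (Fin 2) F) := Matrix.mul_adjugate Q
  have hQa' : Q.adjugate * Q = Q.det • (1 : Matrix (Fin 2) (Fin 2) F) := Matrix.adjugate_mul Q
  have hcomm : comp w.trace * Q.adjugate = Q.adjugate * w := by
    have h1 : Q.adjugate * (w * Q) * Q.adjugate = Q.adjugate * (Q * comp w.trace) * Q.adjugate := by rw [hwQ]
    have h2 : Q.adjugate * (w * Q) * Q.adjugate = Q.det • (Q.adjugate * w) := by
      rw [Matrix.mul_assoc, Matrix.mul_assoc, hQa, Matrix.mul_smul, Matrix.mul_one, Matrix.mul_smul]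
    have h3 : Q.adjugate * (Q * comp w.trace) * Q.adjugate = Q.det • (comp w.trace * Q.adjugate) := by
      rw [← Matrix.mul_assoc, hQa', Matrix.smul_mul, Matrix.one_mul, Matrix.smul_mul]
    rw [h2, h3] at h1
    have := congrArg (fun M => (Q.det)⁻¹ • M) h1
    simp only [smul_smul, inv_mul_cancel₀ hu, one_smul] at this
    exact this.symm
  set G₀ := P * Q.adjugate with hG₀
  have hG₀i : x * G₀ = G₀ * w := by
    rw [hG₀, ← Matrix.mul_assoc, hxP, Matrix.mul_assoc, hcomm, Matrix.mul_assoc]
  have hdetG₀ : G₀.det ≠ 0 := by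
    rw [hG₀, Matrix.det_mul, Matrix.det_adjugate]
    simp only [Fintype.card_fin]
    exact mul_ne_zero hv (by simpa using hu)
  obtain ⟨a, b, hab⟩ := hform (G₀.det)⁻¹ (inv_ne_zero hdetG₀)
  refine ⟨G₀ * (a • (1 : Matrix (Fin 2) (Fin 2) F) + b • w), ?_, ?_⟩
  · rw [Matrix.det_mul, det_add_smul, hw, one_mul, hab, mul_inv_cancel₀ hdetG₀]
  · have hZ : w * (a • (1 : Matrix (Fin 2) (Fin 2) F) + b • w) = (a • (1 : Matrix (Fin 2) (Fin 2) F) + b • w) * w := by
      rw [Matrix.mul_add, Matrix.add_mul, Matrix.mul_smul, Matrix.smul_mul, Matrix.mul_smul, Matrix.smul_mul,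
        Matrix.mul_one, Matrix.one_mul]
    calc x * (G₀ * (a • (1 : Matrix (Fin 2) (Fin 2) F) + b • w))
        = (x * G₀) * (a • (1 : Matrix (Fin 2) (Fin 2) F) + b • w) := (Matrix.mul_assoc _ _ _).symm
      _ = G₀ * w * (a • (1 : Matrix (Fin 2) (Fin 2) F) + b • w) := by rw [hG₀i]
      _ = G₀ * (w * (a • (1 : Matrix (Fin 2) (Fin 2) F) + b • w)) := Matrix.mul_assoc _ _ _
      _ = G₀ * ((a • (1 : Matrix (Fin 2) (Fin 2) F) + b • w) * w) := by rw [hZ]
      _ = G₀ * (a • (1 : Matrix (Fin 2) (Fin 2) F) + b • w) * w := (Matrix.mul_assoc _ _ _).symm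


open Matrix Polynomial

variable {F : Type*} [Field F]

theorem form_universal [Fintype F] (hodd : Fintype.card F % 2 = 1) (h2 : (2 : F) ≠ 0) (t : F) (ht : t ^ 2 ≠ 4) (d : F) :
    ∃ a b : F, a ^ 2 + t * a * b + b ^ 2 = d := by
  have h4 : (4 : F) ≠ 0 := by
    have : (4 : F) = 2 * 2 := by norm_num
    rw [this]; exact mul_ne_zero h2 h2
  set c : F := 1 - t ^ 2 / 4 with hc
  have hc0 : c ≠ 0 := by
    intro h
    apply ht
    have : t ^ 2 / 4 = 1 := by rw [hc] at h; linear_combination -h
    field_simp at this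
    linear_combination this
  let f : F[X] := X ^ 2
  let g : F[X] := C c * X ^ 2 + C 0 * X + C (-d)
  have hf : degree f = 2 := degree_X_pow 2
  have hg : degree g = 2 := degree_quadratic hc0
  obtain ⟨a', b, hab⟩ := FiniteField.exists_root_sum_quadratic hf hg hodd
  simp only [f, g, eval_add, eval_mul, eval_C, eval_pow, eval_X, zero_mul, add_zero] at hab
  refine ⟨a' - t * b / 2, b, ?_⟩
  rw [hc] at hab
  field_simp
  field_simp at hab
  linear_combination hab

theorem matrix_neg_one_ne_zero : (-1 : Matrix (Fin 2) (Fin 2) F) ≠ 0 := by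
  intro h
  have := congrFun (congrFun h 0) 0
  simp at this

/-- the commutant of a quaternion pair consists of scalars -/
theorem commutant_scalar (h2 : (2 : F) ≠ 0) (I J y : Matrix (Fin 2) (Fin 2) F) (hI : I * I = -1) (hJ : J * J = -1)
    (hJI : J * I = -(I * J)) (hyI : y * I = I * y) (hyJ : y * J = J * y) : ∃ s : F, y = s • 1 := by
  -- I is not zero
  have hI0 : I ≠ 0 := by
    intro h; rw [h, Matrix.mul_zero] at hI; exact matrix_neg_one_ne_zero hI.symm
  have hIJ0 : I * J ≠ 0 := by
    intro h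
    have : I * J * J = 0 := by rw [h, Matrix.zero_mul]
    rw [Matrix.mul_assoc, hJ, Matrix.mul_neg, Matrix.mul_one, neg_eq_zero] at this
    exact hI0 this
  -- I is not scalar
  have hIns : ∀ z : F, I ≠ z • 1 := by
    intro z hz
    have h1 : J * I = I * J := by rw [hz, Matrix.mul_smul, Matrix.smul_mul, Matrix.mul_one, Matrix.one_mul]
    rw [hJI] at h1
    have h3 : (2 : F) • (I * J) = 0 := by
      rw [two_smul]
      nth_rewrite 1 [← h1]
      exact neg_add_cancel _
    rcases smul_eq_zero.1 h3 with h | h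
    · exact h2 h
    · exact hIJ0 h
  -- trace I = 0
  have htI : I.trace = 0 := by
    have hch := ch2 I
    rw [hI] at hch
    by_contra ht
    apply hIns ((I.det - 1) / I.trace)
    have h1 : I.trace • I = (I.det - 1) • (1 : Matrix (Fin 2) (Fin 2) F) := by
      rw [sub_smul, one_smul]
      have : I.trace • I = -1 + I.det • (1 : Matrix (Fin 2) (Fin 2) F) := by rw [hch]; abel
      rw [this]; abel
    calc I = (I.trace)⁻¹ • (I.trace • I) := by rw [smul_smul, inv_mul_cancel₀ ht, one_smul]
      _ = ((I.det - 1) / I.trace) • 1 := by rw [h1, smul_smul]; congr 1; field_simp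
  set c : F := y.trace / 2 with hc
  set y' := y - c • (1 : Matrix (Fin 2) (Fin 2) F) with hy'
  have hty' : y'.trace = 0 := by
    rw [hy', Matrix.trace_sub, Matrix.trace_smul, Matrix.trace_one, hc]
    simp only [Fintype.card_fin, smul_eq_mul]
    field_simp
    ring
  have hy'I : y' * I = I * y' := by
    rw [hy', Matrix.sub_mul, Matrix.mul_sub, hyI, Matrix.smul_mul, Matrix.mul_smul, Matrix.one_mul, Matrix.mul_one]
  have hy'J : y' * J = J * y' := by
    rw [hy', Matrix.sub_mul, Matrix.mul_sub, hyJ, Matrix.smul_mul, Matrix.mul_smul, Matrix.one_mul, Matrix.mul_one]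
  -- squares of trace zero matrices are scalar
  have hsq : ∀ M : Matrix (Fin 2) (Fin 2) F, M.trace = 0 → M * M = (-M.det) • (1 : Matrix (Fin 2) (Fin 2) F) := by
    intro M hM
    rw [ch2 M, hM, zero_smul, zero_sub, neg_smul]
  have hS : (y' + I).trace = 0 := by rw [Matrix.trace_add, hty', htI, add_zero]
  have h1 := hsq (y' + I) hS
  have h2' := hsq y' hty'
  have hexp : (y' + I) * (y' + I) = y' * y' + (2 : F) • (y' * I) + I * I := by
    rw [Matrix.add_mul, Matrix.mul_add, Matrix.mul_add, ← hy'I, two_smul]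
    abel
  rw [hexp, h2', hI] at h1
  -- 2 • (y' I) = σ • 1
  have h3 : (2 : F) • (y' * I) = (-(y' + I).det + y'.det + 1) • (1 : Matrix (Fin 2) (Fin 2) F) := by
    have : (2 : F) • (y' * I) = (-(y' + I).det) • (1 : Matrix (Fin 2) (Fin 2) F) - (-y'.det) • (1 : Matrix (Fin 2) (Fin 2) F) - (-1) := by
      rw [← h1]; abel
    rw [this, add_smul, add_smul, one_smul, neg_smul, neg_smul]
    abel
  set σ : F := -(y' + I).det + y'.det + 1 with hσ
  have h4 : y' * I = (σ / 2) • (1 : Matrix (Fin 2) (Fin 2) F) := by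
    have := congrArg (fun M => (2 : F)⁻¹ • M) h3
    simp only [smul_smul, inv_mul_cancel₀ h2, one_smul] at this
    rw [this]
    congr 1
    field_simp
  have h5 : y' = (-(σ / 2)) • I := by
    have hInv : I * (-I) = 1 := by rw [Matrix.mul_neg, hI, neg_neg]
    calc y' = y' * (I * (-I)) := by rw [hInv, Matrix.mul_one]
      _ = (y' * I) * (-I) := by rw [Matrix.mul_assoc]
      _ = (-(σ / 2)) • I := by rw [h4, Matrix.smul_mul, Matrix.one_mul, smul_neg, neg_smul]
  -- now use J
  have h6 : ((2 : F) * (-(σ / 2))) • (I * J) = 0 := by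
    have : (-(σ / 2)) • (I * J) = (-(σ / 2)) • (J * I) := by
      have := hy'J
      rw [h5, Matrix.smul_mul, Matrix.mul_smul] at this
      exact this
    rw [hJI, smul_neg] at this
    rw [mul_smul, two_smul]
    nth_rewrite 1 [this]
    exact neg_add_cancel _
  have h7 : -(σ / 2) = 0 := by
    rcases smul_eq_zero.1 h6 with h | h
    · rcases mul_eq_zero.1 h with h | h
      · exact absurd h h2
      · exact h
    · exact absurd h hIJ0
  refine ⟨c, ?_⟩
  have : y' = 0 := by rw [h5, h7, zero_smul]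
  rw [hy'] at this
  exact sub_eq_zero.1 this


open Matrix QuaternionGroup

variable {F : Type*} [Field F]

theorem q8_gen (q : QuaternionGroup 2) :
    q ∈ Subgroup.closure ({QuaternionGroup.a 1, QuaternionGroup.xa 0} : Set (QuaternionGroup 2)) := by
  have ha : (QuaternionGroup.a 1 : QuaternionGroup 2) ∈ Subgroup.closure ({QuaternionGroup.a 1, QuaternionGroup.xa 0} : Set (QuaternionGroup 2)) :=
    Subgroup.subset_closure (by simp)
  have hx : (QuaternionGroup.xa 0 : QuaternionGroup 2) ∈ Subgroup.closure ({QuaternionGroup.a 1, QuaternionGroup.xa 0} : Set (QuaternionGroup 2)) :=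
    Subgroup.subset_closure (by simp)
  have key : ∀ k : ℕ, (QuaternionGroup.a (k : ZMod 4) : QuaternionGroup 2) = (QuaternionGroup.a 1) ^ k := by
    intro k
    rw [QuaternionGroup.a_one_pow]
  cases q with
  | a i =>
    have : i = ((i.val : ℕ) : ZMod 4) := by simp
    rw [this, key]
    exact Subgroup.pow_mem _ ha _
  | xa i =>
    have h1 : (QuaternionGroup.xa i : QuaternionGroup 2) = QuaternionGroup.xa 0 * QuaternionGroup.a i := by
      rw [QuaternionGroup.xa_mul_a, zero_add]
    have : i = ((i.val : ℕ) : ZMod 4) := by simp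
    rw [h1, this, key]
    exact Subgroup.mul_mem _ hx (Subgroup.pow_mem _ ha _)

/-- A 2×2 matrix of determinant 1 squaring to 1 is `±1`. -/
theorem sq_one_cases (h2 : (2 : F) ≠ 0) (M : Matrix (Fin 2) (Fin 2) F) (hM : M * M = 1) (hd : M.det = 1) :
    M = 1 ∨ M = -1 := by
  have hch := ch2 M
  rw [hM, hd, one_smul] at hch
  have h1 : M.trace • M = (2 : F) • (1 : Matrix (Fin 2) (Fin 2) F) := by
    rw [two_smul]
    have : M.trace • M = 1 + 1 := by
      have := hch
      rw [eq_sub_iff_add_eq] at this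
      exact this.symm
    exact this
  have ht : M.trace ≠ 0 := by
    intro h
    rw [h, zero_smul] at h1
    have := congrFun (congrFun h1 0) 0
    simp at this
    exact h2 this.symm
  have hs : M = (2 / M.trace) • (1 : Matrix (Fin 2) (Fin 2) F) := by
    calc M = (M.trace)⁻¹ • (M.trace • M) := by rw [smul_smul, inv_mul_cancel₀ ht, one_smul]
      _ = (2 / M.trace) • 1 := by rw [h1, smul_smul]; congr 1; field_simp
  set s := 2 / M.trace with hsdef
  have hss : s * s = 1 := by
    have := hd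
    rw [hs, det_smul2, Matrix.det_one, mul_one] at this
    exact this
  have : (s - 1) * (s + 1) = 0 := by linear_combination hss
  rcases mul_eq_zero.1 this with h | h
  · left
    rw [hs, sub_eq_zero.1 h, one_smul]
  · right
    rw [hs, eq_neg_of_add_eq_zero_left h, neg_smul, one_smul]

structure QPair (R : Subgroup (GL (Fin 2) F)) where
  I : GL (Fin 2) F
  J : GL (Fin 2) F
  hI : I ∈ R
  hJ : J ∈ R
  sqI : (I : Matrix (Fin 2) (Fin 2) F) * (I : Matrix (Fin 2) (Fin 2) F) = -1
  sqJ : (J : Matrix (Fin 2) (Fin 2) F) * (J : Matrix (Fin 2) (Fin 2) F) = -1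
  anti : (J : Matrix (Fin 2) (Fin 2) F) * (I : Matrix (Fin 2) (Fin 2) F) =
    -((I : Matrix (Fin 2) (Fin 2) F) * (J : Matrix (Fin 2) (Fin 2) F))
  gen : ∀ S : Subgroup (GL (Fin 2) F), I ∈ S → J ∈ S → R ≤ S
  card : Nat.card R = 8

theorem exists_qpair (h2 : (2 : F) ≠ 0) (R : Subgroup (GL (Fin 2) F)) (hR : Nonempty (↥R ≃* QuaternionGroup 2)) :
    Nonempty (QPair R) := by
  obtain ⟨e⟩ := hR
  set I' : ↥R := e.symm (QuaternionGroup.a 1) with hI'
  set J' : ↥R := e.symm (QuaternionGroup.xa 0) with hJ'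
  have r1 : I' * I' = e.symm (QuaternionGroup.a 2) := by
    rw [hI', ← map_mul]; congr 1
  have r2 : J' * J' = e.symm (QuaternionGroup.a 2) := by
    rw [hJ', ← map_mul]; congr 1
  have r3 : (I' * I') * (I' * I') = 1 := by
    rw [r1, ← map_mul]
    have : (QuaternionGroup.a 2 : QuaternionGroup 2) * QuaternionGroup.a 2 = 1 := by decide
    rw [this, map_one]
  have r4 : I' * I' ≠ 1 := by
    rw [r1]
    intro h
    have : (QuaternionGroup.a 2 : QuaternionGroup 2) = 1 := by
      have := congrArg e h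
      simpa using this
    revert this
    decide
  have r5 : J' * I' * J'⁻¹ = I'⁻¹ := by
    rw [hI', hJ', ← map_inv, ← map_inv, ← map_mul, ← map_mul]
    congr 1
  -- to GL
  set I : GL (Fin 2) F := (I' : GL (Fin 2) F) with hI
  set J : GL (Fin 2) F := (J' : GL (Fin 2) F) with hJ
  have g3 : (I * I) * (I * I) = 1 := by
    have := congrArg (Subtype.val) r3
    simpa using this
  have g4 : I * I ≠ 1 := by
    intro h
    apply r4
    apply Subtype.ext
    simpa using h
  have g2 : J * J = I * I := by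
    have := congrArg (Subtype.val) (r2.trans r1.symm)
    simpa using this
  have g5 : J * I * J⁻¹ = I⁻¹ := by
    have := congrArg (Subtype.val) r5
    simpa using this
  -- determinants
  have hdet : Matrix.GeneralLinearGroup.det I * Matrix.GeneralLinearGroup.det I = 1 := by
    have := congrArg Matrix.GeneralLinearGroup.det g5
    rw [map_mul, map_mul, map_inv, map_inv, mul_comm (Matrix.GeneralLinearGroup.det J), mul_assoc,
      mul_inv_cancel, mul_one] at this
    nth_rewrite 1 [this]
    rw [inv_mul_cancel]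
  have hdetM : ((I : Matrix (Fin 2) (Fin 2) F) * (I : Matrix (Fin 2) (Fin 2) F)).det = 1 := by
    have := congrArg Units.val hdet
    rw [Units.val_mul, Matrix.GeneralLinearGroup.val_det_apply, Units.val_one] at this
    rw [Matrix.det_mul]
    exact this
  have hMM : ((I : Matrix (Fin 2) (Fin 2) F) * (I : Matrix (Fin 2) (Fin 2) F)) *
      ((I : Matrix (Fin 2) (Fin 2) F) * (I : Matrix (Fin 2) (Fin 2) F)) = 1 := by
    have := congrArg Units.val g3
    simpa using this
  have hM1 : ((I : Matrix (Fin 2) (Fin 2) F) * (I : Matrix (Fin 2) (Fin 2) F)) ≠ 1 := by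
    intro h
    apply g4
    apply Units.ext
    simpa using h
  have sqI : (I : Matrix (Fin 2) (Fin 2) F) * (I : Matrix (Fin 2) (Fin 2) F) = -1 := by
    rcases sq_one_cases h2 _ hMM hdetM with h | h
    · exact absurd h hM1
    · exact h
  have sqJ : (J : Matrix (Fin 2) (Fin 2) F) * (J : Matrix (Fin 2) (Fin 2) F) = -1 := by
    have := congrArg Units.val g2
    rw [Units.val_mul, Units.val_mul] at this
    rw [this, sqI]
  have hIJI : (I : Matrix (Fin 2) (Fin 2) F) * (J : Matrix (Fin 2) (Fin 2) F) * (I : Matrix (Fin 2) (Fin 2) F)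
      = (J : Matrix (Fin 2) (Fin 2) F) := by
    have h1 : I * J * I = J := by
      have : J * I = I⁻¹ * J := by
        rw [← g5]; group
      rw [mul_assoc, this, ← mul_assoc, mul_inv_cancel, one_mul]
    have := congrArg Units.val h1
    simpa using this
  have anti : (J : Matrix (Fin 2) (Fin 2) F) * (I : Matrix (Fin 2) (Fin 2) F) =
      -((I : Matrix (Fin 2) (Fin 2) F) * (J : Matrix (Fin 2) (Fin 2) F)) := by
    have h1 : (I : Matrix (Fin 2) (Fin 2) F) * ((I : Matrix (Fin 2) (Fin 2) F) * (J : Matrix (Fin 2) (Fin 2) F) * (I : Matrix (Fin 2) (Fin 2) F))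
        = (I : Matrix (Fin 2) (Fin 2) F) * (J : Matrix (Fin 2) (Fin 2) F) := by rw [hIJI]
    rw [← Matrix.mul_assoc, ← Matrix.mul_assoc, sqI, Matrix.mul_assoc, Matrix.neg_mul, Matrix.one_mul] at h1
    rw [← h1, neg_neg]
  refine ⟨⟨I, J, I'.2, J'.2, sqI, sqJ, anti, ?_, ?_⟩⟩
  · intro S hIS hJS g hg
    have hgen := q8_gen (e ⟨g, hg⟩)
    -- subgroup of Q8
    let S' : Subgroup (QuaternionGroup 2) := (S.subgroupOf R).map e.toMonoidHom
    have ha : QuaternionGroup.a 1 ∈ S' := by
      refine ⟨I', ?_, ?_⟩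
      · show I' ∈ S.subgroupOf R
        rw [Subgroup.mem_subgroupOf]; exact hIS
      · simp [hI']
    have hx : QuaternionGroup.xa 0 ∈ S' := by
      refine ⟨J', ?_, ?_⟩
      · show J' ∈ S.subgroupOf R
        rw [Subgroup.mem_subgroupOf]; exact hJS
      · simp [hJ']
    have hle : Subgroup.closure ({QuaternionGroup.a 1, QuaternionGroup.xa 0} : Set (QuaternionGroup 2)) ≤ S' := by
      rw [Subgroup.closure_le]
      intro q hq
      rcases hq with rfl | rfl
      · exact ha
      · exact hx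
    obtain ⟨s, hs, hse⟩ := hle hgen
    have : s = ⟨g, hg⟩ := e.injective hse
    have hs' : s ∈ S.subgroupOf R := hs
    rw [this, Subgroup.mem_subgroupOf] at hs'
    exact hs'
  · rw [Nat.card_congr e.toEquiv, Nat.card_eq_fintype_card, QuaternionGroup.card]

end Cfsg.Agent.Lib.Helper19.Q8Norm
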