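import Mathlib
import Cfsg.Agent.Lib.Helper19.Q8Norm

set_option autoImplicit false

namespace Cfsg.Agent.Lib.Helper19.Q8Norm

open Matrix

variable {F : Type*} [Field F]

/-- in an anticommuting quaternion pair, `I` is not scalar -/
theorem nonscalar_of_anti (h2 : (2 : F) ≠ 0) (I J : Matrix (Fin 2) (Fin 2) F) (hI : I * I = -1) (hJ : J * J = -1)
    (hJI : J * I = -(I * J)) : ∀ z : F, I ≠ z • 1 := by
  have hI0 : I ≠ 0 := by
    intro h; rw [h, Matrix.mul_zero] at hI; exact matrix_neg_one_ne_zero hI.symm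
  have hIJ0 : I * J ≠ 0 := by
    intro h
    have : I * J * J = 0 := by rw [h, Matrix.zero_mul]
    rw [Matrix.mul_assoc, hJ, Matrix.mul_neg, Matrix.mul_one, neg_eq_zero] at this
    exact hI0 this
  intro z hz
  have h1 : J * I = I * J := by rw [hz, Matrix.mul_smul, Matrix.smul_mul, Matrix.mul_one, Matrix.one_mul]
  rw [hJI] at h1
  have h3 : (2 : F) • (I * J) = 0 := by
    rw [two_smul]
    nth_rewrite 1 [← h1]
    exact neg_add_cancel _
  rcases smul_eq_zero.1 h3 with h | h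
  · exact h2 h
  · exact hIJ0 h

section

variable {R : Subgroup (GL (Fin 2) F)} (q : QPair R)

theorem QPair.finite (q : QPair R) : Finite ↥R := Nat.finite_of_card_ne_zero (by rw [q.card]; norm_num)

theorem QPair.anti' : (q.I : Matrix (Fin 2) (Fin 2) F) * (q.J : Matrix (Fin 2) (Fin 2) F) =
    -((q.J : Matrix (Fin 2) (Fin 2) F) * (q.I : Matrix (Fin 2) (Fin 2) F)) := by
  rw [q.anti, neg_neg]

theorem QPair.IJI : (q.I : Matrix (Fin 2) (Fin 2) F) * (q.J : Matrix (Fin 2) (Fin 2) F) * (q.I : Matrix (Fin 2) (Fin 2) F)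
    = (q.J : Matrix (Fin 2) (Fin 2) F) := by
  rw [Matrix.mul_assoc, q.anti, Matrix.mul_neg, ← Matrix.mul_assoc, q.sqI, Matrix.neg_mul, Matrix.one_mul, neg_neg]

theorem QPair.JIJ : (q.J : Matrix (Fin 2) (Fin 2) F) * (q.I : Matrix (Fin 2) (Fin 2) F) * (q.J : Matrix (Fin 2) (Fin 2) F)
    = (q.I : Matrix (Fin 2) (Fin 2) F) := by
  rw [Matrix.mul_assoc, q.anti', Matrix.mul_neg, ← Matrix.mul_assoc, q.sqJ, Matrix.neg_mul, Matrix.one_mul, neg_neg]

theorem QPair.nsI (h2 : (2 : F) ≠ 0) : ∀ z : F, (q.I : Matrix (Fin 2) (Fin 2) F) ≠ z • 1 :=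
  nonscalar_of_anti h2 _ _ q.sqI q.sqJ q.anti

theorem QPair.nsJ (h2 : (2 : F) ≠ 0) : ∀ z : F, (q.J : Matrix (Fin 2) (Fin 2) F) ≠ z • 1 :=
  nonscalar_of_anti h2 _ _ q.sqJ q.sqI q.anti'

theorem QPair.trI (h2 : (2 : F) ≠ 0) : (q.I : Matrix (Fin 2) (Fin 2) F).trace = 0 :=
  (trace_det_of_sq_neg_one _ q.sqI (q.nsI h2)).1

theorem QPair.detI (h2 : (2 : F) ≠ 0) : (q.I : Matrix (Fin 2) (Fin 2) F).det = 1 :=
  (trace_det_of_sq_neg_one _ q.sqI (q.nsI h2)).2

theorem QPair.trJ (h2 : (2 : F) ≠ 0) : (q.J : Matrix (Fin 2) (Fin 2) F).trace = 0 :=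
  (trace_det_of_sq_neg_one _ q.sqJ (q.nsJ h2)).1

theorem QPair.detJ (h2 : (2 : F) ≠ 0) : (q.J : Matrix (Fin 2) (Fin 2) F).det = 1 :=
  (trace_det_of_sq_neg_one _ q.sqJ (q.nsJ h2)).2

theorem QPair.trIJ (h2 : (2 : F) ≠ 0) :
    ((q.I : Matrix (Fin 2) (Fin 2) F) * (q.J : Matrix (Fin 2) (Fin 2) F)).trace = 0 := by
  have h1 : ((q.I : Matrix (Fin 2) (Fin 2) F) * (q.J : Matrix (Fin 2) (Fin 2) F)).trace =
      ((q.J : Matrix (Fin 2) (Fin 2) F) * (q.I : Matrix (Fin 2) (Fin 2) F)).trace := Matrix.trace_mul_comm _ _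
  rw [q.anti, Matrix.trace_neg] at h1
  have : (2 : F) * ((q.I : Matrix (Fin 2) (Fin 2) F) * (q.J : Matrix (Fin 2) (Fin 2) F)).trace = 0 := by
    linear_combination h1
  rcases mul_eq_zero.1 this with h | h
  · exact absurd h h2
  · exact h

/-- normalizer criterion via generators -/
theorem QPair.mem_normalizer (h : GL (Fin 2) F) (hI : h * q.I * h⁻¹ ∈ R) (hJ : h * q.J * h⁻¹ ∈ R) :
    h ∈ Subgroup.normalizer (R : Set (GL (Fin 2) F)) := by
  have := q.finite
  have hle : R ≤ R.comap (MulAut.conj h).toMonoidHom := by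
    apply q.gen
    · rw [Subgroup.mem_comap]; simpa [MulAut.conj_apply] using hI
    · rw [Subgroup.mem_comap]; simpa [MulAut.conj_apply] using hJ
  have hmap : R.map (MulAut.conj h).toMonoidHom ≤ R := Subgroup.map_le_iff_le_comap.2 hle
  have hinj : Function.Injective (MulAut.conj h).toMonoidHom := (MulAut.conj h).injective
  have heq : R.map (MulAut.conj h).toMonoidHom = R :=
    Subgroup.eq_of_le_of_card_ge hmap (by rw [Subgroup.card_map_of_injective hinj])
  rw [Subgroup.mem_normalizer_iff]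
  intro n
  constructor
  · intro hn
    have := hle hn
    rw [Subgroup.mem_comap] at this
    simpa [MulAut.conj_apply] using this
  · intro hn
    rw [← heq] at hn
    obtain ⟨m, hm, hmn⟩ := hn
    have : m = n := by
      apply hinj
      simpa [MulAut.conj_apply] using hmn
    rw [← this]; exact hm

/-- scalar matrices normalize everything -/
theorem scalar_mem_normalizer (R : Subgroup (GL (Fin 2) F)) (c : GL (Fin 2) F) (z : F)
    (hc : (c : Matrix (Fin 2) (Fin 2) F) = z • 1) : c ∈ Subgroup.normalizer (R : Set (GL (Fin 2) F)) := by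
  rw [Subgroup.mem_normalizer_iff]
  intro n
  have hcomm : c * n = n * c := by
    apply Units.ext
    rw [Units.val_mul, Units.val_mul, hc, Matrix.smul_mul, Matrix.mul_smul, Matrix.one_mul, Matrix.mul_one]
  have : c * n * c⁻¹ = n := by rw [hcomm, mul_assoc, mul_inv_cancel, mul_one]
  rw [this]

end

end Cfsg.Agent.Lib.Helper19.Q8Norm
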