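import Mathlib
import Cfsg.Agent.Lib.Helper19.Q8Norm2

set_option autoImplicit false

namespace Cfsg.Agent.Lib.Helper19.Q8Norm

open Matrix

variable {F : Type*} [Field F]

/-- a matrix with trace `±1` and determinant `1` is not scalar when `3 ≠ 0` -/
theorem nonscalar_of_trace_sq_one (h3 : (3 : F) ≠ 0) (M : Matrix (Fin 2) (Fin 2) F)
    (ht : M.trace ^ 2 = 1) (hd : M.det = 1) : ∀ z : F, M ≠ z • 1 := by
  intro z hz
  have h1 : M.trace = z * 2 := by
    rw [hz, Matrix.trace_smul, trace_one2, smul_eq_mul]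
  have h2 : M.det = z * z := by
    rw [hz, det_smul2, Matrix.det_one, mul_one]
  rw [h1] at ht
  rw [h2] at hd
  apply h3
  linear_combination ht - 4 * hd

section

variable {R : Subgroup (GL (Fin 2) F)}

/-- `1 + I` as an invertible matrix -/
noncomputable def QPair.U1 (q : QPair R) (h2 : (2 : F) ≠ 0) : GL (Fin 2) F :=
  Matrix.GeneralLinearGroup.mkOfDetNeZero (1 + (q.I : Matrix (Fin 2) (Fin 2) F))
    (by rw [det_one_add, q.trI h2, q.detI h2]; norm_num; exact h2)

noncomputable def QPair.U2 (q : QPair R) (h2 : (2 : F) ≠ 0) : GL (Fin 2) F :=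
  Matrix.GeneralLinearGroup.mkOfDetNeZero (1 + (q.J : Matrix (Fin 2) (Fin 2) F))
    (by rw [det_one_add, q.trJ h2, q.detJ h2]; norm_num; exact h2)

theorem QPair.U1_val (q : QPair R) (h2 : (2 : F) ≠ 0) :
    ((q.U1 h2 : GL (Fin 2) F) : Matrix (Fin 2) (Fin 2) F) = 1 + (q.I : Matrix (Fin 2) (Fin 2) F) := rfl

theorem QPair.U2_val (q : QPair R) (h2 : (2 : F) ≠ 0) :
    ((q.U2 h2 : GL (Fin 2) F) : Matrix (Fin 2) (Fin 2) F) = 1 + (q.J : Matrix (Fin 2) (Fin 2) F) := rfl

theorem QPair.U1_mem (q : QPair R) (h2 : (2 : F) ≠ 0) :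
    q.U1 h2 ∈ Subgroup.normalizer (R : Set (GL (Fin 2) F)) := by
  apply q.mem_normalizer
  · have h : q.U1 h2 * q.I = q.I * q.U1 h2 := by
      apply Units.ext
      rw [Units.val_mul, Units.val_mul, q.U1_val, add_mul, mul_add, one_mul, mul_one]
    rw [h, mul_inv_cancel_right]
    exact q.hI
  · have h : q.U1 h2 * q.J = (q.I * q.J) * q.U1 h2 := by
      apply Units.ext
      rw [Units.val_mul, Units.val_mul, Units.val_mul, q.U1_val, add_mul, mul_add, one_mul, mul_one, q.IJI,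
        add_comm]
    rw [h, mul_inv_cancel_right]
    exact mul_mem q.hI q.hJ
  
theorem QPair.U2_mem (q : QPair R) (h2 : (2 : F) ≠ 0) :
    q.U2 h2 ∈ Subgroup.normalizer (R : Set (GL (Fin 2) F)) := by
  apply q.mem_normalizer
  · have h : q.U2 h2 * q.I = (q.J * q.I) * q.U2 h2 := by
      apply Units.ext
      rw [Units.val_mul, Units.val_mul, Units.val_mul, q.U2_val, add_mul, mul_add, one_mul, mul_one, q.JIJ,
        add_comm]
    rw [h, mul_inv_cancel_right]
    exact mul_mem q.hJ q.hI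
  · have h : q.U2 h2 * q.J = q.J * q.U2 h2 := by
      apply Units.ext
      rw [Units.val_mul, Units.val_mul, q.U2_val, add_mul, mul_add, one_mul, mul_one]
    rw [h, mul_inv_cancel_right]
    exact q.hJ

/-- the scalar matrix `c • 1` as an element of `GL` -/
noncomputable def scalarGL (c : F) (hc : c ≠ 0) : GL (Fin 2) F :=
  Matrix.GeneralLinearGroup.mkOfDetNeZero (c • (1 : Matrix (Fin 2) (Fin 2) F))
    (by rw [det_smul2, Matrix.det_one, mul_one]; exact mul_ne_zero hc hc)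

theorem scalarGL_val (c : F) (hc : c ≠ 0) :
    ((scalarGL c hc : GL (Fin 2) F) : Matrix (Fin 2) (Fin 2) F) = c • 1 := rfl

/-- the element `c (1+I)(1+J)` of the normalizer -/
noncomputable def QPair.W (q : QPair R) (h2 : (2 : F) ≠ 0) (c : F) (hc : c ≠ 0) : GL (Fin 2) F :=
  scalarGL c hc * q.U1 h2 * q.U2 h2

theorem QPair.W_mem (q : QPair R) (h2 : (2 : F) ≠ 0) (c : F) (hc : c ≠ 0) :
    q.W h2 c hc ∈ Subgroup.normalizer (R : Set (GL (Fin 2) F)) :=
  mul_mem (mul_mem (scalar_mem_normalizer R _ c (scalarGL_val c hc)) (q.U1_mem h2)) (q.U2_mem h2)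

theorem QPair.W_val (q : QPair R) (h2 : (2 : F) ≠ 0) (c : F) (hc : c ≠ 0) :
    ((q.W h2 c hc : GL (Fin 2) F) : Matrix (Fin 2) (Fin 2) F) =
      c • ((1 + (q.I : Matrix (Fin 2) (Fin 2) F)) * (1 + (q.J : Matrix (Fin 2) (Fin 2) F))) := by
  unfold QPair.W
  rw [Units.val_mul, Units.val_mul, scalarGL_val, q.U1_val, q.U2_val, Matrix.smul_mul, Matrix.one_mul,
    Matrix.smul_mul]

theorem QPair.W_trace (q : QPair R) (h2 : (2 : F) ≠ 0) (c : F) (hc : c ≠ 0) :
    ((q.W h2 c hc : GL (Fin 2) F) : Matrix (Fin 2) (Fin 2) F).trace = c * 2 := by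
  rw [q.W_val, Matrix.trace_smul, add_mul, mul_add, mul_add, one_mul, mul_one, Matrix.one_mul,
    Matrix.trace_add, Matrix.trace_add, Matrix.trace_add, trace_one2, q.trI h2, q.trJ h2, q.trIJ h2, smul_eq_mul]
  ring

theorem QPair.W_det (q : QPair R) (h2 : (2 : F) ≠ 0) (c : F) (hc : c ≠ 0) :
    ((q.W h2 c hc : GL (Fin 2) F) : Matrix (Fin 2) (Fin 2) F).det = c * c * 4 := by
  rw [q.W_val, det_smul2, Matrix.det_mul, det_one_add, det_one_add, q.trI h2, q.trJ h2, q.detI h2, q.detJ h2]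
  ring

end

end Cfsg.Agent.Lib.Helper19.Q8Norm
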