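import Mathlib
import Cfsg.Agent.Lib.Helper19.Q8Norm3

set_option autoImplicit false

namespace Cfsg.Agent.Lib.Helper19.Q8Norm

open Matrix

variable {F : Type*} [Field F]

section

variable {R : Subgroup (GL (Fin 2) F)}

/-- conjugation action of a subgroup of the normalizer -/
@[reducible] def conjAct (P : Subgroup (GL (Fin 2) F)) (hP : P ≤ Subgroup.normalizer (R : Set (GL (Fin 2) F))) :
    MulAction ↥P ↥R where
  smul p s := ⟨(p : GL (Fin 2) F) * s * (p : GL (Fin 2) F)⁻¹, (Subgroup.mem_normalizer_iff.1 (hP p.2) s).1 s.2⟩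
  one_smul s := by
    apply Subtype.ext
    show ((1 : ↥P) : GL (Fin 2) F) * s * ((1 : ↥P) : GL (Fin 2) F)⁻¹ = s
    simp
  mul_smul a b s := by
    apply Subtype.ext
    show ((a * b : ↥P) : GL (Fin 2) F) * s * ((a * b : ↥P) : GL (Fin 2) F)⁻¹ =
      (a : GL (Fin 2) F) * ((b : GL (Fin 2) F) * s * (b : GL (Fin 2) F)⁻¹) * (a : GL (Fin 2) F)⁻¹
    simp [mul_assoc]

/-- an element of prime order `r ≥ 5` normalizing a quaternion group is scalar -/
theorem QPair.scalar_of_prime_order (q : QPair R) (h2 : (2 : F) ≠ 0) (y : GL (Fin 2) F)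
    (hy : y ∈ Subgroup.normalizer (R : Set (GL (Fin 2) F))) (r : ℕ) [hr : Fact r.Prime] (hyr : y ^ r = 1)
    (hr2 : r ≠ 2) (hr3 : r ≠ 3) : ∃ s : F, (y : Matrix (Fin 2) (Fin 2) F) = s • 1 := by
  have hfin := q.finite
  set P : Subgroup (GL (Fin 2) F) := Subgroup.zpowers y with hPdef
  have hP : P ≤ Subgroup.normalizer (R : Set (GL (Fin 2) F)) := Subgroup.zpowers_le.2 hy
  have hPg : IsPGroup r ↥P := by
    rintro ⟨g, hg⟩
    obtain ⟨n, rfl⟩ := Subgroup.mem_zpowers_iff.1 hg
    refine ⟨1, ?_⟩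
    apply Subtype.ext
    show (y ^ n) ^ (r ^ 1) = 1
    rw [pow_one, ← zpow_natCast, ← _root_.zpow_mul, mul_comm, _root_.zpow_mul, zpow_natCast, hyr, _root_.one_zpow]
  let _ := conjAct (R := R) P hP
  have hmod := hPg.card_modEq_card_fixedPoints ↥R
  -- the centralizer subgroup
  let K : Subgroup ↥R :=
    { carrier := {s | y * (s : GL (Fin 2) F) = (s : GL (Fin 2) F) * y}
      one_mem' := by simp
      mul_mem' := by
        intro a b ha hb
        simp only [Set.mem_ofPred_eq] at ha hb ⊢
        rw [Subgroup.coe_mul, ← mul_assoc, ha, mul_assoc, hb, mul_assoc]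
      inv_mem' := by
        intro a ha
        simp only [Set.mem_ofPred_eq] at ha ⊢
        rw [Subgroup.coe_inv]
        calc y * (a : GL (Fin 2) F)⁻¹ = (a : GL (Fin 2) F)⁻¹ * ((a : GL (Fin 2) F) * y) * (a : GL (Fin 2) F)⁻¹ := by
              group
          _ = (a : GL (Fin 2) F)⁻¹ * (y * (a : GL (Fin 2) F)) * (a : GL (Fin 2) F)⁻¹ := by rw [ha]
          _ = (a : GL (Fin 2) F)⁻¹ * y := by group }
  have hfix : MulAction.fixedPoints ↥P ↥R = (K : Set ↥R) := by
    ext s
    constructor
    · intro hs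
      have := hs ⟨y, Subgroup.mem_zpowers y⟩
      have h1 : y * (s : GL (Fin 2) F) * y⁻¹ = s := congrArg Subtype.val this
      show y * (s : GL (Fin 2) F) = (s : GL (Fin 2) F) * y
      calc y * (s : GL (Fin 2) F) = (y * (s : GL (Fin 2) F) * y⁻¹) * y := by group
        _ = (s : GL (Fin 2) F) * y := by rw [h1]
    · intro hs
      have hs' : y * (s : GL (Fin 2) F) = (s : GL (Fin 2) F) * y := hs
      rintro ⟨g, hg⟩
      obtain ⟨n, rfl⟩ := Subgroup.mem_zpowers_iff.1 hg
      apply Subtype.ext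
      show y ^ n * (s : GL (Fin 2) F) * (y ^ n)⁻¹ = s
      have hc : Commute y (s : GL (Fin 2) F) := hs'
      rw [(hc.zpow_left n).eq, mul_inv_cancel_right]
  have hcardK : Nat.card (MulAction.fixedPoints ↥P ↥R) = Nat.card K := by
    rw [hfix]; rfl
  rw [hcardK, q.card] at hmod
  have hdvd : Nat.card K ∣ 8 := by
    have := Subgroup.card_subgroup_dvd_card K
    rwa [q.card] at this
  -- `-1` lies in `K`
  have hne1 : Nat.card K ≠ 1 := by
    intro h1
    have hbot : K = ⊥ := Subgroup.card_eq_one.1 h1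
    have hmem : (⟨q.I * q.I, mul_mem q.hI q.hI⟩ : ↥R) ∈ K := by
      show y * (q.I * q.I) = (q.I * q.I) * y
      apply Units.ext
      simp only [Units.val_mul]
      rw [q.sqI]
      simp
    rw [hbot, Subgroup.mem_bot] at hmem
    have h3 : q.I * q.I = 1 := congrArg Subtype.val hmem
    have h4 := congrArg Units.val h3
    rw [Units.val_mul, q.sqI, Units.val_one] at h4
    have h5 := congrFun (congrFun h4 0) 0
    simp at h5
    apply h2
    linear_combination (-1 : F) * h5
  have hle : Nat.card K ≤ 8 := Nat.le_of_dvd (by norm_num) hdvd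
  have hpr := hr.out
  have hK8 : Nat.card K = 8 := by
    generalize Nat.card K = k at *
    interval_cases k
    · simp at hdvd
    · exact absurd rfl hne1
    · exfalso
      have := (Nat.modEq_iff_dvd' (by norm_num : 2 ≤ 8)).1 hmod.symm
      have hr6 : r ≤ 6 := Nat.le_of_dvd (by norm_num) this
      interval_cases r <;> first | (exact absurd rfl hr2) | (exact absurd rfl hr3) | (revert hpr; norm_num; done) | (revert this; norm_num; done)
    · norm_num at hdvd
    · exfalso
      have := (Nat.modEq_iff_dvd' (by norm_num : 4 ≤ 8)).1 hmod.symm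
      have hr6 : r ≤ 4 := Nat.le_of_dvd (by norm_num) this
      interval_cases r <;> first | (exact absurd rfl hr2) | (exact absurd rfl hr3) | (revert hpr; norm_num; done) | (revert this; norm_num; done)
    · norm_num at hdvd
    · norm_num at hdvd
    · norm_num at hdvd
    · rfl
  have htop : K = ⊤ := Subgroup.eq_top_of_card_eq K (by rw [hK8, q.card])
  have hI : (⟨q.I, q.hI⟩ : ↥R) ∈ K := by rw [htop]; trivial
  have hJ : (⟨q.J, q.hJ⟩ : ↥R) ∈ K := by rw [htop]; trivial
  have hI' : y * q.I = q.I * y := hI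
  have hJ' : y * q.J = q.J * y := hJ
  have hIm := congrArg Units.val hI'
  have hJm := congrArg Units.val hJ'
  rw [Units.val_mul, Units.val_mul] at hIm hJm
  exact commutant_scalar h2 _ _ _ q.sqI q.sqJ q.anti hIm hJm

end

end Cfsg.Agent.Lib.Helper19.Q8Norm
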