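import Mathlib
import Cfsg.Agent.Lib.Helper19.Q8Norm4

set_option autoImplicit false

namespace Cfsg.Agent.Lib.Helper19.Q8Norm

open Matrix

variable {F : Type*} [Field F]

/-- determinant-one matrix from membership in the kernel of `det` -/
theorem det_val_of_mem_ker (x : GL (Fin 2) F)
    (hx : x ∈ (Matrix.GeneralLinearGroup.det : GL (Fin 2) F →* Fˣ).ker) :
    (x : Matrix (Fin 2) (Fin 2) F).det = 1 := by
  have h1 : Matrix.GeneralLinearGroup.det x = 1 := MonoidHom.mem_ker.1 hx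
  have := congrArg Units.val h1
  rwa [Matrix.GeneralLinearGroup.val_det_apply, Units.val_one] at this

theorem mem_ker_of_det_val (x : GL (Fin 2) F) (hx : (x : Matrix (Fin 2) (Fin 2) F).det = 1) :
    x ∈ (Matrix.GeneralLinearGroup.det : GL (Fin 2) F →* Fˣ).ker := by
  rw [MonoidHom.mem_ker]
  apply Units.ext
  rw [Matrix.GeneralLinearGroup.val_det_apply, Units.val_one, hx]

/-- trace zero from scalar square -/
theorem trace_of_sq_scalar (x : Matrix (Fin 2) (Fin 2) F) (hd : x.det = 1) (hns : ∀ z : F, x ≠ z • 1)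
    (z : F) (hz : x * x = z • 1) : x.trace = 0 := by
  by_contra ht
  have h := ch2 x
  rw [hz, hd, one_smul] at h
  apply hns ((x.trace)⁻¹ * (z + 1))
  have h1 : x.trace • x = (z + 1) • (1 : Matrix (Fin 2) (Fin 2) F) := by
    rw [add_smul, one_smul, h]; abel
  calc x = (x.trace)⁻¹ • (x.trace • x) := by rw [smul_smul, inv_mul_cancel₀ ht, one_smul]
    _ = ((x.trace)⁻¹ * (z + 1)) • 1 := by rw [h1, smul_smul]

/-- trace `±1` from scalar cube -/
theorem trace_of_cube_scalar (x : Matrix (Fin 2) (Fin 2) F) (hd : x.det = 1) (hns : ∀ z : F, x ≠ z • 1)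
    (z : F) (hz : x * x * x = z • 1) : x.trace ^ 2 = 1 := by
  by_contra ht
  have ht' : x.trace ^ 2 - 1 ≠ 0 := sub_ne_zero.2 ht
  have h := ch2 x
  rw [hd, one_smul] at h
  have h3 : x * x * x = (x.trace ^ 2 - 1) • x - x.trace • (1 : Matrix (Fin 2) (Fin 2) F) := by
    rw [h, sub_mul, Matrix.smul_mul, h, Matrix.one_mul, smul_sub, smul_smul, sub_smul, one_smul, pow_two]
    abel
  rw [hz] at h3
  apply hns ((x.trace ^ 2 - 1)⁻¹ * (z + x.trace))
  have h1 : (x.trace ^ 2 - 1) • x = (z + x.trace) • (1 : Matrix (Fin 2) (Fin 2) F) := by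
    rw [add_smul, h3]; abel
  calc x = (x.trace ^ 2 - 1)⁻¹ • ((x.trace ^ 2 - 1) • x) := by rw [smul_smul, inv_mul_cancel₀ ht', one_smul]
    _ = ((x.trace ^ 2 - 1)⁻¹ * (z + x.trace)) • 1 := by rw [h1, smul_smul]

section

variable {R : Subgroup (GL (Fin 2) F)}

/-- conjugating into the normalizer -/
theorem conj_into (x w : GL (Fin 2) F) (hw : w ∈ Subgroup.normalizer (R : Set (GL (Fin 2) F)))
    (G : Matrix (Fin 2) (Fin 2) F) (hG : G.det = 1)
    (hGx : (x : Matrix (Fin 2) (Fin 2) F) * G = G * (w : Matrix (Fin 2) (Fin 2) F)) :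
    ∃ g ∈ (Matrix.GeneralLinearGroup.det : GL (Fin 2) F →* Fˣ).ker,
      g⁻¹ * x * g ∈ Subgroup.normalizer (R : Set (GL (Fin 2) F)) := by
  refine ⟨Matrix.GeneralLinearGroup.mkOfDetNeZero G (by rw [hG]; exact one_ne_zero), ?_, ?_⟩
  · apply mem_ker_of_det_val
    exact hG
  · have h : x * Matrix.GeneralLinearGroup.mkOfDetNeZero G (by rw [hG]; exact one_ne_zero) =
        Matrix.GeneralLinearGroup.mkOfDetNeZero G (by rw [hG]; exact one_ne_zero) * w := by
      apply Units.ext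
      rw [Units.val_mul, Units.val_mul]
      exact hGx
    rw [mul_assoc, h, inv_mul_cancel_left]
    exact hw

variable [Fintype F]

/-- the positive direction for `r = 2` -/
theorem QPair.fix_two (q : QPair R) (h2 : (2 : F) ≠ 0) (hodd : Fintype.card F % 2 = 1)
    (x : GL (Fin 2) F) (hx : x ∈ (Matrix.GeneralLinearGroup.det : GL (Fin 2) F →* Fˣ).ker)
    (hsc : ∃ z : F, ((x ^ 2 : GL (Fin 2) F) : Matrix (Fin 2) (Fin 2) F) = z • (1 : Matrix (Fin 2) (Fin 2) F))
    (hns : ∀ z : F, (x : Matrix (Fin 2) (Fin 2) F) ≠ z • (1 : Matrix (Fin 2) (Fin 2) F)) :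
    ∃ g ∈ (Matrix.GeneralLinearGroup.det : GL (Fin 2) F →* Fˣ).ker,
      g⁻¹ * x * g ∈ Subgroup.normalizer (R : Set (GL (Fin 2) F)) := by
  obtain ⟨z, hz⟩ := hsc
  have hd := det_val_of_mem_ker x hx
  rw [pow_two, Units.val_mul] at hz
  have ht := trace_of_sq_scalar _ hd hns z hz
  have h4 : (4 : F) ≠ 0 := by
    have : (4 : F) = 2 * 2 := by norm_num
    rw [this]; exact mul_ne_zero h2 h2
  obtain ⟨G, hG, hGx⟩ := exists_conj (x : Matrix (Fin 2) (Fin 2) F) (q.I : Matrix (Fin 2) (Fin 2) F) hd (q.detI h2)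
    (by rw [ht, q.trI h2]) hns (q.nsI h2)
    (fun d _ => form_universal hodd h2 _ (by rw [q.trI h2]; simpa using h4.symm) d)
  exact conj_into x q.I (Subgroup.le_normalizer q.hI) G hG hGx

/-- the positive direction for `r = 3` -/
theorem QPair.fix_three (q : QPair R) (h2 : (2 : F) ≠ 0) (h3 : (3 : F) ≠ 0) (hodd : Fintype.card F % 2 = 1)
    (x : GL (Fin 2) F) (hx : x ∈ (Matrix.GeneralLinearGroup.det : GL (Fin 2) F →* Fˣ).ker)
    (hsc : ∃ z : F, ((x ^ 3 : GL (Fin 2) F) : Matrix (Fin 2) (Fin 2) F) = z • (1 : Matrix (Fin 2) (Fin 2) F))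
    (hns : ∀ z : F, (x : Matrix (Fin 2) (Fin 2) F) ≠ z • (1 : Matrix (Fin 2) (Fin 2) F)) :
    ∃ g ∈ (Matrix.GeneralLinearGroup.det : GL (Fin 2) F →* Fˣ).ker,
      g⁻¹ * x * g ∈ Subgroup.normalizer (R : Set (GL (Fin 2) F)) := by
  obtain ⟨z, hz⟩ := hsc
  have hd := det_val_of_mem_ker x hx
  rw [pow_succ, pow_two, Units.val_mul, Units.val_mul] at hz
  have ht := trace_of_cube_scalar _ hd hns z hz
  have ht' : (x : Matrix (Fin 2) (Fin 2) F).trace = 1 ∨ (x : Matrix (Fin 2) (Fin 2) F).trace = -1 := by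
    have : ((x : Matrix (Fin 2) (Fin 2) F).trace - 1) * ((x : Matrix (Fin 2) (Fin 2) F).trace + 1) = 0 := by
      linear_combination ht
    rcases mul_eq_zero.1 this with h | h
    · left; exact sub_eq_zero.1 h
    · right; exact eq_neg_of_add_eq_zero_left h
  have hc : ∀ c : F, c * 2 = 1 ∨ c * 2 = -1 → c ≠ 0 := by
    rintro c hc rfl
    rcases hc with h | h
    · simp at h
    · simp at h
  -- generic step
  have key : ∀ c : F, ∀ hc0 : c ≠ 0, c * 2 = (x : Matrix (Fin 2) (Fin 2) F).trace → c * c * 4 = 1 →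
      ∃ g ∈ (Matrix.GeneralLinearGroup.det : GL (Fin 2) F →* Fˣ).ker,
        g⁻¹ * x * g ∈ Subgroup.normalizer (R : Set (GL (Fin 2) F)) := by
    intro c hc0 hct hcd
    have hWd : ((q.W h2 c hc0 : GL (Fin 2) F) : Matrix (Fin 2) (Fin 2) F).det = 1 := by rw [q.W_det, hcd]
    have hWt : ((q.W h2 c hc0 : GL (Fin 2) F) : Matrix (Fin 2) (Fin 2) F).trace =
        (x : Matrix (Fin 2) (Fin 2) F).trace := by rw [q.W_trace, hct]
    have hWns := nonscalar_of_trace_sq_one h3 _ (by rw [hWt]; exact ht) hWd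
    have h14 : ((q.W h2 c hc0 : GL (Fin 2) F) : Matrix (Fin 2) (Fin 2) F).trace ^ 2 ≠ 4 := by
      rw [hWt, ht]
      intro h
      apply h3
      linear_combination (-1 : F) * h
    obtain ⟨G, hG, hGx⟩ := exists_conj (x : Matrix (Fin 2) (Fin 2) F) _ hd hWd hWt.symm hns hWns
      (fun d _ => form_universal hodd h2 _ h14 d)
    exact conj_into x _ (q.W_mem h2 c hc0) G hG hGx
  rcases ht' with h | h
  · have hc0 : (2 : F)⁻¹ ≠ 0 := inv_ne_zero h2
    apply key (2 : F)⁻¹ hc0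
    · rw [h, inv_mul_cancel₀ h2]
    · field_simp; norm_num
  · have hc0 : -(2 : F)⁻¹ ≠ 0 := neg_ne_zero.2 (inv_ne_zero h2)
    apply key (-(2 : F)⁻¹) hc0
    · rw [h, neg_mul, inv_mul_cancel₀ h2]
    · field_simp; norm_num

end

end Cfsg.Agent.Lib.Helper19.Q8Norm
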