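import Mathlib
import Cfsg.Prelude.Def_Blocks
import Cfsg.Prelude.Def_BlockRank
import Cfsg.Prelude.Def_BrauerPairs
import Cfsg.Agent.Lib.helper7.KleinDef9
import Cfsg.Agent.Lib.Helper25.BrauerPairMaximal

/-!
R1 piece NIL3: a `3`-block with defect group of order 3 and inertial index 2 has `k(B) = l(B) + 1`
(adaptation of `helper7/KleinDef4,7,9` to `p = 3`).
-/

set_option autoImplicit false
set_option linter.style.haveILetI false
set_option linter.unusedSectionVars false
set_option linter.unusedVariables false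
set_option maxHeartbeats 1600000

namespace Cfsg.Agent.Lib.Helper19.R1

open Cfsg.Agent.Lib.helper7 Cfsg.Agent.Lib.helper2 Cfsg.Agent.Lib.Helper11 Cfsg.Agent.Lib.Helper25
  Cfsg.Agent.Lib.Helper24

/-- a `3`-block of defect at most one of a group with a central element of order 3 has exactly one
irreducible Brauer character. -/
theorem nil3_local_rank {H : Type*} [Group H] [Finite H] (M : Ideal Cfsg.AlgInt)
    (hM : Cfsg.IsPModular 3 M) (y : H) (hy : orderOf y = 3) (hyc : y ∈ Subgroup.center H)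
    (b : Set (Cfsg.IrrCharacter H)) (hb : Cfsg.IsPBlock M b)
    (hd : Cfsg.blockDefect 3 b ≤ 1) : Cfsg.blockRank 3 b = 1 := by
  classical
  haveI : Fact (Nat.Prime 3) := ⟨Nat.prime_three⟩
  haveI : Fintype H := Fintype.ofFinite _
  haveI : Fintype (Cfsg.IrrCharacter H) := Fintype.ofFinite _
  have hMp := hM.2.1.isPrime
  obtain ⟨χ₀, hχ₀b⟩ : ∃ χ₀ : Cfsg.IrrCharacter H, χ₀ ∈ b := by
    obtain ⟨χ₀, rfl⟩ := hb
    exact ⟨χ₀, h7_sameBlock_refl hMp _⟩
  have hpos : 0 < Cfsg.blockRank 3 b := sd_rank_pos 3 b χ₀ hχ₀b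
  -- defect zero blocks have one character
  have hzero : ∀ {K : Type _} [Group K] [Finite K] (c : Set (Cfsg.IrrCharacter K)),
      Cfsg.IsPBlock M c → Cfsg.blockDefect 3 c = 0 → Cfsg.blockRank 3 c ≤ 1 := by
    intro K _ _ c hc h0
    have hbound := bf_bound 3 M hM c hc
    rw [h0] at hbound
    have hle := bk_rank_le_card 3 c
    have : Nat.card c ≤ 1 := by
      have : (3 : ℕ) ^ (2 * 0) + 4 = 5 := by norm_num
      omega
    omega
  have hcases : Cfsg.blockDefect 3 b = 0 ∨ Cfsg.blockDefect 3 b = 1 := by omega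
  rcases hcases with h0 | h1
  · have := hzero b hb h0
    omega
  · -- defect one: pass to the quotient by `⟨y⟩`
    set Q : Subgroup H := Subgroup.zpowers y with hQ
    have hQc : Q ≤ Subgroup.center H := Subgroup.zpowers_le.mpr hyc
    haveI hQn : Q.Normal := by
      constructor
      intro n hn g
      have h1 : g * n = n * g := (Subgroup.mem_center_iff.mp (hQc hn) g)
      rw [h1, mul_inv_cancel_right]
      exact hn
    have hQcard : Nat.card Q = 3 := by rw [hQ, Nat.card_zpowers, hy]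
    have hQp : IsPGroup 3 Q := by
      apply IsPGroup.of_card (n := 1)
      rw [hQcard, pow_one]
    have hsup : Q ⊔ Subgroup.centralizer (Q : Set H) = ⊤ := by
      have : Subgroup.centralizer (Q : Set H) = ⊤ :=
        Subgroup.centralizer_eq_top_iff_subset.mpr hQc
      rw [this, sup_top_eq]
    haveI : Fintype (H ⧸ Q) := Fintype.ofFinite _
    haveI : Fintype (Cfsg.IrrCharacter (H ⧸ Q)) := Fintype.ofFinite _
    have hrank := h7_kd_dom_rank 3 M hM Q hQp hsup b hb
    have hblock := h7_kd_dom_block 3 M hM Q hQp hsup b hb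
    rw [hrank]
    have hcardH : (Nat.card H).factorization 3 = (Nat.card (H ⧸ Q)).factorization 3 + 1 := by
      have h1 := Subgroup.card_eq_card_quotient_mul_card_subgroup Q
      rw [hQcard] at h1
      rw [h1, Nat.factorization_mul (Nat.card_pos.ne') (by norm_num)]
      simp [Nat.Prime.factorization_self Nat.prime_three]
    set m := sInf ((fun ψ : Cfsg.IrrCharacter H =>
      (Cfsg.charDegree (ψ : H → ℂ)).factorization 3) '' b) with hm
    obtain ⟨ψ₀, hψ₀⟩ : (h7_kd_dom Q b).Nonempty := by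
      obtain ⟨ψ₀, hψ₀⟩ := hblock
      rw [hψ₀]
      exact ⟨ψ₀, h7_sameBlock_refl hMp _⟩
    have hdeg : ∀ ψ ∈ h7_kd_dom Q b, m ≤ (Cfsg.charDegree (ψ : H ⧸ Q → ℂ)).factorization 3 := by
      intro ψ hψ
      have hmem : (Cfsg.charDegree (ψ : H ⧸ Q → ℂ)).factorization 3 ∈
          ((fun ψ : Cfsg.IrrCharacter H =>
            (Cfsg.charDegree (ψ : H → ℂ)).factorization 3) '' b) :=
        ⟨xs_infl (QuotientGroup.mk' Q) (QuotientGroup.mk'_surjective Q) ψ, hψ, rfl⟩
      exact Nat.sInf_le hmem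
    have hsInf : m ≤ sInf ((fun ψ : Cfsg.IrrCharacter (H ⧸ Q) =>
        (Cfsg.charDegree (ψ : H ⧸ Q → ℂ)).factorization 3) '' h7_kd_dom Q b) := by
      apply le_csInf
      · exact ⟨_, ψ₀, hψ₀, rfl⟩
      · rintro n ⟨ψ, hψ, rfl⟩
        exact hdeg ψ hψ
    have hdefect : Cfsg.blockDefect 3 (h7_kd_dom Q b) = 0 := by
      unfold Cfsg.blockDefect
      unfold Cfsg.blockDefect at h1
      rw [← hm] at h1
      omega
    have := hzero _ hblock hdefect
    have hpos' : 0 < Cfsg.blockRank 3 (h7_kd_dom Q b) := by rw [← hrank]; exact hpos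
    omega

variable {G : Type*} [Group G]

/-- a block of `C_G(y)`, `y` of order 3, inducing a block of defect at most one has rank one -/
theorem nil3_pair_rank [Fintype G] (M : Ideal Cfsg.AlgInt) (hM : Cfsg.IsPModular 3 M)
    (B : Set (Cfsg.IrrCharacter G)) (hd : Cfsg.blockDefect 3 B ≤ 1) (y : G) (hy : orderOf y = 3)
    (f : Set (Cfsg.IrrCharacter (Subgroup.centralizer (Subgroup.zpowers y : Set G))))
    (hf : Cfsg.IsInducedBlock M (Subgroup.centralizer (Subgroup.zpowers y : Set G)) f B) :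
    Cfsg.blockRank 3 f = 1 := by
  haveI : Fact (Nat.Prime 3) := ⟨Nat.prime_three⟩
  have hyC : y ∈ Subgroup.centralizer (Subgroup.zpowers y : Set G) := by
    rw [← h7_kd_centralizer_zpowers]
    exact Subgroup.mem_centralizer_singleton_iff.mpr rfl
  apply nil3_local_rank M hM (⟨y, hyC⟩ : Subgroup.centralizer (Subgroup.zpowers y : Set G))
  · rw [Subgroup.orderOf_mk]
    exact hy
  · rw [Subgroup.mem_center_iff]
    intro h
    apply Subtype.ext
    have := Subgroup.mem_centralizer_iff.mp h.2 y (Subgroup.mem_zpowers y)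
    simpa using this.symm
  · exact hf.1
  · exact (h7_kd_defect_le 3 M hM _ f B hf).trans hd

/-- the count at an element of order 3 is the number of pairs -/
theorem nil3_n_order_three [Fintype G] (M : Ideal Cfsg.AlgInt) (hM : Cfsg.IsPModular 3 M)
    (B : Set (Cfsg.IrrCharacter G)) (hd : Cfsg.blockDefect 3 B ≤ 1) (y : G) (hy : orderOf y = 3) :
    h7_kd_n 3 M B y = Set.ncard {f : Set (Cfsg.IrrCharacter
      (Subgroup.centralizer (Subgroup.zpowers y : Set G))) |
      Cfsg.IsBrauerPairOf 3 M B (Subgroup.zpowers y) f} := by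
  classical
  haveI : Fact (Nat.Prime 3) := ⟨Nat.prime_three⟩
  haveI : Fintype (Cfsg.IrrCharacter (Subgroup.centralizer (Subgroup.zpowers y : Set G))) :=
    Fintype.ofFinite _
  rw [h7_kd_n_eq 3 M hM B y ⟨1, by rw [hy, pow_one]⟩]
  apply h7_kd_finsum_eq
  intro f hf
  exact nil3_pair_rank M hM B hd y hy f (tp_pair_induced 3 M hM _ B f hf)

/-- elements of a group of order 3 -/
theorem nil3_cases (P : Subgroup G) (hP3 : Nat.card P = 3) (y : G) (hy : y ∈ P) (hy1 : y ≠ 1)
    (z : G) (hz : z ∈ P) : z = 1 ∨ z = y ∨ z = y⁻¹ := by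
  haveI : Fact (Nat.Prime 3) := ⟨Nat.prime_three⟩
  haveI : Finite P := Nat.finite_of_card_ne_zero (by rw [hP3]; norm_num)
  have hord : orderOf (⟨y, hy⟩ : P) = 3 := by
    have h1 : orderOf (⟨y, hy⟩ : P) ∣ 3 := by rw [← hP3]; exact orderOf_dvd_natCard _
    rcases (Nat.dvd_prime Nat.prime_three).mp h1 with h | h
    · exfalso
      apply hy1
      have := orderOf_eq_one_iff.mp h
      exact congrArg Subtype.val this
    · exact h
  have hzp : (⟨z, hz⟩ : P) ∈ Subgroup.zpowers (⟨y, hy⟩ : P) := by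
    have htop : Subgroup.zpowers (⟨y, hy⟩ : P) = ⊤ := by
      apply Subgroup.eq_top_of_card_eq
      rw [Nat.card_zpowers, hord, hP3]
    rw [htop]
    exact Subgroup.mem_top _
  obtain ⟨k, hk⟩ := Subgroup.mem_zpowers_iff.mp hzp
  have hk' : y ^ k = z := by
    have := congrArg Subtype.val hk
    simpa using this
  have hy3 : y ^ (3 : ℤ) = 1 := by
    have h3 : (⟨y, hy⟩ : P) ^ 3 = 1 := by rw [← hord]; exact pow_orderOf_eq_one _
    have := congrArg Subtype.val h3
    simpa using this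
  have hmod : y ^ k = y ^ (k % 3) := by
    conv_lhs => rw [← Int.emod_add_mul_ediv k 3]
    rw [zpow_add, zpow_mul, hy3, one_zpow, mul_one]
  have hr : k % 3 = 0 ∨ k % 3 = 1 ∨ k % 3 = 2 := by omega
  rcases hr with h | h | h
  · left; rw [← hk', hmod, h, zpow_zero]
  · right; left; rw [← hk', hmod, h, zpow_one]
  · right; right
    rw [← hk', hmod, h]
    have : y ^ (2 : ℤ) * y = 1 := by
      have : y ^ (2 : ℤ) * y = y ^ (3 : ℤ) := by
        rw [show (3 : ℤ) = 2 + 1 by norm_num, zpow_add, zpow_one]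
      rw [this, hy3]
    exact eq_inv_of_mul_eq_one_left this

/-- NIL3 : a `3`-block with defect group of order 3 and inertial index 2 has `k(B) = l(B) + 1`. -/
theorem card_eq_rank_add_one [Finite G] (M : Ideal Cfsg.AlgInt) (hM : Cfsg.IsPModular 3 M)
    (B : Set (Cfsg.IrrCharacter G)) (hB : Cfsg.IsPBlock M B) (P : Subgroup G)
    (hP3 : Nat.card P = 3)
    (c : Set (Cfsg.IrrCharacter (Subgroup.centralizer (P : Set G))))
    (hmax : Cfsg.IsMaximalBrauerPair 3 M B P c)
    (t : G) (htN : t ∈ Subgroup.normalizer (P : Set G))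
    (htS : Cfsg.StabilizesBlock (Subgroup.centralizer (P : Set G)) c t)
    (htC : t ∉ Subgroup.centralizer (P : Set G)) :
    Nat.card B = Cfsg.blockRank 3 B + 1 := by
  classical
  haveI : Fintype G := Fintype.ofFinite _
  haveI : Fact (Nat.Prime 3) := ⟨Nat.prime_three⟩
  have hPr := hM.2.1.isPrime
  -- the defect is one
  have hPD : Cfsg.IsDefectGroup 3 M B P := bq_max_defect 3 M hM B P c hmax
  have hd : Cfsg.blockDefect 3 B = 1 := by
    have h1 := Cfsg.Agent.S0908.result 3 M hM B hB P hPD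
    rw [hP3] at h1
    have h2 : (3 : ℕ) ^ 1 = 3 ^ Cfsg.blockDefect 3 B := by rw [pow_one]; exact h1
    exact (Nat.pow_right_injective (by norm_num : 2 ≤ 3) h2).symm
  -- a nontrivial element of `P`
  obtain ⟨y₀, hy₀, hy₀1⟩ : ∃ y₀ : G, y₀ ∈ P ∧ y₀ ≠ 1 := by
    by_contra hcon
    push Not at hcon
    apply htC
    rw [Subgroup.mem_centralizer_iff]
    intro q hq
    rw [hcon q hq, mul_one, one_mul]
  -- `t` inverts `y₀`
  have hty₀P : t * y₀ * t⁻¹ ∈ P := (Subgroup.mem_normalizer_iff.mp htN y₀).mp hy₀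
  have hty₀ : t * y₀ * t⁻¹ = y₀⁻¹ := by
    rcases nil3_cases P hP3 y₀ hy₀ hy₀1 _ hty₀P with h | h | h
    · exact absurd h (h7_kd_conj_ne_one y₀ t hy₀1)
    · exfalso
      apply htC
      rw [Subgroup.mem_centralizer_iff]
      intro q hq
      have hc : t * y₀ = y₀ * t := by
        calc t * y₀ = t * y₀ * t⁻¹ * t := by group
          _ = y₀ * t := by rw [h]
      rcases nil3_cases P hP3 y₀ hy₀ hy₀1 q hq with rfl | rfl | rfl
      · rw [mul_one, one_mul]
      · exact hc.symm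
      · calc y₀⁻¹ * t = y₀⁻¹ * (t * y₀) * y₀⁻¹ := by group
          _ = y₀⁻¹ * (y₀ * t) * y₀⁻¹ := by rw [hc]
          _ = t * y₀⁻¹ := by group
    · exact h
  have hty₀' : t * y₀⁻¹ * t⁻¹ = y₀ := by
    have : t * y₀⁻¹ * t⁻¹ = (t * y₀ * t⁻¹)⁻¹ := by group
    rw [this, hty₀, inv_inv]
  have h1S : Cfsg.StabilizesBlock (Subgroup.centralizer (P : Set G)) c 1 :=
    bq_inner_stabilizes _ c 1 (Subgroup.one_mem _)
  have htrans : ∀ y ∈ P, y ≠ 1 → ∀ y' ∈ P, y' ≠ 1 → ∃ s : G,
      s ∈ Subgroup.normalizer (P : Set G) ∧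
      Cfsg.StabilizesBlock (Subgroup.centralizer (P : Set G)) c s ∧ s * y * s⁻¹ = y' := by
    intro y hy hy1 y' hy' hy'1
    rcases nil3_cases P hP3 y₀ hy₀ hy₀1 y hy with h | h | h
    · exact absurd h hy1
    · rcases nil3_cases P hP3 y₀ hy₀ hy₀1 y' hy' with h' | h' | h'
      · exact absurd h' hy'1
      · exact ⟨1, Subgroup.one_mem _, h1S, by rw [h, h']; group⟩
      · exact ⟨t, htN, htS, by rw [h, h']; exact hty₀⟩
    · rcases nil3_cases P hP3 y₀ hy₀ hy₀1 y' hy' with h' | h' | h'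
      · exact absurd h' hy'1
      · exact ⟨t, htN, htS, by rw [h, h']; exact hty₀'⟩
      · exact ⟨1, Subgroup.one_mem _, h1S, by rw [h, h']; group⟩
  obtain ⟨X, h1X, hXp, hXrep, hform⟩ := h7_kd_brauer 3 M hM B hB
  have hy₀3 : orderOf y₀ = 3 := by
    have h1 : orderOf (⟨y₀, hy₀⟩ : P) ∣ 3 := by rw [← hP3]; exact orderOf_dvd_natCard _
    rw [Subgroup.orderOf_mk] at h1
    rcases (Nat.dvd_prime Nat.prime_three).mp h1 with h | h
    · exact absurd (orderOf_eq_one_iff.mp h) hy₀1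
    · exact h
  have hy₀p : ∃ k : ℕ, orderOf y₀ = 3 ^ k := ⟨1, by rw [hy₀3, pow_one]⟩
  -- the count at `y₀` is one
  have hny₀ : h7_kd_n 3 M B y₀ = 1 := by
    rw [nil3_n_order_three M hM B (le_of_eq hd) y₀ hy₀3]
    obtain ⟨f₀, hf₀, hle₀⟩ := bq_subpair_exists 3 M hM P c hmax.1.1 (Subgroup.zpowers y₀)
      (Subgroup.zpowers_le.mpr hy₀)
    have hpair₀ := (bq_pairOf_le 3 M hM P _ c f₀ hle₀ B).mp hmax.1
    have : {f : Set (Cfsg.IrrCharacter
        (Subgroup.centralizer (Subgroup.zpowers y₀ : Set G))) |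
        Cfsg.IsBrauerPairOf 3 M B (Subgroup.zpowers y₀) f} = {f₀} := by
      ext f
      rw [Set.mem_singleton_iff]
      constructor
      · intro hf
        have hle := h7_kd_pair_le 3 M hM B P c hmax htrans y₀ hy₀ hy₀1 f hf
        exact bq_subpair_unique 3 M hM P c hmax.1.1 _ f f₀ hle hle₀
      · intro hf
        rw [hf]
        exact hpair₀
    rw [this, Set.ncard_singleton]
  -- the representative of `y₀`
  obtain ⟨x₀, ⟨hx₀X, hx₀c⟩, hx₀u⟩ := hXrep y₀ hy₀p
  have hx₀1 : x₀ ≠ 1 := by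
    intro h
    rw [h] at hx₀c
    exact hy₀1 (isConj_one_left.mp hx₀c)
  have hx₀E : x₀ ∈ X.erase 1 := Finset.mem_erase.mpr ⟨hx₀1, hx₀X⟩
  have hnx₀ : h7_kd_n 3 M B x₀ = 1 := by
    rw [← h7_kd_n_conj 3 M hM B hB y₀ x₀ hy₀p hx₀c]
    exact hny₀
  have hsum : ∑ x ∈ X.erase 1, h7_kd_n 3 M B x = 1 := by
    rw [Finset.sum_eq_single_of_mem x₀ hx₀E]
    · exact hnx₀
    · intro x hx hne
      by_contra hn
      obtain ⟨hx1, hxX⟩ := Finset.mem_erase.mp hx
      obtain ⟨f, hf⟩ := h7_kd_n_ne_zero 3 M hM B x (hXp x hxX) hn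
      obtain ⟨g, hg⟩ := h7_kd_conj_into 3 M hM B P c hmax x f hf
      obtain ⟨s, -, -, hsy⟩ := htrans _ hg (h7_kd_conj_ne_one x g hx1) y₀ hy₀ hy₀1
      apply hne
      apply hx₀u
      refine ⟨hxX, ?_⟩
      rw [isConj_iff]
      refine ⟨(s * g)⁻¹, ?_⟩
      rw [← hsy]
      group
  rw [hsum] at hform
  exact hform

end Cfsg.Agent.Lib.Helper19.R1
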