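import Mathlib
import Cfsg.Agent.Lib.Helper1.FrobPQ.Props

set_option autoImplicit false

namespace Cfsg.Agent.Lib.Helper19.S3Wrap

open Cfsg.Agent.Lib.Helper1.FrobPQ Cfsg.Agent.Lib.Helper1.Ward
open scoped commutatorElement
open SemidirectProduct

universe u

theorem perm3_nonab : ¬ ∀ a b : Equiv.Perm (Fin 3), a * b = b * a := by
  intro h
  have := h (Equiv.swap 0 1) (Equiv.swap 1 2)
  revert this
  decide

theorem s3_wrapper
    (hmain : ∀ (Γ : Type u) [Group Γ] [Finite Γ] (A F G : Subgroup Γ), GoodF 3 2 A F G →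
      ⁅G, G⁆ ≤ Cfsg.fittingOf G)
    {G : Type u} [Group G] [Finite G] [Group.IsSolvable G]
    [MulDistribMulAction (Equiv.Perm (Fin 3)) G] (hcop : (Nat.card G).Coprime 6)
    (hfpf : ∀ g : G, (∀ a : Equiv.Perm (Fin 3), a • g = g) → g = 1) :
    Group.IsNilpotent ↥(commutator G) := by
  obtain ⟨φ, hφ⟩ : ∃ φ : Equiv.Perm (Fin 3) →* MulAut G,
      φ = MulDistribMulAction.toMulAut (Equiv.Perm (Fin 3)) G := ⟨_, rfl⟩
  have hφa : ∀ (a : Equiv.Perm (Fin 3)) (n : G), φ a n = a • n := by
    intro a n; rw [hφ]; rfl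
  have hfinΓ : Finite (G ⋊[φ] Equiv.Perm (Fin 3)) :=
    Finite.of_equiv _ (SemidirectProduct.equivProd).symm
  have hGn : ((inl : G →* G ⋊[φ] Equiv.Perm (Fin 3)).range).Normal := by
    rw [SemidirectProduct.range_inl_eq_ker_rightHom]
    infer_instance
  have hcardA : Nat.card ↥((inr : Equiv.Perm (Fin 3) →* G ⋊[φ] Equiv.Perm (Fin 3)).range) = 6 := by
    rw [Nat.card_congr (MonoidHom.ofInjective (inr_injective (φ := φ))).toEquiv.symm,
      Nat.card_perm, Nat.card_eq_fintype_card, Fintype.card_fin]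
    rfl
  have hcardF : Nat.card ↥((alternatingGroup (Fin 3)).map
      (inr : Equiv.Perm (Fin 3) →* G ⋊[φ] Equiv.Perm (Fin 3))) = 3 := by
    rw [Subgroup.card_map_of_injective inr_injective, nat_card_alternatingGroup,
      Nat.card_eq_fintype_card, Fintype.card_fin]
    rfl
  have hgood : GoodF 3 2 (inr : Equiv.Perm (Fin 3) →* G ⋊[φ] Equiv.Perm (Fin 3)).range
      ((alternatingGroup (Fin 3)).map (inr : Equiv.Perm (Fin 3) →* G ⋊[φ] Equiv.Perm (Fin 3)))
      (inl : G →* G ⋊[φ] Equiv.Perm (Fin 3)).range := by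
    refine ⟨⟨⟨Nat.prime_three, Nat.prime_two, hcardA, ?_⟩, ?_, hcardF, ?_⟩, hGn, ?_, ?_, ?_⟩
    · intro hcomm
      apply perm3_nonab
      intro a b
      have := hcomm (inr a) ⟨a, rfl⟩ (inr b) ⟨b, rfl⟩
      rw [← map_mul, ← map_mul] at this
      exact inr_injective this
    · rw [MonoidHom.range_eq_map]
      exact Subgroup.map_mono le_top
    · rintro _ ⟨a, rfl⟩
      rw [Subgroup.mem_normalizer_iff]
      intro h
      constructor
      · rintro ⟨t, ht, rfl⟩
        refine ⟨a * t * a⁻¹, ?_, ?_⟩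
        · exact (alternatingGroup.normal (α := Fin 3)).conj_mem t ht a
        · rw [map_mul, map_mul, map_inv]
      · intro hh
        obtain ⟨t, ht, hte⟩ := hh
        refine ⟨a⁻¹ * t * a, ?_, ?_⟩
        · have := (alternatingGroup.normal (α := Fin 3)).conj_mem t ht a⁻¹
          rwa [inv_inv] at this
        · rw [map_mul, map_mul, hte, map_inv]
          group
    · have e : Nat.card ↥((inl : G →* G ⋊[φ] Equiv.Perm (Fin 3)).range) = Nat.card G :=
        Nat.card_congr (MonoidHom.ofInjective inl_injective).toEquiv.symm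
      rw [e]
      exact hcop
    · exact Group.isSolvable_of_surjective
        (MonoidHom.ofInjective (inl_injective (φ := φ))).surjective
    · rintro _ ⟨n, rfl⟩ hfix
      have h1 : n = 1 := by
        apply hfpf n
        intro a
        have h2 := hfix (inr a) ⟨a, rfl⟩
        have h3 : (inl (φ a n) : G ⋊[φ] Equiv.Perm (Fin 3)) = inl n := by
          rw [inl_aut, h2, mul_assoc, ← map_mul, mul_inv_cancel, map_one, mul_one]
        have h4 := inl_injective h3
        rw [hφa] at h4
        exact h4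
      rw [h1, map_one]
  have hle := hmain _ _ _ _ hgood
  have hnil := fitOf_nilpotent (inl : G →* G ⋊[φ] Equiv.Perm (Fin 3)).range
  have hmap : (commutator G).map (inl : G →* G ⋊[φ] Equiv.Perm (Fin 3)) ≤
      Cfsg.fittingOf (inl : G →* G ⋊[φ] Equiv.Perm (Fin 3)).range := by
    refine le_trans ?_ hle
    rw [commutator_def, Subgroup.map_commutator, ← MonoidHom.range_eq_map]
  have h2 : Group.IsNilpotent ↥((commutator G).map (inl : G →* G ⋊[φ] Equiv.Perm (Fin 3))) := by
    have hinj : Function.Injective (Subgroup.inclusion hmap) := Subgroup.inclusion_injective hmap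
    have : Group.IsNilpotent ↥((Subgroup.inclusion hmap).range) := inferInstance
    exact (Group.isNilpotent_congr (MonoidHom.ofInjective hinj)).mpr this
  exact (Group.isNilpotent_congr (Subgroup.equivMapOfInjective _ _ inl_injective)).mpr h2

end Cfsg.Agent.Lib.Helper19.S3Wrap
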