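import Mathlib
import Cfsg.Agent.Lib.Helper19.S5954.X
import Cfsg.Agent.Lib.helper3.S5953.Defs

set_option autoImplicit false
set_option linter.unusedVariables false

/-!
# Project S5954, part O: rows OBR (`o_bridge`) and OFIX (`o_fixes`) verbatim
-/

namespace Cfsg.Agent.Lib.Helper19.S5954

open Polynomial Module Cfsg.Agent.Lib.helper3
open Cfsg.Agent.Lib.helper3.S5953 (cc bb hermI fixS cycS HInv)

/-- `stdH n σ u v = hermI v u` -/
theorem s5954obr_std {F : Type*} [Field F] {q : ℕ} (σ : F →+* F) (hσ : ∀ a, σ a = a ^ q) (n : ℕ)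
    (u v : Fin n → F) : stdH n σ u v = hermI (Fin n) F q v u :=
  x_std σ hσ n u v

/-- conjugate symmetry of `hermI` on `Fin n → F` -/
theorem s5954obr_symm {F : Type*} [Field F] {q : ℕ} (σ : F →+* F) (hσ : ∀ a, σ a = a ^ q)
    (hσσ : ∀ a, σ (σ a) = a) (n : ℕ) (u v : Fin n → F) :
    hermI (Fin n) F q u v = σ (hermI (Fin n) F q v u) :=
  Cfsg.Agent.Lib.Lead.herm_symm σ hσ hσσ u v

/-- `hermI u v = 0 ↔ hermI v u = 0` -/
theorem s5954obr_zero {F : Type*} [Field F] {q : ℕ} (σ : F →+* F) (hσ : ∀ a, σ a = a ^ q)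
    (hσσ : ∀ a, σ (σ a) = a) (n : ℕ) (u v : Fin n → F) :
    hermI (Fin n) F q u v = 0 ↔ hermI (Fin n) F q v u = 0 := by
  constructor
  · intro h
    rw [s5954obr_symm σ hσ hσσ, h, map_zero]
  · intro h
    rw [s5954obr_symm σ hσ hσσ, h, map_zero]

/-- OBR [S-M]: the two contexts agree. -/
theorem o_bridge {F : Type*} [Field F] {q : ℕ} (σ : F →+* F) (hσ : ∀ a, σ a = a ^ q) (hσσ : ∀ a, σ (σ a) = a)
    (hne : ∃ a, σ a ≠ a) (n r : ℕ) (y : Module.End F (Fin n → F)) :
    (HCtx r σ (stdH n σ) y ↔ S5953.HCtx q r 1 y) ∧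
      (∀ W : Submodule F (Fin n → F), HND (stdH n σ) W ↔ S5953.HND q W) ∧
      (∀ U W : Submodule F (Fin n → F), HOrth (stdH n σ) U W ↔ S5953.HOrth q U W) ∧
      (∀ m, HNDd (stdH n σ) y m ↔ S5953.HNDd q y m) := by
  have hnd : ∀ W : Submodule F (Fin n → F), HND (stdH n σ) W ↔ S5953.HND q W := by
    intro W
    constructor
    · intro h u hu hall
      apply h u hu
      intro v hv
      rw [s5954obr_std σ hσ, (s5954obr_zero σ hσ hσσ n v u)]
      exact hall v hv
    · intro h u hu hall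
      apply h u hu
      intro v hv
      have := hall v hv
      rw [s5954obr_std σ hσ] at this
      exact (s5954obr_zero σ hσ hσσ n v u).mp this
  refine ⟨?_, hnd, ?_, ?_⟩
  · constructor
    · intro h
      refine ⟨?_, ?_, one_ne_zero⟩
      · intro u v
        have := h.pres v u
        rwa [s5954obr_std σ hσ, s5954obr_std σ hσ] at this
      · rw [h.pow, one_smul]
    · intro h
      obtain ⟨hsy, hnd'⟩ := std_facts n σ hσσ
      refine ⟨hσσ, hne, hsy, hnd', ?_, ?_⟩
      · intro u v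
        rw [s5954obr_std σ hσ, s5954obr_std σ hσ]
        exact h.pres v u
      · rw [h.pow, one_smul]
  · intro U W
    constructor
    · intro h u hu w hw
      have := h u hu w hw
      rw [s5954obr_std σ hσ] at this
      exact (s5954obr_zero σ hσ hσσ n w u).mp this
    · intro h u hu w hw
      rw [s5954obr_std σ hσ]
      exact (s5954obr_zero σ hσ hσσ n u w).mp (h u hu w hw)
  · intro m
    constructor
    · rintro ⟨W, hW, hWnd, hWm⟩
      exact ⟨W, hW, (hnd W).mp hWnd, hWm⟩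
    · rintro ⟨W, hW, hWnd, hWm⟩
      exact ⟨W, hW, (hnd W).mpr hWnd, hWm⟩

/-- OFIX [S]: the frozen conclusion in helper3's terms. -/
theorem o_fixes {F : Type*} [Field F] (n m q : ℕ) (X : Matrix (Fin n) (Fin n) F) :
    Fixes n m q X ↔ S5953.HNDd q (Matrix.toLin' X) m := by
  have hnd : ∀ W : Submodule F (Fin n → F),
      (∀ u ∈ W, u ≠ 0 → ∃ v ∈ W, Cfsg.hermForm n F q u v ≠ 0) ↔ S5953.HND q W := by
    intro W
    constructor
    · intro h u hu hall
      by_contra hu0
      obtain ⟨v, hv, hne⟩ := h u hu hu0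
      exact hne (hall v hv)
    · intro h u hu hu0
      by_contra hcon
      apply hu0
      apply h u hu
      intro v hv
      by_contra hne
      exact hcon ⟨v, hv, hne⟩
  have hinv : ∀ W : Submodule F (Fin n → F), HInv (Matrix.toLin' X) W ↔ W.map (Matrix.toLin' X) ≤ W := by
    intro W
    rw [Submodule.map_le_iff_le_comap]
    exact Iff.rfl
  constructor
  · rintro ⟨W, hWm, hWnd, hWx⟩
    exact ⟨W, (hinv W).mpr hWx, (hnd W).mp hWnd, hWm⟩
  · rintro ⟨W, hWx, hWnd, hWm⟩
    exact ⟨W, hWm, (hnd W).mpr hWnd, (hinv W).mp hWx⟩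

end Cfsg.Agent.Lib.Helper19.S5954
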