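import Mathlib
import Cfsg.Agent.Lib.helper6.S5954OSUFFcore
import Cfsg.Agent.Lib.Helper27.S5954OCYCDVD
import Cfsg.Agent.Lib.Helper27.S5954OMIN0
import Cfsg.Agent.Lib.Helper5.S5954OMIN2

set_option autoImplicit false
set_option linter.unusedVariables false

/-!
# Project S5954, part O, row OSUFF: `o_suff` verbatim (= helper6's `s5954osuff_core2` + OCYCDVD + OMIN2 + OMIN0)
-/

namespace Cfsg.Agent.Lib.Helper19.S5954

open Polynomial Module Cfsg.Agent.Lib.helper3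
open Cfsg.Agent.Lib.helper3.S5953 (cc bb hermI fixS cycS HInv)

/-- OSUFF [M-L]: the abstract sufficiency theorem. -/
theorem o_suff {F : Type*} [Field F] [Fintype F] {p : ℕ} [Fact p.Prime] [CharP F p] {q n : ℕ}
    (hF : Fintype.card F = q ^ 2) {r : ℕ} [Fact r.Prime] (hrp : r ≠ p) (hr2 : r ≠ 2)
    {y : Module.End F (Fin n → F)} (h : S5953.HCtx q r 1 y) (m : ℕ) (hmn : m ≤ n)
    (hk : m % cc (orderOf (q : ZMod r)) ≤ n % cc (orderOf (q : ZMod r))) : S5953.HNDd q y m :=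
  s5954osuff_core2 hF hrp h m hmn hk
    (fun N hN hNc hNnd => o_cyc_dvd hF hrp hr2 h N hN hNc hNnd)
    (fun hi N hN hNc hNnd hN0 => o_min_nd_two hF hrp hr2 hi h N hN hNc hNnd hN0)
    (fun hi N hN hNc hNnd hN0 => o_min_nd_zero hF hrp hr2 hi h N hN hNc hNnd hN0)

end Cfsg.Agent.Lib.Helper19.S5954
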