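import Mathlib
import Cfsg.Agent.Lib.helper3.S5956.Defs
import Cfsg.Agent.Lib.Helper25.S5955R4core

set_option autoImplicit false

/-! S5956 row T3 (TWOSUFF), core (helper19): sufficiency for `r = 2 ≠ p` in matrix form, with the statements of
T1 / T2 on the standard space as hypotheses (pattern of helper25's S5955R4core). -/

namespace Cfsg.Agent.Lib.helper3.S5956

open Polynomial Module
open Cfsg.Agent.Lib.Helper13.S5955 Cfsg.Agent.Lib.Helper24

theorem s5956t3_core {F : Type*} [Field F] (d m : ℕ) (hd : 1 ≤ d)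
    (hT1 : ∀ y : Module.End F (Fin d ⊕ Fin d → F), SCtx 2 (stdB d F) y → NDd (stdB d F) y m)
    (hT2 : ∀ y : Module.End F (Fin d ⊕ Fin d → F), SCtx 4 (stdB d F) y → y * y = -1 →
      NDd (stdB d F) y m)
    (x : ↥(Matrix.symplecticGroup (Fin d) F)) (z : F)
    (hx : ((x ^ 2 : ↥(Matrix.symplecticGroup (Fin d) F)) :
      Matrix (Fin d ⊕ Fin d) (Fin d ⊕ Fin d) F) = z • (1 : Matrix (Fin d ⊕ Fin d) (Fin d ⊕ Fin d) F)) :
    ∃ W : Submodule F (Fin d ⊕ Fin d → F), Module.finrank F ↥W = m ∧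
      (∀ u ∈ W, u ≠ 0 → ∃ v ∈ W, Cfsg.sympForm d F u v ≠ 0) ∧
      W.map (Matrix.toLin' (x : Matrix (Fin d ⊕ Fin d) (Fin d ⊕ Fin d) F)) ≤ W := by
  have hzmem : z • (1 : Matrix (Fin d ⊕ Fin d) (Fin d ⊕ Fin d) F) ∈
      Matrix.symplecticGroup (Fin d) F := by
    rw [← hx]
    exact (x ^ 2).2
  have hzz := s5955r4_sq_one d hd z hzmem
  have hA2 : (x : Matrix (Fin d ⊕ Fin d) (Fin d ⊕ Fin d) F) *
      (x : Matrix (Fin d ⊕ Fin d) (Fin d ⊕ Fin d) F) = z • 1 := by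
    rw [← hx, SubmonoidClass.coe_pow, pow_two]
  have hpres : ∀ u v, stdB d F (Matrix.toLin' (x : Matrix (Fin d ⊕ Fin d) (Fin d ⊕ Fin d) F) u)
      (Matrix.toLin' (x : Matrix (Fin d ⊕ Fin d) (Fin d ⊕ Fin d) F) v) = stdB d F u v := by
    intro u v
    rw [stdB_apply, stdB_apply, Matrix.toLin'_apply, Matrix.toLin'_apply]
    exact (Cfsg.Agent.Lib.helper6.mem_symplecticGroup_iff_sympForm d _).mp x.2 u v
  have hy2 : Matrix.toLin' (x : Matrix (Fin d ⊕ Fin d) (Fin d ⊕ Fin d) F) *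
      Matrix.toLin' (x : Matrix (Fin d ⊕ Fin d) (Fin d ⊕ Fin d) F) =
      z • (1 : Module.End F (Fin d ⊕ Fin d → F)) := by
    rw [Module.End.mul_eq_comp, ← Matrix.toLin'_mul, hA2, map_smul, Matrix.toLin'_one]
    rfl
  obtain ⟨halt, hnd⟩ := stdB_alt_nd (F := F) d
  have hfin : ∀ y : Module.End F (Fin d ⊕ Fin d → F),
      y = Matrix.toLin' (x : Matrix (Fin d ⊕ Fin d) (Fin d ⊕ Fin d) F) →
      NDd (stdB d F) y m →
      ∃ W : Submodule F (Fin d ⊕ Fin d → F), Module.finrank F ↥W = m ∧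
        (∀ u ∈ W, u ≠ 0 → ∃ v ∈ W, Cfsg.sympForm d F u v ≠ 0) ∧
        W.map (Matrix.toLin' (x : Matrix (Fin d ⊕ Fin d) (Fin d ⊕ Fin d) F)) ≤ W := by
    rintro y rfl ⟨W, hinv, hsnd, hfr⟩
    refine ⟨W, hfr, (nd_iff_snd d W).mpr hsnd, ?_⟩
    rintro _ ⟨w, hw, rfl⟩
    exact hinv w hw
  rcases mul_self_eq_one_iff.mp hzz with h1 | h1
  · subst h1
    rw [one_smul] at hy2
    apply hfin _ rfl
    apply hT1
    exact ⟨halt, hnd, hpres, by rw [pow_two, hy2]⟩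
  · subst h1
    replace hy2 : Matrix.toLin' (x : Matrix (Fin d ⊕ Fin d) (Fin d ⊕ Fin d) F) *
        Matrix.toLin' (x : Matrix (Fin d ⊕ Fin d) (Fin d ⊕ Fin d) F) = -1 := by
      rw [hy2]
      exact neg_one_smul F (1 : Module.End F (Fin d ⊕ Fin d → F))
    have hctx : SCtx 4 (stdB d F)
        (Matrix.toLin' (x : Matrix (Fin d ⊕ Fin d) (Fin d ⊕ Fin d) F)) := by
      refine ⟨halt, hnd, hpres, ?_⟩
      rw [show (4 : ℕ) = 2 + 2 from rfl, pow_add, pow_two, hy2]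
      exact (neg_mul_neg (1 : Module.End F (Fin d ⊕ Fin d → F)) 1).trans (one_mul 1)
    apply hfin _ rfl
    exact hT2 _ hctx hy2

end Cfsg.Agent.Lib.helper3.S5956
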