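import Mathlib
import Cfsg.Agent.Lib.helper3.S5956.Defs
import Cfsg.Agent.Lib.Helper19.S5956T3core
import Cfsg.Agent.Lib.Helper27.S5956T1
import Cfsg.Agent.Lib.Helper27.S5956T2

set_option autoImplicit false

/-! S5956 row T3 (TWOSUFF), verbatim wrapper (helper19): core in `S5956T3core`, T1 / T2 by helper27. -/

namespace Cfsg.Agent.Lib.helper3.S5956

open Polynomial Module
open Cfsg.Agent.Lib.Helper13.S5955 Cfsg.Agent.Lib.Helper24

/-- T3 [M] TWOSUFF: sufficiency for `r = 2 ≠ p` in matrix form. -/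
theorem two_suff_nd {F : Type*} [Field F] (h2 : (2 : F) ≠ 0) (d m : ℕ) (hd : 1 ≤ d)
    (hme : Even m) (hmd : m ≤ 2 * d)
    (x : ↥(Matrix.symplecticGroup (Fin d) F)) (z : F)
    (hx : ((x ^ 2 : ↥(Matrix.symplecticGroup (Fin d) F)) :
      Matrix (Fin d ⊕ Fin d) (Fin d ⊕ Fin d) F) = z • (1 : Matrix (Fin d ⊕ Fin d) (Fin d ⊕ Fin d) F)) :
    ∃ W : Submodule F (Fin d ⊕ Fin d → F), Module.finrank F ↥W = m ∧
      (∀ u ∈ W, u ≠ 0 → ∃ v ∈ W, Cfsg.sympForm d F u v ≠ 0) ∧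
      W.map (Matrix.toLin' (x : Matrix (Fin d ⊕ Fin d) (Fin d ⊕ Fin d) F)) ≤ W := by
  have hV : finrank F (Fin d ⊕ Fin d → F) = 2 * d := by
    rw [Module.finrank_fintype_fun_eq_card, Fintype.card_sum, Fintype.card_fin]; ring
  exact s5956t3_core d m hd (fun y hy => invol_nd h2 hy d m hV hme hmd)
    (fun y hy hyy => sqneg_nd h2 hy hyy d m hV hme hmd) x z hx

end Cfsg.Agent.Lib.helper3.S5956
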