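import Mathlib
import Cfsg.Agent.S2530

set_option autoImplicit false

namespace Cfsg.Agent.Lib.Helper19.S6Out

open Equiv Equiv.Perm

/-- the five synthemes which are the images of the adjacent transpositions -/
def tgen : Fin 5 → Perm (Fin 6) :=
  ![swap 0 1 * swap 2 3 * swap 4 5, swap 0 2 * swap 1 4 * swap 3 5,
    swap 0 1 * swap 2 5 * swap 3 4, swap 0 2 * swap 1 3 * swap 4 5,
    swap 0 1 * swap 2 4 * swap 3 5]

theorem tgen_liftable : (CoxeterMatrix.A 5).IsLiftable tgen := by
  intro i j
  rw [Cfsg.Agent.S2530.A_apply]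
  revert i j
  decide

/-- the Coxeter-group isomorphism -/
noncomputable def coxEquiv : (CoxeterMatrix.A 5).Group ≃* Perm (Fin 6) :=
  MulEquiv.ofBijective (Cfsg.Agent.S2530.fhom 5) (Cfsg.Agent.S2530.fhom_bijective 5)

/-- the exotic endomorphism of `S_6` -/
noncomputable def outHom : Perm (Fin 6) →* Perm (Fin 6) :=
  ((CoxeterMatrix.A 5).toCoxeterSystem.lift ⟨tgen, tgen_liftable⟩).comp coxEquiv.symm.toMonoidHom

theorem outHom_swap (i : Fin 5) : outHom (swap i.castSucc i.succ) = tgen i := by
  have h : coxEquiv.symm (swap i.castSucc i.succ) = (CoxeterMatrix.A 5).simple i := by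
    rw [MulEquiv.symm_apply_eq]
    exact (Cfsg.Agent.S2530.fhom_simple 5 i).symm
  show ((CoxeterMatrix.A 5).toCoxeterSystem.lift ⟨tgen, tgen_liftable⟩)
    (coxEquiv.symm (swap i.castSucc i.succ)) = tgen i
  rw [h]
  exact CoxeterSystem.lift_apply_simple _ _ i

theorem outHom_injective : Function.Injective outHom := by
  rw [← MonoidHom.ker_eq_bot_iff]
  by_contra hne
  have hnt : Nontrivial outHom.ker := by
    rw [Subgroup.nontrivial_iff_ne_bot]; exact hne
  have hle : alternatingGroup (Fin 6) ≤ outHom.ker :=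
    Equiv.Perm.alternatingGroup_le_of_normal (by simp) hnt
  have hmem : (swap (0 : Fin 6) 1 * swap 1 2) ∈ alternatingGroup (Fin 6) := by
    rw [Equiv.Perm.mem_alternatingGroup]; decide
  have h1 := hle hmem
  rw [MonoidHom.mem_ker, map_mul] at h1
  have e0 : outHom (swap (0 : Fin 6) 1) = tgen 0 := outHom_swap 0
  have e1 : outHom (swap (1 : Fin 6) 2) = tgen 1 := outHom_swap 1
  rw [e0, e1] at h1
  revert h1
  decide

theorem outHom_bijective : Function.Bijective outHom :=
  (Finite.injective_iff_bijective).1 outHom_injective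

/-- the exotic automorphism of `S_6` -/
noncomputable def outEquiv : Perm (Fin 6) ≃* Perm (Fin 6) :=
  MulEquiv.ofBijective outHom outHom_bijective

theorem outEquiv_swap (i : Fin 5) : outEquiv (swap i.castSucc i.succ) = tgen i := outHom_swap i

end Cfsg.Agent.Lib.Helper19.S6Out
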