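import Mathlib
import Cfsg.Agent.Lib.Helper19.S6Out

set_option autoImplicit false

namespace Cfsg.Agent.Lib.Helper19.S6Idx

open Equiv Equiv.Perm Cfsg.Agent.Lib.Helper19.S6Out

theorem card_perm6 : Nat.card (Perm (Fin 6)) = 720 := by
  rw [Nat.card_eq_fintype_card, Fintype.card_perm, Fintype.card_fin]; rfl

theorem card_of_index6 (H : Subgroup (Perm (Fin 6))) (hH : H.index = 6) : Nat.card H = 120 := by
  have := H.card_mul_index
  rw [hH, card_perm6] at this
  omega

/-- an element of order 5 in `S_6` is a 5-cycle -/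
theorem five_cycle (σ : Perm (Fin 6)) (h5 : orderOf σ = 5) :
    σ.IsCycle ∧ σ.support.card = 5 := by
  have hp : (orderOf σ).Prime := by rw [h5]; norm_num
  obtain ⟨n, hn⟩ := Equiv.Perm.cycleType_prime_order hp
  rw [h5] at hn
  have hsum : σ.cycleType.sum = σ.support.card := Equiv.Perm.sum_cycleType σ
  have hle : σ.support.card ≤ 6 := by
    have := Finset.card_le_univ σ.support
    simpa using this
  rw [hn, Multiset.sum_replicate, smul_eq_mul] at hsum
  have hn0 : n = 0 := by omega
  subst hn0
  refine ⟨?_, by omega⟩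
  rw [← Equiv.Perm.card_cycleType_eq_one, hn]
  simp

theorem stab_of_swap_mem (H : Subgroup (Perm (Fin 6))) (hH : H.index = 6) {a b : Fin 6}
    (hab : a ≠ b) (hs : swap a b ∈ H) :
    ∃ c : Fin 6, H = MulAction.stabilizer (Perm (Fin 6)) c := by
  have hcard := card_of_index6 H hH
  have : Fact (Nat.Prime 5) := ⟨by norm_num⟩
  obtain ⟨σ0, hσ0⟩ := exists_prime_orderOf_dvd_card' (G := H) 5 (by rw [hcard]; norm_num)
  set σ : Perm (Fin 6) := (σ0 : Perm (Fin 6)) with hσdef
  have hσH : σ ∈ H := σ0.2
  have hσ5 : orderOf σ = 5 := by rw [hσdef, Subgroup.orderOf_coe]; exact hσ0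
  obtain ⟨hcyc, hsupp⟩ := five_cycle σ hσ5
  -- the unique fixed point
  have hcompl : (σ.support)ᶜ.card = 1 := by
    rw [Finset.card_compl, hsupp]; simp
  obtain ⟨c, hc⟩ := Finset.card_eq_one.1 hcompl
  have hcfix : σ c = c := by
    have : c ∈ (σ.support)ᶜ := by rw [hc]; simp
    simpa [Equiv.Perm.mem_support] using this
  have hmoved : ∀ x, x ≠ c → σ x ≠ x := by
    intro x hx hfx
    have : x ∈ (σ.support)ᶜ := by simp [Equiv.Perm.mem_support, hfx]
    rw [hc] at this
    exact hx (by simpa using this)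
  have hzpowH : ∀ i : ℤ, σ ^ i ∈ H := fun i => H.zpow_mem hσH i
  have hzpowc : ∀ i : ℤ, (σ ^ i) c = c := by
    intro i
    exact Equiv.Perm.zpow_apply_eq_self_of_apply_eq_self hcfix i
  refine ⟨c, ?_⟩
  -- every element of H fixes c
  have hfix : ∀ h ∈ H, h c = c := by
    by_contra hcon
    push Not at hcon
    obtain ⟨h, hhH, hhc⟩ := hcon
    -- transitivity
    have htrans : ∀ x, ∃ k ∈ H, k c = x := by
      intro x
      by_cases hx : x = c
      · exact ⟨1, H.one_mem, by simp [hx]⟩
      · obtain ⟨i, hi⟩ := hcyc.exists_zpow_eq (hmoved _ hhc) (hmoved _ hx)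
        exact ⟨σ ^ i * h, H.mul_mem (hzpowH i) hhH, by simpa using hi⟩
    -- a swap through c
    obtain ⟨k, hkH, hka⟩ := htrans a
    have hswapcd : swap c (k⁻¹ b) ∈ H := by
      have h1 : swap (k⁻¹ a) (k⁻¹ b) = k⁻¹ * swap a b * k⁻¹⁻¹ := Equiv.swap_apply_apply _ _ _
      have h2 : k⁻¹ a = c := by rw [← hka]; simp
      rw [h2] at h1
      rw [h1]
      exact H.mul_mem (H.mul_mem (H.inv_mem hkH) hs) (H.inv_mem (H.inv_mem hkH))
    have hdc : k⁻¹ b ≠ c := by
      intro h
      have : b = k c := by rw [← h]; simp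
      rw [hka] at this
      exact hab this.symm
    have hstar : ∀ x, x ≠ c → swap c x ∈ H := by
      intro x hx
      obtain ⟨i, hi⟩ := hcyc.exists_zpow_eq (hmoved _ hdc) (hmoved _ hx)
      have h1 : swap ((σ ^ i) c) ((σ ^ i) (k⁻¹ b)) = σ ^ i * swap c (k⁻¹ b) * (σ ^ i)⁻¹ :=
        Equiv.swap_apply_apply _ _ _
      rw [hzpowc i, hi] at h1
      rw [h1]
      exact H.mul_mem (H.mul_mem (hzpowH i) hswapcd) (H.inv_mem (hzpowH i))
    have hall : ∀ x y, x ≠ y → swap x y ∈ H := by
      intro x y hxy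
      by_cases hx : x = c
      · subst hx; exact hstar y (Ne.symm hxy)
      by_cases hy : y = c
      · subst hy; rw [Equiv.swap_comm]; exact hstar x hx
      have h3 : swap c y * swap x c * swap c y = swap y x :=
        Equiv.swap_mul_swap_mul_swap hx hxy
      rw [Equiv.swap_comm x y, ← h3]
      have hxc : swap x c ∈ H := by rw [Equiv.swap_comm]; exact hstar x hx
      exact H.mul_mem (H.mul_mem (hstar y hy) hxc) (hstar y hy)
    have htop : H = ⊤ := by
      rw [eq_top_iff, ← Equiv.Perm.closure_isSwap, Subgroup.closure_le]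
      rintro g ⟨x, y, hxy, rfl⟩
      exact hall x y hxy
    rw [htop, Subgroup.index_top] at hH
    omega
  have hle : H ≤ MulAction.stabilizer (Perm (Fin 6)) c := by
    intro h hh
    rw [MulAction.mem_stabilizer_iff]
    exact hfix h hh
  have hstabcard : Nat.card (MulAction.stabilizer (Perm (Fin 6)) c) = 120 := by
    have h1 := (MulAction.stabilizer (Perm (Fin 6)) c).card_mul_index
    have h2 : MulAction.orbit (Perm (Fin 6)) c = Set.univ := by
      ext x
      simp only [Set.mem_univ, iff_true]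
      exact ⟨swap c x, by simp⟩
    rw [MulAction.index_stabilizer, h2, Set.ncard_univ, card_perm6] at h1
    simp only [Nat.card_eq_fintype_card, Fintype.card_fin] at h1
    rw [Nat.card_eq_fintype_card]
    omega
  exact Subgroup.eq_of_le_of_card_ge hle (by rw [hstabcard, hcard])

theorem cycleType_of_centralizer48 (g : Perm (Fin 6)) (h2 : orderOf g = 2)
    (hc : Nat.card (Subgroup.centralizer {g}) = 48) :
    g.cycleType = {2} ∨ g.cycleType = {2, 2, 2} := by
  have hp : (orderOf g).Prime := by rw [h2]; norm_num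
  obtain ⟨n, hn⟩ := Equiv.Perm.cycleType_prime_order hp
  rw [h2] at hn
  have hsum : g.cycleType.sum = g.support.card := Equiv.Perm.sum_cycleType g
  have hle : g.support.card ≤ 6 := by
    have := Finset.card_le_univ g.support
    simpa using this
  rw [hn, Multiset.sum_replicate, smul_eq_mul] at hsum
  have hn3 : n = 0 ∨ n = 1 ∨ n = 2 := by omega
  rcases hn3 with h | h | h
  · left; rw [hn, h]; rfl
  · exfalso
    have hf := Equiv.Perm.nat_card_centralizer g
    rw [hc, hn, h] at hf
    revert hf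
    decide
  · right; rw [hn, h]; rfl

theorem card_centralizer_swap {Y : Type*} [Fintype Y] [DecidableEq Y] (hY : Fintype.card Y = 6)
    {y1 y2 : Y} (h12 : y1 ≠ y2) :
    Nat.card (Subgroup.centralizer {swap y1 y2}) = 48 := by
  rw [Equiv.Perm.nat_card_centralizer, hY]
  have hct : (swap y1 y2).cycleType = {2} := by
    rw [(Equiv.Perm.isCycle_swap h12).cycleType, Equiv.Perm.card_support_swap h12]
  rw [hct]
  decide

theorem exists_special_involution (H : Subgroup (Perm (Fin 6))) (hH : H.index = 6) :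
    ∃ g ∈ H, orderOf g = 2 ∧ Nat.card (Subgroup.centralizer {g}) = 48 := by
  classical
  have hcard := card_of_index6 H hH
  set φ : Perm (Fin 6) →* Perm (Perm (Fin 6) ⧸ H) := MulAction.toPermHom _ _ with hφ
  have hYcard : Nat.card (Perm (Fin 6) ⧸ H) = 6 := by rw [← Subgroup.index_eq_card, hH]
  have : Finite (Perm (Fin 6) ⧸ H) := Nat.finite_of_card_ne_zero (by rw [hYcard]; norm_num)
  letI : Fintype (Perm (Fin 6) ⧸ H) := Fintype.ofFinite _
  have hYcard' : Fintype.card (Perm (Fin 6) ⧸ H) = 6 := by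
    rw [← Nat.card_eq_fintype_card]; exact hYcard
  -- injectivity
  have hker : φ.ker = ⊥ := by
    by_contra hne
    have hnt : Nontrivial φ.ker := by
      rw [Subgroup.nontrivial_iff_ne_bot]; exact hne
    have hle : alternatingGroup (Fin 6) ≤ φ.ker :=
      Equiv.Perm.alternatingGroup_le_of_normal (by simp) hnt
    have hle2 : φ.ker ≤ H := by
      rw [hφ, ← Subgroup.normalCore_eq_ker]; exact Subgroup.normalCore_le H
    have h360 : Nat.card (alternatingGroup (Fin 6)) = 360 := by
      rw [nat_card_alternatingGroup]; simp; rfl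
    have := Subgroup.card_le_of_le (hle.trans hle2)
    rw [h360, hcard] at this
    omega
  have hinj : Function.Injective φ := (MonoidHom.ker_eq_bot_iff φ).1 hker
  have hbij : Function.Bijective φ := by
    apply hinj.bijective_of_nat_card_le
    rw [Nat.card_perm, hYcard, card_perm6]; rfl
  -- three distinct cosets
  set y0 : Perm (Fin 6) ⧸ H := QuotientGroup.mk 1 with hy0
  have hex : ∃ y1 y2 : Perm (Fin 6) ⧸ H, y1 ≠ y0 ∧ y2 ≠ y0 ∧ y1 ≠ y2 := by
    have h2 : 2 < Fintype.card (Perm (Fin 6) ⧸ H) := by rw [hYcard']; norm_num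
    obtain ⟨a, b, c, hab, hac, hbc⟩ := Fintype.two_lt_card_iff.1 h2
    by_cases ha : a = y0
    · exact ⟨b, c, fun h => hab (ha.trans h.symm), fun h => hac (ha.trans h.symm), hbc⟩
    · by_cases hb : b = y0
      · exact ⟨a, c, ha, fun h => hbc (hb.trans h.symm), hac⟩
      · exact ⟨a, b, ha, hb, hab⟩
  obtain ⟨y1, y2, h10, h20, h12⟩ := hex
  obtain ⟨g, hg⟩ := hbij.2 (swap y1 y2)
  refine ⟨g, ?_, ?_, ?_⟩
  · have h1 : (φ g) y0 = y0 := by
      rw [hg]; exact Equiv.swap_apply_of_ne_of_ne h10.symm h20.symm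
    have h2 : (φ g) y0 = QuotientGroup.mk g := by
      rw [hφ, hy0]
      show g • (QuotientGroup.mk 1 : Perm (Fin 6) ⧸ H) = _
      rw [MulAction.Quotient.smul_mk]
      simp
    rw [h2, hy0, QuotientGroup.eq] at h1
    simpa using H.inv_mem h1
  · rw [← orderOf_injective φ hinj g, hg]
    exact (Equiv.Perm.IsSwap.orderOf ⟨y1, y2, h12, rfl⟩)
  · have hmap : (Subgroup.centralizer {g}).map φ = Subgroup.centralizer {swap y1 y2} := by
      ext x
      constructor
      · rintro ⟨z, hz, rfl⟩
        have hz' : z ∈ Subgroup.centralizer {g} := hz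
        rw [Subgroup.mem_centralizer_singleton_iff] at hz' ⊢
        rw [← hg, ← map_mul, ← map_mul, hz']
      · intro hx
        obtain ⟨z, rfl⟩ := hbij.2 x
        refine ⟨z, ?_, rfl⟩
        rw [Subgroup.mem_centralizer_singleton_iff] at hx
        show z ∈ Subgroup.centralizer {g}
        rw [Subgroup.mem_centralizer_singleton_iff]
        apply hinj
        rw [map_mul, map_mul, hg]
        exact hx
    rw [← Subgroup.card_map_of_injective hinj, hmap]
    exact card_centralizer_swap hYcard' h12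

theorem outEquiv_swap01 : outEquiv (swap (0 : Fin 6) 1) = tgen 0 := outEquiv_swap 0

theorem cycleType_tgen0 : (tgen 0).cycleType = {2, 2, 2} := by
  have e : tgen 0 = swap (0 : Fin 6) 1 * swap 2 3 * swap 4 5 := rfl
  have d1 : Equiv.Perm.Disjoint (swap (0 : Fin 6) 1) (swap 2 3) := by
    unfold Equiv.Perm.Disjoint; decide
  have d2 : Equiv.Perm.Disjoint (swap (0 : Fin 6) 1 * swap 2 3) (swap 4 5) := by
    unfold Equiv.Perm.Disjoint; decide
  have c1 : (swap (0 : Fin 6) 1).cycleType = {2} := by
    rw [(Equiv.Perm.isCycle_swap (by decide)).cycleType, Equiv.Perm.card_support_swap (by decide)]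
  have c2 : (swap (2 : Fin 6) 3).cycleType = {2} := by
    rw [(Equiv.Perm.isCycle_swap (by decide)).cycleType, Equiv.Perm.card_support_swap (by decide)]
  have c3 : (swap (4 : Fin 6) 5).cycleType = {2} := by
    rw [(Equiv.Perm.isCycle_swap (by decide)).cycleType, Equiv.Perm.card_support_swap (by decide)]
  rw [e, Equiv.Perm.Disjoint.cycleType_mul d2, Equiv.Perm.Disjoint.cycleType_mul d1, c1, c2, c3]
  rfl

theorem index6_classification (H : Subgroup (Perm (Fin 6))) (hH : H.index = 6) :
    ∃ c : Fin 6, H = MulAction.stabilizer (Perm (Fin 6)) c ∨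
      H = (MulAction.stabilizer (Perm (Fin 6)) c).map outEquiv.toMonoidHom := by
  obtain ⟨g, hgH, hg2, hgc⟩ := exists_special_involution H hH
  rcases cycleType_of_centralizer48 g hg2 hgc with hct | hct
  · -- g is a swap
    have hsw : g.IsSwap := by
      rw [← Equiv.Perm.card_support_eq_two, ← Equiv.Perm.sum_cycleType, hct]; rfl
    obtain ⟨a, b, hab, rfl⟩ := hsw
    obtain ⟨c, hc⟩ := stab_of_swap_mem H hH hab hgH
    exact ⟨c, Or.inl hc⟩
  · -- g is conjugate to tgen 0
    have hconj : IsConj (tgen 0) g := by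
      rw [Equiv.Perm.isConj_iff_cycleType_eq, cycleType_tgen0, hct]
    obtain ⟨x, hx⟩ := isConj_iff.1 hconj
    set H' : Subgroup (Perm (Fin 6)) := H.comap outEquiv.toMonoidHom with hH'
    have hsurj : Function.Surjective outEquiv.toMonoidHom := outEquiv.surjective
    have hidx : H'.index = 6 := by
      rw [hH', Subgroup.index_comap_of_surjective H hsurj, hH]
    set y : Perm (Fin 6) := outEquiv.symm x with hy
    have hmem : swap (y 0) (y 1) ∈ H' := by
      rw [hH', Subgroup.mem_comap, Equiv.swap_apply_apply]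
      show outEquiv (y * swap 0 1 * y⁻¹) ∈ H
      rw [map_mul, map_mul, map_inv, outEquiv_swap01, hy, MulEquiv.apply_symm_apply, hx]
      exact hgH
    have hne : y 0 ≠ y 1 := by
      intro h
      exact absurd (y.injective h) (by decide)
    obtain ⟨c, hc⟩ := stab_of_swap_mem H' hidx hne hmem
    refine ⟨c, Or.inr ?_⟩
    rw [← hc, hH', Subgroup.map_comap_eq_self_of_surjective hsurj]

theorem index_stab (c : Fin 6) : (MulAction.stabilizer (Perm (Fin 6)) c).index = 6 := by
  have h2 : MulAction.orbit (Perm (Fin 6)) c = Set.univ := by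
    ext x
    simp only [Set.mem_univ, iff_true]
    exact ⟨swap c x, by simp⟩
  rw [MulAction.index_stabilizer, h2, Set.ncard_univ]
  simp

theorem card_stab (c : Fin 6) : Nat.card (MulAction.stabilizer (Perm (Fin 6)) c) = 120 :=
  card_of_index6 _ (index_stab c)

/-- the point stabiliser is `S_5` -/
theorem stab_equiv (c : Fin 6) :
    Nonempty (MulAction.stabilizer (Perm (Fin 6)) c ≃* Perm (Fin 5)) := by
  classical
  set f : Perm {x : Fin 6 // x ≠ c} →* Perm (Fin 6) := Equiv.Perm.ofSubtype with hf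
  have hinj : Function.Injective f := Equiv.Perm.ofSubtype_injective
  have hcard5 : Fintype.card {x : Fin 6 // x ≠ c} = 5 := by
    rw [Fintype.card_subtype_compl]; simp
  have hle : f.range ≤ MulAction.stabilizer (Perm (Fin 6)) c := by
    rintro _ ⟨g, rfl⟩
    rw [MulAction.mem_stabilizer_iff]
    show (Equiv.Perm.ofSubtype g) c = c
    exact Equiv.Perm.ofSubtype_apply_of_not_mem g (by simp)
  have hrc : Nat.card f.range = 120 := by
    rw [← Nat.card_congr (MonoidHom.ofInjective hinj).toEquiv, Nat.card_perm,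
      Nat.card_eq_fintype_card, hcard5]
    rfl
  have heq : f.range = MulAction.stabilizer (Perm (Fin 6)) c :=
    Subgroup.eq_of_le_of_card_ge hle (by rw [hrc, card_stab])
  have e1 : Perm {x : Fin 6 // x ≠ c} ≃* f.range := MonoidHom.ofInjective hinj
  have e2 : f.range ≃* MulAction.stabilizer (Perm (Fin 6)) c := MulEquiv.subgroupCongr heq
  have e3 : Perm {x : Fin 6 // x ≠ c} ≃* Perm (Fin 5) :=
    (Fintype.equivFinOfCardEq hcard5).permCongrHom
  exact ⟨(e2.symm.trans e1.symm).trans e3⟩

/-- the twelve subgroups of index 6 -/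
noncomputable def fam (p : Bool × Fin 6) : Subgroup (Perm (Fin 6)) :=
  if p.1 then (MulAction.stabilizer (Perm (Fin 6)) p.2).map outEquiv.toMonoidHom
  else MulAction.stabilizer (Perm (Fin 6)) p.2

theorem fam_index (p : Bool × Fin 6) : (fam p).index = 6 := by
  obtain ⟨b, c⟩ := p
  cases b
  · exact index_stab c
  · show ((MulAction.stabilizer (Perm (Fin 6)) c).map outEquiv.toMonoidHom).index = 6
    exact (Subgroup.index_map_equiv _ outEquiv).trans (index_stab c)

theorem fam_equiv (p : Bool × Fin 6) : Nonempty (fam p ≃* Perm (Fin 5)) := by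
  obtain ⟨b, c⟩ := p
  cases b
  · exact stab_equiv c
  · obtain ⟨e⟩ := stab_equiv c
    have e' : MulAction.stabilizer (Perm (Fin 6)) c ≃*
        (MulAction.stabilizer (Perm (Fin 6)) c).map outEquiv.toMonoidHom :=
      Subgroup.equivMapOfInjective _ _ outEquiv.injective
    exact ⟨e'.symm.trans e⟩

theorem tgen_no_fix : ∀ (i : Fin 5) (c : Fin 6), (tgen i) c ≠ c := by decide

theorem exists_adj_swap_fix : ∀ c : Fin 6, ∃ i : Fin 5, (swap i.castSucc i.succ) c = c := by
  decide

theorem stab_ne_map (c c' : Fin 6) : MulAction.stabilizer (Perm (Fin 6)) c ≠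
    (MulAction.stabilizer (Perm (Fin 6)) c').map outEquiv.toMonoidHom := by
  intro h
  obtain ⟨i, hi⟩ := exists_adj_swap_fix c'
  have hmem : tgen i ∈ (MulAction.stabilizer (Perm (Fin 6)) c').map outEquiv.toMonoidHom :=
    ⟨swap i.castSucc i.succ, by rw [SetLike.mem_coe, MulAction.mem_stabilizer_iff]; exact hi,
      outEquiv_swap i⟩
  rw [← h, MulAction.mem_stabilizer_iff] at hmem
  exact tgen_no_fix i c hmem

theorem stab_injective : Function.Injective
    (fun c : Fin 6 => MulAction.stabilizer (Perm (Fin 6)) c) := by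
  intro c c' h
  by_contra hne
  have hex : ∀ c c' : Fin 6, c ≠ c' → ∃ d : Fin 6, d ≠ c ∧ d ≠ c' := by decide
  obtain ⟨d, hdc, hdc'⟩ := hex c c' hne
  have h1 : swap c' d ∈ MulAction.stabilizer (Perm (Fin 6)) c := by
    rw [MulAction.mem_stabilizer_iff]
    exact Equiv.swap_apply_of_ne_of_ne hne hdc.symm
  have h1' : swap c' d ∈ MulAction.stabilizer (Perm (Fin 6)) c' := by
    have h' : MulAction.stabilizer (Perm (Fin 6)) c = MulAction.stabilizer (Perm (Fin 6)) c' := h
    rw [← h']; exact h1
  rw [MulAction.mem_stabilizer_iff] at h1'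
  have : (swap c' d) c' = d := Equiv.swap_apply_left _ _
  rw [Perm.smul_def, this] at h1'
  exact hdc' h1'

theorem fam_injective : Function.Injective fam := by
  rintro ⟨b, c⟩ ⟨b', c'⟩ h
  cases b <;> cases b'
  · have : c = c' := stab_injective h
    rw [this]
  · exact absurd h (stab_ne_map c c')
  · exact absurd h.symm (stab_ne_map c' c)
  · have h' : (MulAction.stabilizer (Perm (Fin 6)) c).map outEquiv.toMonoidHom =
        (MulAction.stabilizer (Perm (Fin 6)) c').map outEquiv.toMonoidHom := h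
    have : c = c' := stab_injective (Subgroup.map_injective outEquiv.injective h')
    rw [this]

theorem fam_surjective (H : Subgroup (Perm (Fin 6))) (hH : H.index = 6) : ∃ p, fam p = H := by
  obtain ⟨c, hc | hc⟩ := index6_classification H hH
  · exact ⟨(false, c), hc.symm⟩
  · exact ⟨(true, c), hc.symm⟩

theorem card_index6 : Nat.card {H : Subgroup (Perm (Fin 6)) // H.index = 6} = 12 := by
  have e : (Bool × Fin 6) ≃ {H : Subgroup (Perm (Fin 6)) // H.index = 6} :=
    Equiv.ofBijective (fun p => ⟨fam p, fam_index p⟩)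
      ⟨fun p q h => fam_injective (Subtype.ext_iff.1 h),
       fun ⟨H, hH⟩ => by
        obtain ⟨p, hp⟩ := fam_surjective H hH
        exact ⟨p, Subtype.ext hp⟩⟩
  rw [← Nat.card_congr e]
  simp

end Cfsg.Agent.Lib.Helper19.S6Idx
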