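import Mathlib
import Cfsg.Agent.Lib.Helper19.S6Idx

set_option autoImplicit false

namespace Cfsg.Agent.Lib.Helper19.S6Conj

open Equiv Equiv.Perm Cfsg.Agent.Lib.Helper19.S6Out Cfsg.Agent.Lib.Helper19.S6Idx

/-- the two-class property -/
def TwoClasses (G : Type*) [Group G] : Prop :=
  ∃ H₁ H₂ : Subgroup G, H₁.index = 6 ∧ H₂.index = 6 ∧
    (¬ ∃ g : G, Subgroup.map (MulAut.conj g).toMonoidHom H₁ = H₂) ∧
    ∀ H : Subgroup G, H.index = 6 →
      ∃ g : G, Subgroup.map (MulAut.conj g).toMonoidHom H₁ = H ∨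
        Subgroup.map (MulAut.conj g).toMonoidHom H₂ = H

theorem map_conj_comap {G G' : Type*} [Group G] [Group G'] (E : G ≃* G') (g : G)
    (K : Subgroup G') :
    Subgroup.map (MulAut.conj g).toMonoidHom (K.comap E.toMonoidHom) =
      (Subgroup.map (MulAut.conj (E g)).toMonoidHom K).comap E.toMonoidHom := by
  ext x
  simp only [Subgroup.mem_map, Subgroup.mem_comap, MulEquiv.coe_toMonoidHom, MulAut.conj_apply]
  constructor
  · rintro ⟨y, hy, rfl⟩
    exact ⟨E y, hy, by simp⟩
  · rintro ⟨k, hk, hkx⟩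
    refine ⟨E.symm k, by simpa using hk, ?_⟩
    apply E.injective
    simp [hkx]

theorem twoClasses_of_equiv {G G' : Type*} [Group G] [Group G'] (E : G ≃* G')
    (h : TwoClasses G') : TwoClasses G := by
  obtain ⟨H₁, H₂, h1, h2, hnc, hall⟩ := h
  have hsurj : Function.Surjective E.toMonoidHom := E.surjective
  refine ⟨H₁.comap E.toMonoidHom, H₂.comap E.toMonoidHom, ?_, ?_, ?_, ?_⟩
  · rw [Subgroup.index_comap_of_surjective _ hsurj, h1]
  · rw [Subgroup.index_comap_of_surjective _ hsurj, h2]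
  · rintro ⟨g, hg⟩
    apply hnc
    refine ⟨E g, ?_⟩
    rw [map_conj_comap] at hg
    exact Subgroup.comap_injective hsurj hg
  · intro H hH
    have hH' : (H.map E.toMonoidHom).index = 6 := by
      rw [← hH]; exact Subgroup.index_map_equiv H E
    obtain ⟨g', hg'⟩ := hall _ hH'
    obtain ⟨g, rfl⟩ := E.surjective g'
    have hback : (H.map E.toMonoidHom).comap E.toMonoidHom = H :=
      Subgroup.comap_map_eq_self_of_injective E.injective H
    refine ⟨g, ?_⟩
    rcases hg' with h | h
    · left; rw [map_conj_comap, h, hback]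
    · right; rw [map_conj_comap, h, hback]

theorem map_out_conj (k : Perm (Fin 6)) (K : Subgroup (Perm (Fin 6))) :
    (Subgroup.map (MulAut.conj k).toMonoidHom K).map outEquiv.toMonoidHom =
      Subgroup.map (MulAut.conj (outEquiv k)).toMonoidHom (K.map outEquiv.toMonoidHom) := by
  rw [Subgroup.map_map, Subgroup.map_map]
  congr 1
  ext x : 1
  simp [MulAut.conj_apply]

theorem twoClasses_fin6 : TwoClasses (Perm (Fin 6)) := by
  refine ⟨MulAction.stabilizer (Perm (Fin 6)) (0 : Fin 6),
    (MulAction.stabilizer (Perm (Fin 6)) (0 : Fin 6)).map outEquiv.toMonoidHom,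
    index_stab 0, fam_index (true, 0), ?_, ?_⟩
  · rintro ⟨g, hg⟩
    rw [← MulAction.stabilizer_smul_eq_stabilizer_map_conj] at hg
    exact stab_ne_map _ _ hg
  · intro H hH
    obtain ⟨c, hc | hc⟩ := index6_classification H hH
    · refine ⟨swap 0 c, Or.inl ?_⟩
      rw [← MulAction.stabilizer_smul_eq_stabilizer_map_conj, hc]
      congr 1
    · refine ⟨outEquiv (swap 0 c), Or.inr ?_⟩
      rw [← map_out_conj, ← MulAction.stabilizer_smul_eq_stabilizer_map_conj, hc]
      congr 2

theorem twoClasses_perm {Ω : Type*} [Fintype Ω] [DecidableEq Ω] (h6 : Fintype.card Ω = 6) :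
    TwoClasses (Perm Ω) :=
  twoClasses_of_equiv (Fintype.equivFinOfCardEq h6).permCongrHom twoClasses_fin6

end Cfsg.Agent.Lib.Helper19.S6Conj
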