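import Mathlib
import Cfsg.Agent.S0904
import Cfsg.Agent.Lib.helper8.SylowBasic
import Cfsg.Agent.Lib.helper23.OrdGen3

/-!
# Project S983, row N4400: no simple group of order 4400 = 2^4 * 5^2 * 11

`C_G(P_11) = P_11` (S0904, three primes), so `|N(P_11)| = 11 e` with `1 < e ∣ 10` and
`n_11 = 400 / e ∈ {200, 80, 40}`, none of which is `1 mod 11`.
-/

set_option autoImplicit false

namespace Cfsg.Agent.Lib.helper3.S983

open Cfsg.Agent.Lib.helper8 Cfsg.Agent.Lib.helper23

theorem no_simple_4400 {G : Type*} [Group G] [Finite G] [IsSimpleGroup G] (hG : Nat.card G = 4400) : False := by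
  have : Fact (Nat.Prime 11) := ⟨by norm_num⟩
  have hG' : Nat.card G = 11 ^ 1 * 400 := by rw [hG]; norm_num
  have hnd : ¬ 11 ∣ 400 := by norm_num
  obtain ⟨P⟩ : Nonempty (Sylow 11 G) := inferInstance
  obtain ⟨hP, hNn, _, r, hr10, hr1, hCr⟩ := og3_sylow_data 11 400 hG' hnd (by norm_num) P
  have hcen : Subgroup.centralizer ((P : Subgroup G) : Set G) = (P : Subgroup G) :=
    Cfsg.Agent.S0904.result 2 5 11 4 2 (by norm_num) (by norm_num) (by norm_num) (by norm_num)
      (by norm_num) (by rw [hG]; norm_num) P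
  rw [hcen, hP] at hCr
  have hmod := h8_nsylow_mod (G := G) 11
  have hr10' : r ∣ 10 := by simpa using hr10
  have hrle : r ≤ 10 := Nat.le_of_dvd (by norm_num) hr10'
  rw [hG, ← hCr] at hNn
  interval_cases r <;> omega

end Cfsg.Agent.Lib.helper3.S983
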