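import Mathlib
import Cfsg.Agent.Lib.helper14.SGUDefs
import Cfsg.Agent.Lib.helper6.Symp

set_option autoImplicit false
set_option linter.unusedVariables false
set_option linter.unusedSectionVars false

/-!
# Project SGU, row INVEX (helper19, second copy): an involution of `C_Sp(j0)` with fixed space of dimension `2 k`.
-/

namespace Cfsg.Agent.Lib.helper14.SGU

open Polynomial Module Cfsg.Agent.Lib.Lead.SPU Cfsg.Agent.Lib.Helper19.SPD Cfsg.Agent.Lib.helper6

variable {F : Type*} [Field F] {d : ℕ}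

/-- the signs -/
def sguinvex19_eps (F : Type*) [Field F] (d k : ℕ) (i : Fin d) : F := if (i : ℕ) < k then 1 else -1

theorem sguinvex19_eps_sq (k : ℕ) (i : Fin d) : sguinvex19_eps F d k i * sguinvex19_eps F d k i = 1 := by
  unfold sguinvex19_eps
  split_ifs <;> ring

theorem sguinvex19_card_lt (k : ℕ) (hk : k ≤ d) : Fintype.card {i : Fin d // (i : ℕ) < k} = k := by
  rw [Fintype.card_congr (Fin.castLEOrderIso hk).toEquiv.symm, Fintype.card_fin]

theorem sguinvex19_card_nlt (k : ℕ) (hk : k ≤ d) : Fintype.card {i : Fin d // ¬ (i : ℕ) < k} = d - k := by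
  rw [Fintype.card_subtype_compl, sguinvex19_card_lt k hk, Fintype.card_fin]

theorem sguinvex19_ne_iff (h2 : (2 : F) ≠ 0) (k : ℕ) (i : Fin d) :
    sguinvex19_eps F d k i - 1 ≠ 0 ↔ ¬ (i : ℕ) < k := by
  unfold sguinvex19_eps
  split_ifs with h
  · simp [h]
  · simp only [h, not_false_eq_true, iff_true]
    intro h0
    apply h2
    linear_combination -h0

/-- INVEX, second copy (EXACT statement of `inv_ex`) -/
theorem sguinvex19_inv_ex (h2 : (2 : F) ≠ 0) (c0 : F) (k : ℕ) (hk : k ≤ d) :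
    ∃ y : Matrix.GeneralLinearGroup (Fin d ⊕ Fin d) F, y ∈ Cfsg.spGL d F ∧
      (y : Matrix (Fin d ⊕ Fin d) (Fin d ⊕ Fin d) F) * (y : Matrix (Fin d ⊕ Fin d) (Fin d ⊕ Fin d) F) = 1 ∧
      (y : Matrix (Fin d ⊕ Fin d) (Fin d ⊕ Fin d) F) * j0 d c0 = j0 d c0 * (y : Matrix (Fin d ⊕ Fin d) (Fin d ⊕ Fin d) F) ∧
      finrank F (LinearMap.ker ((y : Matrix (Fin d ⊕ Fin d) (Fin d ⊕ Fin d) F).mulVecLin - LinearMap.id)) = 2 * k := by
  classical
  set E : Matrix (Fin d) (Fin d) F := Matrix.diagonal (sguinvex19_eps F d k) with hE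
  have hEE : E * E = 1 := by
    rw [hE, Matrix.diagonal_mul_diagonal]
    simp only [sguinvex19_eps_sq]
    exact Matrix.diagonal_one
  have hEt : E.transpose = E := by rw [hE, Matrix.diagonal_transpose]
  set Y : Matrix (Fin d ⊕ Fin d) (Fin d ⊕ Fin d) F := Matrix.fromBlocks E 0 0 E with hY
  have hYY : Y * Y = 1 := by
    rw [hY, Matrix.fromBlocks_multiply]
    simp only [Matrix.mul_zero, Matrix.zero_mul, add_zero, zero_add, hEE]
    exact Matrix.fromBlocks_one
  have hYd : Y = Matrix.diagonal (Sum.elim (sguinvex19_eps F d k) (sguinvex19_eps F d k)) := by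
    rw [hY, hE, Matrix.fromBlocks_diagonal]
  refine ⟨⟨Y, Y, hYY, hYY⟩, ?_, hYY, ?_, ?_⟩
  · have hmem : Y ∈ Matrix.symplecticGroup (Fin d) F := by
      rw [SymplecticGroup.mem_iff, hY, Matrix.fromBlocks_transpose, hEt, Matrix.J,
        Matrix.fromBlocks_multiply, Matrix.fromBlocks_multiply]
      simp only [Matrix.mul_zero, Matrix.zero_mul, add_zero, zero_add, Matrix.transpose_zero,
        Matrix.mul_one, Matrix.mul_neg, Matrix.neg_mul, hEE, neg_zero]
    exact (mem_symplecticGroup_iff_sympForm d Y).mp hmem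
  · show Y * j0 d c0 = j0 d c0 * Y
    rw [hY, j0, Matrix.fromBlocks_multiply, Matrix.fromBlocks_multiply]
    simp only [Matrix.mul_zero, Matrix.zero_mul, add_zero, zero_add, Matrix.mul_one,
      Matrix.one_mul, Matrix.mul_smul, Matrix.smul_mul, smul_zero]
  · show finrank F (LinearMap.ker (Y.mulVecLin - LinearMap.id)) = 2 * k
    set w' : Fin d ⊕ Fin d → F :=
      fun a => Sum.elim (sguinvex19_eps F d k) (sguinvex19_eps F d k) a - 1 with hw'
    have hlin : Y.mulVecLin - LinearMap.id = (Matrix.diagonal w').mulVecLin := by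
      rw [← Matrix.mulVecLin_one, ← Matrix.toLin'_apply', ← Matrix.toLin'_apply', ← map_sub,
        Matrix.toLin'_apply', hYd, ← Matrix.diagonal_one, Matrix.diagonal_sub]
    rw [hlin]
    have hrk : finrank F (LinearMap.range (Matrix.diagonal w').mulVecLin) =
        Fintype.card {a // w' a ≠ 0} := Matrix.rank_diagonal w'
    have hcount : Fintype.card {a // w' a ≠ 0} = 2 * (d - k) := by
      rw [Fintype.card_congr Equiv.subtypeSum, Fintype.card_sum]
      have e1 : Fintype.card {i : Fin d // w' (Sum.inl i) ≠ 0} = d - k := by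
        rw [← sguinvex19_card_nlt k hk]
        exact Fintype.card_congr (Equiv.subtypeEquivRight (fun i => sguinvex19_ne_iff h2 k i))
      have e2 : Fintype.card {i : Fin d // w' (Sum.inr i) ≠ 0} = d - k := by
        rw [← sguinvex19_card_nlt k hk]
        exact Fintype.card_congr (Equiv.subtypeEquivRight (fun i => sguinvex19_ne_iff h2 k i))
      rw [e1, e2]; ring
    have hrn := LinearMap.finrank_range_add_finrank_ker (Matrix.diagonal w').mulVecLin
    rw [hrk, hcount, Module.finrank_fintype_fun_eq_card, Fintype.card_sum, Fintype.card_fin] at hrn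
    omega

/-- INVEX (verbatim) -/
theorem inv_ex (h2 : (2 : F) ≠ 0) (c0 : F) (k : ℕ) (hk : k ≤ d) :
    ∃ y : Matrix.GeneralLinearGroup (Fin d ⊕ Fin d) F, y ∈ Cfsg.spGL d F ∧
      (y : Matrix (Fin d ⊕ Fin d) (Fin d ⊕ Fin d) F) * (y : Matrix (Fin d ⊕ Fin d) (Fin d ⊕ Fin d) F) = 1 ∧
      (y : Matrix (Fin d ⊕ Fin d) (Fin d ⊕ Fin d) F) * j0 d c0 = j0 d c0 * (y : Matrix (Fin d ⊕ Fin d) (Fin d ⊕ Fin d) F) ∧
      finrank F (LinearMap.ker ((y : Matrix (Fin d ⊕ Fin d) (Fin d ⊕ Fin d) F).mulVecLin - LinearMap.id)) = 2 * k :=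
  sguinvex19_inv_ex h2 c0 k hk

end Cfsg.Agent.Lib.helper14.SGU
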