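import Mathlib
import Cfsg.Agent.Lib.helper14.SGUDefs
import Cfsg.Agent.Lib.helper6.Symp
import Cfsg.Agent.Lib.Helper20.SGUNORM

set_option autoImplicit false
set_option linter.unusedVariables false
set_option linter.unusedSectionVars false

/-!
# Project SGU, row SQNEGEX (helper19, second copy): `y ∈ Sp`, `y² = -1`, `y j0 = - j0 y`.
-/

namespace Cfsg.Agent.Lib.helper14.SGU

open Polynomial Module Cfsg.Agent.Lib.Lead.SPU Cfsg.Agent.Lib.Helper19.SPD Cfsg.Agent.Lib.helper6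

variable {F : Type*} [Field F] {d : ℕ}

/-- scalar block matrices -/
def sgusqnegex19_sb (d : ℕ) (a b c e : F) : Matrix (Fin d ⊕ Fin d) (Fin d ⊕ Fin d) F :=
  Matrix.fromBlocks (a • (1 : Matrix (Fin d) (Fin d) F)) (b • (1 : Matrix (Fin d) (Fin d) F))
    (c • (1 : Matrix (Fin d) (Fin d) F)) (e • (1 : Matrix (Fin d) (Fin d) F))

theorem sgusqnegex19_sb_mul (a b c e a' b' c' e' : F) :
    sgusqnegex19_sb d a b c e * sgusqnegex19_sb d a' b' c' e' =
      sgusqnegex19_sb d (a * a' + b * c') (a * b' + b * e') (c * a' + e * c') (c * b' + e * e') := by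
  unfold sgusqnegex19_sb
  rw [Matrix.fromBlocks_multiply]
  simp only [Matrix.smul_mul, Matrix.mul_smul, Matrix.one_mul, smul_smul, ← add_smul]
  congr 2 <;> ring

theorem sgusqnegex19_sb_transpose (a b c e : F) :
    (sgusqnegex19_sb d a b c e).transpose = sgusqnegex19_sb d a c b e := by
  unfold sgusqnegex19_sb
  rw [Matrix.fromBlocks_transpose]
  simp only [Matrix.transpose_smul, Matrix.transpose_one]

theorem sgusqnegex19_sb_neg (a b c e : F) :
    -(sgusqnegex19_sb d a b c e) = sgusqnegex19_sb d (-a) (-b) (-c) (-e) := by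
  unfold sgusqnegex19_sb
  rw [Matrix.fromBlocks_neg]
  simp only [neg_smul]

theorem sgusqnegex19_sb_one : (1 : Matrix (Fin d ⊕ Fin d) (Fin d ⊕ Fin d) F) = sgusqnegex19_sb d 1 0 0 1 := by
  unfold sgusqnegex19_sb
  rw [one_smul, zero_smul, Matrix.fromBlocks_one]

theorem sgusqnegex19_sb_J : Matrix.J (Fin d) F = sgusqnegex19_sb d 0 (-1) 1 0 := by
  unfold sgusqnegex19_sb Matrix.J
  rw [one_smul, zero_smul, neg_smul, one_smul]

theorem sgusqnegex19_sb_j0 (c0 : F) : j0 d c0 = sgusqnegex19_sb d 0 c0 1 0 := by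
  unfold sgusqnegex19_sb j0
  rw [one_smul, zero_smul]

/-- SQNEGEX, second copy (EXACT statement of `sqneg_ex`) -/
theorem sgusqnegex19_sqneg_ex [Fintype F] (hodd : Odd (Fintype.card F)) (c0 : F) (hc : c0 ≠ 0) :
    ∃ y : Matrix.GeneralLinearGroup (Fin d ⊕ Fin d) F, y ∈ Cfsg.spGL d F ∧
      (y : Matrix (Fin d ⊕ Fin d) (Fin d ⊕ Fin d) F) * (y : Matrix (Fin d ⊕ Fin d) (Fin d ⊕ Fin d) F) = -1 ∧
      (y : Matrix (Fin d ⊕ Fin d) (Fin d ⊕ Fin d) F) * j0 d c0 = -(j0 d c0 * (y : Matrix (Fin d ⊕ Fin d) (Fin d ⊕ Fin d) F)) := by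
  obtain ⟨α, β, hαβ⟩ := norm_surj hodd c0 (-1) hc
  set Y : Matrix (Fin d ⊕ Fin d) (Fin d ⊕ Fin d) F := sgusqnegex19_sb d α (-(c0 * β)) β (-α) with hY
  have hYY : Y * Y = -1 := by
    rw [hY, sgusqnegex19_sb_mul, sgusqnegex19_sb_one, sgusqnegex19_sb_neg]
    congr 1
    · linear_combination hαβ
    · ring
    · ring
    · linear_combination hαβ
  have h1 : Y * -Y = 1 := by rw [Matrix.mul_neg, hYY, neg_neg]
  have h2 : -Y * Y = 1 := by rw [Matrix.neg_mul, hYY, neg_neg]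
  refine ⟨⟨Y, -Y, h1, h2⟩, ?_, hYY, ?_⟩
  · have hmem : Y ∈ Matrix.symplecticGroup (Fin d) F := by
      rw [SymplecticGroup.mem_iff, sgusqnegex19_sb_J, hY, sgusqnegex19_sb_transpose,
        sgusqnegex19_sb_mul, sgusqnegex19_sb_mul]
      congr 1
      · ring
      · linear_combination hαβ
      · linear_combination -hαβ
      · ring
    exact (mem_symplecticGroup_iff_sympForm d Y).mp hmem
  · show Y * j0 d c0 = -(j0 d c0 * Y)
    rw [sgusqnegex19_sb_j0, hY, sgusqnegex19_sb_mul, sgusqnegex19_sb_mul, sgusqnegex19_sb_neg]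
    congr 1 <;> ring

/-- SQNEGEX (verbatim) -/
theorem sqneg_ex [Fintype F] (hodd : Odd (Fintype.card F)) (c0 : F) (hc : c0 ≠ 0) :
    ∃ y : Matrix.GeneralLinearGroup (Fin d ⊕ Fin d) F, y ∈ Cfsg.spGL d F ∧
      (y : Matrix (Fin d ⊕ Fin d) (Fin d ⊕ Fin d) F) * (y : Matrix (Fin d ⊕ Fin d) (Fin d ⊕ Fin d) F) = -1 ∧
      (y : Matrix (Fin d ⊕ Fin d) (Fin d ⊕ Fin d) F) * j0 d c0 = -(j0 d c0 * (y : Matrix (Fin d ⊕ Fin d) (Fin d ⊕ Fin d) F)) :=
  sgusqnegex19_sqneg_ex hodd c0 hc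

end Cfsg.Agent.Lib.helper14.SGU
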