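import Mathlib
import Cfsg.Agent.Lib.helper14.SL2Sylow

set_option autoImplicit false

/-! Generated: coset-enumeration proof that the group
`⟨x, y, z | x³ = y⁵ = z² = 1, z central, (xy)² = z⟩` has at most 120 elements, and is
isomorphic to `SL(2,5)`. -/

namespace Cfsg.Agent.Lib.Helper19.SL25

/-- the relators (as in statement S3378) -/
abbrev rels5 : Set (FreeGroup (Fin 3)) :=
  {FreeGroup.of (0 : Fin 3) ^ 3, FreeGroup.of (1 : Fin 3) ^ 5, FreeGroup.of (2 : Fin 3) ^ 2,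
    (FreeGroup.of (2 : Fin 3))⁻¹ * FreeGroup.of 0 * FreeGroup.of 2 * (FreeGroup.of (0 : Fin 3))⁻¹,
    (FreeGroup.of (2 : Fin 3))⁻¹ * FreeGroup.of 1 * FreeGroup.of 2 * (FreeGroup.of (1 : Fin 3))⁻¹,
    (FreeGroup.of (0 : Fin 3) * FreeGroup.of 1) ^ 2 * (FreeGroup.of (2 : Fin 3))⁻¹}

abbrev P5 := PresentedGroup rels5

def X : P5 := PresentedGroup.of 0
def Y : P5 := PresentedGroup.of 1
def Z : P5 := PresentedGroup.of 2

lemma rel_XXX : X * X * X = 1 := by
  have h : (FreeGroup.of (0 : Fin 3) ^ 3 : FreeGroup (Fin 3)) ∈ rels5 := by simp [rels5]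
  have := PresentedGroup.one_of_mem h
  rw [map_pow] at this
  rw [← this]; simp only [pow_succ, pow_zero, one_mul]; rfl

lemma rel_YYYYY : Y * Y * Y * Y * Y = 1 := by
  have h : (FreeGroup.of (1 : Fin 3) ^ 5 : FreeGroup (Fin 3)) ∈ rels5 := by simp [rels5]
  have := PresentedGroup.one_of_mem h
  rw [map_pow] at this
  rw [← this]; simp only [pow_succ, pow_zero, one_mul]; rfl

lemma rel_ZZ : Z * Z = 1 := by
  have h : (FreeGroup.of (2 : Fin 3) ^ 2 : FreeGroup (Fin 3)) ∈ rels5 := by simp [rels5]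
  have := PresentedGroup.one_of_mem h
  rw [map_pow] at this
  rw [← this]; simp only [pow_succ, pow_zero, one_mul]; rfl

lemma comm_XZ : X * Z = Z * X := by
  have h : ((FreeGroup.of (2 : Fin 3))⁻¹ * FreeGroup.of 0 * FreeGroup.of 2 * (FreeGroup.of (0 : Fin 3))⁻¹ :
      FreeGroup (Fin 3)) ∈ rels5 := by simp [rels5]
  have h1 := PresentedGroup.one_of_mem h
  rw [map_mul, map_mul, map_mul, map_inv, map_inv] at h1
  have h2 : Z⁻¹ * X * Z * X⁻¹ = 1 := h1
  calc X * Z = Z * (Z⁻¹ * X * Z * X⁻¹) * X := by group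
    _ = Z * X := by rw [h2, mul_one]

lemma comm_YZ : Y * Z = Z * Y := by
  have h : ((FreeGroup.of (2 : Fin 3))⁻¹ * FreeGroup.of 1 * FreeGroup.of 2 * (FreeGroup.of (1 : Fin 3))⁻¹ :
      FreeGroup (Fin 3)) ∈ rels5 := by simp [rels5]
  have h1 := PresentedGroup.one_of_mem h
  rw [map_mul, map_mul, map_mul, map_inv, map_inv] at h1
  have h2 : Z⁻¹ * Y * Z * Y⁻¹ = 1 := h1
  calc Y * Z = Z * (Z⁻¹ * Y * Z * Y⁻¹) * Y := by group
    _ = Z * Y := by rw [h2, mul_one]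

lemma rel_XYXY : X * Y * X * Y = Z := by
  have h : ((FreeGroup.of (0 : Fin 3) * FreeGroup.of 1) ^ 2 * (FreeGroup.of (2 : Fin 3))⁻¹ :
      FreeGroup (Fin 3)) ∈ rels5 := by simp [rels5]
  have h1 := PresentedGroup.one_of_mem h
  rw [map_mul, map_pow, map_mul, map_inv] at h1
  have h2 : (X * Y) ^ 2 * Z⁻¹ = 1 := h1
  calc X * Y * X * Y = ((X * Y) ^ 2 * Z⁻¹) * Z := by rw [sq]; group
    _ = Z := by rw [h2, one_mul]

lemma rel_XZXXZ : X * Z * X * X * Z = 1 := by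
  rw [comm_XZ]
  calc Z * X * X * X * Z = Z * (X * X * X) * Z := by group
    _ = 1 := by rw [rel_XXX, mul_one, rel_ZZ]

lemma rel_YZYYYYZ : Y * Z * Y * Y * Y * Y * Z = 1 := by
  rw [comm_YZ]
  calc Z * Y * Y * Y * Y * Y * Z = Z * (Y * Y * Y * Y * Y) * Z := by group
    _ = 1 := by rw [rel_YYYYY, mul_one, rel_ZZ]

lemma rel_XYXYZ : X * Y * X * Y * Z = 1 := by
  rw [rel_XYXY, rel_ZZ]

section ded
variable {G : Type*} [Group G]

lemma rot2 {h1 h2 : G} (e : h1 * h2 = 1) : h2 * h1 = 1 := by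
  calc h2 * h1 = h1⁻¹ * (h1 * h2) * h1 := by group
    _ = 1 := by rw [e]; group

lemma ded2 {a b h1 h2 : G} (e1 : b * h2 = a) (e2 : h1 * h2 = 1) : a * h1 = b := by
  have h := rot2 e2
  rw [← e1]
  calc b * h2 * h1 = b * (h2 * h1) := by group
    _ = b := by rw [h, mul_one]

lemma rot3 {h1 h2 h3 : G} (e : h1 * h2 * h3 = 1) : h2 * h3 * h1 = 1 := by
  calc h2 * h3 * h1 = h1⁻¹ * (h1 * h2 * h3) * h1 := by group
    _ = 1 := by rw [e]; group

lemma ded3 {a b h1 h2 h3 : G} (e1 : b * h2 * h3 = a) (e2 : h1 * h2 * h3 = 1) : a * h1 = b := by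
  have h := rot3 e2
  rw [← e1]
  calc b * h2 * h3 * h1 = b * (h2 * h3 * h1) := by group
    _ = b := by rw [h, mul_one]

lemma rot4 {h1 h2 h3 h4 : G} (e : h1 * h2 * h3 * h4 = 1) : h2 * h3 * h4 * h1 = 1 := by
  calc h2 * h3 * h4 * h1 = h1⁻¹ * (h1 * h2 * h3 * h4) * h1 := by group
    _ = 1 := by rw [e]; group

lemma ded4 {a b h1 h2 h3 h4 : G} (e1 : b * h2 * h3 * h4 = a) (e2 : h1 * h2 * h3 * h4 = 1) : a * h1 = b := by
  have h := rot4 e2
  rw [← e1]
  calc b * h2 * h3 * h4 * h1 = b * (h2 * h3 * h4 * h1) := by group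
    _ = b := by rw [h, mul_one]

lemma rot5 {h1 h2 h3 h4 h5 : G} (e : h1 * h2 * h3 * h4 * h5 = 1) : h2 * h3 * h4 * h5 * h1 = 1 := by
  calc h2 * h3 * h4 * h5 * h1 = h1⁻¹ * (h1 * h2 * h3 * h4 * h5) * h1 := by group
    _ = 1 := by rw [e]; group

lemma ded5 {a b h1 h2 h3 h4 h5 : G} (e1 : b * h2 * h3 * h4 * h5 = a) (e2 : h1 * h2 * h3 * h4 * h5 = 1) : a * h1 = b := by
  have h := rot5 e2
  rw [← e1]
  calc b * h2 * h3 * h4 * h5 * h1 = b * (h2 * h3 * h4 * h5 * h1) := by group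
    _ = b := by rw [h, mul_one]

lemma rot7 {h1 h2 h3 h4 h5 h6 h7 : G} (e : h1 * h2 * h3 * h4 * h5 * h6 * h7 = 1) : h2 * h3 * h4 * h5 * h6 * h7 * h1 = 1 := by
  calc h2 * h3 * h4 * h5 * h6 * h7 * h1 = h1⁻¹ * (h1 * h2 * h3 * h4 * h5 * h6 * h7) * h1 := by group
    _ = 1 := by rw [e]; group

lemma ded7 {a b h1 h2 h3 h4 h5 h6 h7 : G} (e1 : b * h2 * h3 * h4 * h5 * h6 * h7 = a) (e2 : h1 * h2 * h3 * h4 * h5 * h6 * h7 = 1) : a * h1 = b := by
  have h := rot7 e2
  rw [← e1]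
  calc b * h2 * h3 * h4 * h5 * h6 * h7 * h1 = b * (h2 * h3 * h4 * h5 * h6 * h7 * h1) := by group
    _ = b := by rw [h, mul_one]

end ded

lemma rel_ZXXZX : Z * X * X * Z * X = 1 := rot5 rel_XZXXZ
lemma rel_XXZXZ : X * X * Z * X * Z = 1 := rot5 rel_ZXXZX
lemma rel_XZXZX : X * Z * X * Z * X = 1 := rot5 rel_XXZXZ
lemma rel_ZXZXX : Z * X * Z * X * X = 1 := rot5 rel_XZXZX
lemma rel_ZYYYYZY : Z * Y * Y * Y * Y * Z * Y = 1 := rot7 rel_YZYYYYZ
lemma rel_YYYYZYZ : Y * Y * Y * Y * Z * Y * Z = 1 := rot7 rel_ZYYYYZY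
lemma rel_YYYZYZY : Y * Y * Y * Z * Y * Z * Y = 1 := rot7 rel_YYYYZYZ
lemma rel_YYZYZYY : Y * Y * Z * Y * Z * Y * Y = 1 := rot7 rel_YYYZYZY
lemma rel_YZYZYYY : Y * Z * Y * Z * Y * Y * Y = 1 := rot7 rel_YYZYZYY
lemma rel_ZYZYYYY : Z * Y * Z * Y * Y * Y * Y = 1 := rot7 rel_YZYZYYY
lemma rel_YXYZX : Y * X * Y * Z * X = 1 := rot5 rel_XYXYZ
lemma rel_XYZXY : X * Y * Z * X * Y = 1 := rot5 rel_YXYZX
lemma rel_YZXYX : Y * Z * X * Y * X = 1 := rot5 rel_XYZXY
lemma rel_ZXYXY : Z * X * Y * X * Y = 1 := rot5 rel_YZXYX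

def w0 : P5 := 1
def w1 : P5 := w0 * X
def w2 : P5 := w0 * Y
def w3 : P5 := w0 * Z
def w4 : P5 := w1 * X
def w5 : P5 := w1 * Y
def w6 : P5 := w1 * Z
def w7 : P5 := w2 * X
def w8 : P5 := w2 * Y
def w9 : P5 := w2 * Z
def w10 : P5 := w4 * Y
def w11 : P5 := w4 * Z
def w12 : P5 := w5 * X
def w13 : P5 := w5 * Y
def w14 : P5 := w5 * Z
def w15 : P5 := w7 * X
def w16 : P5 := w7 * Z
def w17 : P5 := w8 * X
def w18 : P5 := w8 * Y
def w19 : P5 := w8 * Z
def w20 : P5 := w10 * X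
def w21 : P5 := w10 * Y
def w22 : P5 := w10 * Z
def w23 : P5 := w12 * X
def w24 : P5 := w12 * Z
def w25 : P5 := w13 * X
def w26 : P5 := w13 * Y
def w27 : P5 := w13 * Z
def w28 : P5 := w15 * Y
def w29 : P5 := w15 * Z
def w30 : P5 := w17 * X
def w31 : P5 := w17 * Z
def w32 : P5 := w18 * X
def w33 : P5 := w18 * Z
def w34 : P5 := w20 * X
def w35 : P5 := w20 * Z
def w36 : P5 := w21 * X
def w37 : P5 := w21 * Y
def w38 : P5 := w21 * Z
def w39 : P5 := w23 * Y
def w40 : P5 := w23 * Z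
def w41 : P5 := w25 * X
def w42 : P5 := w25 * Z
def w43 : P5 := w26 * X
def w44 : P5 := w26 * Z
def w45 : P5 := w28 * Y
def w46 : P5 := w28 * Z
def w47 : P5 := w30 * Y
def w48 : P5 := w30 * Z
def w49 : P5 := w32 * Z
def w50 : P5 := w34 * Y
def w51 : P5 := w34 * Z
def w52 : P5 := w36 * X
def w53 : P5 := w36 * Z
def w54 : P5 := w37 * X
def w55 : P5 := w37 * Z
def w56 : P5 := w39 * Y
def w57 : P5 := w39 * Z
def w58 : P5 := w41 * Y
def w59 : P5 := w41 * Z
def w60 : P5 := w43 * Z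
def w61 : P5 := w45 * X
def w62 : P5 := w45 * Y
def w63 : P5 := w45 * Z
def w64 : P5 := w47 * Y
def w65 : P5 := w47 * Z
def w66 : P5 := w50 * Y
def w67 : P5 := w50 * Z
def w68 : P5 := w52 * Y
def w69 : P5 := w52 * Z
def w70 : P5 := w54 * Z
def w71 : P5 := w56 * X
def w72 : P5 := w56 * Y
def w73 : P5 := w56 * Z
def w74 : P5 := w58 * Y
def w75 : P5 := w58 * Z
def w76 : P5 := w61 * X
def w77 : P5 := w61 * Z
def w78 : P5 := w62 * X
def w79 : P5 := w62 * Z
def w80 : P5 := w64 * X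
def w81 : P5 := w64 * Z
def w82 : P5 := w66 * X
def w83 : P5 := w66 * Y
def w84 : P5 := w66 * Z
def w85 : P5 := w68 * Y
def w86 : P5 := w68 * Z
def w87 : P5 := w71 * X
def w88 : P5 := w71 * Z
def w89 : P5 := w72 * X
def w90 : P5 := w72 * Z
def w91 : P5 := w74 * X
def w92 : P5 := w74 * Z
def w93 : P5 := w76 * Y
def w94 : P5 := w76 * Z
def w95 : P5 := w78 * Z
def w96 : P5 := w80 * X
def w97 : P5 := w80 * Z
def w98 : P5 := w82 * X
def w99 : P5 := w82 * Z
def w100 : P5 := w83 * X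
def w101 : P5 := w83 * Z
def w102 : P5 := w85 * X
def w103 : P5 := w85 * Z
def w104 : P5 := w87 * Y
def w105 : P5 := w87 * Z
def w106 : P5 := w89 * Z
def w107 : P5 := w91 * X
def w108 : P5 := w91 * Z
def w109 : P5 := w93 * Y
def w110 : P5 := w93 * Z
def w111 : P5 := w96 * Y
def w112 : P5 := w98 * Y
def w113 : P5 := w98 * Z
def w114 : P5 := w100 * Z
def w115 : P5 := w102 * Z
def w116 : P5 := w104 * Y
def w117 : P5 := w107 * Y
def w118 : P5 := w109 * X
def w119 : P5 := w109 * Z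

lemma e0X : w0 * X = w1 := rfl
lemma e0Y : w0 * Y = w2 := rfl
lemma e0Z : w0 * Z = w3 := rfl
lemma e1X : w1 * X = w4 := rfl
lemma e1Y : w1 * Y = w5 := rfl
lemma e1Z : w1 * Z = w6 := rfl
lemma e2X : w2 * X = w7 := rfl
lemma e2Y : w2 * Y = w8 := rfl
lemma e2Z : w2 * Z = w9 := rfl
lemma e4Y : w4 * Y = w10 := rfl
lemma e4Z : w4 * Z = w11 := rfl
lemma e5X : w5 * X = w12 := rfl
lemma e5Y : w5 * Y = w13 := rfl
lemma e5Z : w5 * Z = w14 := rfl
lemma e7X : w7 * X = w15 := rfl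
lemma e7Z : w7 * Z = w16 := rfl
lemma e8X : w8 * X = w17 := rfl
lemma e8Y : w8 * Y = w18 := rfl
lemma e8Z : w8 * Z = w19 := rfl
lemma e10X : w10 * X = w20 := rfl
lemma e10Y : w10 * Y = w21 := rfl
lemma e10Z : w10 * Z = w22 := rfl
lemma e12X : w12 * X = w23 := rfl
lemma e12Z : w12 * Z = w24 := rfl
lemma e13X : w13 * X = w25 := rfl
lemma e13Y : w13 * Y = w26 := rfl
lemma e13Z : w13 * Z = w27 := rfl
lemma e15Y : w15 * Y = w28 := rfl
lemma e15Z : w15 * Z = w29 := rfl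
lemma e17X : w17 * X = w30 := rfl
lemma e17Z : w17 * Z = w31 := rfl
lemma e18X : w18 * X = w32 := rfl
lemma e18Z : w18 * Z = w33 := rfl
lemma e20X : w20 * X = w34 := rfl
lemma e20Z : w20 * Z = w35 := rfl
lemma e21X : w21 * X = w36 := rfl
lemma e21Y : w21 * Y = w37 := rfl
lemma e21Z : w21 * Z = w38 := rfl
lemma e23Y : w23 * Y = w39 := rfl
lemma e23Z : w23 * Z = w40 := rfl
lemma e25X : w25 * X = w41 := rfl
lemma e25Z : w25 * Z = w42 := rfl
lemma e26X : w26 * X = w43 := rfl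
lemma e26Z : w26 * Z = w44 := rfl
lemma e28Y : w28 * Y = w45 := rfl
lemma e28Z : w28 * Z = w46 := rfl
lemma e30Y : w30 * Y = w47 := rfl
lemma e30Z : w30 * Z = w48 := rfl
lemma e32Z : w32 * Z = w49 := rfl
lemma e34Y : w34 * Y = w50 := rfl
lemma e34Z : w34 * Z = w51 := rfl
lemma e36X : w36 * X = w52 := rfl
lemma e36Z : w36 * Z = w53 := rfl
lemma e37X : w37 * X = w54 := rfl
lemma e37Z : w37 * Z = w55 := rfl
lemma e39Y : w39 * Y = w56 := rfl
lemma e39Z : w39 * Z = w57 := rfl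
lemma e41Y : w41 * Y = w58 := rfl
lemma e41Z : w41 * Z = w59 := rfl
lemma e43Z : w43 * Z = w60 := rfl
lemma e45X : w45 * X = w61 := rfl
lemma e45Y : w45 * Y = w62 := rfl
lemma e45Z : w45 * Z = w63 := rfl
lemma e47Y : w47 * Y = w64 := rfl
lemma e47Z : w47 * Z = w65 := rfl
lemma e50Y : w50 * Y = w66 := rfl
lemma e50Z : w50 * Z = w67 := rfl
lemma e52Y : w52 * Y = w68 := rfl
lemma e52Z : w52 * Z = w69 := rfl
lemma e54Z : w54 * Z = w70 := rfl
lemma e56X : w56 * X = w71 := rfl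
lemma e56Y : w56 * Y = w72 := rfl
lemma e56Z : w56 * Z = w73 := rfl
lemma e58Y : w58 * Y = w74 := rfl
lemma e58Z : w58 * Z = w75 := rfl
lemma e61X : w61 * X = w76 := rfl
lemma e61Z : w61 * Z = w77 := rfl
lemma e62X : w62 * X = w78 := rfl
lemma e62Z : w62 * Z = w79 := rfl
lemma e64X : w64 * X = w80 := rfl
lemma e64Z : w64 * Z = w81 := rfl
lemma e66X : w66 * X = w82 := rfl
lemma e66Y : w66 * Y = w83 := rfl
lemma e66Z : w66 * Z = w84 := rfl
lemma e68Y : w68 * Y = w85 := rfl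
lemma e68Z : w68 * Z = w86 := rfl
lemma e71X : w71 * X = w87 := rfl
lemma e71Z : w71 * Z = w88 := rfl
lemma e72X : w72 * X = w89 := rfl
lemma e72Z : w72 * Z = w90 := rfl
lemma e74X : w74 * X = w91 := rfl
lemma e74Z : w74 * Z = w92 := rfl
lemma e76Y : w76 * Y = w93 := rfl
lemma e76Z : w76 * Z = w94 := rfl
lemma e78Z : w78 * Z = w95 := rfl
lemma e80X : w80 * X = w96 := rfl
lemma e80Z : w80 * Z = w97 := rfl
lemma e82X : w82 * X = w98 := rfl
lemma e82Z : w82 * Z = w99 := rfl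
lemma e83X : w83 * X = w100 := rfl
lemma e83Z : w83 * Z = w101 := rfl
lemma e85X : w85 * X = w102 := rfl
lemma e85Z : w85 * Z = w103 := rfl
lemma e87Y : w87 * Y = w104 := rfl
lemma e87Z : w87 * Z = w105 := rfl
lemma e89Z : w89 * Z = w106 := rfl
lemma e91X : w91 * X = w107 := rfl
lemma e91Z : w91 * Z = w108 := rfl
lemma e93Y : w93 * Y = w109 := rfl
lemma e93Z : w93 * Z = w110 := rfl
lemma e96Y : w96 * Y = w111 := rfl
lemma e98Y : w98 * Y = w112 := rfl
lemma e98Z : w98 * Z = w113 := rfl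
lemma e100Z : w100 * Z = w114 := rfl
lemma e102Z : w102 * Z = w115 := rfl
lemma e104Y : w104 * Y = w116 := rfl
lemma e107Y : w107 * Y = w117 := rfl
lemma e109X : w109 * X = w118 := rfl
lemma e109Z : w109 * Z = w119 := rfl

lemma e3Z : w3 * Z = w0 := by
  have e1 : w0 * Z = w3 := by rw [e0Z]
  exact ded2 e1 rel_ZZ
lemma e4X : w4 * X = w0 := by
  have e1 : w0 * X * X = w4 := by rw [e0X, e1X]
  exact ded3 e1 rel_XXX
lemma e6Z : w6 * Z = w1 := by
  have e1 : w1 * Z = w6 := by rw [e1Z]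
  exact ded2 e1 rel_ZZ
lemma e9Z : w9 * Z = w2 := by
  have e1 : w2 * Z = w9 := by rw [e2Z]
  exact ded2 e1 rel_ZZ
lemma e11Z : w11 * Z = w4 := by
  have e1 : w4 * Z = w11 := by rw [e4Z]
  exact ded2 e1 rel_ZZ
lemma e11X : w11 * X = w3 := by
  have e1 : w3 * Z * X * X * Z = w11 := by rw [e3Z, e0X, e1X, e4Z]
  exact ded5 e1 rel_XZXXZ
lemma e12Y : w12 * Y = w3 := by
  have e1 : w3 * Z * X * Y * X = w12 := by rw [e3Z, e0X, e1Y, e5X]
  exact ded5 e1 rel_YZXYX
lemma e14Z : w14 * Z = w5 := by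
  have e1 : w5 * Z = w14 := by rw [e5Z]
  exact ded2 e1 rel_ZZ
lemma e15X : w15 * X = w2 := by
  have e1 : w2 * X * X = w15 := by rw [e2X, e7X]
  exact ded3 e1 rel_XXX
lemma e16Z : w16 * Z = w7 := by
  have e1 : w7 * Z = w16 := by rw [e7Z]
  exact ded2 e1 rel_ZZ
lemma e19Z : w19 * Z = w8 := by
  have e1 : w8 * Z = w19 := by rw [e8Z]
  exact ded2 e1 rel_ZZ
lemma e20Y : w20 * Y = w6 := by
  have e1 : w6 * Z * X * Y * X = w20 := by rw [e6Z, e1X, e4Y, e10X]
  exact ded5 e1 rel_YZXYX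
lemma e22Z : w22 * Z = w10 := by
  have e1 : w10 * Z = w22 := by rw [e10Z]
  exact ded2 e1 rel_ZZ
lemma e23X : w23 * X = w5 := by
  have e1 : w5 * X * X = w23 := by rw [e5X, e12X]
  exact ded3 e1 rel_XXX
lemma e24Z : w24 * Z = w12 := by
  have e1 : w12 * Z = w24 := by rw [e12Z]
  exact ded2 e1 rel_ZZ
lemma e27Z : w27 * Z = w13 := by
  have e1 : w13 * Z = w27 := by rw [e13Z]
  exact ded2 e1 rel_ZZ
lemma e29Z : w29 * Z = w15 := by
  have e1 : w15 * Z = w29 := by rw [e15Z]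
  exact ded2 e1 rel_ZZ
lemma e29X : w29 * X = w9 := by
  have e1 : w9 * Z * X * X * Z = w29 := by rw [e9Z, e2X, e7X, e15Z]
  exact ded5 e1 rel_XZXXZ
lemma e30X : w30 * X = w8 := by
  have e1 : w8 * X * X = w30 := by rw [e8X, e17X]
  exact ded3 e1 rel_XXX
lemma e31Z : w31 * Z = w17 := by
  have e1 : w17 * Z = w31 := by rw [e17Z]
  exact ded2 e1 rel_ZZ
lemma e33Z : w33 * Z = w18 := by
  have e1 : w18 * Z = w33 := by rw [e18Z]
  exact ded2 e1 rel_ZZ
lemma e34X : w34 * X = w10 := by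
  have e1 : w10 * X * X = w34 := by rw [e10X, e20X]
  exact ded3 e1 rel_XXX
lemma e35Z : w35 * Z = w20 := by
  have e1 : w20 * Z = w35 := by rw [e20Z]
  exact ded2 e1 rel_ZZ
lemma e38Z : w38 * Z = w21 := by
  have e1 : w21 * Z = w38 := by rw [e21Z]
  exact ded2 e1 rel_ZZ
lemma e40Z : w40 * Z = w23 := by
  have e1 : w23 * Z = w40 := by rw [e23Z]
  exact ded2 e1 rel_ZZ
lemma e40X : w40 * X = w14 := by
  have e1 : w14 * Z * X * X * Z = w40 := by rw [e14Z, e5X, e12X, e23Z]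
  exact ded5 e1 rel_XZXXZ
lemma e41X : w41 * X = w13 := by
  have e1 : w13 * X * X = w41 := by rw [e13X, e25X]
  exact ded3 e1 rel_XXX
lemma e42Z : w42 * Z = w25 := by
  have e1 : w25 * Z = w42 := by rw [e25Z]
  exact ded2 e1 rel_ZZ
lemma e44Z : w44 * Z = w26 := by
  have e1 : w26 * Z = w44 := by rw [e26Z]
  exact ded2 e1 rel_ZZ
lemma e46Z : w46 * Z = w28 := by
  have e1 : w28 * Z = w46 := by rw [e28Z]
  exact ded2 e1 rel_ZZ
lemma e48Z : w48 * Z = w30 := by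
  have e1 : w30 * Z = w48 := by rw [e30Z]
  exact ded2 e1 rel_ZZ
lemma e48X : w48 * X = w19 := by
  have e1 : w19 * Z * X * X * Z = w48 := by rw [e19Z, e8X, e17X, e30Z]
  exact ded5 e1 rel_XZXXZ
lemma e49Z : w49 * Z = w32 := by
  have e1 : w32 * Z = w49 := by rw [e32Z]
  exact ded2 e1 rel_ZZ
lemma e51Z : w51 * Z = w34 := by
  have e1 : w34 * Z = w51 := by rw [e34Z]
  exact ded2 e1 rel_ZZ
lemma e51X : w51 * X = w22 := by
  have e1 : w22 * Z * X * X * Z = w51 := by rw [e22Z, e10X, e20X, e34Z]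
  exact ded5 e1 rel_XZXXZ
lemma e52X : w52 * X = w21 := by
  have e1 : w21 * X * X = w52 := by rw [e21X, e36X]
  exact ded3 e1 rel_XXX
lemma e53Z : w53 * Z = w36 := by
  have e1 : w36 * Z = w53 := by rw [e36Z]
  exact ded2 e1 rel_ZZ
lemma e55Z : w55 * Z = w37 := by
  have e1 : w37 * Z = w55 := by rw [e37Z]
  exact ded2 e1 rel_ZZ
lemma e57Z : w57 * Z = w39 := by
  have e1 : w39 * Z = w57 := by rw [e39Z]
  exact ded2 e1 rel_ZZ
lemma e59Z : w59 * Z = w41 := by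
  have e1 : w41 * Z = w59 := by rw [e41Z]
  exact ded2 e1 rel_ZZ
lemma e59X : w59 * X = w27 := by
  have e1 : w27 * Z * X * X * Z = w59 := by rw [e27Z, e13X, e25X, e41Z]
  exact ded5 e1 rel_XZXXZ
lemma e60Z : w60 * Z = w43 := by
  have e1 : w43 * Z = w60 := by rw [e43Z]
  exact ded2 e1 rel_ZZ
lemma e63Z : w63 * Z = w45 := by
  have e1 : w45 * Z = w63 := by rw [e45Z]
  exact ded2 e1 rel_ZZ
lemma e65Z : w65 * Z = w47 := by
  have e1 : w47 * Z = w65 := by rw [e47Z]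
  exact ded2 e1 rel_ZZ
lemma e67Z : w67 * Z = w50 := by
  have e1 : w50 * Z = w67 := by rw [e50Z]
  exact ded2 e1 rel_ZZ
lemma e69Z : w69 * Z = w52 := by
  have e1 : w52 * Z = w69 := by rw [e52Z]
  exact ded2 e1 rel_ZZ
lemma e69X : w69 * X = w38 := by
  have e1 : w38 * Z * X * X * Z = w69 := by rw [e38Z, e21X, e36X, e52Z]
  exact ded5 e1 rel_XZXXZ
lemma e70Z : w70 * Z = w54 := by
  have e1 : w54 * Z = w70 := by rw [e54Z]
  exact ded2 e1 rel_ZZ
lemma e73Z : w73 * Z = w56 := by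
  have e1 : w56 * Z = w73 := by rw [e56Z]
  exact ded2 e1 rel_ZZ
lemma e75Z : w75 * Z = w58 := by
  have e1 : w58 * Z = w75 := by rw [e58Z]
  exact ded2 e1 rel_ZZ
lemma e76X : w76 * X = w45 := by
  have e1 : w45 * X * X = w76 := by rw [e45X, e61X]
  exact ded3 e1 rel_XXX
lemma e77Z : w77 * Z = w61 := by
  have e1 : w61 * Z = w77 := by rw [e61Z]
  exact ded2 e1 rel_ZZ
lemma e79Z : w79 * Z = w62 := by
  have e1 : w62 * Z = w79 := by rw [e62Z]
  exact ded2 e1 rel_ZZ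
lemma e81Z : w81 * Z = w64 := by
  have e1 : w64 * Z = w81 := by rw [e64Z]
  exact ded2 e1 rel_ZZ
lemma e84Z : w84 * Z = w66 := by
  have e1 : w66 * Z = w84 := by rw [e66Z]
  exact ded2 e1 rel_ZZ
lemma e86Z : w86 * Z = w68 := by
  have e1 : w68 * Z = w86 := by rw [e68Z]
  exact ded2 e1 rel_ZZ
lemma e87X : w87 * X = w56 := by
  have e1 : w56 * X * X = w87 := by rw [e56X, e71X]
  exact ded3 e1 rel_XXX
lemma e88Z : w88 * Z = w71 := by
  have e1 : w71 * Z = w88 := by rw [e71Z]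
  exact ded2 e1 rel_ZZ
lemma e90Z : w90 * Z = w72 := by
  have e1 : w72 * Z = w90 := by rw [e72Z]
  exact ded2 e1 rel_ZZ
lemma e92Z : w92 * Z = w74 := by
  have e1 : w74 * Z = w92 := by rw [e74Z]
  exact ded2 e1 rel_ZZ
lemma e94Z : w94 * Z = w76 := by
  have e1 : w76 * Z = w94 := by rw [e76Z]
  exact ded2 e1 rel_ZZ
lemma e94X : w94 * X = w63 := by
  have e1 : w63 * Z * X * X * Z = w94 := by rw [e63Z, e45X, e61X, e76Z]
  exact ded5 e1 rel_XZXXZ
lemma e95Z : w95 * Z = w78 := by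
  have e1 : w78 * Z = w95 := by rw [e78Z]
  exact ded2 e1 rel_ZZ
lemma e96X : w96 * X = w64 := by
  have e1 : w64 * X * X = w96 := by rw [e64X, e80X]
  exact ded3 e1 rel_XXX
lemma e97Z : w97 * Z = w80 := by
  have e1 : w80 * Z = w97 := by rw [e80Z]
  exact ded2 e1 rel_ZZ
lemma e98X : w98 * X = w66 := by
  have e1 : w66 * X * X = w98 := by rw [e66X, e82X]
  exact ded3 e1 rel_XXX
lemma e99Z : w99 * Z = w82 := by
  have e1 : w82 * Z = w99 := by rw [e82Z]
  exact ded2 e1 rel_ZZ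
lemma e101Z : w101 * Z = w83 := by
  have e1 : w83 * Z = w101 := by rw [e83Z]
  exact ded2 e1 rel_ZZ
lemma e103Z : w103 * Z = w85 := by
  have e1 : w85 * Z = w103 := by rw [e85Z]
  exact ded2 e1 rel_ZZ
lemma e105Z : w105 * Z = w87 := by
  have e1 : w87 * Z = w105 := by rw [e87Z]
  exact ded2 e1 rel_ZZ
lemma e105X : w105 * X = w73 := by
  have e1 : w73 * Z * X * X * Z = w105 := by rw [e73Z, e56X, e71X, e87Z]
  exact ded5 e1 rel_XZXXZ
lemma e106Z : w106 * Z = w89 := by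
  have e1 : w89 * Z = w106 := by rw [e89Z]
  exact ded2 e1 rel_ZZ
lemma e107X : w107 * X = w74 := by
  have e1 : w74 * X * X = w107 := by rw [e74X, e91X]
  exact ded3 e1 rel_XXX
lemma e108Z : w108 * Z = w91 := by
  have e1 : w91 * Z = w108 := by rw [e91Z]
  exact ded2 e1 rel_ZZ
lemma e110Z : w110 * Z = w93 := by
  have e1 : w93 * Z = w110 := by rw [e93Z]
  exact ded2 e1 rel_ZZ
lemma e113Z : w113 * Z = w98 := by
  have e1 : w98 * Z = w113 := by rw [e98Z]
  exact ded2 e1 rel_ZZ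
lemma e113X : w113 * X = w84 := by
  have e1 : w84 * Z * X * X * Z = w113 := by rw [e84Z, e66X, e82X, e98Z]
  exact ded5 e1 rel_XZXXZ
lemma e114Z : w114 * Z = w100 := by
  have e1 : w100 * Z = w114 := by rw [e100Z]
  exact ded2 e1 rel_ZZ
lemma e115Z : w115 * Z = w102 := by
  have e1 : w102 * Z = w115 := by rw [e102Z]
  exact ded2 e1 rel_ZZ
lemma e119Z : w119 * Z = w109 := by
  have e1 : w109 * Z = w119 := by rw [e109Z]
  exact ded2 e1 rel_ZZ
lemma e3X : w3 * X = w6 := by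
  have e1 : w6 * Z * X * X * Z = w3 := by rw [e6Z, e1X, e4X, e0Z]
  exact ded5 e1 rel_XZXXZ
lemma e6X : w6 * X = w11 := by
  have e1 : w11 * X * X = w6 := by rw [e11X, e3X]
  exact ded3 e1 rel_XXX
lemma e6Y : w6 * Y = w14 := by
  have e1 : w14 * Z * X * Y * X = w6 := by rw [e14Z, e5X, e12Y, e3X]
  exact ded5 e1 rel_YZXYX
lemma e7Y : w7 * Y = w11 := by
  have e1 : w11 * Z * X * Y * X = w7 := by rw [e11Z, e4X, e0Y, e2X]
  exact ded5 e1 rel_YZXYX
lemma e9X : w9 * X = w16 := by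
  have e1 : w16 * Z * X * X * Z = w9 := by rw [e16Z, e7X, e15X, e2Z]
  exact ded5 e1 rel_XZXXZ
lemma e11Y : w11 * Y = w22 := by
  have e1 : w22 * Z * X * Y * X = w11 := by rw [e22Z, e10X, e20Y, e6X]
  exact ded5 e1 rel_YZXYX
lemma e14X : w14 * X = w24 := by
  have e1 : w24 * Z * X * X * Z = w14 := by rw [e24Z, e12X, e23X, e5Z]
  exact ded5 e1 rel_XZXXZ
lemma e16X : w16 * X = w29 := by
  have e1 : w29 * X * X = w16 := by rw [e29X, e9X]
  exact ded3 e1 rel_XXX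
lemma e16Y : w16 * Y = w4 := by
  have e1 : w4 * X * Y * Z * X = w16 := by rw [e4X, e0Y, e2Z, e9X]
  exact ded5 e1 rel_YXYZX
lemma e17Y : w17 * Y = w29 := by
  have e1 : w29 * Z * X * Y * X = w17 := by rw [e29Z, e15X, e2Y, e8X]
  exact ded5 e1 rel_YZXYX
lemma e18Y : w18 * Y = w24 := by
  have e1 : w24 * Z * Y * Z * Y * Y * Y = w18 := by rw [e24Z, e12Y, e3Z, e0Y, e2Y, e8Y]
  exact ded7 e1 rel_YZYZYYY
lemma e19X : w19 * X = w31 := by
  have e1 : w31 * Z * X * X * Z = w19 := by rw [e31Z, e17X, e30X, e8Z]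
  exact ded5 e1 rel_XZXXZ
lemma e22X : w22 * X = w35 := by
  have e1 : w35 * Z * X * X * Z = w22 := by rw [e35Z, e20X, e34X, e10Z]
  exact ded5 e1 rel_XZXXZ
lemma e24X : w24 * X = w40 := by
  have e1 : w40 * X * X = w24 := by rw [e40X, e14X]
  exact ded3 e1 rel_XXX
lemma e24Y : w24 * Y = w0 := by
  have e1 : w0 * Y * Y * Y * Y = w24 := by rw [e0Y, e2Y, e8Y, e18Y]
  exact ded5 e1 rel_YYYYY
lemma e25Y : w25 * Y = w40 := by
  have e1 : w40 * Z * X * Y * X = w25 := by rw [e40Z, e23X, e5Y, e13X]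
  exact ded5 e1 rel_YZXYX
lemma e26Y : w26 * Y = w35 := by
  have e1 : w35 * Z * Y * Z * Y * Y * Y = w26 := by rw [e35Z, e20Y, e6Z, e1Y, e5Y, e13Y]
  exact ded7 e1 rel_YZYZYYY
lemma e27X : w27 * X = w42 := by
  have e1 : w42 * Z * X * X * Z = w27 := by rw [e42Z, e25X, e41X, e13Z]
  exact ded5 e1 rel_XZXXZ
lemma e31X : w31 * X = w48 := by
  have e1 : w48 * X * X = w31 := by rw [e48X, e19X]
  exact ded3 e1 rel_XXX
lemma e31Y : w31 * Y = w15 := by
  have e1 : w15 * X * Y * Z * X = w31 := by rw [e15X, e2Y, e8Z, e19X]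
  exact ded5 e1 rel_YXYZX
lemma e32Y : w32 * Y = w48 := by
  have e1 : w48 * Z * X * Y * X = w32 := by rw [e48Z, e30X, e8Y, e18X]
  exact ded5 e1 rel_YZXYX
lemma e33Y : w33 * Y = w12 := by
  have e1 : w12 * Z * Y * Y * Y * Y * Z = w33 := by rw [e12Z, e24Y, e0Y, e2Y, e8Y, e18Z]
  exact ded7 e1 rel_YZYYYYZ
lemma e35X : w35 * X = w51 := by
  have e1 : w51 * X * X = w35 := by rw [e51X, e22X]
  exact ded3 e1 rel_XXX
lemma e35Y : w35 * Y = w1 := by
  have e1 : w1 * Y * Y * Y * Y = w35 := by rw [e1Y, e5Y, e13Y, e26Y]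
  exact ded5 e1 rel_YYYYY
lemma e36Y : w36 * Y = w51 := by
  have e1 : w51 * Z * X * Y * X = w36 := by rw [e51Z, e34X, e10Y, e21X]
  exact ded5 e1 rel_YZXYX
lemma e37Y : w37 * Y = w16 := by
  have e1 : w16 * Y * Y * Y * Y = w37 := by rw [e16Y, e4Y, e10Y, e21Y]
  exact ded5 e1 rel_YYYYY
lemma e38X : w38 * X = w53 := by
  have e1 : w53 * Z * X * X * Z = w38 := by rw [e53Z, e36X, e52X, e21Z]
  exact ded5 e1 rel_XZXXZ
lemma e38Y : w38 * Y = w55 := by
  have e1 : w55 * Z * Y * Y * Y * Y * Z = w38 := by rw [e55Z, e37Y, e16Y, e4Y, e10Y, e21Z]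
  exact ded7 e1 rel_YZYYYYZ
lemma e39X : w39 * X = w18 := by
  have e1 : w18 * Y * Z * X * Y = w39 := by rw [e18Y, e24Z, e12X, e23Y]
  exact ded5 e1 rel_XYZXY
lemma e40Y : w40 * Y = w57 := by
  have e1 : w57 * Z * X * Y * X = w40 := by rw [e57Z, e39X, e18Y, e24X]
  exact ded5 e1 rel_YZXYX
lemma e42X : w42 * X = w59 := by
  have e1 : w59 * X * X = w42 := by rw [e59X, e27X]
  exact ded3 e1 rel_XXX
lemma e42Y : w42 * Y = w23 := by
  have e1 : w23 * X * Y * Z * X = w42 := by rw [e23X, e5Y, e13Z, e27X]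
  exact ded5 e1 rel_YXYZX
lemma e43Y : w43 * Y = w59 := by
  have e1 : w59 * Z * X * Y * X = w43 := by rw [e59Z, e41X, e13Y, e26X]
  exact ded5 e1 rel_YZXYX
lemma e44Y : w44 * Y = w20 := by
  have e1 : w20 * Z * Y * Y * Y * Y * Z = w44 := by rw [e20Z, e35Y, e1Y, e5Y, e13Y, e26Z]
  exact ded7 e1 rel_YZYYYYZ
lemma e49X : w49 * X = w57 := by
  have e1 : w57 * Z * X * X * Z = w49 := by rw [e57Z, e39X, e18X, e32Z]
  exact ded5 e1 rel_XZXXZ
lemma e50X : w50 * X = w26 := by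
  have e1 : w26 * Y * Z * X * Y = w50 := by rw [e26Y, e35Z, e20X, e34Y]
  exact ded5 e1 rel_XYZXY
lemma e51Y : w51 * Y = w67 := by
  have e1 : w67 * Z * X * Y * X = w51 := by rw [e67Z, e50X, e26Y, e35X]
  exact ded5 e1 rel_YZXYX
lemma e53X : w53 * X = w69 := by
  have e1 : w69 * X * X = w53 := by rw [e69X, e38X]
  exact ded3 e1 rel_XXX
lemma e53Y : w53 * Y = w34 := by
  have e1 : w34 * X * Y * Z * X = w53 := by rw [e34X, e10Y, e21Z, e38X]
  exact ded5 e1 rel_YXYZX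
lemma e54Y : w54 * Y = w69 := by
  have e1 : w69 * X * Y * Z * X = w54 := by rw [e69X, e38Y, e55Z, e37X]
  exact ded5 e1 rel_YXYZX
lemma e55Y : w55 * Y = w7 := by
  have e1 : w7 * Z * Y * Y * Y * Y * Z = w55 := by rw [e7Z, e16Y, e4Y, e10Y, e21Y, e37Z]
  exact ded7 e1 rel_YZYYYYZ
lemma e57X : w57 * X = w33 := by
  have e1 : w33 * Z * X * Z * X = w57 := by rw [e33Z, e18X, e32Z, e49X]
  exact ded5 e1 rel_XZXZX
lemma e60X : w60 * X = w67 := by
  have e1 : w67 * Z * X * X * Z = w60 := by rw [e67Z, e50X, e26X, e43Z]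
  exact ded5 e1 rel_XZXXZ
lemma e62Y : w62 * Y = w31 := by
  have e1 : w31 * Y * Y * Y * Y = w62 := by rw [e31Y, e15Y, e28Y, e45Y]
  exact ded5 e1 rel_YYYYY
lemma e63X : w63 * X = w77 := by
  have e1 : w77 * Z * X * X * Z = w63 := by rw [e77Z, e61X, e76X, e45Z]
  exact ded5 e1 rel_XZXXZ
lemma e63Y : w63 * Y = w79 := by
  have e1 : w79 * Z * Y * Y * Y * Y * Z = w63 := by rw [e79Z, e62Y, e31Y, e15Y, e28Y, e45Z]
  exact ded7 e1 rel_YZYYYYZ
lemma e67X : w67 * X = w44 := by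
  have e1 : w44 * Z * X * Z * X = w67 := by rw [e44Z, e26X, e43Z, e60X]
  exact ded5 e1 rel_XZXZX
lemma e72Y : w72 * Y = w42 := by
  have e1 : w42 * Y * Y * Y * Y = w72 := by rw [e42Y, e23Y, e39Y, e56Y]
  exact ded5 e1 rel_YYYYY
lemma e73X : w73 * X = w88 := by
  have e1 : w88 * Z * X * X * Z = w73 := by rw [e88Z, e71X, e87X, e56Z]
  exact ded5 e1 rel_XZXXZ
lemma e73Y : w73 * Y = w90 := by
  have e1 : w90 * Z * Y * Y * Y * Y * Z = w73 := by rw [e90Z, e72Y, e42Y, e23Y, e39Y, e56Z]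
  exact ded7 e1 rel_YZYYYYZ
lemma e77X : w77 * X = w94 := by
  have e1 : w94 * X * X = w77 := by rw [e94X, e63X]
  exact ded3 e1 rel_XXX
lemma e78Y : w78 * Y = w94 := by
  have e1 : w94 * X * Y * Z * X = w78 := by rw [e94X, e63Y, e79Z, e62X]
  exact ded5 e1 rel_YXYZX
lemma e79Y : w79 * Y = w17 := by
  have e1 : w17 * Z * Y * Y * Y * Y * Z = w79 := by rw [e17Z, e31Y, e15Y, e28Y, e45Y, e62Z]
  exact ded7 e1 rel_YZYYYYZ
lemma e81X : w81 * X = w97 := by
  have e1 : w97 * Z * X * X * Z = w81 := by rw [e97Z, e80X, e96X, e64Z]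
  exact ded5 e1 rel_XZXXZ
lemma e83Y : w83 * Y = w53 := by
  have e1 : w53 * Y * Y * Y * Y = w83 := by rw [e53Y, e34Y, e50Y, e66Y]
  exact ded5 e1 rel_YYYYY
lemma e84X : w84 * X = w99 := by
  have e1 : w99 * Z * X * X * Z = w84 := by rw [e99Z, e82X, e98X, e66Z]
  exact ded5 e1 rel_XZXXZ
lemma e84Y : w84 * Y = w101 := by
  have e1 : w101 * Z * Y * Y * Y * Y * Z = w84 := by rw [e101Z, e83Y, e53Y, e34Y, e50Y, e66Z]
  exact ded7 e1 rel_YZYYYYZ
lemma e88X : w88 * X = w105 := by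
  have e1 : w105 * X * X = w88 := by rw [e105X, e73X]
  exact ded3 e1 rel_XXX
lemma e89Y : w89 * Y = w105 := by
  have e1 : w105 * X * Y * Z * X = w89 := by rw [e105X, e73Y, e90Z, e72X]
  exact ded5 e1 rel_YXYZX
lemma e90Y : w90 * Y = w25 := by
  have e1 : w25 * Z * Y * Y * Y * Y * Z = w90 := by rw [e25Z, e42Y, e23Y, e39Y, e56Y, e72Z]
  exact ded7 e1 rel_YZYYYYZ
lemma e92X : w92 * X = w108 := by
  have e1 : w108 * Z * X * X * Z = w92 := by rw [e108Z, e91X, e107X, e74Z]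
  exact ded5 e1 rel_XZXXZ
lemma e99X : w99 * X = w113 := by
  have e1 : w113 * X * X = w99 := by rw [e113X, e84X]
  exact ded3 e1 rel_XXX
lemma e100Y : w100 * Y = w113 := by
  have e1 : w113 * X * Y * Z * X = w100 := by rw [e113X, e84Y, e101Z, e83X]
  exact ded5 e1 rel_YXYZX
lemma e101Y : w101 * Y = w36 := by
  have e1 : w36 * Z * Y * Y * Y * Y * Z = w101 := by rw [e36Z, e53Y, e34Y, e50Y, e66Y, e83Z]
  exact ded7 e1 rel_YZYYYYZ
lemma e3Y : w3 * Y = w9 := by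
  have e1 : w9 * Z * Y * Y * Y * Y * Z = w3 := by rw [e9Z, e2Y, e8Y, e18Y, e24Y, e0Z]
  exact ded7 e1 rel_YZYYYYZ
lemma e9Y : w9 * Y = w19 := by
  have e1 : w19 * Z * Y * Y * Y * Y * Z = w9 := by rw [e19Z, e8Y, e18Y, e24Y, e0Y, e2Z]
  exact ded7 e1 rel_YZYYYYZ
lemma e14Y : w14 * Y = w27 := by
  have e1 : w27 * Z * Y * Y * Y * Y * Z = w14 := by rw [e27Z, e13Y, e26Y, e35Y, e1Y, e5Z]
  exact ded7 e1 rel_YZYYYYZ
lemma e19Y : w19 * Y = w33 := by
  have e1 : w33 * Y * Y * Y * Y = w19 := by rw [e33Y, e12Y, e3Y, e9Y]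
  exact ded5 e1 rel_YYYYY
lemma e22Y : w22 * Y = w38 := by
  have e1 : w38 * Y * Y * Y * Y = w22 := by rw [e38Y, e55Y, e7Y, e11Y]
  exact ded5 e1 rel_YYYYY
lemma e27Y : w27 * Y = w44 := by
  have e1 : w44 * Y * Y * Y * Y = w27 := by rw [e44Y, e20Y, e6Y, e14Y]
  exact ded5 e1 rel_YYYYY
lemma e28X : w28 * X = w37 := by
  have e1 : w37 * Y * Z * X * Y = w28 := by rw [e37Y, e16Z, e7X, e15Y]
  exact ded5 e1 rel_XYZXY
lemma e29Y : w29 * Y = w46 := by
  have e1 : w46 * Z * Y * Y * Y * Y * Z = w29 := by rw [e46Z, e28Y, e45Y, e62Y, e31Y, e15Z]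
  exact ded7 e1 rel_YZYYYYZ
lemma e32X : w32 * X = w39 := by
  have e1 : w39 * X * X = w32 := by rw [e39X, e18X]
  exact ded3 e1 rel_XXX
lemma e33X : w33 * X = w49 := by
  have e1 : w49 * X * X = w33 := by rw [e49X, e57X]
  exact ded3 e1 rel_XXX
lemma e43X : w43 * X = w50 := by
  have e1 : w50 * X * X = w43 := by rw [e50X, e26X]
  exact ded3 e1 rel_XXX
lemma e44X : w44 * X = w60 := by
  have e1 : w60 * X * X = w44 := by rw [e60X, e67X]
  exact ded3 e1 rel_XXX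
lemma e46Y : w46 * Y = w63 := by
  have e1 : w63 * Y * Y * Y * Y = w46 := by rw [e63Y, e79Y, e17Y, e29Y]
  exact ded5 e1 rel_YYYYY
lemma e46X : w46 * X = w55 := by
  have e1 : w55 * Y * X * Y * Z = w46 := by rw [e55Y, e7X, e15Y, e28Z]
  exact ded5 e1 rel_XYXYZ
lemma e47X : w47 * X = w62 := by
  have e1 : w62 * Y * Z * X * Y = w47 := by rw [e62Y, e31Z, e17X, e30Y]
  exact ded5 e1 rel_XYZXY
lemma e48Y : w48 * Y = w65 := by
  have e1 : w65 * Z * X * Y * X = w48 := by rw [e65Z, e47X, e62Y, e31X]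
  exact ded5 e1 rel_YZXYX
lemma e49Y : w49 * Y = w30 := by
  have e1 : w30 * X * Y * Z * X = w49 := by rw [e30X, e8Y, e18Z, e33X]
  exact ded5 e1 rel_YXYZX
lemma e54X : w54 * X = w28 := by
  have e1 : w28 * X * X = w54 := by rw [e28X, e37X]
  exact ded3 e1 rel_XXX
lemma e55X : w55 * X = w70 := by
  have e1 : w70 * Z * X * X * Z = w55 := by rw [e70Z, e54X, e28X, e37Z]
  exact ded5 e1 rel_XZXXZ
lemma e57Y : w57 * Y = w73 := by
  have e1 : w73 * Y * Y * Y * Y = w57 := by rw [e73Y, e90Y, e25Y, e40Y]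
  exact ded5 e1 rel_YYYYY
lemma e58X : w58 * X = w72 := by
  have e1 : w72 * Y * Z * X * Y = w58 := by rw [e72Y, e42Z, e25X, e41Y]
  exact ded5 e1 rel_XYZXY
lemma e59Y : w59 * Y = w75 := by
  have e1 : w75 * Z * X * Y * X = w59 := by rw [e75Z, e58X, e72Y, e42X]
  exact ded5 e1 rel_YZXYX
lemma e60Y : w60 * Y = w41 := by
  have e1 : w41 * X * Y * Z * X = w60 := by rw [e41X, e13Y, e26Z, e44X]
  exact ded5 e1 rel_YXYZX
lemma e61Y : w61 * Y = w70 := by
  have e1 : w70 * Z * X * Y * X = w61 := by rw [e70Z, e54X, e28Y, e45X]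
  exact ded5 e1 rel_YZXYX
lemma e65X : w65 * X = w79 := by
  have e1 : w79 * Y * X * Y * Z = w65 := by rw [e79Y, e17X, e30Y, e47Z]
  exact ded5 e1 rel_XYXYZ
lemma e67Y : w67 * Y = w84 := by
  have e1 : w84 * Y * Y * Y * Y = w67 := by rw [e84Y, e101Y, e36Y, e51Y]
  exact ded5 e1 rel_YYYYY
lemma e68X : w68 * X = w83 := by
  have e1 : w83 * Y * Z * X * Y = w68 := by rw [e83Y, e53Z, e36X, e52Y]
  exact ded5 e1 rel_XYZXY
lemma e69Y : w69 * Y = w86 := by
  have e1 : w86 * Z * X * Y * X = w69 := by rw [e86Z, e68X, e83Y, e53X]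
  exact ded5 e1 rel_YZXYX
lemma e70X : w70 * X = w46 := by
  have e1 : w46 * X * X = w70 := by rw [e46X, e55X]
  exact ded3 e1 rel_XXX
lemma e70Y : w70 * Y = w52 := by
  have e1 : w52 * X * Y * Z * X = w70 := by rw [e52X, e21Y, e37Z, e55X]
  exact ded5 e1 rel_YXYZX
lemma e71Y : w71 * Y = w49 := by
  have e1 : w49 * X * Y * Z * X = w71 := by rw [e49X, e57Y, e73Z, e56X]
  exact ded5 e1 rel_YXYZX
lemma e75X : w75 * X = w90 := by
  have e1 : w90 * Y * X * Y * Z = w75 := by rw [e90Y, e25X, e41Y, e58Z]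
  exact ded5 e1 rel_XYXYZ
lemma e77Y : w77 * Y = w54 := by
  have e1 : w54 * X * Y * Z * X = w77 := by rw [e54X, e28Y, e45Z, e63X]
  exact ded5 e1 rel_YXYZX
lemma e78X : w78 * X = w47 := by
  have e1 : w47 * X * X = w78 := by rw [e47X, e62X]
  exact ded3 e1 rel_XXX
lemma e79X : w79 * X = w95 := by
  have e1 : w95 * Z * X * X * Z = w79 := by rw [e95Z, e78X, e47X, e62Z]
  exact ded5 e1 rel_XZXXZ
lemma e80Y : w80 * Y = w95 := by
  have e1 : w95 * Z * X * Y * X = w80 := by rw [e95Z, e78X, e47Y, e64X]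
  exact ded5 e1 rel_YZXYX
lemma e81Y : w81 * Y = w88 := by
  have e1 : w88 * Z * Y * Y * Y * Y * Z = w81 := by rw [e88Z, e71Y, e49Y, e30Y, e47Y, e64Z]
  exact ded7 e1 rel_YZYYYYZ
lemma e82Y : w82 * Y = w60 := by
  have e1 : w60 * X * Y * Z * X = w82 := by rw [e60X, e67Y, e84Z, e66X]
  exact ded5 e1 rel_YXYZX
lemma e85Y : w85 * Y = w61 := by
  have e1 : w61 * Y * Y * Y * Y = w85 := by rw [e61Y, e70Y, e52Y, e68Y]
  exact ded5 e1 rel_YYYYY
lemma e86Y : w86 * Y = w103 := by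
  have e1 : w103 * Z * Y * Y * Y * Y * Z = w86 := by rw [e103Z, e85Y, e61Y, e70Y, e52Y, e68Z]
  exact ded7 e1 rel_YZYYYYZ
lemma e86X : w86 * X = w101 := by
  have e1 : w101 * Y * X * Y * Z = w86 := by rw [e101Y, e36X, e52Y, e68Z]
  exact ded5 e1 rel_XYXYZ
lemma e88Y : w88 * Y = w32 := by
  have e1 : w32 * Y * Y * Z * Y * Z * Y = w88 := by rw [e32Y, e48Y, e65Z, e47Y, e64Z, e81Y]
  exact ded7 e1 rel_YYYZYZY
lemma e89X : w89 * X = w58 := by
  have e1 : w58 * X * X = w89 := by rw [e58X, e72X]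
  exact ded3 e1 rel_XXX
lemma e90X : w90 * X = w106 := by
  have e1 : w106 * Z * X * X * Z = w90 := by rw [e106Z, e89X, e58X, e72Z]
  exact ded5 e1 rel_XZXXZ
lemma e91Y : w91 * Y = w106 := by
  have e1 : w106 * Z * X * Y * X = w91 := by rw [e106Z, e89X, e58Y, e74X]
  exact ded5 e1 rel_YZXYX
lemma e92Y : w92 * Y = w99 := by
  have e1 : w99 * Z * Y * Y * Y * Y * Z = w92 := by rw [e99Z, e82Y, e60Y, e41Y, e58Y, e74Z]
  exact ded7 e1 rel_YZYYYYZ
lemma e95X : w95 * X = w65 := by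
  have e1 : w65 * X * X = w95 := by rw [e65X, e79X]
  exact ded3 e1 rel_XXX
lemma e95Y : w95 * Y = w76 := by
  have e1 : w76 * X * Y * Z * X = w95 := by rw [e76X, e45Y, e62Z, e79X]
  exact ded5 e1 rel_YXYZX
lemma e97Y : w97 * Y = w78 := by
  have e1 : w78 * X * Y * Z * X = w97 := by rw [e78X, e47Y, e64Z, e81X]
  exact ded5 e1 rel_YXYZX
lemma e99Y : w99 * Y = w43 := by
  have e1 : w43 * Y * Y * Z * Y * Z * Y = w99 := by rw [e43Y, e59Y, e75Z, e58Y, e74Z, e92Y]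
  exact ded7 e1 rel_YYYZYZY
lemma e100X : w100 * X = w68 := by
  have e1 : w68 * X * X = w100 := by rw [e68X, e83X]
  exact ded3 e1 rel_XXX
lemma e101X : w101 * X = w114 := by
  have e1 : w114 * Z * X * X * Z = w101 := by rw [e114Z, e100X, e68X, e83Z]
  exact ded5 e1 rel_XZXXZ
lemma e102Y : w102 * Y = w114 := by
  have e1 : w114 * Z * X * Y * X = w102 := by rw [e114Z, e100X, e68Y, e85X]
  exact ded5 e1 rel_YZXYX
lemma e103Y : w103 * Y = w77 := by
  have e1 : w77 * Y * Y * Y * Y = w103 := by rw [e77Y, e54Y, e69Y, e86Y]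
  exact ded5 e1 rel_YYYYY
lemma e104X : w104 * X = w81 := by
  have e1 : w81 * Y * Z * X * Y = w104 := by rw [e81Y, e88Z, e71X, e87Y]
  exact ded5 e1 rel_XYZXY
lemma e106X : w106 * X = w75 := by
  have e1 : w75 * X * X = w106 := by rw [e75X, e90X]
  exact ded3 e1 rel_XXX
lemma e106Y : w106 * Y = w87 := by
  have e1 : w87 * X * Y * Z * X = w106 := by rw [e87X, e56Y, e72Z, e90X]
  exact ded5 e1 rel_YXYZX
lemma e108Y : w108 * Y = w89 := by
  have e1 : w89 * X * Y * Z * X = w108 := by rw [e89X, e58Y, e74Z, e92X]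
  exact ded5 e1 rel_YXYZX
lemma e109Y : w109 * Y = w80 := by
  have e1 : w80 * Y * Y * Y * Y = w109 := by rw [e80Y, e95Y, e76Y, e93Y]
  exact ded5 e1 rel_YYYYY
lemma e110Y : w110 * Y = w119 := by
  have e1 : w119 * Z * Y * Y * Y * Y * Z = w110 := by rw [e119Z, e109Y, e80Y, e95Y, e76Y, e93Z]
  exact ded7 e1 rel_YZYYYYZ
lemma e110X : w110 * X = w85 := by
  have e1 : w85 * Y * X * Y * Z = w110 := by rw [e85Y, e61X, e76Y, e93Z]
  exact ded5 e1 rel_XYXYZ
lemma e112X : w112 * X = w92 := by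
  have e1 : w92 * Y * Z * X * Y = w112 := by rw [e92Y, e99Z, e82X, e98Y]
  exact ded5 e1 rel_XYZXY
lemma e114X : w114 * X = w86 := by
  have e1 : w86 * X * X = w114 := by rw [e86X, e101X]
  exact ded3 e1 rel_XXX
lemma e114Y : w114 * Y = w98 := by
  have e1 : w98 * X * Y * Z * X = w114 := by rw [e98X, e66Y, e83Z, e101X]
  exact ded5 e1 rel_YXYZX
lemma e115X : w115 * X = w93 := by
  have e1 : w93 * Z * X * X * Z = w115 := by rw [e93Z, e110X, e85X, e102Z]
  exact ded5 e1 rel_XZXXZ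
lemma e116Y : w116 * Y = w91 := by
  have e1 : w91 * Y * Y * Y * Y = w116 := by rw [e91Y, e106Y, e87Y, e104Y]
  exact ded5 e1 rel_YYYYY
lemma e118Y : w118 * Y = w102 := by
  have e1 : w102 * Z * X * Y * X = w118 := by rw [e102Z, e115X, e93Y, e109X]
  exact ded5 e1 rel_YZXYX
lemma e119Y : w119 * Y = w97 := by
  have e1 : w97 * Z * Y * Y * Y * Y * Z = w119 := by rw [e97Z, e80Y, e95Y, e76Y, e93Y, e109Z]
  exact ded7 e1 rel_YZYYYYZ
lemma e64Y : w64 * Y = w71 := by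
  have e1 : w71 * Y * Y * Y * Y = w64 := by rw [e71Y, e49Y, e30Y, e47Y]
  exact ded5 e1 rel_YYYYY
lemma e65Y : w65 * Y = w81 := by
  have e1 : w81 * Y * Y * Y * Y = w65 := by rw [e81Y, e88Y, e32Y, e48Y]
  exact ded5 e1 rel_YYYYY
lemma e74Y : w74 * Y = w82 := by
  have e1 : w82 * Y * Y * Y * Y = w74 := by rw [e82Y, e60Y, e41Y, e58Y]
  exact ded5 e1 rel_YYYYY
lemma e75Y : w75 * Y = w92 := by
  have e1 : w92 * Y * Y * Y * Y = w75 := by rw [e92Y, e99Y, e43Y, e59Y]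
  exact ded5 e1 rel_YYYYY
lemma e93X : w93 * X = w103 := by
  have e1 : w103 * Z * X * Z * X = w93 := by rw [e103Z, e85X, e102Z, e115X]
  exact ded5 e1 rel_XZXZX
lemma e94Y : w94 * Y = w110 := by
  have e1 : w110 * Y * Y * Y * Y = w94 := by rw [e110Y, e119Y, e97Y, e78Y]
  exact ded5 e1 rel_YYYYY
lemma e96Z : w96 * Z = w104 := by
  have e1 : w104 * X * X * Z * X = w96 := by rw [e104X, e81X, e97Z, e80X]
  exact ded5 e1 rel_ZXXZX
lemma e97X : w97 * X = w104 := by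
  have e1 : w104 * X * X = w97 := by rw [e104X, e81X]
  exact ded3 e1 rel_XXX
lemma e102X : w102 * X = w110 := by
  have e1 : w110 * X * X = w102 := by rw [e110X, e85X]
  exact ded3 e1 rel_XXX
lemma e103X : w103 * X = w115 := by
  have e1 : w115 * X * X = w103 := by rw [e115X, e93X]
  exact ded3 e1 rel_XXX
lemma e104Z : w104 * Z = w96 := by
  have e1 : w96 * Z = w104 := by rw [e96Z]
  exact ded2 e1 rel_ZZ
lemma e105Y : w105 * Y = w96 := by
  have e1 : w96 * Z * Y * Y * Y * Y * Z = w105 := by rw [e96Z, e104Y, e116Y, e91Y, e106Y, e87Z]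
  exact ded7 e1 rel_YZYYYYZ
lemma e107Z : w107 * Z = w112 := by
  have e1 : w112 * X * X * Z * X = w107 := by rw [e112X, e92X, e108Z, e91X]
  exact ded5 e1 rel_ZXXZX
lemma e108X : w108 * X = w112 := by
  have e1 : w112 * X * X = w108 := by rw [e112X, e92X]
  exact ded3 e1 rel_XXX
lemma e111Y : w111 * Y = w108 := by
  have e1 : w108 * Y * Y * Y * Y = w111 := by rw [e108Y, e89Y, e105Y, e96Y]
  exact ded5 e1 rel_YYYYY
lemma e111Z : w111 * Z = w116 := by
  have e1 : w116 * Y * Y * Y * Y * Z * Y = w111 := by rw [e116Y, e91Y, e106Y, e87Y, e104Z, e96Y]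
  exact ded7 e1 rel_ZYYYYZY
lemma e111X : w111 * X = w119 := by
  have e1 : w119 * Y * Z * X * Y = w111 := by rw [e119Y, e97Z, e80X, e96Y]
  exact ded5 e1 rel_XYZXY
lemma e112Y : w112 * Y = w118 := by
  have e1 : w118 * Y * Y * Y * Y = w112 := by rw [e118Y, e102Y, e114Y, e98Y]
  exact ded5 e1 rel_YYYYY
lemma e112Z : w112 * Z = w107 := by
  have e1 : w107 * Z = w112 := by rw [e107Z]
  exact ded2 e1 rel_ZZ
lemma e113Y : w113 * Y = w107 := by
  have e1 : w107 * Z * Y * Y * Y * Y * Z = w113 := by rw [e107Z, e112Y, e118Y, e102Y, e114Y, e98Z]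
  exact ded7 e1 rel_YZYYYYZ
lemma e115Y : w115 * Y = w100 := by
  have e1 : w100 * Z * Y * Y * Y * Y * Z = w115 := by rw [e100Z, e114Y, e98Y, e112Y, e118Y, e102Z]
  exact ded7 e1 rel_YZYYYYZ
lemma e116Z : w116 * Z = w111 := by
  have e1 : w111 * Z = w116 := by rw [e111Z]
  exact ded2 e1 rel_ZZ
lemma e116X : w116 * X = w109 := by
  have e1 : w109 * Y * X * Y * Z = w116 := by rw [e109Y, e80X, e96Y, e111Z]
  exact ded5 e1 rel_XYXYZ
lemma e117Y : w117 * Y = w115 := by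
  have e1 : w115 * Y * Y * Y * Y = w117 := by rw [e115Y, e100Y, e113Y, e107Y]
  exact ded5 e1 rel_YYYYY
lemma e117Z : w117 * Z = w118 := by
  have e1 : w118 * Y * Y * Y * Y * Z * Y = w117 := by rw [e118Y, e102Y, e114Y, e98Y, e112Z, e107Y]
  exact ded7 e1 rel_ZYYYYZY
lemma e117X : w117 * X = w111 := by
  have e1 : w111 * Y * Z * X * Y = w117 := by rw [e111Y, e108Z, e91X, e107Y]
  exact ded5 e1 rel_XYZXY
lemma e118X : w118 * X = w116 := by
  have e1 : w116 * X * X = w118 := by rw [e116X, e109X]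
  exact ded3 e1 rel_XXX
lemma e118Z : w118 * Z = w117 := by
  have e1 : w117 * Z = w118 := by rw [e117Z]
  exact ded2 e1 rel_ZZ
lemma e119X : w119 * X = w117 := by
  have e1 : w117 * X * X = w119 := by rw [e117X, e111X]
  exact ded3 e1 rel_XXX

def w : Fin 120 → P5 := ![w0, w1, w2, w3, w4, w5, w6, w7, w8, w9, w10, w11, w12, w13, w14, w15, w16, w17, w18, w19, w20, w21, w22, w23, w24, w25, w26, w27, w28, w29, w30, w31, w32, w33, w34, w35, w36, w37, w38, w39, w40, w41, w42, w43, w44, w45, w46, w47, w48, w49, w50, w51, w52, w53, w54, w55, w56, w57, w58, w59, w60, w61, w62, w63, w64, w65, w66, w67, w68, w69, w70, w71, w72, w73, w74, w75, w76, w77, w78, w79, w80, w81, w82, w83, w84, w85, w86, w87, w88, w89, w90, w91, w92, w93, w94, w95, w96, w97, w98, w99, w100, w101, w102, w103, w104, w105, w106, w107, w108, w109, w110, w111, w112, w113, w114, w115, w116, w117, w118, w119]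
def nX : Fin 120 → Fin 120 := ![1, 4, 7, 6, 0, 12, 11, 15, 17, 16, 20, 3, 23, 25, 24, 2, 29, 30, 32, 31, 34, 36, 35, 5, 40, 41, 43, 42, 37, 9, 8, 48, 39, 49, 10, 51, 52, 54, 53, 18, 14, 13, 59, 50, 60, 61, 55, 62, 19, 57, 26, 22, 21, 69, 28, 70, 71, 33, 72, 27, 67, 76, 78, 77, 80, 79, 82, 44, 83, 38, 46, 87, 89, 88, 91, 90, 45, 94, 47, 95, 96, 97, 98, 100, 99, 102, 101, 56, 105, 58, 106, 107, 108, 103, 63, 65, 64, 104, 66, 113, 68, 114, 110, 115, 81, 73, 75, 74, 112, 118, 85, 119, 92, 84, 86, 93, 109, 111, 116, 117]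
def nY : Fin 120 → Fin 120 := ![2, 5, 8, 9, 10, 13, 14, 11, 18, 19, 21, 22, 3, 26, 27, 28, 4, 29, 24, 33, 6, 37, 38, 39, 0, 40, 35, 44, 45, 46, 47, 15, 48, 12, 50, 1, 51, 16, 55, 56, 57, 58, 23, 59, 20, 62, 63, 64, 65, 30, 66, 67, 68, 34, 69, 7, 72, 73, 74, 75, 41, 70, 31, 79, 71, 81, 83, 84, 85, 86, 52, 49, 42, 90, 82, 92, 93, 54, 94, 17, 95, 88, 60, 53, 101, 61, 103, 104, 32, 105, 25, 106, 99, 109, 110, 76, 111, 78, 112, 43, 113, 36, 114, 77, 116, 96, 87, 117, 89, 80, 119, 108, 118, 107, 98, 100, 91, 115, 102, 97]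
def nZ : Fin 120 → Fin 120 := ![3, 6, 9, 0, 11, 14, 1, 16, 19, 2, 22, 4, 24, 27, 5, 29, 7, 31, 33, 8, 35, 38, 10, 40, 12, 42, 44, 13, 46, 15, 48, 17, 49, 18, 51, 20, 53, 55, 21, 57, 23, 59, 25, 60, 26, 63, 28, 65, 30, 32, 67, 34, 69, 36, 70, 37, 73, 39, 75, 41, 43, 77, 79, 45, 81, 47, 84, 50, 86, 52, 54, 88, 90, 56, 92, 58, 94, 61, 95, 62, 97, 64, 99, 101, 66, 103, 68, 105, 71, 106, 72, 108, 74, 110, 76, 78, 104, 80, 113, 82, 114, 83, 115, 85, 96, 87, 89, 112, 91, 119, 93, 116, 107, 98, 100, 102, 111, 118, 117, 109]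

set_option maxRecDepth 100000 in
lemma stepX : ∀ c : Fin 120, w c * X = w (nX c) := by
  intro c
  fin_cases c
  · exact e0X
  · exact e1X
  · exact e2X
  · exact e3X
  · exact e4X
  · exact e5X
  · exact e6X
  · exact e7X
  · exact e8X
  · exact e9X
  · exact e10X
  · exact e11X
  · exact e12X
  · exact e13X
  · exact e14X
  · exact e15X
  · exact e16X
  · exact e17X
  · exact e18X
  · exact e19X
  · exact e20X
  · exact e21X
  · exact e22X
  · exact e23X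
  · exact e24X
  · exact e25X
  · exact e26X
  · exact e27X
  · exact e28X
  · exact e29X
  · exact e30X
  · exact e31X
  · exact e32X
  · exact e33X
  · exact e34X
  · exact e35X
  · exact e36X
  · exact e37X
  · exact e38X
  · exact e39X
  · exact e40X
  · exact e41X
  · exact e42X
  · exact e43X
  · exact e44X
  · exact e45X
  · exact e46X
  · exact e47X
  · exact e48X
  · exact e49X
  · exact e50X
  · exact e51X
  · exact e52X
  · exact e53X
  · exact e54X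
  · exact e55X
  · exact e56X
  · exact e57X
  · exact e58X
  · exact e59X
  · exact e60X
  · exact e61X
  · exact e62X
  · exact e63X
  · exact e64X
  · exact e65X
  · exact e66X
  · exact e67X
  · exact e68X
  · exact e69X
  · exact e70X
  · exact e71X
  · exact e72X
  · exact e73X
  · exact e74X
  · exact e75X
  · exact e76X
  · exact e77X
  · exact e78X
  · exact e79X
  · exact e80X
  · exact e81X
  · exact e82X
  · exact e83X
  · exact e84X
  · exact e85X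
  · exact e86X
  · exact e87X
  · exact e88X
  · exact e89X
  · exact e90X
  · exact e91X
  · exact e92X
  · exact e93X
  · exact e94X
  · exact e95X
  · exact e96X
  · exact e97X
  · exact e98X
  · exact e99X
  · exact e100X
  · exact e101X
  · exact e102X
  · exact e103X
  · exact e104X
  · exact e105X
  · exact e106X
  · exact e107X
  · exact e108X
  · exact e109X
  · exact e110X
  · exact e111X
  · exact e112X
  · exact e113X
  · exact e114X
  · exact e115X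
  · exact e116X
  · exact e117X
  · exact e118X
  · exact e119X

set_option maxRecDepth 100000 in
lemma stepY : ∀ c : Fin 120, w c * Y = w (nY c) := by
  intro c
  fin_cases c
  · exact e0Y
  · exact e1Y
  · exact e2Y
  · exact e3Y
  · exact e4Y
  · exact e5Y
  · exact e6Y
  · exact e7Y
  · exact e8Y
  · exact e9Y
  · exact e10Y
  · exact e11Y
  · exact e12Y
  · exact e13Y
  · exact e14Y
  · exact e15Y
  · exact e16Y
  · exact e17Y
  · exact e18Y
  · exact e19Y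
  · exact e20Y
  · exact e21Y
  · exact e22Y
  · exact e23Y
  · exact e24Y
  · exact e25Y
  · exact e26Y
  · exact e27Y
  · exact e28Y
  · exact e29Y
  · exact e30Y
  · exact e31Y
  · exact e32Y
  · exact e33Y
  · exact e34Y
  · exact e35Y
  · exact e36Y
  · exact e37Y
  · exact e38Y
  · exact e39Y
  · exact e40Y
  · exact e41Y
  · exact e42Y
  · exact e43Y
  · exact e44Y
  · exact e45Y
  · exact e46Y
  · exact e47Y
  · exact e48Y
  · exact e49Y
  · exact e50Y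
  · exact e51Y
  · exact e52Y
  · exact e53Y
  · exact e54Y
  · exact e55Y
  · exact e56Y
  · exact e57Y
  · exact e58Y
  · exact e59Y
  · exact e60Y
  · exact e61Y
  · exact e62Y
  · exact e63Y
  · exact e64Y
  · exact e65Y
  · exact e66Y
  · exact e67Y
  · exact e68Y
  · exact e69Y
  · exact e70Y
  · exact e71Y
  · exact e72Y
  · exact e73Y
  · exact e74Y
  · exact e75Y
  · exact e76Y
  · exact e77Y
  · exact e78Y
  · exact e79Y
  · exact e80Y
  · exact e81Y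
  · exact e82Y
  · exact e83Y
  · exact e84Y
  · exact e85Y
  · exact e86Y
  · exact e87Y
  · exact e88Y
  · exact e89Y
  · exact e90Y
  · exact e91Y
  · exact e92Y
  · exact e93Y
  · exact e94Y
  · exact e95Y
  · exact e96Y
  · exact e97Y
  · exact e98Y
  · exact e99Y
  · exact e100Y
  · exact e101Y
  · exact e102Y
  · exact e103Y
  · exact e104Y
  · exact e105Y
  · exact e106Y
  · exact e107Y
  · exact e108Y
  · exact e109Y
  · exact e110Y
  · exact e111Y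
  · exact e112Y
  · exact e113Y
  · exact e114Y
  · exact e115Y
  · exact e116Y
  · exact e117Y
  · exact e118Y
  · exact e119Y

set_option maxRecDepth 100000 in
lemma stepZ : ∀ c : Fin 120, w c * Z = w (nZ c) := by
  intro c
  fin_cases c
  · exact e0Z
  · exact e1Z
  · exact e2Z
  · exact e3Z
  · exact e4Z
  · exact e5Z
  · exact e6Z
  · exact e7Z
  · exact e8Z
  · exact e9Z
  · exact e10Z
  · exact e11Z
  · exact e12Z
  · exact e13Z
  · exact e14Z
  · exact e15Z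
  · exact e16Z
  · exact e17Z
  · exact e18Z
  · exact e19Z
  · exact e20Z
  · exact e21Z
  · exact e22Z
  · exact e23Z
  · exact e24Z
  · exact e25Z
  · exact e26Z
  · exact e27Z
  · exact e28Z
  · exact e29Z
  · exact e30Z
  · exact e31Z
  · exact e32Z
  · exact e33Z
  · exact e34Z
  · exact e35Z
  · exact e36Z
  · exact e37Z
  · exact e38Z
  · exact e39Z
  · exact e40Z
  · exact e41Z
  · exact e42Z
  · exact e43Z
  · exact e44Z
  · exact e45Z
  · exact e46Z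
  · exact e47Z
  · exact e48Z
  · exact e49Z
  · exact e50Z
  · exact e51Z
  · exact e52Z
  · exact e53Z
  · exact e54Z
  · exact e55Z
  · exact e56Z
  · exact e57Z
  · exact e58Z
  · exact e59Z
  · exact e60Z
  · exact e61Z
  · exact e62Z
  · exact e63Z
  · exact e64Z
  · exact e65Z
  · exact e66Z
  · exact e67Z
  · exact e68Z
  · exact e69Z
  · exact e70Z
  · exact e71Z
  · exact e72Z
  · exact e73Z
  · exact e74Z
  · exact e75Z
  · exact e76Z
  · exact e77Z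
  · exact e78Z
  · exact e79Z
  · exact e80Z
  · exact e81Z
  · exact e82Z
  · exact e83Z
  · exact e84Z
  · exact e85Z
  · exact e86Z
  · exact e87Z
  · exact e88Z
  · exact e89Z
  · exact e90Z
  · exact e91Z
  · exact e92Z
  · exact e93Z
  · exact e94Z
  · exact e95Z
  · exact e96Z
  · exact e97Z
  · exact e98Z
  · exact e99Z
  · exact e100Z
  · exact e101Z
  · exact e102Z
  · exact e103Z
  · exact e104Z
  · exact e105Z
  · exact e106Z
  · exact e107Z
  · exact e108Z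
  · exact e109Z
  · exact e110Z
  · exact e111Z
  · exact e112Z
  · exact e113Z
  · exact e114Z
  · exact e115Z
  · exact e116Z
  · exact e117Z
  · exact e118Z
  · exact e119Z


lemma Xinv : X⁻¹ = X * X := by
  have := rel_XXX
  calc X⁻¹ = X⁻¹ * (X * X * X) := by rw [this, mul_one]
    _ = X * X := by group

lemma Yinv : Y⁻¹ = Y * Y * Y * Y := by
  have := rel_YYYYY
  calc Y⁻¹ = Y⁻¹ * (Y * Y * Y * Y * Y) := by rw [this, mul_one]
    _ = Y * Y * Y * Y := by group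

lemma Zinv : Z⁻¹ = Z := by
  have := rel_ZZ
  calc Z⁻¹ = Z⁻¹ * (Z * Z) := by rw [this, mul_one]
    _ = Z := by group

theorem all (p : P5) : ∀ c : Fin 120, ∃ d : Fin 120, w c * p = w d := by
  induction p using PresentedGroup.induction_on with
  | H z =>
    induction z using FreeGroup.induction_on with
    | C1 => intro c; exact ⟨c, by rw [map_one, mul_one]⟩
    | of i =>
      intro c
      fin_cases i
      · exact ⟨nX c, stepX c⟩
      · exact ⟨nY c, stepY c⟩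
      · exact ⟨nZ c, stepZ c⟩
    | inv_of i _ =>
      intro c
      fin_cases i
      · refine ⟨nX (nX c), ?_⟩
        have : (PresentedGroup.mk rels5) (FreeGroup.of (0 : Fin 3))⁻¹ = X⁻¹ := by rw [map_inv]; rfl
        show w c * (PresentedGroup.mk rels5) (FreeGroup.of (0 : Fin 3))⁻¹ = _
        rw [this, Xinv, ← mul_assoc, stepX, stepX]
      · refine ⟨nY (nY (nY (nY c))), ?_⟩
        have : (PresentedGroup.mk rels5) (FreeGroup.of (1 : Fin 3))⁻¹ = Y⁻¹ := by rw [map_inv]; rfl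
        show w c * (PresentedGroup.mk rels5) (FreeGroup.of (1 : Fin 3))⁻¹ = _
        rw [this, Yinv, ← mul_assoc, ← mul_assoc, ← mul_assoc, stepY, stepY, stepY, stepY]
      · refine ⟨nZ c, ?_⟩
        have : (PresentedGroup.mk rels5) (FreeGroup.of (2 : Fin 3))⁻¹ = Z⁻¹ := by rw [map_inv]; rfl
        show w c * (PresentedGroup.mk rels5) (FreeGroup.of (2 : Fin 3))⁻¹ = _
        rw [this, Zinv, stepZ]
    | mul a b ha hb =>
      intro c
      obtain ⟨d, hd⟩ := ha c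
      obtain ⟨e, he⟩ := hb d
      exact ⟨e, by rw [map_mul, ← mul_assoc, hd, he]⟩

/-- right-multiplication induction on the presented group -/
theorem right_induction (C : P5 → Prop) (h1 : C 1) (hX : ∀ p, C p → C (p * X))
    (hY : ∀ p, C p → C (p * Y)) (hZ : ∀ p, C p → C (p * Z)) : ∀ p, C p := by
  have key : ∀ p q : P5, C q → C (q * p) := by
    intro p
    induction p using PresentedGroup.induction_on with
    | H z =>
      induction z using FreeGroup.induction_on with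
      | C1 => intro q hq; rw [map_one, mul_one]; exact hq
      | of i =>
        intro q hq
        fin_cases i
        · exact hX q hq
        · exact hY q hq
        · exact hZ q hq
      | inv_of i _ =>
        intro q hq
        fin_cases i
        · have : (PresentedGroup.mk rels5) (FreeGroup.of (0 : Fin 3))⁻¹ = X⁻¹ := by rw [map_inv]; rfl
          show C (q * (PresentedGroup.mk rels5) (FreeGroup.of (0 : Fin 3))⁻¹)
          rw [this, Xinv, ← mul_assoc]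
          exact hX _ (hX _ hq)
        · have : (PresentedGroup.mk rels5) (FreeGroup.of (1 : Fin 3))⁻¹ = Y⁻¹ := by rw [map_inv]; rfl
          show C (q * (PresentedGroup.mk rels5) (FreeGroup.of (1 : Fin 3))⁻¹)
          rw [this, Yinv, ← mul_assoc, ← mul_assoc, ← mul_assoc]
          exact hY _ (hY _ (hY _ (hY _ hq)))
        · have : (PresentedGroup.mk rels5) (FreeGroup.of (2 : Fin 3))⁻¹ = Z⁻¹ := by rw [map_inv]; rfl
          show C (q * (PresentedGroup.mk rels5) (FreeGroup.of (2 : Fin 3))⁻¹)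
          rw [this, Zinv]
          exact hZ _ hq
      | mul a b ha hb =>
        intro q hq
        rw [map_mul, ← mul_assoc]
        exact hb _ (ha _ hq)
  intro p
  have := key p 1 h1
  rwa [one_mul] at this


theorem w_surjective : Function.Surjective w := by
  intro p
  obtain ⟨d, hd⟩ := all p 0
  refine ⟨d, ?_⟩
  rw [← hd]
  show w0 * p = p
  rw [show w0 = (1 : P5) from rfl, one_mul]

instance : Finite P5 := Finite.of_surjective w w_surjective

theorem card_le : Nat.card P5 ≤ 120 := by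
  have := Nat.card_le_card_of_surjective w w_surjective
  simpa using this

/-! ### the isomorphism with `SL(2,5)` -/

theorem fact5 : Fact (Nat.Prime 5) := ⟨by norm_num⟩

attribute [local instance] fact5

abbrev S25 := Matrix.SpecialLinearGroup (Fin 2) (ZMod 5)

def ax : S25 := ⟨!![0, 4; 1, 4], by decide⟩
def ay : S25 := ⟨!![1, 1; 0, 1], by decide⟩
def az : S25 := ⟨!![4, 0; 0, 4], by decide⟩

def fgen : Fin 3 → S25 := ![ax, ay, az]

lemma hrel : ∀ r ∈ rels5, FreeGroup.lift fgen r = 1 := by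
  intro r hr
  simp only [rels5, Set.mem_insert_iff, Set.mem_singleton_iff] at hr
  rcases hr with rfl | rfl | rfl | rfl | rfl | rfl
  · rw [map_pow, FreeGroup.lift_apply_of]; show ax ^ 3 = 1; decide
  · rw [map_pow, FreeGroup.lift_apply_of]; show ay ^ 5 = 1; decide
  · rw [map_pow, FreeGroup.lift_apply_of]; show az ^ 2 = 1; decide
  · simp only [map_mul, map_inv, FreeGroup.lift_apply_of]; show az⁻¹ * ax * az * ax⁻¹ = 1; decide
  · simp only [map_mul, map_inv, FreeGroup.lift_apply_of]; show az⁻¹ * ay * az * ay⁻¹ = 1; decide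
  · simp only [map_mul, map_inv, map_pow, FreeGroup.lift_apply_of]
    show (ax * ay) ^ 2 * az⁻¹ = 1; decide

def f5 : P5 →* S25 := PresentedGroup.toGroup hrel

lemma f5X : f5 X = ax := PresentedGroup.toGroup.of hrel
lemma f5Y : f5 Y = ay := PresentedGroup.toGroup.of hrel
lemma f5Z : f5 Z = az := PresentedGroup.toGroup.of hrel


open Cfsg.Agent.Lib.helper14 in
theorem f5_surjective : Function.Surjective f5 := by
  rw [← MonoidHom.range_eq_top]
  have hX : ax ∈ f5.range := ⟨X, f5X⟩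
  have hY : ay ∈ f5.range := ⟨Y, f5Y⟩
  have hZ : az ∈ f5.range := ⟨Z, f5Z⟩
  apply eq_top_of_uS_lS
  · intro x
    have h1 : ∀ x : ZMod 5, uS x = ay ^ x.val := by decide
    rw [h1]; exact pow_mem hY _
  · intro x
    have h1 : ∀ x : ZMod 5, lS x = (ax * ax * ay * az) ^ x.val := by decide
    rw [h1]
    exact pow_mem (f5.range.mul_mem (f5.range.mul_mem (f5.range.mul_mem hX hX) hY) hZ) _

lemma card_S25 : Nat.card S25 = 120 := by
  rw [Cfsg.Agent.Lib.helper14.card_sl2, ZMod.card]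
  norm_num

theorem f5_bijective : Function.Bijective f5 := by
  apply f5_surjective.bijective_of_nat_card_le
  rw [card_S25]; exact card_le

/-- The presented group is `SL(2,5)`. -/
noncomputable def iso5 : P5 ≃* S25 := MulEquiv.ofBijective f5 f5_bijective

theorem card_P5 : Nat.card P5 = 120 := by
  rw [Nat.card_congr iso5.toEquiv, card_S25]

end Cfsg.Agent.Lib.Helper19.SL25
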