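import Mathlib
import Cfsg.Agent.Lib.Helper19.SL2Normal
import Cfsg.Agent.Lib.Helper19.CentralProd

set_option autoImplicit false

namespace Cfsg.Agent.Lib.Helper19.SL2Pair

open Subgroup Cfsg.Agent.Lib.Helper19.SL23Facts Cfsg.Agent.Lib.Helper19.CentralProd
  Cfsg.Agent.Lib.Helper19.SL2Normal

theorem two_ne_zero_of_odd_card {F : Type*} [Field F] [Fintype F] (h : Odd (Fintype.card F)) :
    (2 : F) ≠ 0 := by
  apply Ring.two_ne_zero
  intro h2
  have := FiniteField.even_card_of_char_two h2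
  rw [Nat.odd_iff] at h
  omega

theorem card_cases {F : Type*} [Field F] [Fintype F] (h : Odd (Fintype.card F)) :
    Fintype.card F = 3 ∨ 5 ≤ Fintype.card F := by
  have h1 : 1 < Fintype.card F := Fintype.one_lt_card
  rw [Nat.odd_iff] at h
  omega

/-- normal subgroups central-or-top, transported along an isomorphism. -/
theorem nc_of_equiv {S S' : Type*} [Group S] [Group S'] (e : S ≃* S')
    (h : ∀ N : Subgroup S', N.Normal → N ≤ Subgroup.center S' ∨ N = ⊤) :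
    ∀ N : Subgroup S, N.Normal → N ≤ Subgroup.center S ∨ N = ⊤ := by
  intro N hN
  have hN' : (N.map e.toMonoidHom).Normal := hN.map _ e.surjective
  rcases h _ hN' with h1 | h1
  · left
    intro x hx
    have hx' : e x ∈ Subgroup.center S' := h1 ⟨x, hx, rfl⟩
    rw [Subgroup.mem_center_iff] at hx' ⊢
    intro g
    apply e.injective
    rw [map_mul, map_mul]
    exact hx' (e g)
  · right
    rw [eq_top_iff]
    intro x _
    have : e x ∈ N.map e.toMonoidHom := by rw [h1]; exact Subgroup.mem_top _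
    obtain ⟨y, hy, hyx⟩ := this
    have : y = x := e.injective hyx
    rw [← this]; exact hy

theorem perfect_of_equiv {S S' : Type*} [Group S] [Group S'] (e : S ≃* S')
    (h : commutator S' = ⊤) : commutator S = ⊤ := by
  have h1 : (commutator S).map e.toMonoidHom = commutator S' := by
    rw [commutator_def, commutator_def, Subgroup.map_commutator]
    have : (⊤ : Subgroup S).map e.toMonoidHom = ⊤ := Subgroup.map_top_of_surjective _ e.surjective
    rw [this]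
  rw [h] at h1
  rw [eq_top_iff]
  intro x _
  have : e x ∈ (commutator S).map e.toMonoidHom := by rw [h1]; exact Subgroup.mem_top _
  obtain ⟨y, hy, hyx⟩ := this
  have : y = x := e.injective hyx
  rw [← this]; exact hy

section

variable {G : Type*} [Group G] [Finite G]
  {F₁ : Type*} [Field F₁] [Fintype F₁] {F₂ : Type*} [Field F₂] [Fintype F₂]

/-- `conj n` maps `L₁` onto `L₁` or onto `L₂`. -/
theorem dichotomy (hF₁ : Odd (Fintype.card F₁)) (hF₂ : Odd (Fintype.card F₂)) (L₁ L₂ : Subgroup G)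
    (e₁ : ↥L₁ ≃* Matrix.SpecialLinearGroup (Fin 2) F₁) (e₂ : ↥L₂ ≃* Matrix.SpecialLinearGroup (Fin 2) F₂)
    (hc : ∀ x ∈ L₁, ∀ y ∈ L₂, x * y = y * x) (j : G) (hj : orderOf j = 2) (hm : L₁ ⊓ L₂ = Subgroup.zpowers j)
    (hle : L₁ ⊔ L₂ ≤ Subgroup.centralizer ({j} : Set G))
    (hi : (L₁ ⊔ L₂).relIndex (Subgroup.centralizer ({j} : Set G)) = 2) (n : G)
    (hn : n ∈ Subgroup.centralizer ({j} : Set G)) :
    L₁.map (MulAut.conj n).toMonoidHom = L₁ ∨ L₁.map (MulAut.conj n).toMonoidHom = L₂ := by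
  classical
  set C := Subgroup.centralizer ({j} : Set G) with hC
  set L := L₁ ⊔ L₂ with hL
  have hj2 : j * j = 1 := by rw [← pow_two, ← hj, pow_orderOf_eq_one]
  have hj1 : j ≠ 1 := by
    intro h; rw [h, orderOf_one] at hj; omega
  have hjmem : j ∈ L₁ ⊓ L₂ := by rw [hm]; exact Subgroup.mem_zpowers j
  have hj₁ : j ∈ L₁ := hjmem.1
  have hj₂ : j ∈ L₂ := hjmem.2
  have hint : ∀ x ∈ L₁, x ∈ L₂ → x = 1 ∨ x = j := by
    intro x hx₁ hx₂
    have : x ∈ Subgroup.zpowers j := by rw [← hm]; exact ⟨hx₁, hx₂⟩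
    obtain ⟨k, rfl⟩ := Subgroup.mem_zpowers_iff.1 this
    rw [← zpow_mod_orderOf, hj]
    have h2 : k % (2 : ℕ) = 0 ∨ k % (2 : ℕ) = 1 := by omega
    rcases h2 with h2 | h2
    · left; rw [h2, zpow_zero]
    · right; rw [h2, zpow_one]
  have h2F₁ := two_ne_zero_of_odd_card hF₁
  have h2F₂ := two_ne_zero_of_odd_card hF₂
  -- image of j
  have hej₁ : e₁ ⟨j, hj₁⟩ = -1 := by
    have h1 : e₁ ⟨j, hj₁⟩ * e₁ ⟨j, hj₁⟩ = 1 := by
      rw [← map_mul]
      have : (⟨j, hj₁⟩ : ↥L₁) * ⟨j, hj₁⟩ = 1 := Subtype.ext hj2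
      rw [this, map_one]
    rcases eq_one_or_neg_one_of_sq h2F₁ _ h1 with h | h
    · exfalso
      have : (⟨j, hj₁⟩ : ↥L₁) = 1 := e₁.injective (by rw [h, map_one])
      exact hj1 (congrArg Subtype.val this)
    · exact h
  have hej₂ : e₂ ⟨j, hj₂⟩ = -1 := by
    have h1 : e₂ ⟨j, hj₂⟩ * e₂ ⟨j, hj₂⟩ = 1 := by
      rw [← map_mul]
      have : (⟨j, hj₂⟩ : ↥L₂) * ⟨j, hj₂⟩ = 1 := Subtype.ext hj2
      rw [this, map_one]
    rcases eq_one_or_neg_one_of_sq h2F₂ _ h1 with h | h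
    · exfalso
      have : (⟨j, hj₂⟩ : ↥L₂) = 1 := e₂.injective (by rw [h, map_one])
      exact hj1 (congrArg Subtype.val this)
    · exact h
  have hZ₁ : ∀ x ∈ L₁, (∀ y ∈ L₁, x * y = y * x) → x ∈ L₂ := by
    intro x hx hxc
    have hcen : e₁ ⟨x, hx⟩ ∈ Subgroup.center (Matrix.SpecialLinearGroup (Fin 2) F₁) := by
      rw [Subgroup.mem_center_iff]
      intro g
      obtain ⟨y, rfl⟩ := e₁.surjective g
      rw [← map_mul, ← map_mul]
      congr 1
      exact Subtype.ext (hxc y.1 y.2).symm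
    rcases (mem_center_iff' h2F₁ _).1 hcen with h | h
    · have : (⟨x, hx⟩ : ↥L₁) = 1 := e₁.injective (by rw [h, map_one])
      have hx1 : x = 1 := congrArg Subtype.val this
      rw [hx1]; exact L₂.one_mem
    · have : (⟨x, hx⟩ : ↥L₁) = ⟨j, hj₁⟩ := e₁.injective (by rw [h, hej₁])
      have hxj : x = j := congrArg Subtype.val this
      rw [hxj]; exact hj₂
  have hZ₂ : ∀ x ∈ L₂, (∀ y ∈ L₂, x * y = y * x) → x ∈ L₁ := by
    intro x hx hxc
    have hcen : e₂ ⟨x, hx⟩ ∈ Subgroup.center (Matrix.SpecialLinearGroup (Fin 2) F₂) := by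
      rw [Subgroup.mem_center_iff]
      intro g
      obtain ⟨y, rfl⟩ := e₂.surjective g
      rw [← map_mul, ← map_mul]
      congr 1
      exact Subtype.ext (hxc y.1 y.2).symm
    rcases (mem_center_iff' h2F₂ _).1 hcen with h | h
    · have : (⟨x, hx⟩ : ↥L₂) = 1 := e₂.injective (by rw [h, map_one])
      have hx1 : x = 1 := congrArg Subtype.val this
      rw [hx1]; exact L₁.one_mem
    · have : (⟨x, hx⟩ : ↥L₂) = ⟨j, hj₂⟩ := e₂.injective (by rw [h, hej₂])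
      have hxj : x = j := congrArg Subtype.val this
      rw [hxj]; exact hj₁
  have hc' : ∀ x ∈ L₂, ∀ y ∈ L₁, x * y = y * x := fun x hx y hy => (hc y hy x hx).symm
  -- L is normal in C
  have hLn : (L.subgroupOf C).Normal := Subgroup.normal_of_index_eq_two hi
  have hLconj : ∀ g ∈ C, ∀ x ∈ L, g * x * g⁻¹ ∈ L := by
    intro g hg x hx
    have := hLn.conj_mem ⟨x, hle hx⟩ (by rw [mem_subgroupOf]; exact hx) ⟨g, hg⟩
    rw [mem_subgroupOf] at this
    simpa using this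
  -- L normalizes L₁
  have hLL₁ : ∀ y ∈ L, ∀ a ∈ L₁, y * a * y⁻¹ ∈ L₁ := by
    intro y hy a ha
    obtain ⟨y₁, hy₁, y₂, hy₂, rfl⟩ := mem_sup_of_commute hc hy
    have h1 : y₂ * a = a * y₂ := (hc a ha y₂ hy₂).symm
    have e : y₁ * y₂ * a * (y₁ * y₂)⁻¹ = y₁ * a * y₁⁻¹ := by
      calc y₁ * y₂ * a * (y₁ * y₂)⁻¹ = y₁ * (y₂ * a) * y₂⁻¹ * y₁⁻¹ := by group
        _ = y₁ * (a * y₂) * y₂⁻¹ * y₁⁻¹ := by rw [h1]
        _ = y₁ * a * y₁⁻¹ := by group
    rw [e]
    exact L₁.mul_mem (L₁.mul_mem hy₁ ha) (L₁.inv_mem hy₁)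
  set M := L₁.map (MulAut.conj n).toMonoidHom with hM
  have hML : M ≤ L := by
    rintro _ ⟨a, ha, rfl⟩
    exact hLconj n hn a (le_sup_left (a := L₁) (b := L₂) ha)
  have hninv : n⁻¹ ∈ C := C.inv_mem hn
  have hMn : ∀ x ∈ L, ∀ m ∈ M, x * m * x⁻¹ ∈ M := by
    rintro x hx _ ⟨a, ha, rfl⟩
    have hy : n⁻¹ * x * n⁻¹⁻¹ ∈ L := hLconj n⁻¹ hninv x hx
    have h1 := hLL₁ _ hy a ha
    refine ⟨(n⁻¹ * x * n⁻¹⁻¹) * a * (n⁻¹ * x * n⁻¹⁻¹)⁻¹, h1, ?_⟩
    simp only [MulEquiv.coe_toMonoidHom, MulAut.conj_apply]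
    group
  have hMn₁ : ∀ x ∈ L₁, ∀ m ∈ M, x * m * x⁻¹ ∈ M :=
    fun x hx => hMn x (le_sup_left (a := L₁) (b := L₂) hx)
  have hMn₂ : ∀ x ∈ L₂, ∀ m ∈ M, x * m * x⁻¹ ∈ M :=
    fun x hx => hMn x (le_sup_right (a := L₁) (b := L₂) hx)
  -- M is isomorphic to L₁
  have hinj : Function.Injective (MulAut.conj n).toMonoidHom := (MulAut.conj n).injective
  let eM : ↥L₁ ≃* ↥M := L₁.equivMapOfInjective _ hinj
  have hcardM : Nat.card ↥M = Nat.card ↥L₁ := (Nat.card_congr eM.toEquiv).symm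
  have hcard₁ : Nat.card ↥L₁ = Nat.card (Matrix.SpecialLinearGroup (Fin 2) F₁) := Nat.card_congr e₁.toEquiv
  have hcard₂ : Nat.card ↥L₂ = Nat.card (Matrix.SpecialLinearGroup (Fin 2) F₂) := Nat.card_congr e₂.toEquiv
  have hML₂ : M ≤ L₂ ⊔ L₁ := by rw [sup_comm]; exact hML
  have hfin₁ : Finite ↥L₁ := inferInstance
  have hfin₂ : Finite ↥L₂ := inferInstance
  have hfinM : Finite ↥M := inferInstance
  rcases card_cases hF₁ with hq₁ | hq₁ <;> rcases card_cases hF₂ with hq₂ | hq₂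
  · -- (3, 3)
    have h₁ : IsSL23Like ↥L₁ := IsSL23Like.of_equiv e₁ (isSL23Like_of_card hq₁)
    have h₂ : IsSL23Like ↥L₂ := IsSL23Like.of_equiv e₂ (isSL23Like_of_card hq₂)
    have hM' : IsSL23Like ↥M := IsSL23Like.of_equiv eM.symm h₁
    exact eq_or_eq_of_sl23 hc j hj2 hj₁ hj₂ hint hML hMn₁ hMn₂ h₁ h₂ hM'
  · -- (3, ≥ 5)
    have hF4 : 4 ≤ Nat.card F₂ := by rw [Nat.card_eq_fintype_card]; omega
    have hNC₂ := nc_of_equiv e₂ (normal_le_center_or_eq_top hF4)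
    have hperf₂ := perfect_of_equiv e₂ (commutator_eq_top hF4)
    have hc₁ : Nat.card ↥L₁ = 24 := by rw [hcard₁]; exact card_three hq₁
    have hc₂ : 120 ≤ Nat.card ↥L₂ := by rw [hcard₂]; exact card_ge hq₂
    rcases le_or_le hc' hZ₂ hML₂ hMn₂ hNC₂ hperf₂ with h | h
    · exfalso
      have := Subgroup.card_le_of_le h
      omega
    · left
      exact Subgroup.eq_of_le_of_card_ge h (by rw [hcardM])
  · -- (≥ 5, 3)
    have hF4 : 4 ≤ Nat.card F₁ := by rw [Nat.card_eq_fintype_card]; omega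
    have hNC₁ := nc_of_equiv e₁ (normal_le_center_or_eq_top hF4)
    have hperf₁ := perfect_of_equiv e₁ (commutator_eq_top hF4)
    have hc₁ : 120 ≤ Nat.card ↥L₁ := by rw [hcard₁]; exact card_ge hq₁
    have hc₂ : Nat.card ↥L₂ = 24 := by rw [hcard₂]; exact card_three hq₂
    rcases le_or_le hc hZ₁ hML hMn₁ hNC₁ hperf₁ with h | h
    · left
      exact (Subgroup.eq_of_le_of_card_ge h (by rw [hcardM])).symm
    · exfalso
      have := Subgroup.card_le_of_le h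
      omega
  · -- (≥ 5, ≥ 5)
    have hF4₁ : 4 ≤ Nat.card F₁ := by rw [Nat.card_eq_fintype_card]; omega
    have hF4₂ : 4 ≤ Nat.card F₂ := by rw [Nat.card_eq_fintype_card]; omega
    have hNC₁ := nc_of_equiv e₁ (normal_le_center_or_eq_top hF4₁)
    have hperf₁ := perfect_of_equiv e₁ (commutator_eq_top hF4₁)
    have hNC₂ := nc_of_equiv e₂ (normal_le_center_or_eq_top hF4₂)
    have hc₁ : 120 ≤ Nat.card ↥L₁ := by rw [hcard₁]; exact card_ge hq₁
    rcases le_or_le hc hZ₁ hML hMn₁ hNC₁ hperf₁ with h | h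
    · left
      exact (Subgroup.eq_of_le_of_card_ge h (by rw [hcardM])).symm
    · right
      have hN : (M.subgroupOf L₂).Normal := by
        refine ⟨fun y hy x => ?_⟩
        rw [mem_subgroupOf] at hy ⊢
        exact hMn₂ x.1 x.2 y.1 hy
      rcases hNC₂ _ hN with h1 | h1
      · exfalso
        have hMle : M ≤ L₁ ⊓ L₂ := by
          intro y hy
          have hy₂ : y ∈ L₂ := h hy
          have hcen := h1 (show (⟨y, hy₂⟩ : ↥L₂) ∈ M.subgroupOf L₂ from by rw [mem_subgroupOf]; exact hy)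
          rw [Subgroup.mem_center_iff] at hcen
          refine ⟨hZ₂ y hy₂ ?_, hy₂⟩
          intro w hw
          exact (congrArg Subtype.val (hcen ⟨w, hw⟩)).symm
        rw [hm] at hMle
        have h2 := Subgroup.card_le_of_le hMle
        rw [Nat.card_zpowers, hj] at h2
        omega
      · apply le_antisymm h
        intro x hx
        have : (⟨x, hx⟩ : ↥L₂) ∈ M.subgroupOf L₂ := by rw [h1]; exact Subgroup.mem_top _
        rw [mem_subgroupOf] at this
        exact this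

theorem card_ge24 {F : Type*} [Field F] [Fintype F] (h : Odd (Fintype.card F)) :
    24 ≤ Nat.card (Matrix.SpecialLinearGroup (Fin 2) F) := by
  rcases card_cases h with h3 | h5
  · rw [card_three h3]
  · have := card_ge h5
    omega

theorem main (hF₁ : Odd (Fintype.card F₁)) (hF₂ : Odd (Fintype.card F₂)) (L₁ L₂ : Subgroup G)
    (e₁ : ↥L₁ ≃* Matrix.SpecialLinearGroup (Fin 2) F₁) (e₂ : ↥L₂ ≃* Matrix.SpecialLinearGroup (Fin 2) F₂)
    (hc : ∀ x ∈ L₁, ∀ y ∈ L₂, x * y = y * x) (j : G) (hj : orderOf j = 2) (hm : L₁ ⊓ L₂ = Subgroup.zpowers j)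
    (hle : L₁ ⊔ L₂ ≤ Subgroup.centralizer ({j} : Set G))
    (hi : (L₁ ⊔ L₂).relIndex (Subgroup.centralizer ({j} : Set G)) = 2) (n : G)
    (hn : n ∈ Subgroup.centralizer ({j} : Set G)) (hn' : n ∉ L₁ ⊔ L₂) :
    (L₁.map (MulAut.conj n).toMonoidHom = L₁ ∧ L₂.map (MulAut.conj n).toMonoidHom = L₂) ∨
      (L₁.map (MulAut.conj n).toMonoidHom = L₂ ∧ Fintype.card F₁ = Fintype.card F₂ ∧
        ∃ n' ∈ Subgroup.centralizer ({j} : Set G), n' ∉ L₁ ⊔ L₂ ∧
          L₁.map (MulAut.conj n').toMonoidHom = L₂ ∧ n' ^ 2 ∈ Subgroup.zpowers j) := by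
  classical
  have hc' : ∀ x ∈ L₂, ∀ y ∈ L₁, x * y = y * x := fun x hx y hy => (hc y hy x hx).symm
  have hm' : L₂ ⊓ L₁ = Subgroup.zpowers j := by rw [inf_comm]; exact hm
  have hle' : L₂ ⊔ L₁ ≤ Subgroup.centralizer ({j} : Set G) := by rw [sup_comm]; exact hle
  have hi' : (L₂ ⊔ L₁).relIndex (Subgroup.centralizer ({j} : Set G)) = 2 := by rw [sup_comm]; exact hi
  have D₁ := fun g hg => dichotomy hF₁ hF₂ L₁ L₂ e₁ e₂ hc j hj hm hle hi g hg
  have D₂ := fun g hg => dichotomy hF₂ hF₁ L₂ L₁ e₂ e₁ hc' j hj hm' hle' hi' g hg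
  have hcard₁ : Nat.card ↥L₁ = Nat.card (Matrix.SpecialLinearGroup (Fin 2) F₁) := Nat.card_congr e₁.toEquiv
  have hcard₂ : Nat.card ↥L₂ = Nat.card (Matrix.SpecialLinearGroup (Fin 2) F₂) := Nat.card_congr e₂.toEquiv
  have h24₁ : 24 ≤ Nat.card ↥L₁ := by rw [hcard₁]; exact card_ge24 hF₁
  have h24₂ : 24 ≤ Nat.card ↥L₂ := by rw [hcard₂]; exact card_ge24 hF₂
  -- L₁ ≠ L₂
  have hne : L₁ ≠ L₂ := by
    intro h
    have h1 : L₁ ≤ Subgroup.zpowers j := by
      rw [← hm, ← h, inf_idem]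
    have h2 := Subgroup.card_le_of_le h1
    rw [Nat.card_zpowers, hj] at h2
    omega
  have hinj : ∀ g : G, Function.Injective (MulAut.conj g).toMonoidHom := fun g => (MulAut.conj g).injective
  have hmapinj : ∀ g : G, ∀ A B : Subgroup G, A.map (MulAut.conj g).toMonoidHom = B.map (MulAut.conj g).toMonoidHom → A = B :=
    fun g A B h => Subgroup.map_injective (hinj g) h
  -- generic: if conj g maps L₁ to L₁ then L₂ to L₂; if L₁ to L₂ then L₂ to L₁
  have hfix : ∀ g ∈ Subgroup.centralizer ({j} : Set G), L₁.map (MulAut.conj g).toMonoidHom = L₁ →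
      L₂.map (MulAut.conj g).toMonoidHom = L₂ := by
    intro g hg h1
    rcases D₂ g hg with h | h
    · exact h
    · exfalso
      exact hne (hmapinj g _ _ (h1.trans h.symm))
  have hswap : ∀ g ∈ Subgroup.centralizer ({j} : Set G), L₁.map (MulAut.conj g).toMonoidHom = L₂ →
      L₂.map (MulAut.conj g).toMonoidHom = L₁ := by
    intro g hg h1
    rcases D₂ g hg with h | h
    · exfalso
      exact hne (hmapinj g _ _ (h1.trans h.symm))
    · exact h
  rcases D₁ n hn with h1 | h1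
  · left
    exact ⟨h1, hfix n hn h1⟩
  · right
    refine ⟨h1, ?_, ?_⟩
    · -- cardinalities
      have hcM : Nat.card ↥(L₁.map (MulAut.conj n).toMonoidHom) = Nat.card ↥L₁ :=
        (Nat.card_congr (L₁.equivMapOfInjective _ (hinj n)).toEquiv).symm
      rw [h1] at hcM
      apply card_inj
      rw [← hcard₁, ← hcard₂, hcM]
    · -- choose n'
      set C := Subgroup.centralizer ({j} : Set G) with hC
      set L := L₁ ⊔ L₂ with hL
      -- n² ∈ L
      have hn2 : n * n ∈ L := by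
        have hLi : (L.subgroupOf C).index = 2 := hi
        have := (Subgroup.mul_self_mem_of_index_two hLi ⟨n, hn⟩)
        rw [mem_subgroupOf] at this
        simpa using this
      obtain ⟨l₁, hl₁, l₂, hl₂, hnn⟩ := mem_sup_of_commute hc hn2
      have hl₁C : l₁ ∈ C := hle (le_sup_left (a := L₁) (b := L₂) hl₁)
      refine ⟨n * l₁⁻¹, C.mul_mem hn (C.inv_mem hl₁C), ?_, ?_, ?_⟩
      · intro hmem
        apply hn'
        have : n = (n * l₁⁻¹) * l₁ := by group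
        rw [this]
        exact L.mul_mem hmem (le_sup_left (a := L₁) (b := L₂) hl₁)
      · -- conj (n l₁⁻¹) maps L₁ to L₂
        rw [← h1]
        ext x
        constructor
        · rintro ⟨a, ha, rfl⟩
          refine ⟨l₁⁻¹ * a * l₁, L₁.mul_mem (L₁.mul_mem (L₁.inv_mem hl₁) ha) hl₁, ?_⟩
          simp only [MulEquiv.coe_toMonoidHom, MulAut.conj_apply]
          group
        · rintro ⟨a, ha, rfl⟩
          refine ⟨l₁ * a * l₁⁻¹, L₁.mul_mem (L₁.mul_mem hl₁ ha) (L₁.inv_mem hl₁), ?_⟩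
          simp only [MulEquiv.coe_toMonoidHom, MulAut.conj_apply]
          group
      · -- n'^2 ∈ zpowers j
        rw [← hm]
        have hn'C : n * l₁⁻¹ ∈ C := C.mul_mem hn (C.inv_mem hl₁C)
        have hmap' : L₁.map (MulAut.conj (n * l₁⁻¹)).toMonoidHom = L₂ := by
          rw [← h1]
          ext x
          constructor
          · rintro ⟨a, ha, rfl⟩
            refine ⟨l₁⁻¹ * a * l₁, L₁.mul_mem (L₁.mul_mem (L₁.inv_mem hl₁) ha) hl₁, ?_⟩
            simp only [MulEquiv.coe_toMonoidHom, MulAut.conj_apply]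
            group
          · rintro ⟨a, ha, rfl⟩
            refine ⟨l₁ * a * l₁⁻¹, L₁.mul_mem (L₁.mul_mem hl₁ ha) (L₁.inv_mem hl₁), ?_⟩
            simp only [MulEquiv.coe_toMonoidHom, MulAut.conj_apply]
            group
        have hmap'' : L₂.map (MulAut.conj (n * l₁⁻¹)).toMonoidHom = L₁ := hswap _ hn'C hmap'
        -- n'^2 = n l₁⁻¹ n l₁⁻¹ = (n l₁⁻¹ n⁻¹) (n n) l₁⁻¹ = (n l₁⁻¹ n⁻¹) l₁ l₂ l₁⁻¹
        have hA : n * l₁⁻¹ * n⁻¹ ∈ L₂ := by
          rw [← h1]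
          exact ⟨l₁⁻¹, L₁.inv_mem hl₁, by simp [MulAut.conj_apply]⟩
        have hcomm : l₁ * l₂ = l₂ * l₁ := hc l₁ hl₁ l₂ hl₂
        have hsq : (n * l₁⁻¹) ^ 2 = (n * l₁⁻¹ * n⁻¹) * l₂ := by
          have : (n * l₁⁻¹) ^ 2 = (n * l₁⁻¹ * n⁻¹) * (n * n) * l₁⁻¹ := by
            rw [pow_two]; group
          rw [this, hnn]
          calc n * l₁⁻¹ * n⁻¹ * (l₁ * l₂) * l₁⁻¹ = n * l₁⁻¹ * n⁻¹ * (l₂ * l₁) * l₁⁻¹ := by rw [hcomm]
            _ = n * l₁⁻¹ * n⁻¹ * l₂ := by group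
        have hsq₂ : (n * l₁⁻¹) ^ 2 ∈ L₂ := by
          rw [hsq]; exact L₂.mul_mem hA hl₂
        have hsq₁ : (n * l₁⁻¹) ^ 2 ∈ L₁ := by
          rw [← hmap'']
          refine ⟨(n * l₁⁻¹) ^ 2, hsq₂, ?_⟩
          simp only [MulEquiv.coe_toMonoidHom, MulAut.conj_apply]
          rw [pow_two]; group
        exact ⟨hsq₁, hsq₂⟩

end

end Cfsg.Agent.Lib.Helper19.SL2Pair
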