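import Mathlib
import Cfsg.Prelude.Def_CaseTheorems
import Cfsg.Agent.Lib.Helper19.CentralProd

/-!
# Two commuting copies of `SL₂` swapped by a square root of the central involution

Abstract configuration `SwapCfg` and the proof that `j` is isolated in `C_G(j)`.
-/

set_option autoImplicit false

namespace Cfsg.Agent.Lib.Helper19.SL2Swap

open Cfsg.Agent.Lib.Helper19.CentralProd

variable {G : Type*} [Group G]

/-- The abstract configuration. -/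
structure SwapCfg (L₁ L₂ : Subgroup G) (j n : G) : Prop where
  hc : ∀ x ∈ L₁, ∀ y ∈ L₂, x * y = y * x
  hj1 : j ∈ L₁
  hj2 : j ∈ L₂
  hjj : j * j = 1
  hjne : j ≠ 1
  hint : ∀ a : G, a ∈ L₁ → a ∈ L₂ → a = 1 ∨ a = j
  hle : ∀ m ∈ L₁ ⊔ L₂, m * j = j * m
  hidx : ∀ r s : G, r * j = j * r → s * j = j * s → r ∉ L₁ ⊔ L₂ → s ∉ L₁ ⊔ L₂ → r * s⁻¹ ∈ L₁ ⊔ L₂
  hnj : n * j = j * n
  hnn : n * n = j
  hs12 : ∀ a ∈ L₁, n * a * n⁻¹ ∈ L₂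
  hs21 : ∀ b ∈ L₂, n * b * n⁻¹ ∈ L₁
  hinv1 : ∀ x ∈ L₁, x * x = j → ∀ a ∈ L₁, a * x * a⁻¹ = x⁻¹ → a * a = j
  hinv2 : ∀ x ∈ L₂, x * x = j → ∀ a ∈ L₂, a * x * a⁻¹ = x⁻¹ → a * a = j
  hx : ∃ x1 ∈ L₁, x1 * x1 = j ∧ ∃ w1 ∈ L₁, w1 * x1 * w1⁻¹ = x1⁻¹
  hconj : ∃ x0 ∈ L₁ ⊔ L₂, ∀ y ∈ L₁ ⊔ L₂, y * y = 1 → y ≠ 1 → y ≠ j →
    ∃ c ∈ L₁ ⊔ L₂, c * x0 * c⁻¹ = y

section basic

variable {L₁ L₂ : Subgroup G} {j n : G}

theorem conj_eq_of_comm {g x : G} (h : g * x = x * g) : g * x * g⁻¹ = x := by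
  rw [h]; group

theorem comm_of_conj_eq {g x : G} (h : g * x * g⁻¹ = x) : g * x = x * g := by
  calc g * x = g * x * g⁻¹ * g := by group
    _ = x * g := by rw [h]

theorem SwapCfg.n_conj_j (h : SwapCfg L₁ L₂ j n) : n * j * n⁻¹ = j := conj_eq_of_comm h.hnj

theorem SwapCfg.jinv (h : SwapCfg L₁ L₂ j n) : j⁻¹ = j := inv_eq_of_mul_eq_one_left h.hjj

/-- conjugating twice by `n` is conjugating by `j`, trivial on `C(j)` -/
theorem SwapCfg.nn_conj (h : SwapCfg L₁ L₂ j n) {x : G} (hx : x * j = j * x) :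
    n * (n * x * n⁻¹) * n⁻¹ = x := by
  calc n * (n * x * n⁻¹) * n⁻¹ = (n * n) * x * (n * n)⁻¹ := by group
    _ = j * x * j⁻¹ := by rw [h.hnn]
    _ = x * j * j⁻¹ := by rw [hx]
    _ = x := by group

theorem SwapCfg.n_not_mem (h : SwapCfg L₁ L₂ j n) : n ∉ L₁ ⊔ L₂ := by
  intro hn
  obtain ⟨a, ha, b, hb, hab⟩ := mem_sup_of_commute h.hc hn
  obtain ⟨x1, hx1, hx1j, -⟩ := h.hx
  have hx2 : n * x1 * n⁻¹ ∈ L₂ := h.hs12 x1 hx1
  have hx2j : (n * x1 * n⁻¹) * (n * x1 * n⁻¹) = j := by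
    calc (n * x1 * n⁻¹) * (n * x1 * n⁻¹) = n * (x1 * x1) * n⁻¹ := by group
      _ = j := by rw [hx1j, h.n_conj_j]
  obtain ⟨x2, hx2def⟩ : ∃ x2, x2 = n * x1 * n⁻¹ := ⟨_, rfl⟩
  rw [← hx2def] at hx2 hx2j
  have hy : b⁻¹ * x2 * b ∈ L₂ := L₂.mul_mem (L₂.mul_mem (L₂.inv_mem hb) hx2) hb
  have h1 : n * (b⁻¹ * x2 * b) * n⁻¹ ∈ L₁ := h.hs21 _ hy
  have h2 : n * (b⁻¹ * x2 * b) * n⁻¹ = x2 := by
    rw [hab]
    calc a * b * (b⁻¹ * x2 * b) * (a * b)⁻¹ = a * x2 * a⁻¹ := by group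
      _ = x2 * a * a⁻¹ := by rw [h.hc a ha x2 hx2]
      _ = x2 := by group
  rw [h2] at h1
  rcases h.hint x2 h1 hx2 with h4 | h4
  · rw [h4, one_mul] at hx2j; exact h.hjne hx2j.symm
  · rw [h4, h.hjj] at hx2j; exact h.hjne hx2j.symm

/-- elements of `C(j)` outside `M` swap `L₁` and `L₂` -/
theorem SwapCfg.swap12 (h : SwapCfg L₁ L₂ j n) {r : G} (hrj : r * j = j * r) (hr : r ∉ L₁ ⊔ L₂)
    {x : G} (hx : x ∈ L₁) : r * x * r⁻¹ ∈ L₂ := by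
  have hm := h.hidx r n hrj h.hnj hr h.n_not_mem
  obtain ⟨a, ha, b, hb, hab⟩ := mem_sup_of_commute h.hc hm
  have hx' : n * x * n⁻¹ ∈ L₂ := h.hs12 x hx
  have h1 : b * (n * x * n⁻¹) * b⁻¹ ∈ L₂ := L₂.mul_mem (L₂.mul_mem hb hx') (L₂.inv_mem hb)
  have h2 : r * x * r⁻¹ = b * (n * x * n⁻¹) * b⁻¹ := by
    calc r * x * r⁻¹ = (r * n⁻¹) * (n * x * n⁻¹) * (r * n⁻¹)⁻¹ := by group
      _ = a * (b * (n * x * n⁻¹) * b⁻¹) * a⁻¹ := by rw [hab]; group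
      _ = (b * (n * x * n⁻¹) * b⁻¹) * a * a⁻¹ := by rw [h.hc a ha _ h1]
      _ = b * (n * x * n⁻¹) * b⁻¹ := by group
  rw [h2]; exact h1

theorem SwapCfg.swap21 (h : SwapCfg L₁ L₂ j n) {r : G} (hrj : r * j = j * r) (hr : r ∉ L₁ ⊔ L₂)
    {y : G} (hy : y ∈ L₂) : r * y * r⁻¹ ∈ L₁ := by
  have hm := h.hidx r n hrj h.hnj hr h.n_not_mem
  obtain ⟨a, ha, b, hb, hab⟩ := mem_sup_of_commute h.hc hm
  have hy' : n * y * n⁻¹ ∈ L₁ := h.hs21 y hy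
  have h1 : a * (n * y * n⁻¹) * a⁻¹ ∈ L₁ := L₁.mul_mem (L₁.mul_mem ha hy') (L₁.inv_mem ha)
  have h2 : r * y * r⁻¹ = a * (n * y * n⁻¹) * a⁻¹ := by
    calc r * y * r⁻¹ = (r * n⁻¹) * (n * y * n⁻¹) * (r * n⁻¹)⁻¹ := by group
      _ = a * (b * (n * y * n⁻¹) * b⁻¹) * a⁻¹ := by rw [hab]; group
      _ = a * ((n * y * n⁻¹) * b * b⁻¹) * a⁻¹ := by rw [h.hc _ hy' b hb]
      _ = a * (n * y * n⁻¹) * a⁻¹ := by group
  rw [h2]; exact h1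

/-- no involutions in `C(j) \ M` -/
theorem SwapCfg.sq_ne_one (h : SwapCfg L₁ L₂ j n) {r : G} (hrj : r * j = j * r)
    (hr : r ∉ L₁ ⊔ L₂) : r * r ≠ 1 := by
  intro hrr
  have hm := h.hidx r n hrj h.hnj hr h.n_not_mem
  obtain ⟨a, ha, b, hb, hab⟩ := mem_sup_of_commute h.hc hm
  have hsa : n * a * n⁻¹ ∈ L₂ := h.hs12 a ha
  have hsb : n * b * n⁻¹ ∈ L₁ := h.hs21 b hb
  have hbj : b * j = j * b := h.hle b (Subgroup.mem_sup_right hb)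
  have hnsb : n * (n * b * n⁻¹) * n⁻¹ = b := h.nn_conj hbj
  obtain ⟨sa, hsadef⟩ : ∃ sa, sa = n * a * n⁻¹ := ⟨_, rfl⟩
  obtain ⟨sb, hsbdef⟩ : ∃ sb, sb = n * b * n⁻¹ := ⟨_, rfl⟩
  rw [← hsadef] at hsa
  rw [← hsbdef] at hsb hnsb
  have hr_eq : r = a * b * n := by
    calc r = (r * n⁻¹) * n := by group
      _ = a * b * n := by rw [hab]
  have h1 : r * r = (a * sb) * (b * sa) * j := by
    calc r * r = a * b * n * (a * b * n) := by rw [← hr_eq]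
      _ = a * b * (n * a * n⁻¹) * (n * b * n⁻¹) * (n * n) := by group
      _ = a * b * sa * sb * j := by rw [← hsadef, ← hsbdef, h.hnn]
      _ = a * ((b * sa) * sb) * j := by group
      _ = a * (sb * (b * sa)) * j := by rw [h.hc sb hsb (b * sa) (L₂.mul_mem hb hsa)]
      _ = (a * sb) * (b * sa) * j := by group
  have hu : a * sb ∈ L₁ := L₁.mul_mem ha hsb
  have hv : b * sa ∈ L₂ := L₂.mul_mem hb hsa
  rw [hrr] at h1
  have hu2 : a * sb ∈ L₂ := by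
    have h2 : a * sb = ((b * sa) * j)⁻¹ := by
      apply eq_inv_of_mul_eq_one_left
      rw [← mul_assoc]; exact h1.symm
    rw [h2]
    exact L₂.inv_mem (L₂.mul_mem hv h.hj2)
  have hnu : n * (a * sb) * n⁻¹ = sa * b := by
    calc n * (a * sb) * n⁻¹ = (n * a * n⁻¹) * (n * sb * n⁻¹) := by group
      _ = sa * b := by rw [← hsadef, hnsb]
  have hv_eq : b * sa = b * (sa * b) * b⁻¹ := by group
  rcases h.hint _ hu hu2 with h4 | h4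
  · rw [h4] at hnu
    have h5 : sa * b = 1 := by rw [← hnu]; group
    rw [hv_eq, h5, h4] at h1
    apply h.hjne
    rw [h1]; group
  · rw [h4, h.n_conj_j] at hnu
    rw [hv_eq, ← hnu, h4, conj_eq_of_comm hbj, h.hjj, one_mul] at h1
    exact h.hjne h1.symm

/-- every involution of `C(j)` lies in `M` -/
theorem SwapCfg.invol_mem (h : SwapCfg L₁ L₂ j n) {r : G} (hrj : r * j = j * r)
    (hrr : r * r = 1) : r ∈ L₁ ⊔ L₂ := by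
  by_contra hr
  exact h.sq_ne_one hrj hr hrr

end basic

section core

variable {L₁ L₂ : Subgroup G} {j n : G}

/-- data for the counting argument -/
structure CoreData (L₁ L₂ : Subgroup G) (j n x1 x2 w1 w2 t k : G) : Prop where
  hx1 : x1 ∈ L₁
  hx2 : x2 ∈ L₂
  hx1j : x1 * x1 = j
  hx2j : x2 * x2 = j
  hn12 : n * x1 * n⁻¹ = x2
  hn21 : n * x2 * n⁻¹ = x1
  hw1 : w1 ∈ L₁
  hw2 : w2 ∈ L₂
  hw1x : w1 * x1 * w1⁻¹ = x1⁻¹
  hw2x : w2 * x2 * w2⁻¹ = x2⁻¹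
  ht : t = x1 * x2
  hkj : k * j * k⁻¹ = t
  hkt : k * t * k⁻¹ = j

variable {x1 x2 w1 w2 t k : G}

theorem CoreData.x12 (h : SwapCfg L₁ L₂ j n) (d : CoreData L₁ L₂ j n x1 x2 w1 w2 t k) :
    x1 * x2 = x2 * x1 := h.hc x1 d.hx1 x2 d.hx2

theorem CoreData.tM (_h : SwapCfg L₁ L₂ j n) (d : CoreData L₁ L₂ j n x1 x2 w1 w2 t k) :
    t ∈ L₁ ⊔ L₂ := by
  rw [d.ht]
  exact Subgroup.mul_mem _ (Subgroup.mem_sup_left d.hx1) (Subgroup.mem_sup_right d.hx2)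

theorem CoreData.tt (h : SwapCfg L₁ L₂ j n) (d : CoreData L₁ L₂ j n x1 x2 w1 w2 t k) :
    t * t = 1 := by
  rw [d.ht]
  calc x1 * x2 * (x1 * x2) = x1 * (x2 * x1) * x2 := by group
    _ = x1 * (x1 * x2) * x2 := by rw [d.x12 h]
    _ = (x1 * x1) * (x2 * x2) := by group
    _ = 1 := by rw [d.hx1j, d.hx2j, h.hjj]

theorem CoreData.tinv (h : SwapCfg L₁ L₂ j n) (d : CoreData L₁ L₂ j n x1 x2 w1 w2 t k) :
    t⁻¹ = t := inv_eq_of_mul_eq_one_left (d.tt h)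

theorem CoreData.nt (h : SwapCfg L₁ L₂ j n) (d : CoreData L₁ L₂ j n x1 x2 w1 w2 t k) :
    n * t = t * n := by
  apply comm_of_conj_eq
  rw [d.ht]
  calc n * (x1 * x2) * n⁻¹ = (n * x1 * n⁻¹) * (n * x2 * n⁻¹) := by group
    _ = x1 * x2 := by rw [d.hn12, d.hn21, d.x12 h]

theorem CoreData.k1 (d : CoreData L₁ L₂ j n x1 x2 w1 w2 t k) : k⁻¹ * t * k = j := by
  rw [← d.hkj]; group

theorem CoreData.k2 (d : CoreData L₁ L₂ j n x1 x2 w1 w2 t k) : k⁻¹ * j * k = t := by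
  rw [← d.hkt]; group

theorem CoreData.x1t (h : SwapCfg L₁ L₂ j n) (d : CoreData L₁ L₂ j n x1 x2 w1 w2 t k) :
    x1 * t = t * x1 := by
  rw [d.ht]
  calc x1 * (x1 * x2) = x1 * (x2 * x1) := by rw [d.x12 h]
    _ = x1 * x2 * x1 := by group

/-- (T1) involutions of `C(t)` lie in `M^k` -/
theorem CoreData.T1 (h : SwapCfg L₁ L₂ j n) (d : CoreData L₁ L₂ j n x1 x2 w1 w2 t k)
    {r : G} (hrt : r * t = t * r) (hrr : r * r = 1) : k⁻¹ * r * k ∈ L₁ ⊔ L₂ := by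
  apply h.invol_mem
  · calc (k⁻¹ * r * k) * j = k⁻¹ * (r * (k * j * k⁻¹)) * k := by group
      _ = k⁻¹ * (r * t) * k := by rw [d.hkj]
      _ = k⁻¹ * (t * r) * k := by rw [hrt]
      _ = (k⁻¹ * t * k) * (k⁻¹ * r * k) := by group
      _ = j * (k⁻¹ * r * k) := by rw [d.k1]
  · calc (k⁻¹ * r * k) * (k⁻¹ * r * k) = k⁻¹ * (r * r) * k := by group
      _ = 1 := by rw [hrr]; group

/-- (A0) products of inverting elements -/
theorem CoreData.A0 (h : SwapCfg L₁ L₂ j n) (d : CoreData L₁ L₂ j n x1 x2 w1 w2 t k)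
    {a b : G} (ha : a ∈ L₁) (hb : b ∈ L₂) (hax : a * x1 * a⁻¹ = x1⁻¹) (hbx : b * x2 * b⁻¹ = x2⁻¹) :
    k⁻¹ * (a * b) * k ∈ L₁ ⊔ L₂ := by
  have haa : a * a = j := h.hinv1 x1 d.hx1 d.hx1j a ha hax
  have hbb : b * b = j := h.hinv2 x2 d.hx2 d.hx2j b hb hbx
  apply d.T1 h
  · apply comm_of_conj_eq
    calc (a * b) * t * (a * b)⁻¹ = a * (b * x1) * x2 * b⁻¹ * a⁻¹ := by rw [d.ht]; group
      _ = a * (x1 * b) * x2 * b⁻¹ * a⁻¹ := by rw [h.hc x1 d.hx1 b hb]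
      _ = a * x1 * (b * x2 * b⁻¹) * a⁻¹ := by group
      _ = a * x1 * (x2⁻¹ * a⁻¹) := by rw [hbx]; group
      _ = a * x1 * (a⁻¹ * x2⁻¹) := by
          rw [h.hc a⁻¹ (L₁.inv_mem ha) x2⁻¹ (L₂.inv_mem d.hx2)]
      _ = (a * x1 * a⁻¹) * x2⁻¹ := by group
      _ = x1⁻¹ * x2⁻¹ := by rw [hax]
      _ = (x2 * x1)⁻¹ := by group
      _ = (x1 * x2)⁻¹ := by rw [d.x12 h]
      _ = t := by rw [← d.ht, d.tinv h]
  · calc a * b * (a * b) = a * (b * a) * b := by group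
      _ = a * (a * b) * b := by rw [h.hc a ha b hb]
      _ = (a * a) * (b * b) := by group
      _ = 1 := by rw [haa, hbb, h.hjj]

theorem CoreData.x1inv (h : SwapCfg L₁ L₂ j n) (d : CoreData L₁ L₂ j n x1 x2 w1 w2 t k) :
    x1⁻¹ = x1 * j := by
  apply inv_eq_of_mul_eq_one_right
  rw [← mul_assoc, d.hx1j, h.hjj]

theorem CoreData.x2inv (h : SwapCfg L₁ L₂ j n) (d : CoreData L₁ L₂ j n x1 x2 w1 w2 t k) :
    x2⁻¹ = j * x2 := by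
  apply inv_eq_of_mul_eq_one_left
  rw [mul_assoc, d.hx2j, h.hjj]

/-- (A) `C_M(t) ≤ M^k` -/
theorem CoreData.A (h : SwapCfg L₁ L₂ j n) (d : CoreData L₁ L₂ j n x1 x2 w1 w2 t k)
    {y : G} (hy : y ∈ L₁ ⊔ L₂) (hyt : y * t = t * y) : k⁻¹ * y * k ∈ L₁ ⊔ L₂ := by
  obtain ⟨a, ha, b, hb, rfl⟩ := mem_sup_of_commute h.hc hy
  have hp : a * x1 * a⁻¹ ∈ L₁ := L₁.mul_mem (L₁.mul_mem ha d.hx1) (L₁.inv_mem ha)
  have hq : b * x2 * b⁻¹ ∈ L₂ := L₂.mul_mem (L₂.mul_mem hb d.hx2) (L₂.inv_mem hb)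
  obtain ⟨p, hpdef⟩ : ∃ p, p = a * x1 * a⁻¹ := ⟨_, rfl⟩
  obtain ⟨q, hqdef⟩ : ∃ q, q = b * x2 * b⁻¹ := ⟨_, rfl⟩
  rw [← hpdef] at hp
  rw [← hqdef] at hq
  have hpq : p * q = x1 * x2 := by
    have h1 : (a * b) * t * (a * b)⁻¹ = t := conj_eq_of_comm hyt
    rw [← d.ht, ← h1]
    calc p * q = a * x1 * a⁻¹ * q := by rw [hpdef]
      _ = a * x1 * (a⁻¹ * q) := by group
      _ = a * x1 * (q * a⁻¹) := by rw [h.hc a⁻¹ (L₁.inv_mem ha) q hq]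
      _ = a * (x1 * b) * x2 * b⁻¹ * a⁻¹ := by rw [hqdef]; group
      _ = a * (b * x1) * x2 * b⁻¹ * a⁻¹ := by rw [h.hc x1 d.hx1 b hb]
      _ = (a * b) * t * (a * b)⁻¹ := by rw [d.ht]; group
  have hz1 : x1⁻¹ * p ∈ L₁ := L₁.mul_mem (L₁.inv_mem d.hx1) hp
  have hzeq : x1⁻¹ * p = x2 * q⁻¹ := by
    calc x1⁻¹ * p = x1⁻¹ * (p * q) * q⁻¹ := by group
      _ = x2 * q⁻¹ := by rw [hpq]; group
  have hz2 : x1⁻¹ * p ∈ L₂ := by
    rw [hzeq]; exact L₂.mul_mem d.hx2 (L₂.inv_mem hq)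
  rcases h.hint _ hz1 hz2 with hz | hz
  · -- centralizing case
    have hpx : a * x1 * a⁻¹ = x1 := by
      rw [← hpdef]
      calc p = x1 * (x1⁻¹ * p) := by group
        _ = x1 := by rw [hz, mul_one]
    have hqx : b * x2 * b⁻¹ = x2 := by
      rw [← hqdef]
      rw [hzeq] at hz
      calc q = (x2 * q⁻¹)⁻¹ * x2 := by group
        _ = x2 := by rw [hz, inv_one, one_mul]
    have h1 : (a * w1) * x1 * (a * w1)⁻¹ = x1⁻¹ := by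
      calc (a * w1) * x1 * (a * w1)⁻¹ = a * (w1 * x1 * w1⁻¹) * a⁻¹ := by group
        _ = (a * x1 * a⁻¹)⁻¹ := by rw [d.hw1x]; group
        _ = x1⁻¹ := by rw [hpx]
    have h2 : (b * w2) * x2 * (b * w2)⁻¹ = x2⁻¹ := by
      calc (b * w2) * x2 * (b * w2)⁻¹ = b * (w2 * x2 * w2⁻¹) * b⁻¹ := by group
        _ = (b * x2 * b⁻¹)⁻¹ := by rw [d.hw2x]; group
        _ = x2⁻¹ := by rw [hqx]
    have h3 := d.A0 h (L₁.mul_mem ha d.hw1) (L₂.mul_mem hb d.hw2) h1 h2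
    have h4 := d.A0 h d.hw1 d.hw2 d.hw1x d.hw2x
    have h5 : a * b = ((a * w1) * (b * w2)) * (w1 * w2)⁻¹ := by
      calc a * b = a * (b * w1) * w1⁻¹ := by group
        _ = a * (w1 * b) * w1⁻¹ := by rw [h.hc w1 d.hw1 b hb]
        _ = ((a * w1) * (b * w2)) * (w1 * w2)⁻¹ := by group
    have h6 : k⁻¹ * (a * b) * k = (k⁻¹ * ((a * w1) * (b * w2)) * k) * (k⁻¹ * (w1 * w2) * k)⁻¹ := by
      rw [h5]; group
    rw [h6]
    exact Subgroup.mul_mem _ h3 (Subgroup.inv_mem _ h4)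
  · -- inverting case
    have hpx : a * x1 * a⁻¹ = x1⁻¹ := by
      rw [← hpdef, d.x1inv h]
      calc p = x1 * (x1⁻¹ * p) := by group
        _ = x1 * j := by rw [hz]
    have hqx : b * x2 * b⁻¹ = x2⁻¹ := by
      rw [← hqdef, d.x2inv h]
      rw [hzeq] at hz
      calc q = (x2 * q⁻¹)⁻¹ * x2 := by group
        _ = j * x2 := by rw [hz, h.jinv]
    exact d.A0 h ha hb hpx hqx

/-- the translation map `r ↦ x1⁻¹ r` -/
theorem CoreData.phi (h : SwapCfg L₁ L₂ j n) (d : CoreData L₁ L₂ j n x1 x2 w1 w2 t k)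
    {r : G} (hrj : r * j = j * r) (hrt : r * t = t * r) (hrM : r ∉ L₁ ⊔ L₂) (hrr : r * r = t) :
    (x1⁻¹ * r) * j = j * (x1⁻¹ * r) ∧ (x1⁻¹ * r) * t = t * (x1⁻¹ * r) ∧ x1⁻¹ * r ∉ L₁ ⊔ L₂ ∧
      (x1⁻¹ * r) * (x1⁻¹ * r) = j ∧ x1⁻¹ * r ≠ n := by
  have hx1M : x1 ∈ L₁ ⊔ L₂ := Subgroup.mem_sup_left d.hx1
  have hx1j' : x1⁻¹ * j = j * x1⁻¹ := h.hle _ (Subgroup.inv_mem _ hx1M)
  have hρj : (x1⁻¹ * r) * j = j * (x1⁻¹ * r) := by
    calc (x1⁻¹ * r) * j = x1⁻¹ * (r * j) := by group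
      _ = x1⁻¹ * (j * r) := by rw [hrj]
      _ = (x1⁻¹ * j) * r := by group
      _ = j * (x1⁻¹ * r) := by rw [hx1j']; group
  have hρt : (x1⁻¹ * r) * t = t * (x1⁻¹ * r) := by
    have h1 : x1⁻¹ * t = t * x1⁻¹ := by
      calc x1⁻¹ * t = x1⁻¹ * (t * x1) * x1⁻¹ := by group
        _ = x1⁻¹ * (x1 * t) * x1⁻¹ := by rw [d.x1t h]
        _ = t * x1⁻¹ := by group
    calc (x1⁻¹ * r) * t = x1⁻¹ * (r * t) := by group
      _ = x1⁻¹ * (t * r) := by rw [hrt]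
      _ = (x1⁻¹ * t) * r := by group
      _ = t * (x1⁻¹ * r) := by rw [h1]; group
  have hρM : x1⁻¹ * r ∉ L₁ ⊔ L₂ := by
    intro hmem
    apply hrM
    have : r = x1 * (x1⁻¹ * r) := by group
    rw [this]
    exact Subgroup.mul_mem _ hx1M hmem
  refine ⟨hρj, hρt, hρM, ?_, ?_⟩
  · have hq' : r * x1 * r⁻¹ ∈ L₂ := h.swap12 hrj hrM d.hx1
    have hp' : r * x2 * r⁻¹ ∈ L₁ := h.swap21 hrj hrM d.hx2
    obtain ⟨q', hq'def⟩ : ∃ q', q' = r * x1 * r⁻¹ := ⟨_, rfl⟩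
    obtain ⟨p', hp'def⟩ : ∃ p', p' = r * x2 * r⁻¹ := ⟨_, rfl⟩
    rw [← hq'def] at hq'
    rw [← hp'def] at hp'
    have hqp : q' * p' = x1 * x2 := by
      have h1 : r * t * r⁻¹ = t := conj_eq_of_comm hrt
      rw [← d.ht, ← h1, d.ht, hq'def, hp'def]; group
    have hpq : p' * q' = x1 * x2 := by rw [h.hc p' hp' q' hq', hqp]
    have hs2 : q'⁻¹ * x2 ∈ L₂ := L₂.mul_mem (L₂.inv_mem hq') d.hx2
    have hseq : q'⁻¹ * x2 = x1⁻¹ * p' := by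
      have h1 : q' = p'⁻¹ * (x1 * x2) := by rw [← hpq]; group
      have h2 : x1⁻¹ * p' ∈ L₁ := L₁.mul_mem (L₁.inv_mem d.hx1) hp'
      calc q'⁻¹ * x2 = x2⁻¹ * ((x1⁻¹ * p') * x2) := by rw [h1]; group
        _ = x2⁻¹ * (x2 * (x1⁻¹ * p')) := by rw [h.hc _ h2 x2 d.hx2]
        _ = x1⁻¹ * p' := by group
    have hs1 : q'⁻¹ * x2 ∈ L₁ := by
      rw [hseq]; exact L₁.mul_mem (L₁.inv_mem d.hx1) hp'
    have hsq : (x1⁻¹ * r) * (x1⁻¹ * r) = q'⁻¹ * x2 := by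
      calc (x1⁻¹ * r) * (x1⁻¹ * r) = x1⁻¹ * (r * x1 * r⁻¹)⁻¹ * (r * r) := by group
        _ = x1⁻¹ * q'⁻¹ * (x1 * x2) := by rw [← hq'def, hrr, d.ht]
        _ = x1⁻¹ * (q'⁻¹ * x1) * x2 := by group
        _ = x1⁻¹ * (x1 * q'⁻¹) * x2 := by rw [h.hc x1 d.hx1 q'⁻¹ (L₂.inv_mem hq')]
        _ = q'⁻¹ * x2 := by group
    rcases h.hint _ hs1 hs2 with hs | hs
    · exfalso
      rw [hs] at hsq
      exact h.sq_ne_one hρj hρM hsq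
    · rw [hsq, hs]
  · intro heq
    have hr : r = x1 * n := by rw [← heq]; group
    have h1 : r * r = t * j := by
      calc r * r = x1 * (n * x1 * n⁻¹) * (n * n) := by rw [hr]; group
        _ = t * j := by rw [d.hn12, h.hnn, d.ht]
    rw [hrr] at h1
    apply h.hjne
    calc j = t⁻¹ * (t * j) := by group
      _ = 1 := by rw [← h1]; group

/-- the counting contradiction -/
theorem CoreData.absurd [Finite G] (h : SwapCfg L₁ L₂ j n)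
    (d : CoreData L₁ L₂ j n x1 x2 w1 w2 t k) : False := by
  obtain ⟨Sj, hSj⟩ : ∃ Sj : Set G,
      Sj = {r | r * j = j * r ∧ r * t = t * r ∧ r ∉ L₁ ⊔ L₂ ∧ r * r = j} := ⟨_, rfl⟩
  obtain ⟨St, hSt⟩ : ∃ St : Set G,
      St = {r | r * j = j * r ∧ r * t = t * r ∧ r ∉ L₁ ⊔ L₂ ∧ r * r = t} := ⟨_, rfl⟩
  have hnS : n ∈ Sj := by
    rw [hSj]
    exact ⟨h.hnj, d.nt h, h.n_not_mem, h.hnn⟩
  have h1 : Sj.ncard ≤ St.ncard := by
    apply Set.ncard_le_ncard_of_injOn (fun r => k * r * k⁻¹)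
    · intro r hr
      rw [hSj] at hr
      obtain ⟨hrj, hrt, hrM, hrr⟩ := hr
      rw [hSt]
      refine ⟨?_, ?_, ?_, ?_⟩
      · calc (k * r * k⁻¹) * j = (k * r * k⁻¹) * (k * t * k⁻¹) := by rw [d.hkt]
          _ = k * (r * t) * k⁻¹ := by group
          _ = k * (t * r) * k⁻¹ := by rw [hrt]
          _ = (k * t * k⁻¹) * (k * r * k⁻¹) := by group
          _ = j * (k * r * k⁻¹) := by rw [d.hkt]
      · calc (k * r * k⁻¹) * t = (k * r * k⁻¹) * (k * j * k⁻¹) := by rw [d.hkj]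
          _ = k * (r * j) * k⁻¹ := by group
          _ = k * (j * r) * k⁻¹ := by rw [hrj]
          _ = (k * j * k⁻¹) * (k * r * k⁻¹) := by group
          _ = t * (k * r * k⁻¹) := by rw [d.hkj]
      · intro hmem
        have hcomm : (k * r * k⁻¹) * t = t * (k * r * k⁻¹) := by
          calc (k * r * k⁻¹) * t = (k * r * k⁻¹) * (k * j * k⁻¹) := by rw [d.hkj]
            _ = k * (r * j) * k⁻¹ := by group
            _ = k * (j * r) * k⁻¹ := by rw [hrj]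
            _ = (k * j * k⁻¹) * (k * r * k⁻¹) := by group
            _ = t * (k * r * k⁻¹) := by rw [d.hkj]
        have h2 := d.A h hmem hcomm
        have h3 : k⁻¹ * (k * r * k⁻¹) * k = r := by group
        rw [h3] at h2
        exact hrM h2
      · calc (k * r * k⁻¹) * (k * r * k⁻¹) = k * (r * r) * k⁻¹ := by group
          _ = t := by rw [hrr, d.hkj]
    · intro r _ r' _ heq
      have h2 : k * r * k⁻¹ = k * r' * k⁻¹ := heq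
      calc r = k⁻¹ * (k * r * k⁻¹) * k := by group
        _ = k⁻¹ * (k * r' * k⁻¹) * k := by rw [h2]
        _ = r' := by group
  have h2 : St.ncard ≤ (Sj \ {n}).ncard := by
    apply Set.ncard_le_ncard_of_injOn (fun r => x1⁻¹ * r)
    · intro r hr
      rw [hSt] at hr
      obtain ⟨hrj, hrt, hrM, hrr⟩ := hr
      obtain ⟨p1, p2, p3, p4, p5⟩ := d.phi h hrj hrt hrM hrr
      rw [hSj]
      exact ⟨⟨p1, p2, p3, p4⟩, p5⟩
    · intro r _ r' _ heq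
      exact mul_left_cancel heq
  have h3 : (Sj \ {n}).ncard < Sj.ncard := Set.ncard_sdiff_singleton_lt_of_mem hnS
  omega

end core

section iso

variable {L₁ L₂ : Subgroup G} {j n : G}

/-- `j` is isolated in its centralizer -/
theorem SwapCfg.isolated [Finite G] (h : SwapCfg L₁ L₂ j n) (g0 : G)
    (hg0 : (g0 * j * g0⁻¹) * j = j * (g0 * j * g0⁻¹)) : g0 * j * g0⁻¹ = j := by
  by_contra hne
  obtain ⟨x0, hx0M, hx0⟩ := h.hconj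
  obtain ⟨x1, hx1, hx1j, w1, hw1, hw1x⟩ := h.hx
  have ht0sq : (g0 * j * g0⁻¹) * (g0 * j * g0⁻¹) = 1 := by
    calc (g0 * j * g0⁻¹) * (g0 * j * g0⁻¹) = g0 * (j * j) * g0⁻¹ := by group
      _ = 1 := by rw [h.hjj]; group
  have ht0ne : g0 * j * g0⁻¹ ≠ 1 := by
    intro h1
    apply h.hjne
    calc j = g0⁻¹ * (g0 * j * g0⁻¹) * g0 := by group
      _ = 1 := by rw [h1]; group
  have ht0M := h.invol_mem hg0 ht0sq
  obtain ⟨c0, hc0M, hc0⟩ := hx0 _ ht0M ht0sq ht0ne hne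
  have hx2 : n * x1 * n⁻¹ ∈ L₂ := h.hs12 x1 hx1
  have hx2j : (n * x1 * n⁻¹) * (n * x1 * n⁻¹) = j := by
    calc (n * x1 * n⁻¹) * (n * x1 * n⁻¹) = n * (x1 * x1) * n⁻¹ := by group
      _ = j := by rw [hx1j, h.n_conj_j]
  have hn21 : n * (n * x1 * n⁻¹) * n⁻¹ = x1 :=
    h.nn_conj (h.hle x1 (Subgroup.mem_sup_left hx1))
  have hw2 : n * w1 * n⁻¹ ∈ L₂ := h.hs12 w1 hw1
  have hw2x : (n * w1 * n⁻¹) * (n * x1 * n⁻¹) * (n * w1 * n⁻¹)⁻¹ = (n * x1 * n⁻¹)⁻¹ := by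
    calc (n * w1 * n⁻¹) * (n * x1 * n⁻¹) * (n * w1 * n⁻¹)⁻¹ = n * (w1 * x1 * w1⁻¹) * n⁻¹ := by group
      _ = (n * x1 * n⁻¹)⁻¹ := by rw [hw1x]; group
  obtain ⟨x2, hx2def⟩ : ∃ x2, x2 = n * x1 * n⁻¹ := ⟨_, rfl⟩
  obtain ⟨w2, hw2def⟩ : ∃ w2, w2 = n * w1 * n⁻¹ := ⟨_, rfl⟩
  rw [← hx2def] at hx2 hx2j hn21 hw2x
  rw [← hw2def] at hw2 hw2x
  have hx1n2 : x1 ∉ L₂ := by
    intro hmem
    rcases h.hint x1 hx1 hmem with h4 | h4
    · rw [h4, one_mul] at hx1j; exact h.hjne hx1j.symm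
    · rw [h4, h.hjj] at hx1j; exact h.hjne hx1j.symm
  have hx12 : x1 * x2 = x2 * x1 := h.hc x1 hx1 x2 hx2
  obtain ⟨t, htdef⟩ : ∃ t, t = x1 * x2 := ⟨_, rfl⟩
  have htM : t ∈ L₁ ⊔ L₂ := by
    rw [htdef]
    exact Subgroup.mul_mem _ (Subgroup.mem_sup_left hx1) (Subgroup.mem_sup_right hx2)
  have htt : t * t = 1 := by
    rw [htdef]
    calc x1 * x2 * (x1 * x2) = x1 * (x2 * x1) * x2 := by group
      _ = x1 * (x1 * x2) * x2 := by rw [hx12]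
      _ = (x1 * x1) * (x2 * x2) := by group
      _ = 1 := by rw [hx1j, hx2j, h.hjj]
  have htne1 : t ≠ 1 := by
    intro h1
    apply hx1n2
    have : x1 = t * x2⁻¹ := by rw [htdef]; group
    rw [this, h1, one_mul]
    exact L₂.inv_mem hx2
  have htnej : t ≠ j := by
    intro h1
    apply hx1n2
    have : x1 = t * x2⁻¹ := by rw [htdef]; group
    rw [this, h1]
    exact L₂.mul_mem h.hj2 (L₂.inv_mem hx2)
  have htj : t * j = j * t := h.hle t htM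
  obtain ⟨c1, hc1M, hc1⟩ := hx0 t htM htt htne1 htnej
  obtain ⟨g, hgdef⟩ : ∃ g, g = c1 * c0⁻¹ * g0 := ⟨_, rfl⟩
  have hg : g * j * g⁻¹ = t := by
    calc g * j * g⁻¹ = c1 * (c0⁻¹ * (g0 * j * g0⁻¹) * c0) * c1⁻¹ := by rw [hgdef]; group
      _ = c1 * (c0⁻¹ * (c0 * x0 * c0⁻¹) * c0) * c1⁻¹ := by rw [hc0]
      _ = c1 * x0 * c1⁻¹ := by group
      _ = t := hc1
  have hgt : g⁻¹ * t * g = j := by rw [← hg]; group
  have ht'j : (g⁻¹ * j * g) * j = j * (g⁻¹ * j * g) := by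
    calc (g⁻¹ * j * g) * j = (g⁻¹ * j * g) * (g⁻¹ * t * g) := by rw [hgt]
      _ = g⁻¹ * (j * t) * g := by group
      _ = g⁻¹ * (t * j) * g := by rw [htj]
      _ = (g⁻¹ * t * g) * (g⁻¹ * j * g) := by group
      _ = j * (g⁻¹ * j * g) := by rw [hgt]
  have ht't' : (g⁻¹ * j * g) * (g⁻¹ * j * g) = 1 := by
    calc (g⁻¹ * j * g) * (g⁻¹ * j * g) = g⁻¹ * (j * j) * g := by group
      _ = 1 := by rw [h.hjj]; group
  have ht'ne1 : g⁻¹ * j * g ≠ 1 := by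
    intro h1
    apply h.hjne
    calc j = g * (g⁻¹ * j * g) * g⁻¹ := by group
      _ = 1 := by rw [h1]; group
  have ht'nej : g⁻¹ * j * g ≠ j := by
    intro h1
    apply htnej
    rw [← hg]
    calc g * j * g⁻¹ = g * (g⁻¹ * j * g) * g⁻¹ := by rw [h1]
      _ = j := by group
  have ht'M := h.invol_mem ht'j ht't'
  obtain ⟨c2, hc2M, hc2⟩ := hx0 _ ht'M ht't' ht'ne1 ht'nej
  have hcM : c2 * c1⁻¹ ∈ L₁ ⊔ L₂ := Subgroup.mul_mem _ hc2M (Subgroup.inv_mem _ hc1M)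
  have hcj : (c2 * c1⁻¹) * j * (c2 * c1⁻¹)⁻¹ = j := conj_eq_of_comm (h.hle _ hcM)
  have d : CoreData L₁ L₂ j n x1 x2 w1 w2 t (g * (c2 * c1⁻¹)) :=
    { hx1 := hx1
      hx2 := hx2
      hx1j := hx1j
      hx2j := hx2j
      hn12 := hx2def.symm
      hn21 := hn21
      hw1 := hw1
      hw2 := hw2
      hw1x := hw1x
      hw2x := hw2x
      ht := htdef
      hkj := by
        calc g * (c2 * c1⁻¹) * j * (g * (c2 * c1⁻¹))⁻¹
            = g * ((c2 * c1⁻¹) * j * (c2 * c1⁻¹)⁻¹) * g⁻¹ := by group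
          _ = t := by rw [hcj, hg]
      hkt := by
        calc g * (c2 * c1⁻¹) * t * (g * (c2 * c1⁻¹))⁻¹
            = g * (c2 * (c1⁻¹ * t * c1) * c2⁻¹) * g⁻¹ := by group
          _ = g * (c2 * (c1⁻¹ * (c1 * x0 * c1⁻¹) * c1) * c2⁻¹) * g⁻¹ := by rw [hc1]
          _ = g * (c2 * x0 * c2⁻¹) * g⁻¹ := by group
          _ = g * (g⁻¹ * j * g) * g⁻¹ := by rw [hc2]
          _ = j := by group }
  exact d.absurd h

end iso

end Cfsg.Agent.Lib.Helper19.SL2Swap
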