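import Mathlib
import Cfsg.Prelude.Def_CaseTheorems
import Cfsg.Agent.S3209
import Cfsg.Agent.Lib.helper15.SL2Torus
import Cfsg.Agent.Lib.Helper19.IsoInv
import Cfsg.Agent.Lib.Helper19.SL2Swap

/-!
# `SL₂(q₁) ∘ SL₂(q₂)` swapped by a square root of `j`: `G = C(j) O(G)`
-/

set_option autoImplicit false

namespace Cfsg.Agent.Lib.Helper19.SL2SwapMain

open Cfsg.Agent.Lib.Helper19.SL2Swap Cfsg.Agent.Lib.helper15

/-- an element of `SL₂(q)`, `q` odd, inverting a square root of `-1` is itself a square root of `-1` -/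
theorem sq_eq_j_of_inverts {G : Type*} [Group G] {F : Type*} [Field F] [Fintype F]
    (hF : Odd (Fintype.card F)) (L : Subgroup G)
    (e : ↥L ≃* Matrix.SpecialLinearGroup (Fin 2) F) (j : G) (hjL : j ∈ L) (hj : orderOf j = 2)
    (x : G) (hx : x ∈ L) (hxx : x * x = j) (a : G) (ha : a ∈ L) (hax : a * x * a⁻¹ = x⁻¹) :
    a * a = j := by
  have h2 := Cfsg.Agent.S3209.two_ne_zero_of_odd hF
  have hej := Cfsg.Agent.S3209.e_j hF L e j hjL hj
  have hX : e ⟨x, hx⟩ * e ⟨x, hx⟩ = -1 := by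
    rw [← map_mul, ← hej]
    congr 1
    exact Subtype.ext hxx
  have hns : ∀ c : F, ((e ⟨x, hx⟩ : Matrix.SpecialLinearGroup (Fin 2) F) :
      Matrix (Fin 2) (Fin 2) F) ≠ c • (1 : Matrix (Fin 2) (Fin 2) F) := by
    intro c hc
    have h3 : ((e ⟨x, hx⟩ : Matrix.SpecialLinearGroup (Fin 2) F) : Matrix (Fin 2) (Fin 2) F) *
        ((e ⟨x, hx⟩ : Matrix.SpecialLinearGroup (Fin 2) F) : Matrix (Fin 2) (Fin 2) F) = -1 := by
      rw [← Matrix.SpecialLinearGroup.coe_mul, hX, Matrix.SpecialLinearGroup.coe_neg,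
        Matrix.SpecialLinearGroup.coe_one]
    have h5 : ((e ⟨x, hx⟩ : Matrix.SpecialLinearGroup (Fin 2) F) :
        Matrix (Fin 2) (Fin 2) F).det = 1 := (e ⟨x, hx⟩).2
    rw [hc] at h3 h5
    have h4 : c * c = -1 := by
      have := congrFun (congrFun h3 0) 0
      simpa using this
    have h6 : c * c = 1 := by
      have h8 : c = 1 ∨ c = -1 := by simpa [Matrix.det_fin_two] using h5
      rcases h8 with h | h <;> rw [h] <;> ring
    apply h2
    linear_combination h4 - h6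
  have hconj : e ⟨a, ha⟩ * e ⟨x, hx⟩ * (e ⟨a, ha⟩)⁻¹ = (e ⟨x, hx⟩)⁻¹ := by
    rw [← map_inv, ← map_mul, ← map_mul, ← map_inv]
    congr 1
    exact Subtype.ext hax
  have h7 := sq_eq_neg_one_of_conj_inv (e ⟨x, hx⟩) hns (e ⟨a, ha⟩) hconj
  have h8 : e ⟨a, ha⟩ * e ⟨a, ha⟩ = -1 := by
    apply Subtype.ext
    rw [Matrix.SpecialLinearGroup.coe_mul, h7, Matrix.SpecialLinearGroup.coe_neg,
      Matrix.SpecialLinearGroup.coe_one]
  have h9 : (⟨a, ha⟩ : L) * ⟨a, ha⟩ = ⟨j, hjL⟩ := by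
    apply e.injective
    rw [map_mul, h8, hej]
  exact congrArg Subtype.val h9

theorem main {G : Type*} [Group G] [Finite G]
    {F₁ : Type*} [Field F₁] [Fintype F₁] {F₂ : Type*} [Field F₂] [Fintype F₂]
    (hF₁ : Odd (Fintype.card F₁)) (hF₂ : Odd (Fintype.card F₂)) (L₁ L₂ : Subgroup G)
    (e₁ : ↥L₁ ≃* Matrix.SpecialLinearGroup (Fin 2) F₁)
    (e₂ : ↥L₂ ≃* Matrix.SpecialLinearGroup (Fin 2) F₂)
    (hc : ∀ x ∈ L₁, ∀ y ∈ L₂, x * y = y * x) (j : G) (hj : orderOf j = 2)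
    (hm : L₁ ⊓ L₂ = Subgroup.zpowers j)
    (hle : L₁ ⊔ L₂ ≤ Subgroup.centralizer ({j} : Set G))
    (hi : (L₁ ⊔ L₂).relIndex (Subgroup.centralizer ({j} : Set G)) = 2) (n : G)
    (hn : n ∈ Subgroup.centralizer ({j} : Set G))
    (hn2 : n ^ 2 = j) (hswap : L₁.map (MulAut.conj n).toMonoidHom = L₂) :
    Subgroup.centralizer ({j} : Set G) ⊔ Cfsg.oddCore G = ⊤ := by
  have hjm : j ∈ L₁ ⊓ L₂ := by rw [hm]; exact Subgroup.mem_zpowers j
  have hj1 : j ∈ L₁ := hjm.1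
  have hj2 : j ∈ L₂ := hjm.2
  have hjj : j * j = 1 := by
    have := pow_orderOf_eq_one j
    rw [hj, pow_two] at this
    exact this
  have hjne : j ≠ 1 := by
    intro h
    rw [h, orderOf_one] at hj
    omega
  have hjinv : j⁻¹ = j := inv_eq_of_mul_eq_one_left hjj
  have hinter : ∀ a : G, a ∈ L₁ → a ∈ L₂ → a = 1 ∨ a = j := by
    intro a ha1 ha2
    have : a ∈ L₁ ⊓ L₂ := ⟨ha1, ha2⟩
    rw [hm, Subgroup.mem_zpowers_iff] at this
    obtain ⟨k, rfl⟩ := this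
    rw [← zpow_mod_orderOf, hj]
    have h0 : 0 ≤ k % 2 := Int.emod_nonneg _ (by norm_num)
    have h1 : k % 2 < 2 := Int.emod_lt_of_pos _ (by norm_num)
    have h2 : k % 2 = 0 ∨ k % 2 = 1 := by omega
    rcases h2 with h | h
    · left
      rw [show ((2 : ℕ) : ℤ) = 2 by norm_num, h, zpow_zero]
    · right
      rw [show ((2 : ℕ) : ℤ) = 2 by norm_num, h, zpow_one]
  have hleM : ∀ m ∈ L₁ ⊔ L₂, m * j = j * m := fun m hm' =>
    Subgroup.mem_centralizer_singleton_iff.mp (hle hm')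
  have hnj : n * j = j * n := Subgroup.mem_centralizer_singleton_iff.mp hn
  have hnn : n * n = j := by rw [← pow_two]; exact hn2
  have hs12 : ∀ a ∈ L₁, n * a * n⁻¹ ∈ L₂ := by
    intro a ha
    rw [← hswap]
    exact ⟨a, ha, rfl⟩
  have hs21 : ∀ b ∈ L₂, n * b * n⁻¹ ∈ L₁ := by
    intro b hb
    rw [← hswap] at hb
    obtain ⟨a, ha, rfl⟩ := hb
    have haj : a * j = j * a := hleM a (Subgroup.mem_sup_left ha)
    have : n * ((MulAut.conj n).toMonoidHom a) * n⁻¹ = a := by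
      show n * (n * a * n⁻¹) * n⁻¹ = a
      calc n * (n * a * n⁻¹) * n⁻¹ = (n * n) * a * (n * n)⁻¹ := by group
        _ = j * a * j⁻¹ := by rw [hnn]
        _ = a * j * j⁻¹ := by rw [haj]
        _ = a := by group
    rw [this]
    exact ha
  have hidx : ∀ r s : G, r * j = j * r → s * j = j * s → r ∉ L₁ ⊔ L₂ → s ∉ L₁ ⊔ L₂ →
      r * s⁻¹ ∈ L₁ ⊔ L₂ := by
    obtain ⟨a, _, hax⟩ := Subgroup.relIndex_eq_two_iff.mp hi
    intro r s hr hs hrM hsM
    have hrC : r ∈ Subgroup.centralizer ({j} : Set G) :=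
      Subgroup.mem_centralizer_singleton_iff.mpr hr
    have hsC : s ∈ Subgroup.centralizer ({j} : Set G) :=
      Subgroup.mem_centralizer_singleton_iff.mpr hs
    have h1 : r * a ∈ L₁ ⊔ L₂ := by
      rcases hax r hrC with ⟨h1, _⟩ | ⟨h1, _⟩
      · exact h1
      · exact absurd h1 hrM
    have h2 : s * a ∈ L₁ ⊔ L₂ := by
      rcases hax s hsC with ⟨h1, _⟩ | ⟨h1, _⟩
      · exact h1
      · exact absurd h1 hsM
    have : r * s⁻¹ = (r * a) * (s * a)⁻¹ := by group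
    rw [this]
    exact Subgroup.mul_mem _ h1 (Subgroup.inv_mem _ h2)
  obtain ⟨x1, hx1, hx1j⟩ := Cfsg.Agent.S3209.exists_sqrt_j hF₁ L₁ e₁ j hj1 hj
  have hx1inv : x1⁻¹ * x1⁻¹ = j := by
    calc x1⁻¹ * x1⁻¹ = (x1 * x1)⁻¹ := by group
      _ = j := by rw [hx1j, hjinv]
  obtain ⟨w1, hw1, hw1x⟩ := Cfsg.Agent.S3209.conj_sqrt_j hF₁ L₁ e₁ j hj1 hj x1 x1⁻¹ hx1
    (L₁.inv_mem hx1) hx1j hx1inv
  obtain ⟨x0, hx0M, _, _, hx0⟩ := Cfsg.Agent.S3209.result hF₁ hF₂ L₁ L₂ e₁ e₂ hc j hj hm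
  have cfg : SwapCfg L₁ L₂ j n :=
    { hc := hc
      hj1 := hj1
      hj2 := hj2
      hjj := hjj
      hjne := hjne
      hint := hinter
      hle := hleM
      hidx := hidx
      hnj := hnj
      hnn := hnn
      hs12 := hs12
      hs21 := hs21
      hinv1 := fun x hx hxx a ha hax => sq_eq_j_of_inverts hF₁ L₁ e₁ j hj1 hj x hx hxx a ha hax
      hinv2 := fun x hx hxx a ha hax => sq_eq_j_of_inverts hF₂ L₂ e₂ j hj2 hj x hx hxx a ha hax
      hx := ⟨x1, hx1, hx1j, w1, hw1, hw1x⟩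
      hconj := by
        refine ⟨x0, hx0M, ?_⟩
        intro y hy hyy hy1 hyj
        have : Fact (Nat.Prime 2) := ⟨Nat.prime_two⟩
        have ho : orderOf y = 2 := orderOf_eq_prime (by rw [pow_two]; exact hyy) hy1
        rcases hx0 y hy ho with h | h
        · exact absurd h hyj
        · exact h }
  apply Cfsg.Agent.Lib.Helper19.IsoInv.sup_oddCore_of_isolated hj
  intro g hg
  exact cfg.isolated g (Subgroup.mem_centralizer_singleton_iff.mp hg)

end Cfsg.Agent.Lib.Helper19.SL2SwapMain
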