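import Mathlib

set_option autoImplicit false

namespace Cfsg.Agent.Lib.Helper19.SL33

structure M3 where
  (a b c d e f g h i : ZMod 3)
deriving DecidableEq

def M3.mul (x y : M3) : M3 :=
  ⟨x.a * y.a + x.b * y.d + x.c * y.g,
   x.a * y.b + x.b * y.e + x.c * y.h,
   x.a * y.c + x.b * y.f + x.c * y.i,
   x.d * y.a + x.e * y.d + x.f * y.g,
   x.d * y.b + x.e * y.e + x.f * y.h,
   x.d * y.c + x.e * y.f + x.f * y.i,
   x.g * y.a + x.h * y.d + x.i * y.g,
   x.g * y.b + x.h * y.e + x.i * y.h,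
   x.g * y.c + x.h * y.f + x.i * y.i⟩

def M3.one : M3 := ⟨1, 0, 0, 0, 1, 0, 0, 0, 1⟩

def M3.det (x : M3) : ZMod 3 :=
  x.a * x.e * x.i - x.a * x.f * x.h - x.b * x.d * x.i + x.b * x.f * x.g + x.c * x.d * x.h - x.c * x.e * x.g

def bindZ (x : ZMod 3) (k : ZMod 3 → Bool) : Bool :=
  if x = 0 then k 0 else if x = 1 then k 1 else k 2

def mulK (x y : M3) (k : M3 → Bool) : Bool :=
  bindZ (x.a * y.a + x.b * y.d + x.c * y.g) fun r1 =>
  bindZ (x.a * y.b + x.b * y.e + x.c * y.h) fun r2 =>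
  bindZ (x.a * y.c + x.b * y.f + x.c * y.i) fun r3 =>
  bindZ (x.d * y.a + x.e * y.d + x.f * y.g) fun r4 =>
  bindZ (x.d * y.b + x.e * y.e + x.f * y.h) fun r5 =>
  bindZ (x.d * y.c + x.e * y.f + x.f * y.i) fun r6 =>
  bindZ (x.g * y.a + x.h * y.d + x.i * y.g) fun r7 =>
  bindZ (x.g * y.b + x.h * y.e + x.i * y.h) fun r8 =>
  bindZ (x.g * y.c + x.h * y.f + x.i * y.i) fun r9 =>
  k ⟨r1, r2, r3, r4, r5, r6, r7, r8, r9⟩

def chkM (x : M3) : Bool :=
  mulK x x fun x2 => mulK x2 x2 fun x4 => mulK x4 x4 fun x8 =>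
    (x8 == M3.one) || (mulK x4 x2 fun x6 =>
      (x6 == M3.one) || (mulK x8 x4 fun x12 => mulK x12 x fun x13 => x13 == M3.one))

def all3 (f : ZMod 3 → Bool) : Bool := f 0 && f 1 && f 2
def imp (p q : Bool) : Bool := !p || q

def allM3 (P : M3 → Bool) : Bool :=
  all3 fun a => all3 fun b => all3 fun c => all3 fun d => all3 fun e => all3 fun f =>
    all3 fun g => all3 fun h => all3 fun i => P ⟨a, b, c, d, e, f, g, h, i⟩

set_option maxRecDepth 1000000 in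
theorem all_chk : allM3 (fun x => imp (x.det == 1) (chkM x)) = true := by decide +kernel

def w8 : M3 := ⟨0, 0, 1, 0, 1, 1, 2, 1, 0⟩
def w6 : M3 := ⟨0, 0, 1, 0, 1, 0, 2, 0, 1⟩
def w13 : M3 := ⟨0, 0, 1, 0, 1, 1, 2, 1, 1⟩

theorem w8_det : w8.det = 1 := by decide
theorem w6_det : w6.det = 1 := by decide
theorem w13_det : w13.det = 1 := by decide

theorem w8_ord : (w8.mul w8).mul (w8.mul w8) ≠ M3.one ∧
    ((w8.mul w8).mul (w8.mul w8)).mul ((w8.mul w8).mul (w8.mul w8)) = M3.one := by decide +kernel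

theorem w6_ord : w6.mul w6 ≠ M3.one ∧ (w6.mul w6).mul w6 ≠ M3.one ∧
    ((w6.mul w6).mul w6).mul ((w6.mul w6).mul w6) = M3.one := by decide +kernel

theorem w13_ord : w13 ≠ M3.one ∧
    ((((w13.mul w13).mul (w13.mul w13)).mul ((w13.mul w13).mul (w13.mul w13))).mul
      ((w13.mul w13).mul (w13.mul w13))).mul w13 = M3.one := by decide +kernel

end Cfsg.Agent.Lib.Helper19.SL33
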