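import Mathlib
import Cfsg.Agent.Lib.Helper19.SL33Data

set_option autoImplicit false

namespace Cfsg.Agent.Lib.Helper19.SL33

open Matrix

abbrev Mat3 := Matrix (Fin 3) (Fin 3) (ZMod 3)

def M3.toMat (x : M3) : Mat3 := !![x.a, x.b, x.c; x.d, x.e, x.f; x.g, x.h, x.i]

def ofMat (A : Mat3) : M3 := ⟨A 0 0, A 0 1, A 0 2, A 1 0, A 1 1, A 1 2, A 2 0, A 2 1, A 2 2⟩

theorem toMat_ofMat (A : Mat3) : (ofMat A).toMat = A := by
  ext i j
  fin_cases i <;> fin_cases j <;> rfl

theorem toMat_mul (x y : M3) : (x.mul y).toMat = x.toMat * y.toMat := by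
  ext i j
  fin_cases i <;> fin_cases j <;>
    simp [M3.toMat, M3.mul, Matrix.mul_apply, Fin.sum_univ_three]

theorem toMat_one : M3.one.toMat = 1 := by
  ext i j
  fin_cases i <;> fin_cases j <;> simp [M3.toMat, M3.one]

theorem toMat_injective : Function.Injective M3.toMat := by
  intro x y h
  have e := fun i j => congrFun (congrFun h i) j
  cases x
  cases y
  simp only [M3.mk.injEq]
  exact ⟨e 0 0, e 0 1, e 0 2, e 1 0, e 1 1, e 1 2, e 2 0, e 2 1, e 2 2⟩

theorem det_toMat (x : M3) : x.toMat.det = x.det := by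
  rw [Matrix.det_fin_three]
  simp [M3.toMat, M3.det]

theorem z3_cases (x : ZMod 3) : x = 0 ∨ x = 1 ∨ x = 2 := by revert x; decide

theorem bindZ_eq (x : ZMod 3) (k : ZMod 3 → Bool) : bindZ x k = k x := by
  rcases z3_cases x with rfl | rfl | rfl <;> rfl

theorem mulK_eq (x y : M3) (k : M3 → Bool) : mulK x y k = k (x.mul y) := by
  simp only [mulK, bindZ_eq]
  rfl

theorem all3_spec {f : ZMod 3 → Bool} (h : all3 f = true) (x : ZMod 3) : f x = true := by
  simp only [all3, Bool.and_eq_true] at h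
  rcases z3_cases x with rfl | rfl | rfl
  exacts [h.1.1, h.1.2, h.2]

theorem allM3_spec {P : M3 → Bool} (h : allM3 P = true) (x : M3) : P x = true := by
  cases x with
  | mk a b c d e f g h' i =>
    exact all3_spec (all3_spec (all3_spec (all3_spec (all3_spec (all3_spec (all3_spec
      (all3_spec (all3_spec h a) b) c) d) e) f) g) h') i

theorem imp_spec {p q : Bool} (h : imp p q = true) (hp : p = true) : q = true := by
  subst hp
  simpa [imp] using h

theorem chkM_spec (x : M3) (h : chkM x = true) :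
    ((x.mul x).mul (x.mul x)).mul ((x.mul x).mul (x.mul x)) = M3.one ∨
    ((x.mul x).mul (x.mul x)).mul (x.mul x) = M3.one ∨
    ((((x.mul x).mul (x.mul x)).mul ((x.mul x).mul (x.mul x))).mul ((x.mul x).mul (x.mul x))).mul x
      = M3.one := by
  simp only [chkM, mulK_eq, Bool.or_eq_true, beq_iff_eq] at h
  exact h

theorem pow8 (M : Mat3) : M ^ 8 = (M * M * (M * M)) * (M * M * (M * M)) := by
  simp only [pow_succ, pow_zero, one_mul, mul_assoc]

theorem pow6 (M : Mat3) : M ^ 6 = (M * M * (M * M)) * (M * M) := by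
  simp only [pow_succ, pow_zero, one_mul, mul_assoc]

theorem pow13 (M : Mat3) :
    M ^ 13 = (M * M * (M * M)) * (M * M * (M * M)) * (M * M * (M * M)) * M := by
  simp only [pow_succ, pow_zero, one_mul, mul_assoc]

theorem mat_pow (A : Mat3) (hdet : A.det = 1) : A ^ 8 = 1 ∨ A ^ 6 = 1 ∨ A ^ 13 = 1 := by
  have h1 := allM3_spec all_chk (ofMat A)
  have h2 : (ofMat A).det = 1 := by rw [← det_toMat, toMat_ofMat]; exact hdet
  have h3 := chkM_spec _ (imp_spec h1 (by rw [beq_iff_eq]; exact h2))
  have hA := toMat_ofMat A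
  rcases h3 with h | h | h
  · left
    have := congrArg M3.toMat h
    simp only [toMat_mul, toMat_one, hA] at this
    rw [pow8]; exact this
  · right; left
    have := congrArg M3.toMat h
    simp only [toMat_mul, toMat_one, hA] at this
    rw [pow6]; exact this
  · right; right
    have := congrArg M3.toMat h
    simp only [toMat_mul, toMat_one, hA] at this
    rw [pow13]; exact this

abbrev S33 := Matrix.SpecialLinearGroup (Fin 3) (ZMod 3)

theorem sl_pow (s : S33) : s ^ 8 = 1 ∨ s ^ 6 = 1 ∨ s ^ 13 = 1 := by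
  rcases mat_pow s.1 s.2 with h | h | h
  · left; exact Subtype.ext (by rw [Matrix.SpecialLinearGroup.coe_pow]; exact h)
  · right; left; exact Subtype.ext (by rw [Matrix.SpecialLinearGroup.coe_pow]; exact h)
  · right; right; exact Subtype.ext (by rw [Matrix.SpecialLinearGroup.coe_pow]; exact h)

def mkS (x : M3) (h : x.det = 1) : S33 := ⟨x.toMat, by rw [det_toMat]; exact h⟩

theorem mkS_pow_eq_one (x : M3) (h : x.det = 1) (n : ℕ) : mkS x h ^ n = 1 ↔ x.toMat ^ n = 1 := by
  constructor
  · intro h1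
    have := congrArg Subtype.val h1
    rw [Matrix.SpecialLinearGroup.coe_pow] at this
    exact this
  · intro h1
    exact Subtype.ext (by rw [Matrix.SpecialLinearGroup.coe_pow]; exact h1)

theorem toMat_ne_one {a : M3} (h : a ≠ M3.one) : a.toMat ≠ 1 := by
  intro h1
  apply h
  apply toMat_injective
  rw [h1, toMat_one]

theorem pow4 (M : Mat3) : M ^ 4 = (M * M) * (M * M) := by
  simp only [pow_succ, pow_zero, one_mul, mul_assoc]

theorem pow2' (M : Mat3) : M ^ 2 = M * M := by
  simp only [pow_succ, pow_zero, one_mul]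

theorem pow3' (M : Mat3) : M ^ 3 = M * M * M := by
  simp only [pow_succ, pow_zero, one_mul]

theorem pow6' (M : Mat3) : M ^ 6 = (M * M * M) * (M * M * M) := by
  simp only [pow_succ, pow_zero, one_mul, mul_assoc]

theorem pow13' (M : Mat3) :
    M ^ 13 = ((M * M) * (M * M)) * ((M * M) * (M * M)) * ((M * M) * (M * M)) * M := by
  simp only [pow_succ, pow_zero, one_mul, mul_assoc]

theorem order8 : orderOf (mkS w8 w8_det) = 8 := by
  have h8 : (8 : ℕ) = 2 ^ (2 + 1) := by norm_num
  rw [h8]
  apply orderOf_eq_prime_pow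
  · rw [mkS_pow_eq_one]
    norm_num
    rw [pow4, ← toMat_mul, ← toMat_mul]
    exact toMat_ne_one w8_ord.1
  · rw [mkS_pow_eq_one]
    norm_num
    rw [pow8, ← toMat_mul, ← toMat_mul, ← toMat_mul, w8_ord.2, toMat_one]

theorem order6 : orderOf (mkS w6 w6_det) = 6 := by
  apply orderOf_eq_of_pow_and_pow_div_prime (by norm_num)
  · rw [mkS_pow_eq_one, pow6', ← toMat_mul, ← toMat_mul, ← toMat_mul, w6_ord.2.2, toMat_one]
  · intro p hp hp6
    have hp' : p = 2 ∨ p = 3 := by
      have h1 : p ∣ 2 * 3 := by norm_num; exact hp6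
      rcases (Nat.Prime.dvd_mul hp).mp h1 with h | h
      · left; exact (Nat.prime_dvd_prime_iff_eq hp Nat.prime_two).mp h
      · right; exact (Nat.prime_dvd_prime_iff_eq hp Nat.prime_three).mp h
    rcases hp' with rfl | rfl
    · rw [Ne, mkS_pow_eq_one]
      norm_num
      rw [pow3', ← toMat_mul, ← toMat_mul]
      exact toMat_ne_one w6_ord.2.1
    · rw [Ne, mkS_pow_eq_one]
      norm_num
      rw [pow2', ← toMat_mul]
      exact toMat_ne_one w6_ord.1

theorem order13 : orderOf (mkS w13 w13_det) = 13 := by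
  have : Fact (Nat.Prime 13) := ⟨by norm_num⟩
  apply orderOf_eq_prime
  · rw [mkS_pow_eq_one, pow13', ← toMat_mul, ← toMat_mul, ← toMat_mul, ← toMat_mul, ← toMat_mul,
      w13_ord.2, toMat_one]
  · intro h
    have h1 := (mkS_pow_eq_one w13 w13_det 1).mp (by rw [pow_one]; exact h)
    rw [pow_one] at h1
    exact toMat_ne_one w13_ord.1 h1

theorem range_orderOf_S33 : Set.range (orderOf : S33 → ℕ) = {1, 2, 3, 4, 6, 8, 13} := by
  ext k
  constructor
  · rintro ⟨g, rfl⟩
    rcases sl_pow g with h | h | h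
    · have h1 : orderOf g ∈ Nat.divisors 8 :=
        Nat.mem_divisors.mpr ⟨orderOf_dvd_of_pow_eq_one h, by norm_num⟩
      have h2 : Nat.divisors 8 = {1, 2, 4, 8} := by decide
      rw [h2] at h1
      simp only [Finset.mem_insert, Finset.mem_singleton] at h1
      simp only [Set.mem_insert_iff, Set.mem_singleton_iff]
      omega
    · have h1 : orderOf g ∈ Nat.divisors 6 :=
        Nat.mem_divisors.mpr ⟨orderOf_dvd_of_pow_eq_one h, by norm_num⟩
      have h2 : Nat.divisors 6 = {1, 2, 3, 6} := by decide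
      rw [h2] at h1
      simp only [Finset.mem_insert, Finset.mem_singleton] at h1
      simp only [Set.mem_insert_iff, Set.mem_singleton_iff]
      omega
    · have h1 : orderOf g ∣ 13 := orderOf_dvd_of_pow_eq_one h
      rcases (Nat.dvd_prime (by norm_num : Nat.Prime 13)).mp h1 with h2 | h2
      · simp only [Set.mem_insert_iff, Set.mem_singleton_iff]; omega
      · simp only [Set.mem_insert_iff, Set.mem_singleton_iff]; omega
  · simp only [Set.mem_insert_iff, Set.mem_singleton_iff]
    rintro (rfl | rfl | rfl | rfl | rfl | rfl | rfl)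
    · exact ⟨1, orderOf_one⟩
    · exact ⟨mkS w8 w8_det ^ 4, by rw [orderOf_pow' _ (by norm_num), order8]; norm_num⟩
    · exact ⟨mkS w6 w6_det ^ 2, by rw [orderOf_pow' _ (by norm_num), order6]; norm_num⟩
    · exact ⟨mkS w8 w8_det ^ 2, by rw [orderOf_pow' _ (by norm_num), order8]; norm_num⟩
    · exact ⟨_, order6⟩
    · exact ⟨_, order8⟩
    · exact ⟨_, order13⟩

end Cfsg.Agent.Lib.Helper19.SL33
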