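import Mathlib
import Cfsg.Agent.Lib.helper7.SPC.Defs

set_option autoImplicit false

/-!
# Project SPC, row E3 (helper19): `embedA`.
-/

namespace Cfsg.Agent.Lib.helper7.SPC

universe u

open Module

variable {F : Type u} [Field F]

/-- the chain map `v ↦ Σ_a v a • N^a x` -/
noncomputable def spce3_chain {V : Type u} [AddCommGroup V] [Module F V] (N : V →ₗ[F] V) (k : ℕ) (x : V) :
    (Fin k → F) →ₗ[F] V :=
  Fintype.linearCombination F (fun a : Fin k => (N ^ a.val) x)

theorem spce3_chain_apply {V : Type u} [AddCommGroup V] [Module F V] (N : V →ₗ[F] V) (k : ℕ) (x : V)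
    (v : Fin k → F) : spce3_chain N k x v = ∑ a : Fin k, v a • (N ^ a.val) x := by
  simp [spce3_chain, Fintype.linearCombination_apply]

/-- the chain map intertwines the shift with `N` (when `N^k x = 0`) -/
theorem spce3_chain_shift {V : Type u} [AddCommGroup V] [Module F V] (N : V →ₗ[F] V) (k : ℕ) (x : V)
    (hxk : (N ^ k) x = 0) (v : Fin k → F) :
    spce3_chain N k x ((shiftM k F).mulVec v) = N (spce3_chain N k x v) := by
  rw [spce3_chain_apply, spce3_chain_apply, map_sum]
  simp only [Matrix.mulVec, dotProduct, Finset.sum_smul]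
  rw [Finset.sum_comm]
  refine Finset.sum_congr rfl fun j _ => ?_
  rw [map_smul]
  by_cases hj : j.val + 1 < k
  · rw [Finset.sum_eq_single (⟨j.val + 1, hj⟩ : Fin k)]
    · simp [shiftM, pow_succ', Module.End.mul_apply]
    · intro b _ hb
      have : ¬ (b.val = j.val + 1) := fun h => hb (Fin.ext h)
      simp [shiftM, this]
    · intro h; exact absurd (Finset.mem_univ _) h
  · have hjk : j.val + 1 = k := by have := j.isLt; omega
    have h0 : N ((N ^ j.val) x) = 0 := by
      rw [← Module.End.mul_apply, ← pow_succ', hjk, hxk]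
    rw [h0, smul_zero]
    refine Finset.sum_eq_zero fun b _ => ?_
    have : ¬ (b.val = j.val + 1) := by have := b.isLt; omega
    simp [shiftM, this]

/-- the Gram matrix of two chains -/
theorem spce3_chain_B {V : Type u} [AddCommGroup V] [Module F V] (B : V →ₗ[F] V →ₗ[F] F)
    (N : V →ₗ[F] V) (k l : ℕ) (x y : V) (v : Fin k → F) (w : Fin l → F) :
    B (spce3_chain N k x v) (spce3_chain N l y w) =
      ∑ a : Fin k, ∑ b : Fin l, v a * w b * B ((N ^ a.val) x) ((N ^ b.val) y) := by
  rw [spce3_chain_apply, spce3_chain_apply]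
  rw [map_sum B, LinearMap.sum_apply]
  refine Finset.sum_congr rfl fun a _ => ?_
  rw [map_sum]
  refine Finset.sum_congr rfl fun b _ => ?_
  rw [map_smul, map_smul, LinearMap.smul_apply, smul_eq_mul, smul_eq_mul]
  ring

theorem spce3_core {V : Type u} [AddCommGroup V] [Module F V] (B : V →ₗ[F] V →ₗ[F] F)
    (N : V →ₗ[F] V) (k : ℕ) (c : F) (x : V)
    (hx : ∀ a b : ℕ, B ((N ^ a) x) ((N ^ b) x) = if a + b + 1 = k then (-1) ^ a * c else 0)
    (hxk : (N ^ k) x = 0) :
    (∀ v w : Fin k → F, B (spce3_chain N k x v) (spce3_chain N k x w) =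
        Matrix.toLinearMap₂' F (gramA k c) v w) ∧
      ∀ v : Fin k → F, spce3_chain N k x (Matrix.toLin' (shiftM k F) v) = N (spce3_chain N k x v) := by
  refine ⟨?_, ?_⟩
  · intro v w
    rw [spce3_chain_B, Matrix.toLinearMap₂'_apply]
    refine Finset.sum_congr rfl fun a _ => ?_
    refine Finset.sum_congr rfl fun b _ => ?_
    rw [hx, smul_eq_mul, smul_eq_mul]
    simp only [gramA]
    ring
  · intro v
    rw [Matrix.toLin'_apply]
    exact spce3_chain_shift N k x hxk v

theorem embedA (T : Trip F) (k : ℕ) (c : F) (x : T.V)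
    (hx : ∀ a b : ℕ, T.B ((T.N ^ a) x) ((T.N ^ b) x) = if a + b + 1 = k then (-1) ^ a * c else 0)
    (hxk : (T.N ^ k) x = 0) :
    ∃ φ : (blkA k c).V →ₗ[F] T.V, (∀ v w, T.B (φ v) (φ w) = (blkA k c).B v w) ∧
      ∀ v, φ ((blkA k c).N v) = T.N (φ v) :=
  ⟨spce3_chain T.N k x, (spce3_core T.B T.N k c x hx hxk).1, (spce3_core T.B T.N k c x hx hxk).2⟩

end Cfsg.Agent.Lib.helper7.SPC
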