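import Mathlib
import Cfsg.Agent.Lib.helper7.SPC.Defs
import Cfsg.Agent.Lib.Helper19.SPCE3

set_option autoImplicit false

/-!
# Project SPC, row E4 (helper19): `embedH`.
-/

namespace Cfsg.Agent.Lib.helper7.SPC

universe u

open Module

variable {F : Type u} [Field F]

/-- the two-chain map `v ↦ Σ_a v (inl a) • N^a x + Σ_b v (inr b) • N^b y` -/
noncomputable def spce4_chain2 {V : Type u} [AddCommGroup V] [Module F V] (N : V →ₗ[F] V) (k : ℕ) (x y : V) :
    (Fin k ⊕ Fin k → F) →ₗ[F] V :=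
  (spce3_chain N k x).comp (LinearMap.funLeft F F Sum.inl) +
    (spce3_chain N k y).comp (LinearMap.funLeft F F Sum.inr)

theorem spce4_chain2_apply {V : Type u} [AddCommGroup V] [Module F V] (N : V →ₗ[F] V) (k : ℕ) (x y : V)
    (v : Fin k ⊕ Fin k → F) :
    spce4_chain2 N k x y v = spce3_chain N k x (v ∘ Sum.inl) + spce3_chain N k y (v ∘ Sum.inr) := rfl

theorem spce4_antisymm {V : Type u} [AddCommGroup V] [Module F V] (B : V →ₗ[F] V →ₗ[F] F)
    (halt : ∀ x, B x x = 0) (u v : V) : B u v = - B v u := by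
  have h := halt (u + v)
  simp only [map_add, LinearMap.add_apply, halt, zero_add, add_zero] at h
  linear_combination h

theorem spce4_gramH_apply (k : ℕ) (v w : Fin k ⊕ Fin k → F) :
    Matrix.toLinearMap₂' F (gramH k F) v w =
      (∑ a : Fin k, ∑ b : Fin k, v (Sum.inl a) * w (Sum.inr b) * gramA k (1 : F) a b) -
        ∑ a : Fin k, ∑ b : Fin k, w (Sum.inl a) * v (Sum.inr b) * gramA k (1 : F) a b := by
  rw [Matrix.toLinearMap₂'_apply]
  simp only [Fintype.sum_sum_type, gramH, Matrix.fromBlocks_apply₁₁, Matrix.fromBlocks_apply₁₂,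
    Matrix.fromBlocks_apply₂₁, Matrix.fromBlocks_apply₂₂, Matrix.zero_apply, smul_eq_mul,
    Matrix.neg_apply, Matrix.transpose_apply, mul_zero, Finset.sum_const_zero, zero_add, add_zero]
  rw [sub_eq_add_neg]
  congr 1
  · refine Finset.sum_congr rfl fun a _ => ?_
    refine Finset.sum_congr rfl fun b _ => ?_
    ring
  · rw [Finset.sum_comm, ← Finset.sum_neg_distrib]
    refine Finset.sum_congr rfl fun a _ => ?_
    rw [← Finset.sum_neg_distrib]
    refine Finset.sum_congr rfl fun b _ => ?_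
    ring

theorem spce4_core {V : Type u} [AddCommGroup V] [Module F V] (B : V →ₗ[F] V →ₗ[F] F)
    (N : V →ₗ[F] V) (halt : ∀ x, B x x = 0) (k : ℕ) (x y : V)
    (hxx : ∀ a b : ℕ, B ((N ^ a) x) ((N ^ b) x) = 0)
    (hyy : ∀ a b : ℕ, B ((N ^ a) y) ((N ^ b) y) = 0)
    (hxy : ∀ a b : ℕ, B ((N ^ a) x) ((N ^ b) y) = if a + b + 1 = k then (-1) ^ a else 0)
    (hxk : (N ^ k) x = 0) (hyk : (N ^ k) y = 0) :
    (∀ v w : Fin k ⊕ Fin k → F, B (spce4_chain2 N k x y v) (spce4_chain2 N k x y w) =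
        Matrix.toLinearMap₂' F (gramH k F) v w) ∧
      ∀ v : Fin k ⊕ Fin k → F,
        spce4_chain2 N k x y (Matrix.toLin' (Matrix.fromBlocks (shiftM k F) 0 0 (shiftM k F)) v) =
          N (spce4_chain2 N k x y v) := by
  have hXX : ∀ v w : Fin k → F, B (spce3_chain N k x v) (spce3_chain N k x w) = 0 := by
    intro v w
    rw [spce3_chain_B]
    simp only [hxx, mul_zero, Finset.sum_const_zero]
  have hYY : ∀ v w : Fin k → F, B (spce3_chain N k y v) (spce3_chain N k y w) = 0 := by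
    intro v w
    rw [spce3_chain_B]
    simp only [hyy, mul_zero, Finset.sum_const_zero]
  have hXY : ∀ v w : Fin k → F, B (spce3_chain N k x v) (spce3_chain N k y w) =
      ∑ a : Fin k, ∑ b : Fin k, v a * w b * gramA k (1 : F) a b := by
    intro v w
    rw [spce3_chain_B]
    refine Finset.sum_congr rfl fun a _ => ?_
    refine Finset.sum_congr rfl fun b _ => ?_
    rw [hxy]
    simp only [gramA, mul_one]
  refine ⟨?_, ?_⟩
  · intro v w
    rw [spce4_chain2_apply, spce4_chain2_apply, map_add, map_add, LinearMap.add_apply,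
      LinearMap.add_apply,
      hXX, hYY, spce4_antisymm B halt (spce3_chain N k y (v ∘ Sum.inr)), hXY, hXY,
      spce4_gramH_apply]
    simp only [Function.comp_apply]
    ring
  · intro v
    rw [Matrix.toLin'_apply, Matrix.fromBlocks_mulVec, spce4_chain2_apply, spce4_chain2_apply,
      map_add]
    simp only [Matrix.zero_mulVec, add_zero, zero_add]
    have h1 : (Sum.elim ((shiftM k F).mulVec (v ∘ Sum.inl)) ((shiftM k F).mulVec (v ∘ Sum.inr))) ∘
        Sum.inl = (shiftM k F).mulVec (v ∘ Sum.inl) := by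
      ext a; rfl
    have h2 : (Sum.elim ((shiftM k F).mulVec (v ∘ Sum.inl)) ((shiftM k F).mulVec (v ∘ Sum.inr))) ∘
        Sum.inr = (shiftM k F).mulVec (v ∘ Sum.inr) := by
      ext a; rfl
    rw [h1, h2, spce3_chain_shift N k x hxk, spce3_chain_shift N k y hyk]

theorem embedH (T : Trip F) (halt : ∀ x, T.B x x = 0) (k : ℕ) (x y : T.V)
    (hxx : ∀ a b : ℕ, T.B ((T.N ^ a) x) ((T.N ^ b) x) = 0)
    (hyy : ∀ a b : ℕ, T.B ((T.N ^ a) y) ((T.N ^ b) y) = 0)
    (hxy : ∀ a b : ℕ, T.B ((T.N ^ a) x) ((T.N ^ b) y) = if a + b + 1 = k then (-1) ^ a else 0)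
    (hxk : (T.N ^ k) x = 0) (hyk : (T.N ^ k) y = 0) :
    ∃ φ : (blkH k F).V →ₗ[F] T.V, (∀ v w, T.B (φ v) (φ w) = (blkH k F).B v w) ∧
      ∀ v, φ ((blkH k F).N v) = T.N (φ v) :=
  ⟨spce4_chain2 T.N k x y, (spce4_core T.B T.N halt k x y hxx hyy hxy hxk hyk).1,
    (spce4_core T.B T.N halt k x y hxx hyy hxy hxk hyk).2⟩

end Cfsg.Agent.Lib.helper7.SPC
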