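import Mathlib
import Cfsg.Agent.Lib.Helper19.SPD.Defs

/-! SPD row POLAR (helper19): polarisation. -/

set_option autoImplicit false
set_option linter.unusedVariables false

namespace Cfsg.Agent.Lib.Helper19.SPD

open Cfsg.Agent.Lib.helper6

variable {F : Type*} [Field F] {d : ℕ}

theorem spdpolar_pow_mem (y : (Fin d ⊕ Fin d → F) →ₗ[F] (Fin d ⊕ Fin d → F))
    (W : Submodule F (Fin d ⊕ Fin d → F)) (hW : Inv y W) (k : ℕ) (v : Fin d ⊕ Fin d → F) (hv : v ∈ W) :
    (y ^ k) v ∈ W := by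
  induction k with
  | zero => simpa using hv
  | succ k ih =>
    rw [pow_succ', Module.End.mul_apply]
    exact hW _ ih

theorem spdpolar_fix_pow (y : (Fin d ⊕ Fin d → F) →ₗ[F] (Fin d ⊕ Fin d → F))
    (w : Fin d ⊕ Fin d → F) (h : (y ^ 2) w = w) (k : ℕ) : (y ^ (2 * k)) w = w := by
  induction k with
  | zero => simp
  | succ k ih =>
    rw [show 2 * (k + 1) = 2 * k + 2 by ring, pow_add, Module.End.mul_apply, h, ih]

theorem polar_ne (r : ℕ) (hr : Odd r) (y : (Fin d ⊕ Fin d → F) →ₗ[F] (Fin d ⊕ Fin d → F))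
    (hiso : Isom y) (hy : y ^ r = 1) (W : Submodule F (Fin d ⊕ Fin d → F)) (hW : Inv y W) (hnd : ND W)
    (hff : FF y W) (hne : W ≠ ⊥) :
    ∃ v ∈ W, ∃ n : ℕ, Cfsg.sympForm d F v ((y ^ n) v) ≠ 0 := by
  by_contra hcon
  push Not at hcon
  have hr0 : 0 < r := hr.pos
  have h1 : ∀ v ∈ W, Cfsg.sympForm d F v (y v) = 0 := by
    intro v hv
    have := hcon v hv 1
    rwa [pow_one] at this
  -- y (y^(r-1) w) = w
  have hyinv : ∀ w, y ((y ^ (r - 1)) w) = w := by
    intro w
    rw [← Module.End.mul_apply, ← pow_succ', Nat.sub_add_cancel hr0, hy, Module.End.one_apply]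
  -- polarisation
  have h2 : ∀ v ∈ W, ∀ w ∈ W, Cfsg.sympForm d F v (y w) = Cfsg.sympForm d F v ((y ^ (r - 1)) w) := by
    intro v hv w hw
    have e := h1 (v + w) (W.add_mem hv hw)
    rw [map_add, sympForm_add_left, sympForm_add_right, sympForm_add_right, h1 v hv, h1 w hw,
      zero_add, add_zero] at e
    have e2 : Cfsg.sympForm d F w (y v) = - Cfsg.sympForm d F (y v) w := sympForm_swap _ _ _
    have e3 : Cfsg.sympForm d F (y v) w = Cfsg.sympForm d F v ((y ^ (r - 1)) w) := by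
      conv_lhs => rw [← hyinv w]
      exact hiso _ _
    rw [e2, e3] at e
    exact add_neg_eq_zero.mp e
  -- y w = y^(r-1) w on W
  have h3 : ∀ w ∈ W, y w = (y ^ (r - 1)) w := by
    intro w hw
    have hu : y w - (y ^ (r - 1)) w ∈ W := W.sub_mem (hW w hw) (spdpolar_pow_mem y W hW _ w hw)
    have := hnd _ hu (by
      intro v hv
      rw [sympForm_swap, sympForm_sub_right, h2 v hv w hw, sub_self, neg_zero])
    exact sub_eq_zero.mp this
  -- y^2 w = w on W
  have h4 : ∀ w ∈ W, (y ^ 2) w = w := by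
    intro w hw
    rw [pow_two, Module.End.mul_apply, h3 w hw, hyinv]
  -- y w = w on W
  have h5 : ∀ w ∈ W, y w = w := by
    intro w hw
    obtain ⟨k, hk⟩ := hr
    have e1 : (y ^ (2 * (k + 1))) w = w := spdpolar_fix_pow y w (h4 w hw) (k + 1)
    have e2 : (y ^ (2 * (k + 1))) w = y w := by
      rw [show 2 * (k + 1) = r + 1 by omega, pow_succ', Module.End.mul_apply, hy, Module.End.one_apply]
    rw [← e2, e1]
  apply hne
  rw [eq_bot_iff]
  intro w hw
  rw [Submodule.mem_bot]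
  exact hff w hw (h5 w hw)

end Cfsg.Agent.Lib.Helper19.SPD
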