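import Mathlib
import Cfsg.Agent.Lib.Helper20.SS.Defs

/-!
# Project SS (Sylvester–Schur), piece U1: a `k`-smooth `C(n,k)` is at most `n ^ π(k)`
-/

set_option autoImplicit false

namespace Cfsg.Agent.Lib.Helper20.SS

/-- SS-U1: a `k`-smooth binomial coefficient is at most `n ^ π(k)`. -/
theorem choose_le_pow_pi {n k : ℕ} (hk : 0 < k) (hkn : 2 * k ≤ n) (h : Smooth n k) :
    n.choose k ≤ n ^ Nat.primeCounting k := by
  have hn0 : 0 < n := by omega
  have hc : n.choose k ≠ 0 := (Nat.choose_pos (by omega)).ne'
  set s := (Finset.range (k + 1)).filter Nat.Prime with hs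
  have hcard : s.card = Nat.primeCounting k := by
    rw [Nat.primeCounting, Nat.primeCounting', Nat.count_eq_card_filter_range]
  have hsub : (n.choose k).primeFactors ⊆ s := by
    intro p hp
    rw [Nat.mem_primeFactors] at hp
    rw [hs, Finset.mem_filter, Finset.mem_range]
    exact ⟨Nat.lt_succ_of_le (h p hp.1 hp.2.1), hp.1⟩
  have h1 : n.choose k = ∏ p ∈ (n.choose k).primeFactors, p ^ (n.choose k).factorization p := by
    conv_lhs => rw [← Nat.prod_factorization_pow_eq_self hc]
    rfl
  have h2 : ∏ p ∈ (n.choose k).primeFactors, p ^ (n.choose k).factorization p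
      = ∏ p ∈ s, p ^ (n.choose k).factorization p := by
    apply Finset.prod_subset hsub
    intro p _ hp
    rw [← Nat.support_factorization, Finsupp.mem_support_iff, not_not] at hp
    rw [hp, pow_zero]
  have h3 : ∏ p ∈ s, p ^ (n.choose k).factorization p ≤ ∏ _p ∈ s, n :=
    Finset.prod_le_prod' (fun p _ => Nat.pow_factorization_choose_le hn0)
  calc n.choose k = ∏ p ∈ s, p ^ (n.choose k).factorization p := h1.trans h2
    _ ≤ ∏ _p ∈ s, n := h3
    _ = n ^ Nat.primeCounting k := by rw [Finset.prod_const, hcard]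

end Cfsg.Agent.Lib.Helper20.SS
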