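import Mathlib

set_option autoImplicit false

namespace Cfsg.Agent.Lib.Helper19.SU33

structure M9 where
  (r11 i11 r12 i12 r13 i13 r21 i21 r22 i22 r23 i23 r31 i31 r32 i32 r33 i33 : ZMod 3)
deriving DecidableEq

def M9.mul (x y : M9) : M9 :=
  ⟨(x.r11 * y.r11 - x.i11 * y.i11) + (x.r12 * y.r21 - x.i12 * y.i21) + (x.r13 * y.r31 - x.i13 * y.i31),
   (x.r11 * y.i11 + x.i11 * y.r11) + (x.r12 * y.i21 + x.i12 * y.r21) + (x.r13 * y.i31 + x.i13 * y.r31),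
   (x.r11 * y.r12 - x.i11 * y.i12) + (x.r12 * y.r22 - x.i12 * y.i22) + (x.r13 * y.r32 - x.i13 * y.i32),
   (x.r11 * y.i12 + x.i11 * y.r12) + (x.r12 * y.i22 + x.i12 * y.r22) + (x.r13 * y.i32 + x.i13 * y.r32),
   (x.r11 * y.r13 - x.i11 * y.i13) + (x.r12 * y.r23 - x.i12 * y.i23) + (x.r13 * y.r33 - x.i13 * y.i33),
   (x.r11 * y.i13 + x.i11 * y.r13) + (x.r12 * y.i23 + x.i12 * y.r23) + (x.r13 * y.i33 + x.i13 * y.r33),
   (x.r21 * y.r11 - x.i21 * y.i11) + (x.r22 * y.r21 - x.i22 * y.i21) + (x.r23 * y.r31 - x.i23 * y.i31),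
   (x.r21 * y.i11 + x.i21 * y.r11) + (x.r22 * y.i21 + x.i22 * y.r21) + (x.r23 * y.i31 + x.i23 * y.r31),
   (x.r21 * y.r12 - x.i21 * y.i12) + (x.r22 * y.r22 - x.i22 * y.i22) + (x.r23 * y.r32 - x.i23 * y.i32),
   (x.r21 * y.i12 + x.i21 * y.r12) + (x.r22 * y.i22 + x.i22 * y.r22) + (x.r23 * y.i32 + x.i23 * y.r32),
   (x.r21 * y.r13 - x.i21 * y.i13) + (x.r22 * y.r23 - x.i22 * y.i23) + (x.r23 * y.r33 - x.i23 * y.i33),
   (x.r21 * y.i13 + x.i21 * y.r13) + (x.r22 * y.i23 + x.i22 * y.r23) + (x.r23 * y.i33 + x.i23 * y.r33),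
   (x.r31 * y.r11 - x.i31 * y.i11) + (x.r32 * y.r21 - x.i32 * y.i21) + (x.r33 * y.r31 - x.i33 * y.i31),
   (x.r31 * y.i11 + x.i31 * y.r11) + (x.r32 * y.i21 + x.i32 * y.r21) + (x.r33 * y.i31 + x.i33 * y.r31),
   (x.r31 * y.r12 - x.i31 * y.i12) + (x.r32 * y.r22 - x.i32 * y.i22) + (x.r33 * y.r32 - x.i33 * y.i32),
   (x.r31 * y.i12 + x.i31 * y.r12) + (x.r32 * y.i22 + x.i32 * y.r22) + (x.r33 * y.i32 + x.i33 * y.r32),
   (x.r31 * y.r13 - x.i31 * y.i13) + (x.r32 * y.r23 - x.i32 * y.i23) + (x.r33 * y.r33 - x.i33 * y.i33),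
   (x.r31 * y.i13 + x.i31 * y.r13) + (x.r32 * y.i23 + x.i32 * y.r23) + (x.r33 * y.i33 + x.i33 * y.r33)⟩

def M9.one : M9 := ⟨1, 0, 0, 0, 0, 0, 0, 0, 1, 0, 0, 0, 0, 0, 0, 0, 1, 0⟩

def bindZ (x : ZMod 3) (k : ZMod 3 → Bool) : Bool :=
  if x = 0 then k 0 else if x = 1 then k 1 else k 2

def mulK (x y : M9) (k : M9 → Bool) : Bool :=
  bindZ ((x.r11 * y.r11 - x.i11 * y.i11) + (x.r12 * y.r21 - x.i12 * y.i21) + (x.r13 * y.r31 - x.i13 * y.i31)) fun t1 =>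
  bindZ ((x.r11 * y.i11 + x.i11 * y.r11) + (x.r12 * y.i21 + x.i12 * y.r21) + (x.r13 * y.i31 + x.i13 * y.r31)) fun t2 =>
  bindZ ((x.r11 * y.r12 - x.i11 * y.i12) + (x.r12 * y.r22 - x.i12 * y.i22) + (x.r13 * y.r32 - x.i13 * y.i32)) fun t3 =>
  bindZ ((x.r11 * y.i12 + x.i11 * y.r12) + (x.r12 * y.i22 + x.i12 * y.r22) + (x.r13 * y.i32 + x.i13 * y.r32)) fun t4 =>
  bindZ ((x.r11 * y.r13 - x.i11 * y.i13) + (x.r12 * y.r23 - x.i12 * y.i23) + (x.r13 * y.r33 - x.i13 * y.i33)) fun t5 =>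
  bindZ ((x.r11 * y.i13 + x.i11 * y.r13) + (x.r12 * y.i23 + x.i12 * y.r23) + (x.r13 * y.i33 + x.i13 * y.r33)) fun t6 =>
  bindZ ((x.r21 * y.r11 - x.i21 * y.i11) + (x.r22 * y.r21 - x.i22 * y.i21) + (x.r23 * y.r31 - x.i23 * y.i31)) fun t7 =>
  bindZ ((x.r21 * y.i11 + x.i21 * y.r11) + (x.r22 * y.i21 + x.i22 * y.r21) + (x.r23 * y.i31 + x.i23 * y.r31)) fun t8 =>
  bindZ ((x.r21 * y.r12 - x.i21 * y.i12) + (x.r22 * y.r22 - x.i22 * y.i22) + (x.r23 * y.r32 - x.i23 * y.i32)) fun t9 =>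
  bindZ ((x.r21 * y.i12 + x.i21 * y.r12) + (x.r22 * y.i22 + x.i22 * y.r22) + (x.r23 * y.i32 + x.i23 * y.r32)) fun t10 =>
  bindZ ((x.r21 * y.r13 - x.i21 * y.i13) + (x.r22 * y.r23 - x.i22 * y.i23) + (x.r23 * y.r33 - x.i23 * y.i33)) fun t11 =>
  bindZ ((x.r21 * y.i13 + x.i21 * y.r13) + (x.r22 * y.i23 + x.i22 * y.r23) + (x.r23 * y.i33 + x.i23 * y.r33)) fun t12 =>
  bindZ ((x.r31 * y.r11 - x.i31 * y.i11) + (x.r32 * y.r21 - x.i32 * y.i21) + (x.r33 * y.r31 - x.i33 * y.i31)) fun t13 =>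
  bindZ ((x.r31 * y.i11 + x.i31 * y.r11) + (x.r32 * y.i21 + x.i32 * y.r21) + (x.r33 * y.i31 + x.i33 * y.r31)) fun t14 =>
  bindZ ((x.r31 * y.r12 - x.i31 * y.i12) + (x.r32 * y.r22 - x.i32 * y.i22) + (x.r33 * y.r32 - x.i33 * y.i32)) fun t15 =>
  bindZ ((x.r31 * y.i12 + x.i31 * y.r12) + (x.r32 * y.i22 + x.i32 * y.r22) + (x.r33 * y.i32 + x.i33 * y.r32)) fun t16 =>
  bindZ ((x.r31 * y.r13 - x.i31 * y.i13) + (x.r32 * y.r23 - x.i32 * y.i23) + (x.r33 * y.r33 - x.i33 * y.i33)) fun t17 =>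
  bindZ ((x.r31 * y.i13 + x.i31 * y.r13) + (x.r32 * y.i23 + x.i32 * y.r23) + (x.r33 * y.i33 + x.i33 * y.r33)) fun t18 =>
  k ⟨t1, t2, t3, t4, t5, t6, t7, t8, t9, t10, t11, t12, t13, t14, t15, t16, t17, t18⟩

def chkM (x : M9) : Bool :=
  mulK x x fun x2 => mulK x2 x2 fun x4 => mulK x4 x4 fun x8 =>
    (x8 == M9.one) || (x8 == x) || (mulK x8 x4 fun x12 => x12 == M9.one)

def cmr (a b c d : ZMod 3) : ZMod 3 := a * c - b * d
def cmi (a b c d : ZMod 3) : ZMod 3 := a * d + b * c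

/-- the matrix with first two columns `c1 = (a, b, c)`, `c2 = (d, e, f)` (each a pair re, im) and third column
the conjugate of the cross product -/
def build (ar ai br bi cr ci dr di er ei fr fi : ZMod 3) : M9 :=
  ⟨ar, ai, dr, di, cmr br bi fr fi - cmr er ei cr ci, -(cmi br bi fr fi - cmi er ei cr ci),
   br, bi, er, ei, cmr dr di cr ci - cmr ar ai fr fi, -(cmi dr di cr ci - cmi ar ai fr fi),
   cr, ci, fr, fi, cmr ar ai er ei - cmr dr di br bi, -(cmi ar ai er ei - cmi dr di br bi)⟩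

def hRe (ar ai br bi cr ci dr di er ei fr fi : ZMod 3) : ZMod 3 :=
  (ar * dr + ai * di) + (br * er + bi * ei) + (cr * fr + ci * fi)
def hIm (ar ai br bi cr ci dr di er ei fr fi : ZMod 3) : ZMod 3 :=
  (ai * dr - ar * di) + (bi * er - br * ei) + (ci * fr - cr * fi)

def all3 (f : ZMod 3 → Bool) : Bool := f 0 && f 1 && f 2
def imp (p q : Bool) : Bool := !p || q
def all6 (f : ZMod 3 → ZMod 3 → ZMod 3 → ZMod 3 → ZMod 3 → ZMod 3 → Bool) : Bool :=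
  all3 fun a => all3 fun b => all3 fun c => all3 fun d => all3 fun e => all3 fun g => f a b c d e g

def allCols : Bool :=
  all6 fun ar ai br bi cr ci =>
    imp (hRe ar ai br bi cr ci ar ai br bi cr ci == 1) <|
  all6 fun dr di er ei fr fi =>
    imp (hRe dr di er ei fr fi dr di er ei fr fi == 1) <|
    imp (hRe ar ai br bi cr ci dr di er ei fr fi == 0) <|
    imp (hIm ar ai br bi cr ci dr di er ei fr fi == 0) <|
    chkM (build ar ai br bi cr ci dr di er ei fr fi)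

set_option maxRecDepth 1000000 in
theorem allCols_true : allCols = true := by decide +kernel

def w7 : M9 := ⟨0, 0, 1, 1, 1, 1, 0, 0, 1, 1, 2, 2, 0, 1, 0, 0, 0, 0⟩
def w8 : M9 := ⟨0, 0, 0, 0, 1, 0, 0, 0, 0, 1, 0, 0, 0, 1, 0, 0, 0, 0⟩
def w12 : M9 := ⟨0, 0, 1, 1, 1, 2, 0, 0, 2, 1, 2, 2, 0, 1, 0, 0, 0, 0⟩

theorem w8_ord : (w8.mul w8).mul (w8.mul w8) ≠ M9.one ∧
    ((w8.mul w8).mul (w8.mul w8)).mul ((w8.mul w8).mul (w8.mul w8)) = M9.one := by decide +kernel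

theorem w7_ord : w7 ≠ M9.one ∧
    (((w7.mul w7).mul (w7.mul w7)).mul (w7.mul w7)).mul w7 = M9.one := by decide +kernel

/-- order data for `w12`: t^4 ≠ 1, t^6 ≠ 1, t^12 = 1 -/
theorem w12_ord : (w12.mul w12).mul (w12.mul w12) ≠ M9.one ∧
    ((w12.mul w12).mul (w12.mul w12)).mul (w12.mul w12) ≠ M9.one ∧
    (((w12.mul w12).mul (w12.mul w12)).mul (w12.mul w12)).mul
      (((w12.mul w12).mul (w12.mul w12)).mul (w12.mul w12)) = M9.one := by decide +kernel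

end Cfsg.Agent.Lib.Helper19.SU33
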