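import Mathlib
import Cfsg.Agent.Lib.Helper19.SU33Data

set_option autoImplicit false

namespace Cfsg.Agent.Lib.Helper19.SU33

open Matrix

abbrev F9 := QuadraticAlgebra (ZMod 3) (-1) 0

instance F9.fact : Fact (∀ r : ZMod 3, r ^ 2 ≠ (-1 : ZMod 3) + 0 * r) := ⟨by decide⟩

instance : Fintype F9 := Fintype.ofEquiv _ (QuadraticAlgebra.equivProd (-1 : ZMod 3) 0).symm

theorem F9.card : Fintype.card F9 = 9 := by
  rw [Fintype.card_congr (QuadraticAlgebra.equivProd (-1 : ZMod 3) 0)]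
  simp [ZMod.card]

theorem F9.pow3 (a b : ZMod 3) : (⟨a, b⟩ : F9) ^ 3 = ⟨a, -b⟩ := by
  revert a b; decide

theorem F9.pow3' (z : F9) : z ^ 3 = ⟨z.re, -z.im⟩ := F9.pow3 z.re z.im

theorem F9.pow9 (z : F9) : (z ^ 3) ^ 3 = z := by
  rw [F9.pow3', F9.pow3, neg_neg]

abbrev Mat9 := Matrix (Fin 3) (Fin 3) F9

def M9.toMat (x : M9) : Mat9 :=
  !![⟨x.r11, x.i11⟩, ⟨x.r12, x.i12⟩, ⟨x.r13, x.i13⟩;
     ⟨x.r21, x.i21⟩, ⟨x.r22, x.i22⟩, ⟨x.r23, x.i23⟩;
     ⟨x.r31, x.i31⟩, ⟨x.r32, x.i32⟩, ⟨x.r33, x.i33⟩]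

theorem dot3 (a1 b1 a2 b2 a3 b3 c1 d1 c2 d2 c3 d3 : ZMod 3) :
    ((⟨a1, b1⟩ : F9) * ⟨c1, d1⟩ + ⟨a2, b2⟩ * ⟨c2, d2⟩ + ⟨a3, b3⟩ * ⟨c3, d3⟩ : F9) =
      ⟨(a1 * c1 - b1 * d1) + (a2 * c2 - b2 * d2) + (a3 * c3 - b3 * d3),
       (a1 * d1 + b1 * c1) + (a2 * d2 + b2 * c2) + (a3 * d3 + b3 * c3)⟩ := by
  ext
  · simp only [QuadraticAlgebra.re_add, QuadraticAlgebra.re_mul]
    ring
  · simp only [QuadraticAlgebra.im_add, QuadraticAlgebra.im_mul]
    ring

theorem toMat_mul (x y : M9) : (x.mul y).toMat = x.toMat * y.toMat := by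
  apply Matrix.ext
  intro i j
  fin_cases i <;> fin_cases j <;>
    (rw [Matrix.mul_apply, Fin.sum_univ_three]; exact (dot3 _ _ _ _ _ _ _ _ _ _ _ _).symm)

open QuadraticAlgebra in
theorem toMat_one : M9.one.toMat = 1 := by
  ext i j
  · fin_cases i <;> fin_cases j <;> simp [M9.toMat, M9.one]
  · fin_cases i <;> fin_cases j <;> simp [M9.toMat, M9.one]

theorem toMat_injective : Function.Injective M9.toMat := by
  intro x y h
  have e := fun i j => congrFun (congrFun h i) j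
  have er := fun i j => congrArg QuadraticAlgebra.re (e i j)
  have ei := fun i j => congrArg QuadraticAlgebra.im (e i j)
  cases x
  cases y
  simp only [M9.mk.injEq]
  exact ⟨er 0 0, ei 0 0, er 0 1, ei 0 1, er 0 2, ei 0 2, er 1 0, ei 1 0, er 1 1, ei 1 1,
    er 1 2, ei 1 2, er 2 0, ei 2 0, er 2 1, ei 2 1, er 2 2, ei 2 2⟩

theorem z3_cases (x : ZMod 3) : x = 0 ∨ x = 1 ∨ x = 2 := by revert x; decide

theorem bindZ_eq (x : ZMod 3) (k : ZMod 3 → Bool) : bindZ x k = k x := by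
  rcases z3_cases x with rfl | rfl | rfl <;> rfl

theorem mulK_eq (x y : M9) (k : M9 → Bool) : mulK x y k = k (x.mul y) := by
  simp only [mulK, bindZ_eq]
  rfl

theorem all3_spec {f : ZMod 3 → Bool} (h : all3 f = true) (x : ZMod 3) : f x = true := by
  simp only [all3, Bool.and_eq_true] at h
  rcases z3_cases x with rfl | rfl | rfl
  exacts [h.1.1, h.1.2, h.2]

theorem all6_spec {f : ZMod 3 → ZMod 3 → ZMod 3 → ZMod 3 → ZMod 3 → ZMod 3 → Bool}
    (h : all6 f = true) (a b c d e g : ZMod 3) : f a b c d e g = true :=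
  all3_spec (all3_spec (all3_spec (all3_spec (all3_spec (all3_spec h a) b) c) d) e) g

theorem imp_spec {p q : Bool} (h : imp p q = true) (hp : p = true) : q = true := by
  subst hp
  simpa [imp] using h

theorem chkM_spec (x : M9) (h : chkM x = true) :
    ((x.mul x).mul (x.mul x)).mul ((x.mul x).mul (x.mul x)) = M9.one ∨
    ((x.mul x).mul (x.mul x)).mul ((x.mul x).mul (x.mul x)) = x ∨
    (((x.mul x).mul (x.mul x)).mul ((x.mul x).mul (x.mul x))).mul ((x.mul x).mul (x.mul x))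
      = M9.one := by
  simp only [chkM, mulK_eq, Bool.or_eq_true, beq_iff_eq] at h
  rcases h with (h | h) | h
  · exact Or.inl h
  · exact Or.inr (Or.inl h)
  · exact Or.inr (Or.inr h)

theorem allCols_spec (ar ai br bi cr ci dr di er ei fr fi : ZMod 3)
    (h1 : hRe ar ai br bi cr ci ar ai br bi cr ci = 1)
    (h2 : hRe dr di er ei fr fi dr di er ei fr fi = 1)
    (h3 : hRe ar ai br bi cr ci dr di er ei fr fi = 0)
    (h4 : hIm ar ai br bi cr ci dr di er ei fr fi = 0) :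
    chkM (build ar ai br bi cr ci dr di er ei fr fi) = true := by
  have h := allCols_true
  unfold allCols at h
  have k1 := imp_spec (all6_spec h ar ai br bi cr ci) (beq_iff_eq.mpr h1)
  have k2 := all6_spec k1 dr di er ei fr fi
  exact imp_spec (imp_spec (imp_spec k2 (beq_iff_eq.mpr h2)) (beq_iff_eq.mpr h3))
    (beq_iff_eq.mpr h4)

theorem conj_mul_re (x y : F9) : (x * y ^ 3).re = x.re * y.re + x.im * y.im := by
  rw [F9.pow3', QuadraticAlgebra.re_mul]
  ring

theorem conj_mul_im (x y : F9) : (x * y ^ 3).im = x.im * y.re - x.re * y.im := by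
  rw [F9.pow3', QuadraticAlgebra.im_mul]
  ring

theorem map_eq_adj (M : Mat9) (hU : Mᵀ * M.map (· ^ 3) = 1) (hdet : M.det = 1) :
    M.map (· ^ 3) = (adjugate M)ᵀ := by
  have h1 : M.map (· ^ 3) * Mᵀ = 1 := mul_eq_one_comm.mp hU
  have h2 : Mᵀ * (adjugate M)ᵀ = 1 := by
    rw [← Matrix.transpose_mul, Matrix.adjugate_mul, hdet, one_smul, Matrix.transpose_one]
  calc M.map (· ^ 3) = M.map (· ^ 3) * (Mᵀ * (adjugate M)ᵀ) := by rw [h2, mul_one]
    _ = (M.map (· ^ 3) * Mᵀ) * (adjugate M)ᵀ := by rw [Matrix.mul_assoc]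
    _ = (adjugate M)ᵀ := by rw [h1, one_mul]

theorem col3 (M : Mat9) (hU : Mᵀ * M.map (· ^ 3) = 1) (hdet : M.det = 1) (i : Fin 3) :
    M i 2 = ((adjugate M) 2 i) ^ 3 := by
  have := congrFun (congrFun (map_eq_adj M hU hdet) i) 2
  simp only [Matrix.map_apply, Matrix.transpose_apply] at this
  rw [← this, F9.pow9]

theorem eq_toMat_build (M : Mat9) (hU : Mᵀ * M.map (· ^ 3) = 1) (hdet : M.det = 1) :
    M = (build (M 0 0).re (M 0 0).im (M 1 0).re (M 1 0).im (M 2 0).re (M 2 0).im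
      (M 0 1).re (M 0 1).im (M 1 1).re (M 1 1).im (M 2 1).re (M 2 1).im).toMat := by
  have h0 := col3 M hU hdet 0
  have h1 := col3 M hU hdet 1
  have h2 := col3 M hU hdet 2
  rw [Matrix.adjugate_fin_three] at h0 h1 h2
  apply Matrix.ext
  intro i j
  fin_cases i <;> fin_cases j
  · rfl
  · rfl
  · show M 0 2 = _
    rw [h0]
    show (M 1 0 * M 2 1 - M 1 1 * M 2 0) ^ 3 = _
    rw [F9.pow3']
    ext
    · simp [build, M9.toMat, cmr, cmi] <;> ring
    · simp [build, M9.toMat, cmr, cmi] <;> ring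
  · rfl
  · rfl
  · show M 1 2 = _
    rw [h1]
    show (-(M 0 0 * M 2 1) + M 0 1 * M 2 0) ^ 3 = _
    rw [F9.pow3']
    ext
    · simp [build, M9.toMat, cmr, cmi] <;> ring
    · simp [build, M9.toMat, cmr, cmi] <;> ring
  · rfl
  · rfl
  · show M 2 2 = _
    rw [h2]
    show (M 0 0 * M 1 1 - M 0 1 * M 1 0) ^ 3 = _
    rw [F9.pow3']
    ext
    · simp [build, M9.toMat, cmr, cmi] <;> ring
    · simp [build, M9.toMat, cmr, cmi] <;> ring

theorem unitary_entry (M : Mat9) (hU : Mᵀ * M.map (· ^ 3) = 1) (i j : Fin 3) :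
    M 0 i * (M 0 j) ^ 3 + M 1 i * (M 1 j) ^ 3 + M 2 i * (M 2 j) ^ 3 = (1 : Mat9) i j := by
  have := congrFun (congrFun hU i) j
  rw [Matrix.mul_apply, Fin.sum_univ_three] at this
  simpa only [Matrix.transpose_apply, Matrix.map_apply] using this

open QuadraticAlgebra in
theorem unitary_hRe (M : Mat9) (hU : Mᵀ * M.map (· ^ 3) = 1) (i j : Fin 3) :
    hRe (M 0 i).re (M 0 i).im (M 1 i).re (M 1 i).im (M 2 i).re (M 2 i).im
      (M 0 j).re (M 0 j).im (M 1 j).re (M 1 j).im (M 2 j).re (M 2 j).im = ((1 : Mat9) i j).re := by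
  have := congrArg QuadraticAlgebra.re (unitary_entry M hU i j)
  rw [re_add, re_add, conj_mul_re, conj_mul_re, conj_mul_re] at this
  exact this

open QuadraticAlgebra in
theorem unitary_hIm (M : Mat9) (hU : Mᵀ * M.map (· ^ 3) = 1) (i j : Fin 3) :
    hIm (M 0 i).re (M 0 i).im (M 1 i).re (M 1 i).im (M 2 i).re (M 2 i).im
      (M 0 j).re (M 0 j).im (M 1 j).re (M 1 j).im (M 2 j).re (M 2 j).im = ((1 : Mat9) i j).im := by
  have := congrArg QuadraticAlgebra.im (unitary_entry M hU i j)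
  rw [im_add, im_add, conj_mul_im, conj_mul_im, conj_mul_im] at this
  exact this

theorem pow8 (M : Mat9) : M ^ 8 = (M * M * (M * M)) * (M * M * (M * M)) := by
  simp only [pow_succ, pow_zero, one_mul, mul_assoc]

theorem pow12 (M : Mat9) : M ^ 12 = (M * M * (M * M)) * (M * M * (M * M)) * (M * M * (M * M)) := by
  simp only [pow_succ, pow_zero, one_mul, mul_assoc]

open QuadraticAlgebra in
theorem pow_cases (M : Mat9) (hU : Mᵀ * M.map (· ^ 3) = 1) (hdet : M.det = 1) :
    M ^ 8 = 1 ∨ M ^ 8 = M ∨ M ^ 12 = 1 := by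
  have hM := eq_toMat_build M hU hdet
  have c1 := unitary_hRe M hU 0 0
  have c2 := unitary_hRe M hU 1 1
  have c3 := unitary_hRe M hU 0 1
  have c4 := unitary_hIm M hU 0 1
  rw [Matrix.one_apply_eq, re_one] at c1 c2
  rw [Matrix.one_apply_ne (by decide), re_zero] at c3
  rw [Matrix.one_apply_ne (by decide), im_zero] at c4
  have h3 := chkM_spec _ (allCols_spec _ _ _ _ _ _ _ _ _ _ _ _ c1 c2 c3 c4)
  rcases h3 with h | h | h
  · left
    have := congrArg M9.toMat h
    simp only [toMat_mul, toMat_one, ← hM] at this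
    rw [pow8]; exact this
  · right; left
    have := congrArg M9.toMat h
    simp only [toMat_mul, toMat_one, ← hM] at this
    rw [pow8]; exact this
  · right; right
    have := congrArg M9.toMat h
    simp only [toMat_mul, toMat_one, ← hM] at this
    rw [pow12]; exact this

abbrev S39 := Matrix.SpecialLinearGroup (Fin 3) F9

def IsU (A : S39) : Prop := (A.1)ᵀ * (A.1).map (· ^ 3) = 1

theorem sl_pow (s : S39) (hs : IsU s) : s ^ 8 = 1 ∨ s ^ 7 = 1 ∨ s ^ 12 = 1 := by
  rcases pow_cases s.1 hs s.2 with h | h | h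
  · left; exact Subtype.ext (by rw [Matrix.SpecialLinearGroup.coe_pow]; exact h)
  · right; left
    have h8 : s ^ 8 = s := Subtype.ext (by rw [Matrix.SpecialLinearGroup.coe_pow]; exact h)
    have h7 : s ^ 7 * s = 1 * s := by rw [← pow_succ, one_mul]; exact h8
    exact mul_right_cancel h7
  · right; right; exact Subtype.ext (by rw [Matrix.SpecialLinearGroup.coe_pow]; exact h)

theorem orderOf_mem_of_isU (s : S39) (hs : IsU s) :
    orderOf s ∈ ({1, 2, 3, 4, 6, 7, 8, 12} : Set ℕ) := by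
  rcases sl_pow s hs with h | h | h
  · have h1 : orderOf s ∈ Nat.divisors 8 :=
      Nat.mem_divisors.mpr ⟨orderOf_dvd_of_pow_eq_one h, by norm_num⟩
    have h2 : Nat.divisors 8 = {1, 2, 4, 8} := by decide
    rw [h2] at h1
    simp only [Finset.mem_insert, Finset.mem_singleton] at h1
    simp only [Set.mem_insert_iff, Set.mem_singleton_iff]
    omega
  · have h1 : orderOf s ∣ 7 := orderOf_dvd_of_pow_eq_one h
    rcases (Nat.dvd_prime (by norm_num : Nat.Prime 7)).mp h1 with h2 | h2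
    · simp only [Set.mem_insert_iff, Set.mem_singleton_iff]; omega
    · simp only [Set.mem_insert_iff, Set.mem_singleton_iff]; omega
  · have h1 : orderOf s ∈ Nat.divisors 12 :=
      Nat.mem_divisors.mpr ⟨orderOf_dvd_of_pow_eq_one h, by norm_num⟩
    have h2 : Nat.divisors 12 = {1, 2, 3, 4, 6, 12} := by decide
    rw [h2] at h1
    simp only [Finset.mem_insert, Finset.mem_singleton] at h1
    simp only [Set.mem_insert_iff, Set.mem_singleton_iff]
    omega

def M9.conjT (x : M9) : M9 :=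
  ⟨x.r11, -x.i11, x.r21, -x.i21, x.r31, -x.i31,
   x.r12, -x.i12, x.r22, -x.i22, x.r32, -x.i32,
   x.r13, -x.i13, x.r23, -x.i23, x.r33, -x.i33⟩

theorem toMat_conjT (x : M9) : x.conjT.toMat = (x.toMat.map (· ^ 3))ᵀ := by
  apply Matrix.ext
  intro i j
  fin_cases i <;> fin_cases j <;>
    (rw [Matrix.transpose_apply, Matrix.map_apply]; exact (F9.pow3 _ _).symm)

theorem isU_of_conjT (x : M9) (h : x.conjT.mul x = M9.one) :
    (x.toMat)ᵀ * (x.toMat).map (· ^ 3) = 1 := by
  have h1 := congrArg M9.toMat h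
  rw [toMat_mul, toMat_one, toMat_conjT] at h1
  have h2 := congrArg Matrix.transpose h1
  rw [Matrix.transpose_mul, Matrix.transpose_transpose, Matrix.transpose_one] at h2
  exact h2

theorem w7_det : w7.toMat.det = 1 := by
  rw [Matrix.det_fin_three]; decide

theorem w8_det : w8.toMat.det = 1 := by
  rw [Matrix.det_fin_three]; decide

theorem w12_det : w12.toMat.det = 1 := by
  rw [Matrix.det_fin_three]; decide

theorem w7_U : w7.conjT.mul w7 = M9.one := by decide
theorem w8_U : w8.conjT.mul w8 = M9.one := by decide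
theorem w12_U : w12.conjT.mul w12 = M9.one := by decide

def mkS (x : M9) (h : x.toMat.det = 1) : S39 := ⟨x.toMat, h⟩

theorem mkS_isU (x : M9) (h : x.toMat.det = 1) (hU : x.conjT.mul x = M9.one) : IsU (mkS x h) :=
  isU_of_conjT x hU

theorem mkS_pow_eq_one (x : M9) (h : x.toMat.det = 1) (n : ℕ) :
    mkS x h ^ n = 1 ↔ x.toMat ^ n = 1 := by
  constructor
  · intro h1
    have := congrArg Subtype.val h1
    rw [Matrix.SpecialLinearGroup.coe_pow] at this
    exact this
  · intro h1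
    exact Subtype.ext (by rw [Matrix.SpecialLinearGroup.coe_pow]; exact h1)

theorem toMat_ne_one {a : M9} (h : a ≠ M9.one) : a.toMat ≠ 1 := by
  intro h1
  apply h
  apply toMat_injective
  rw [h1, toMat_one]

theorem pow4 (M : Mat9) : M ^ 4 = (M * M) * (M * M) := by
  simp only [pow_succ, pow_zero, one_mul, mul_assoc]

theorem pow6 (M : Mat9) : M ^ 6 = ((M * M) * (M * M)) * (M * M) := by
  simp only [pow_succ, pow_zero, one_mul, mul_assoc]

theorem pow7 (M : Mat9) : M ^ 7 = (((M * M) * (M * M)) * (M * M)) * M := by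
  simp only [pow_succ, pow_zero, one_mul, mul_assoc]

theorem pow12' (M : Mat9) :
    M ^ 12 = (((M * M) * (M * M)) * (M * M)) * (((M * M) * (M * M)) * (M * M)) := by
  simp only [pow_succ, pow_zero, one_mul, mul_assoc]

theorem order8 : orderOf (mkS w8 w8_det) = 8 := by
  have h8 : (8 : ℕ) = 2 ^ (2 + 1) := by norm_num
  rw [h8]
  apply orderOf_eq_prime_pow
  · rw [mkS_pow_eq_one]
    norm_num
    rw [pow4, ← toMat_mul, ← toMat_mul]
    exact toMat_ne_one w8_ord.1
  · rw [mkS_pow_eq_one]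
    norm_num
    rw [pow8, ← toMat_mul, ← toMat_mul, ← toMat_mul, w8_ord.2, toMat_one]

theorem order7 : orderOf (mkS w7 w7_det) = 7 := by
  have : Fact (Nat.Prime 7) := ⟨by norm_num⟩
  apply orderOf_eq_prime
  · rw [mkS_pow_eq_one, pow7, ← toMat_mul, ← toMat_mul, ← toMat_mul, ← toMat_mul,
      w7_ord.2, toMat_one]
  · intro h
    have h1 := (mkS_pow_eq_one w7 w7_det 1).mp (by rw [pow_one]; exact h)
    rw [pow_one] at h1
    exact toMat_ne_one w7_ord.1 h1

theorem order12 : orderOf (mkS w12 w12_det) = 12 := by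
  apply orderOf_eq_of_pow_and_pow_div_prime (by norm_num)
  · rw [mkS_pow_eq_one, pow12', ← toMat_mul, ← toMat_mul, ← toMat_mul, ← toMat_mul,
      w12_ord.2.2, toMat_one]
  · intro p hp hp12
    have hp' : p = 2 ∨ p = 3 := by
      have h1 : p ∣ 2 * (2 * 3) := by norm_num; exact hp12
      rcases (Nat.Prime.dvd_mul hp).mp h1 with h | h
      · left; exact (Nat.prime_dvd_prime_iff_eq hp Nat.prime_two).mp h
      · rcases (Nat.Prime.dvd_mul hp).mp h with h | h
        · left; exact (Nat.prime_dvd_prime_iff_eq hp Nat.prime_two).mp h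
        · right; exact (Nat.prime_dvd_prime_iff_eq hp Nat.prime_three).mp h
    rcases hp' with rfl | rfl
    · rw [Ne, mkS_pow_eq_one]
      norm_num
      rw [pow6, ← toMat_mul, ← toMat_mul, ← toMat_mul]
      exact toMat_ne_one w12_ord.2.1
    · rw [Ne, mkS_pow_eq_one]
      norm_num
      rw [pow4, ← toMat_mul, ← toMat_mul]
      exact toMat_ne_one w12_ord.1

theorem exists_isU_order7 : ∃ s : S39, IsU s ∧ orderOf s = 7 :=
  ⟨_, mkS_isU w7 w7_det w7_U, order7⟩

theorem exists_isU_order8 : ∃ s : S39, IsU s ∧ orderOf s = 8 :=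
  ⟨_, mkS_isU w8 w8_det w8_U, order8⟩

theorem exists_isU_order12 : ∃ s : S39, IsU s ∧ orderOf s = 12 :=
  ⟨_, mkS_isU w12 w12_det w12_U, order12⟩

end Cfsg.Agent.Lib.Helper19.SU33
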