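import Mathlib
import Cfsg.Agent.Lib.Helper19.SU5.Defs
import Cfsg.Agent.Lib.Helper19.SU5.Defs2
import Cfsg.Agent.Lib.Helper19.MODMain
import Cfsg.Agent.Lib.Helper27.STU.Frob
import Cfsg.Agent.Lib.Helper29.SU5E3
import Cfsg.Agent.Lib.helper23.SU5Z11
import Cfsg.Agent.Lib.Helper1.SU5Z12
import Cfsg.Agent.Lib.helper4.SU5Z13
import Cfsg.Agent.Lib.helper4.SU5P1
import Cfsg.Agent.Lib.helper23.SU5F2
import Cfsg.Agent.Lib.Helper16.SU5T9
import Cfsg.Agent.Lib.Helper9.SU5T5
import Cfsg.Agent.Lib.Helper22.SU5W3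
import Cfsg.Agent.Lib.helper14.SU5C1
import Cfsg.Agent.Lib.helper14.SU5C2
import Cfsg.Agent.Lib.helper2.SU5C5core
import Cfsg.Agent.Lib.Helper13.SU5B4core
import Cfsg.Agent.Lib.Helper26.SU5B1
import Cfsg.Agent.Lib.Helper16.SU5B2

/-!
# Project SU5 (helper19), row X0 `ug_isoU`: the universal group of the 22 relations is `SU₅(q)`.
-/

set_option autoImplicit false

namespace Cfsg.Agent.Lib.Helper19.SU5

open Cfsg.Agent.Lib.helper17.SLP Cfsg.Agent.Lib.helper3.SP4 Cfsg.Agent.Lib.Helper22.SU4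
open Cfsg.Agent.Lib.Helper27.STU (Lam XpM XmM XpS XmS SUm XpU XmU SysU)

universe u v

section tab5

variable {F : Type u} {K : Type u} [Field F] [Field K] [StarRing F] [Fintype F] [Fintype K] {D : Tw F K}
  {G : Type v} [Group G]

/-- the statement of B4 `tab5_of_hypU`, from the landed rows and cores (own name) -/
theorem su5x0_tab5 (hFK : Fintype.card F = Fintype.card K ^ 2) (P : RO D)
    (φa : Matrix.SpecialLinearGroup (Fin 2) F →* G) (φb : ↥(SUm F True) →* G) (H : HypU P φa φb) :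
    Cfsg.Agent.Lib.helper3.SU5.Tab5 (datU P φa φb) := by
  have R := torU hFK P φa φb H
  obtain ⟨-, W4, C4⟩ := su4_of_hypU hFK P φa φb H
  have W := wactU hFK P φa φb H R W4
  have hbc := comm_bcU hFK P φa φb H R
  have h2 := comm_cd_adU P φa φb W hbc
  have hbd := cm_bdU hFK P φa φb H R hbc h2.1
  have C := su5c5_core P φa φb C4 hbc h2 hbd (cm_abU hFK P φa φb H R hbc h2.1 hbd)
  exact su5b4_core hFK P φa φb W C (tab5_sqU hFK P φa φb R) (tab5_weylU hFK P φa φb H W)

end tab5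

/-- X0: for the rank one data of E3, the universal group `UG P = (SL₂(F) * SU₃) / ⟨⟨relsU P⟩⟩` is isomorphic to `SU₅(q)`. -/
theorem ug_isoU {F : Type u} [Field F] [Fintype F] {q : ℕ} (hF : Fintype.card F = q ^ 2) :
    letI := Cfsg.Agent.Lib.Helper27.STU.frobStar hF
    ∃ (K : Type u) (_ : Field K) (_ : Fintype K) (D : Tw F K) (P : RO D), Nonempty (UG P ≃* ↥(Cfsg.SU 5 F q)) := by
  letI := Cfsg.Agent.Lib.Helper27.STU.frobStar hF
  have hHyp := Cfsg.Agent.Lib.Helper27.STU.frobStar_hyp hF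
  obtain ⟨K, iK, iK', D, P, hFK⟩ := exists_ROU hF
  refine ⟨K, iK, iK', D, P, ?_⟩
  obtain ⟨C⟩ := Cfsg.Agent.Lib.Helper19.MOD.exists_ctx hF 5 2 True (Or.inr ⟨trivial, rfl⟩)
  obtain ⟨ψa, ψb, hM⟩ := exists_matchU C
  have hsp := mod_spanU C
  have hH0 : HypU P ψa ψb :=
    hypU_of_matchU (Cfsg.Agent.Lib.Helper19.MOD.sys C) hFK hHyp P ψa ψb hM (Cfsg.Agent.Lib.Helper19.MOD.rep C)
      hsp.1 hsp.2
  -- the universal group
  set N : Subgroup (FP F) := Subgroup.normalClosure {g | g ∈ relsU P} with hN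
  let α : Matrix.SpecialLinearGroup (Fin 2) F →* UG P := (QuotientGroup.mk' N).comp fpA
  let β : ↥(SUm F True) →* UG P := (QuotientGroup.mk' N).comp fpB
  have hlift : Monoid.Coprod.lift α β = QuotientGroup.mk' N := by
    apply Monoid.Coprod.hom_ext
    · ext x
      simp [α, fpA]
    · ext x
      simp [β, fpB]
  have hH : HypU P α β := by
    rw [hypU_iff_relsU]
    intro r hr
    rw [hlift]
    exact (QuotientGroup.eq_one_iff _).2 (Subgroup.subset_normalClosure hr)
  have hker : N ≤ (Monoid.Coprod.lift ψa ψb).ker := by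
    refine Subgroup.normalClosure_le_normal ?_
    intro r hr
    exact (hypU_iff_relsU P ψa ψb).1 hH0 r hr
  let π : UG P →* ↥(Cfsg.SU 5 F q) := QuotientGroup.lift N (Monoid.Coprod.lift ψa ψb) hker
  have hπα : ∀ x, π (α x) = ψa x := by
    intro x
    show QuotientGroup.lift N (Monoid.Coprod.lift ψa ψb) hker (QuotientGroup.mk' N (fpA x)) = _
    rw [QuotientGroup.mk'_apply, QuotientGroup.lift_mk]
    exact Monoid.Coprod.lift_apply_inl _ _ x
  have hπβ : ∀ x, π (β x) = ψb x := by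
    intro x
    show QuotientGroup.lift N (Monoid.Coprod.lift ψa ψb) hker (QuotientGroup.mk' N (fpB x)) = _
    rw [QuotientGroup.mk'_apply, QuotientGroup.lift_mk]
    exact Monoid.Coprod.lift_apply_inr _ _ x
  have hgen : Subgroup.closure (Set.range (datU P α β).φa ∪ Set.range (datU P α β).φb) = ⊤ := by
    show Subgroup.closure (Set.range α ∪ Set.range β) = ⊤
    rw [eq_top_iff]
    intro x _
    obtain ⟨y, rfl⟩ := QuotientGroup.mk'_surjective N x
    have hy : y ∈ Subgroup.closure (Set.range (Monoid.Coprod.inl : _ →* FP F) ∪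
        Set.range (Monoid.Coprod.inr : _ →* FP F)) := by
      rw [Monoid.Coprod.closure_range_inl_union_inr]
      exact Subgroup.mem_top y
    have hle : Subgroup.closure (Set.range (Monoid.Coprod.inl : _ →* FP F) ∪
        Set.range (Monoid.Coprod.inr : _ →* FP F)) ≤
        (Subgroup.closure (Set.range α ∪ Set.range β)).comap (QuotientGroup.mk' N) := by
      rw [Subgroup.closure_le]
      rintro _ (⟨m, rfl⟩ | ⟨m, rfl⟩)
      · exact Subgroup.subset_closure (Or.inl ⟨m, rfl⟩)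
      · exact Subgroup.subset_closure (Or.inr ⟨m, rfl⟩)
    exact hle hy
  have hT : Cfsg.Agent.Lib.helper3.SU5.Tab5 (datU P α β) := su5x0_tab5 hFK P α β hH
  have hgen₀ : (Cfsg.Agent.Lib.Helper19.MOD.sys C).XQ (fun _ _ => True) = ⊤ := by
    rw [Cfsg.Agent.Lib.Helper19.MOD.sys_XQ, Cfsg.Agent.Lib.Helper19.MOD.mod_gen C hF (by norm_num)]
  have hbij : Function.Bijective π :=
    (datU P α β).iso_of_tab hHyp hT hgen (Cfsg.Agent.Lib.Helper19.MOD.sys C) (Cfsg.Agent.Lib.Helper19.MOD.rep C)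
      hgen₀ π
      (fun t => (hπα _).trans (hM.xa t)) (fun t => (hπα _).trans (hM.ya t))
      (fun ξ => (hπβ _).trans (hM.xb ξ)) (fun ξ => (hπβ _).trans (hM.yb ξ))
  exact ⟨MulEquiv.ofBijective π hbij⟩

end Cfsg.Agent.Lib.Helper19.SU5
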