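import Mathlib
import Cfsg.Agent.Lib.Helper19.SU5.Defs
import Cfsg.Agent.Lib.Helper19.SU5.Defs2
import Cfsg.Agent.Lib.helper15.SU5Z7
import Cfsg.Agent.Lib.Helper1.SU5Z8
import Cfsg.Agent.Lib.helper23.SU5Z9
import Cfsg.Agent.Lib.Helper16.SU5Z0
import Cfsg.Agent.Lib.Helper21.SU5Z1core
import Cfsg.Agent.Lib.Helper9.SU5UF1
import Cfsg.Agent.Lib.Helper5.SU5T0
import Cfsg.Agent.Lib.Helper5.STULA5

/-!
# Project SU5 (designer helper19), row Z10 (`model_torusU`), helper19's version under OWN names: `su5z10h19_core` = the exact statement of Z10.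

The four torus / Weyl identities `N5 N6 U1 U4` of `HypU` in the model, checked on the frame of a faithful representation whose frame spans (`MonV` calculus of Z7 Z8 Z9).
-/

set_option autoImplicit false

namespace Cfsg.Agent.Lib.Helper19.SU5

open Cfsg.Agent.Lib.helper17.SLP Cfsg.Agent.Lib.helper3.SP4 Cfsg.Agent.Lib.Helper22.SU4
open Cfsg.Agent.Lib.Helper27.STU (Lam XpM XmM XpS XmS SUm XpU XmU SysU dws dwl d0l)
open Cfsg.Agent.Lib.helper3.STC (ng sws)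

universe u v w

section

variable {F : Type u} [Field F] [StarRing F] {G₀ : Type v} [Group G₀] {S : SysU F True (Fin 2) G₀}
  {V : Type*} [AddCommGroup V] [Module F V]

/-- a function on the four signed indices `1, 2, -1, -2` -/
def su5z10h19_tab4 (x1 x2 y1 y2 : F) : Fin 2 ⊕ Fin 2 → F
  | Sum.inl 0 => x1
  | Sum.inl 1 => x2
  | Sum.inr 0 => y1
  | Sum.inr 1 => y2

theorem su5z10h19_monV_congrU (R : S.Rep V) {g : G₀} {π π' : Equiv.Perm (Fin 2 ⊕ Fin 2)} {d d' : Fin 2 ⊕ Fin 2 → F} {d0 d0' : F}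
    (h : MonV R g π d d0) (hπ : π = π') (hd : ∀ k, d k = d' k) (hd0 : d0 = d0') : MonV R g π' d' d0' := by
  subst hπ
  subst hd0
  have : d = d' := funext hd
  subst this
  exact h

/-- the permutation `(1 2)(-1 -2)` -/
def su5z10h19_piA : Equiv.Perm (Fin 2 ⊕ Fin 2) := sws (Sum.inl 0) (Sum.inl 1)

/-- the permutation `(2 -2)` -/
def su5z10h19_piB : Equiv.Perm (Fin 2 ⊕ Fin 2) := Equiv.swap (Sum.inl 1) (Sum.inr 1)

theorem su5z10h19_piA_apply : su5z10h19_piA (Sum.inl 0) = Sum.inl 1 ∧ su5z10h19_piA (Sum.inl 1) = Sum.inl 0 ∧ su5z10h19_piA (Sum.inr 0) = Sum.inr 1 ∧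
    su5z10h19_piA (Sum.inr 1) = Sum.inr 0 := by
  refine ⟨?_, ?_, ?_, ?_⟩ <;> decide

theorem su5z10h19_piB_apply : su5z10h19_piB (Sum.inl 0) = Sum.inl 0 ∧ su5z10h19_piB (Sum.inl 1) = Sum.inr 1 ∧ su5z10h19_piB (Sum.inr 0) = Sum.inr 0 ∧
    su5z10h19_piB (Sum.inr 1) = Sum.inl 1 := by
  refine ⟨?_, ?_, ?_, ?_⟩ <;> decide

theorem su5z10h19_monV_wa (R : S.Rep V) (u : F) (hu : u ≠ 0) :
    MonV R (S.ws (Sum.inl 0) (Sum.inl 1) u) su5z10h19_piA (su5z10h19_tab4 (-u⁻¹) u (-star u) (star u)⁻¹) 1 := by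
  refine su5z10h19_monV_congrU R (monV_wsU R (by decide) (by decide) u hu) rfl ?_ rfl
  intro k
  rcases k with k | k <;> fin_cases k <;> simp [dws, su5z10h19_tab4, ng]

theorem su5z10h19_monV_wb (R : S.Rep V) {ξ : Lam F True} (hc : ξ.c ≠ 0) :
    MonV R (S.wl (Sum.inl 1) ξ) su5z10h19_piB (su5z10h19_tab4 1 (star ξ.c)⁻¹ 1 ξ.c) (-(star ξ.c / ξ.c)) := by
  refine su5z10h19_monV_congrU R (monV_wlU R (Sum.inl 1) hc) rfl ?_ rfl
  intro k
  rcases k with k | k <;> fin_cases k <;> simp [dwl, su5z10h19_tab4, ng]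


theorem su5z10h19_piA_l0 : su5z10h19_piA (Sum.inl 0) = Sum.inl 1 := su5z10h19_piA_apply.1
theorem su5z10h19_piA_l1 : su5z10h19_piA (Sum.inl 1) = Sum.inl 0 := su5z10h19_piA_apply.2.1
theorem su5z10h19_piA_r0 : su5z10h19_piA (Sum.inr 0) = Sum.inr 1 := su5z10h19_piA_apply.2.2.1
theorem su5z10h19_piA_r1 : su5z10h19_piA (Sum.inr 1) = Sum.inr 0 := su5z10h19_piA_apply.2.2.2
theorem su5z10h19_piB_l0 : su5z10h19_piB (Sum.inl 0) = Sum.inl 0 := su5z10h19_piB_apply.1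
theorem su5z10h19_piB_l1 : su5z10h19_piB (Sum.inl 1) = Sum.inr 1 := su5z10h19_piB_apply.2.1
theorem su5z10h19_piB_r0 : su5z10h19_piB (Sum.inr 0) = Sum.inr 0 := su5z10h19_piB_apply.2.2.1
theorem su5z10h19_piB_r1 : su5z10h19_piB (Sum.inr 1) = Sum.inl 1 := su5z10h19_piB_apply.2.2.2

/-- the braid relation, on the frame -/
theorem su5z10h19_braid_frame (R : S.Rep V) (hinj : Function.Injective R.φ) (hsp : SpanV R) {ξ : Lam F True} (hc : ξ.c ≠ 0)
    (hsk : star ξ.c = -ξ.c) :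
    S.ws (Sum.inl 0) (Sum.inl 1) 1 * S.wl (Sum.inl 1) ξ * S.ws (Sum.inl 0) (Sum.inl 1) 1 * S.wl (Sum.inl 1) ξ =
      S.wl (Sum.inl 1) ξ * S.ws (Sum.inl 0) (Sum.inl 1) 1 * S.wl (Sum.inl 1) ξ * S.ws (Sum.inl 0) (Sum.inl 1) 1 := by
  have hA := su5z10h19_monV_wa R (1 : F) one_ne_zero
  have hB := su5z10h19_monV_wb R hc
  have hL := monV_mulU R (monV_mulU R (monV_mulU R hA hB) hA) hB
  have hR := monV_mulU R (monV_mulU R (monV_mulU R hB hA) hB) hA
  refine monV_extU R hinj hsp hL hR ?_ ?_ ?_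
  · ext k
    rcases k with k | k <;> fin_cases k <;>
      simp [Equiv.Perm.mul_apply, su5z10h19_piA_l0, su5z10h19_piA_l1, su5z10h19_piA_r0, su5z10h19_piA_r1, su5z10h19_piB_l0, su5z10h19_piB_l1, su5z10h19_piB_r0, su5z10h19_piB_r1]
  · intro k
    rcases k with k | k <;> fin_cases k <;>
      simp [su5z10h19_tab4, su5z10h19_piA_l0, su5z10h19_piA_l1, su5z10h19_piA_r0, su5z10h19_piA_r1, su5z10h19_piB_l0, su5z10h19_piB_l1, su5z10h19_piB_r0, su5z10h19_piB_r1, hsk] <;> field_simp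
  · ring


theorem su5z10h19_piA_inv : su5z10h19_piA⁻¹ = su5z10h19_piA := by
  ext k
  rw [Equiv.Perm.inv_def, Equiv.symm_apply_eq]
  rcases k with k | k <;> fin_cases k <;> simp [su5z10h19_piA_l0, su5z10h19_piA_l1, su5z10h19_piA_r0, su5z10h19_piA_r1]

theorem su5z10h19_piB_inv : su5z10h19_piB⁻¹ = su5z10h19_piB := by
  ext k
  rw [Equiv.Perm.inv_def, Equiv.symm_apply_eq]
  rcases k with k | k <;> fin_cases k <;> simp [su5z10h19_piB_l0, su5z10h19_piB_l1, su5z10h19_piB_r0, su5z10h19_piB_r1]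

theorem su5z10h19_piA_sq : su5z10h19_piA * su5z10h19_piA = 1 := by
  ext k
  rcases k with k | k <;> fin_cases k <;> simp [Equiv.Perm.mul_apply, su5z10h19_piA_l0, su5z10h19_piA_l1, su5z10h19_piA_r0, su5z10h19_piA_r1]

theorem su5z10h19_piB_sq : su5z10h19_piB * su5z10h19_piB = 1 := by
  ext k
  rcases k with k | k <;> fin_cases k <;> simp [Equiv.Perm.mul_apply, su5z10h19_piB_l0, su5z10h19_piB_l1, su5z10h19_piB_r0, su5z10h19_piB_r1]

/-- the short torus element on the frame -/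
theorem su5z10h19_monV_ha (R : S.Rep V) (s : F) (hs : s ≠ 0) :
    MonV R (S.hs (Sum.inl 0) (Sum.inl 1) s) 1 (su5z10h19_tab4 s s⁻¹ (star s)⁻¹ (star s)) 1 := by
  have h1 := monV_mulU R (su5z10h19_monV_wa R s hs) (su5z10h19_monV_wa R (-1 : F) (by simp))
  refine su5z10h19_monV_congrU R h1 su5z10h19_piA_sq ?_ (by ring)
  intro k
  rcases k with k | k <;> fin_cases k <;>
    simp [su5z10h19_tab4, su5z10h19_piA_l0, su5z10h19_piA_l1, su5z10h19_piA_r0, su5z10h19_piA_r1]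

/-- the long torus element on the frame -/
theorem su5z10h19_monV_hb (R : S.Rep V) {η ξ : Lam F True} (hη : η.c ≠ 0) (hξ : ξ.c ≠ 0) (r : F) (hr : η.c = r * ξ.c) :
    MonV R (S.hl (Sum.inl 1) η ξ) 1 (su5z10h19_tab4 1 r 1 (star r)⁻¹) (star r / r) := by
  have hr0 : r ≠ 0 := by
    rintro rfl
    rw [zero_mul] at hr
    exact hη hr
  have hξ' : star ξ.c ≠ 0 := fun h => hξ (by simpa using congrArg star h)
  have hr' : star r ≠ 0 := fun h => hr0 (by simpa using congrArg star h)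
  have hBi := monV_invU R (su5z10h19_monV_wb R hξ) (by
      intro k
      rcases k with k | k <;> fin_cases k <;> simp [su5z10h19_tab4, hξ, hξ']) (by
      simp only [ne_eq, neg_eq_zero, div_eq_zero_iff, not_or]
      exact ⟨hξ', hξ⟩)
  have h1 := monV_mulU R (su5z10h19_monV_wb R hη) hBi
  refine su5z10h19_monV_congrU R h1 (by rw [su5z10h19_piB_inv, su5z10h19_piB_sq]) ?_ ?_
  · intro k
    rcases k with k | k <;> fin_cases k <;>
      simp [su5z10h19_tab4, su5z10h19_piB_inv, su5z10h19_piB_l0, su5z10h19_piB_l1, su5z10h19_piB_r0, su5z10h19_piB_r1, hr, star_mul'] <;> field_simp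
  · rw [hr]
    simp only [star_mul']
    field_simp


/-- `w_b h_a(s) w_b⁻¹ = h_a(s) h_b(N s)` on the frame -/
theorem su5z10h19_n5_frame (R : S.Rep V) (hinj : Function.Injective R.φ) (hsp : SpanV R) {η ξ : Lam F True} (hξ : ξ.c ≠ 0)
    (hsk : star ξ.c = -ξ.c) (s : F) (hs : s ≠ 0) (hr : η.c = s * star s * ξ.c) :
    S.wl (Sum.inl 1) ξ * S.hs (Sum.inl 0) (Sum.inl 1) s * (S.wl (Sum.inl 1) ξ)⁻¹ =
      S.hs (Sum.inl 0) (Sum.inl 1) s * S.hl (Sum.inl 1) η ξ := by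
  have hs' : star s ≠ 0 := fun h => hs (by simpa using congrArg star h)
  have hξ' : star ξ.c ≠ 0 := fun h => hξ (by simpa using congrArg star h)
  have hη : η.c ≠ 0 := by
    rw [hr]
    exact mul_ne_zero (mul_ne_zero hs hs') hξ
  have hB := su5z10h19_monV_wb R hξ
  have hBi := monV_invU R hB (by
      intro k
      rcases k with k | k <;> fin_cases k <;> simp [su5z10h19_tab4, hξ, hξ']) (by
      simp only [ne_eq, neg_eq_zero, div_eq_zero_iff, not_or]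
      exact ⟨hξ', hξ⟩)
  have hL := monV_mulU R (monV_mulU R hB (su5z10h19_monV_ha R s hs)) hBi
  have hR := monV_mulU R (su5z10h19_monV_ha R s hs) (su5z10h19_monV_hb R hη hξ (s * star s) hr)
  refine monV_extU R hinj hsp hL hR ?_ ?_ ?_
  · rw [mul_one, su5z10h19_piB_inv, su5z10h19_piB_sq, mul_one]
  · intro k
    rcases k with k | k <;> fin_cases k <;>
      simp [su5z10h19_tab4, su5z10h19_piB_inv, su5z10h19_piB_l0, su5z10h19_piB_l1, su5z10h19_piB_r0, su5z10h19_piB_r1, hsk, star_mul'] <;> field_simp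
  · simp only [star_mul', star_star, mul_one]
    field_simp

/-- `h_a(s)` and `h_b(r)` commute, on the frame -/
theorem su5z10h19_u1_frame (R : S.Rep V) (hinj : Function.Injective R.φ) (hsp : SpanV R) {η ξ : Lam F True} (hη : η.c ≠ 0)
    (hξ : ξ.c ≠ 0) (r : F) (hr : η.c = r * ξ.c) (s : F) (hs : s ≠ 0) :
    Commute (S.hs (Sum.inl 0) (Sum.inl 1) s) (S.hl (Sum.inl 1) η ξ) := by
  have hL := monV_mulU R (su5z10h19_monV_ha R s hs) (su5z10h19_monV_hb R hη hξ r hr)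
  have hR := monV_mulU R (su5z10h19_monV_hb R hη hξ r hr) (su5z10h19_monV_ha R s hs)
  refine monV_extU R hinj hsp hL hR rfl ?_ ?_
  · intro k
    rcases k with k | k <;> fin_cases k <;> simp [su5z10h19_tab4, mul_comm]
  · ring

/-- `w_a h_b(r) w_a⁻¹ = h_a(r) h_b(r)`, on the frame -/
theorem su5z10h19_u4_frame (R : S.Rep V) (hinj : Function.Injective R.φ) (hsp : SpanV R) {η ξ : Lam F True} (hη : η.c ≠ 0)
    (hξ : ξ.c ≠ 0) (r : F) (hr : η.c = r * ξ.c) :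
    S.ws (Sum.inl 0) (Sum.inl 1) 1 * S.hl (Sum.inl 1) η ξ * (S.ws (Sum.inl 0) (Sum.inl 1) 1)⁻¹ =
      S.hs (Sum.inl 0) (Sum.inl 1) r * S.hl (Sum.inl 1) η ξ := by
  have hr0 : r ≠ 0 := by
    rintro rfl
    rw [zero_mul] at hr
    exact hη hr
  have hr' : star r ≠ 0 := fun h => hr0 (by simpa using congrArg star h)
  have hA := su5z10h19_monV_wa R (1 : F) one_ne_zero
  have hAi := monV_invU R hA (by
      intro k
      rcases k with k | k <;> fin_cases k <;> simp [su5z10h19_tab4]) one_ne_zero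
  have hL := monV_mulU R (monV_mulU R hA (su5z10h19_monV_hb R hη hξ r hr)) hAi
  have hR := monV_mulU R (su5z10h19_monV_ha R r hr0) (su5z10h19_monV_hb R hη hξ r hr)
  refine monV_extU R hinj hsp hL hR ?_ ?_ ?_
  · rw [mul_one, su5z10h19_piA_inv, su5z10h19_piA_sq, mul_one]
  · intro k
    rcases k with k | k <;> fin_cases k <;>
      simp [su5z10h19_tab4, su5z10h19_piA_inv, su5z10h19_piA_l0, su5z10h19_piA_l1, su5z10h19_piA_r0, su5z10h19_piA_r1] <;> field_simp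
  · simp

end

section Z10

variable {F : Type u} {K : Type u} [Field F] [Field K] [StarRing F] [Fintype F] [Fintype K] {D : Tw F K}
  {G₀ : Type v} [Group G₀] (S : SysU F True (Fin 2) G₀) {V : Type*} [AddCommGroup V] [Module F V]

/-- Z10 (helper19's version, own name): the EXACT statement of `model_torusU`. -/
theorem su5z10h19_core (hFK : Fintype.card F = Fintype.card K ^ 2)
    (hF : Cfsg.Agent.Lib.Helper27.STU.Hyp F) (P : RO D)
    (ψa : Matrix.SpecialLinearGroup (Fin 2) F →* G₀) (ψb : ↥(SUm F True) →* G₀) (M : MatchU S ψa ψb)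
    (R : S.Rep V) (hinj : Function.Injective R.φ) (hsp : SpanV R) :
    rn (phiL P ψb) * rh ψa P.ζ * (rn (phiL P ψb))⁻¹ = rh ψa P.ζ * rh (phiL P ψb) P.ζ₀ ∧
      rn ψa * rn (phiL P ψb) * rn ψa * rn (phiL P ψb) = rn (phiL P ψb) * rn ψa * rn (phiL P ψb) * rn ψa ∧
      Commute (rh ψa P.ζ) (hbF P ψb P.ζ) ∧
      rn ψa * hbF P ψb P.ζ * (rn ψa)⁻¹ = rh ψa P.ζ * hbF P ψb P.ζ := by
  have hk : P.kap ≠ 0 := su5f4_kap_ne hFK P
  have hsk : star P.kap = -P.kap := su5f4_star_kap P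
  obtain ⟨-, hwa, hha, -, -, hwb, hhb⟩ :=
    su5z1_core S P (fun η r h => wu_eq_huU hFK P η r h) ψa ψb M
  have hT0 := (phiL_basicU P ψa ψb).2.2.1
  have hξc : (Lam.tr (P.ζ : F) : Lam F True).c = P.kap := rfl
  have hζ0 : ((P.ζ : Fˣ) : F) ≠ 0 := P.ζ.ne_zero
  have hN : ((D.ιu P.ζ₀ : Fˣ) : F) = (P.ζ : F) * star (P.ζ : F) := by
    rw [← P.hn]
    exact (ro_basicU P).2.2.2.2.2.2.1 P.ζ
  -- the two parameters
  obtain ⟨η₁, hη₁⟩ := Cfsg.Agent.Lib.Helper27.STU.Lam.exists_of_c (od := True) hF trivial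
    ((P.ζ : F) * star (P.ζ : F) * P.kap)
  obtain ⟨η₂, hη₂⟩ := Cfsg.Agent.Lib.Helper27.STU.Lam.exists_of_c (od := True) hF trivial ((P.ζ : F) * P.kap)
  have hη₂0 : η₂.c ≠ 0 := by
    rw [hη₂]
    exact mul_ne_zero hζ0 hk
  have hb1 : rh (phiL P ψb) P.ζ₀ = S.hl (Sum.inl 1) η₁ (Lam.tr (P.ζ : F)) := by
    rw [hT0]
    exact hhb _ η₁ (by rw [hη₁, hN])
  have hb2 : hbF P ψb P.ζ = S.hl (Sum.inl 1) η₂ (Lam.tr (P.ζ : F)) := hhb _ η₂ hη₂
  refine ⟨?_, ?_, ?_, ?_⟩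
  · rw [hwb, hha, hb1]
    exact su5z10h19_n5_frame R hinj hsp (by rw [hξc]; exact hk) (by rw [hξc]; exact hsk) _ hζ0 (by rw [hη₁, hξc])
  · rw [hwa, hwb]
    exact su5z10h19_braid_frame R hinj hsp (by rw [hξc]; exact hk) (by rw [hξc]; exact hsk)
  · rw [hha, hb2]
    exact su5z10h19_u1_frame R hinj hsp hη₂0 (by rw [hξc]; exact hk) _ (by rw [hη₂, hξc]) _ hζ0
  · rw [hwa, hha, hb2]
    exact su5z10h19_u4_frame R hinj hsp hη₂0 (by rw [hξc]; exact hk) _ (by rw [hη₂, hξc])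

end Z10

end Cfsg.Agent.Lib.Helper19.SU5
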