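import Cfsg.Agent.Lib.helper15.SUn.Iso
import Cfsg.Agent.Lib.Helper28.UGen2
import Cfsg.Agent.Lib.Helper28.UHerm
import Cfsg.Agent.S0780
import Cfsg.Agent.Lib.helper2.SUnP2

/-! SUn-P5 (lemB) for helper15's S2282 project. -/

set_option autoImplicit false
set_option linter.unusedSectionVars false
set_option linter.unusedVariables false

namespace Cfsg.Agent.Lib.Helper19.SUnP5

open Matrix Cfsg.Agent.Lib.helper15.SUn Cfsg.Agent.Lib.Helper28.UGen
open Cfsg.Agent.Lib.helper2.SUnP2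

variable {F : Type*} [Field F] [Fintype F] {n : ℕ} {q : ℕ} {σ : F ≃+* F}

/-- every element of `Ra` is in `H` as soon as all isotropic vectors orthogonal to `a` are in `DD` -/
theorem ra_inh (hσ : ∀ x, σ x = x ^ q)
    (hf : Cfsg.Geo.IsUnitaryForm σ (Cfsg.hermForm n F q)) {H : Subgroup ↥(Cfsg.SU n F q)}
    {m : ℕ} (a : Fin m → Fin n → F)
    (hY : ∀ v : Fin n → F, Cfsg.hermForm n F q v v = 0 → Perp (Cfsg.hermForm n F q) a v →
      v ∈ DD σ H)
    (r : Matrix.GeneralLinearGroup (Fin n) F) (hr : r ∈ Ra (Cfsg.hermForm n F q) σ a) :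
    InH H (r : Matrix (Fin n) (Fin n) F) := by
  unfold Ra at hr
  induction hr using Subgroup.closure_induction with
  | mem g hg =>
    obtain ⟨y, c, hy, hc, hya, hg⟩ := hg
    have hM : (g : Matrix (Fin n) (Fin n) F) = TV σ y (σ c) := by
      apply mat_ext
      intro x
      rw [hg, TV_mulVec hσ, herm_smul_right hσ]
    rw [hM]
    exact (hY y hy hya).2 (σ c) (by rw [hf.involutive, hc, neg_neg])
  | one => exact InH.one
  | mul g h _ _ hg hh => rw [Units.val_mul]; exact hg.mul hh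
  | inv g _ hg => exact hg.of_mul_eq_one (Units.mul_inv g)

/-- step 2': from `z + e ∈ DD` for the nonzero isotropic `z` of `Y` to `z + κ e ∈ DD`. -/
theorem step2 (hσ : ∀ x, σ x = x ^ q)
    (hf : Cfsg.Geo.IsUnitaryForm σ (Cfsg.hermForm n F q)) {H : Subgroup ↥(Cfsg.SU n F q)}
    {k : ℕ} (a' : Fin k → Fin n → F) {e f : Fin n → F}
    (he : e ∈ DD σ H)
    (hY : ∀ v : Fin n → F, Cfsg.hermForm n F q v v = 0 → Perp (Cfsg.hermForm n F q) a' v →
      Cfsg.hermForm n F q v e = 0 → Cfsg.hermForm n F q v f = 0 → v ∈ DD σ H)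
    (h2 : ∀ z : Fin n → F, z ≠ 0 → Cfsg.hermForm n F q z z = 0 →
      Perp (Cfsg.hermForm n F q) a' z →
      Cfsg.hermForm n F q z e = 0 → Cfsg.hermForm n F q z f = 0 → z + e ∈ DD σ H)
    (z : Fin n → F) (hzi : Cfsg.hermForm n F q z z = 0)
    (hza : Perp (Cfsg.hermForm n F q) a' z)
    (hze : Cfsg.hermForm n F q z e = 0) (hzf : Cfsg.hermForm n F q z f = 0) (κ : F) :
    z + κ • e ∈ DD σ H := by
  by_cases hz0 : z = 0
  · rw [hz0, zero_add]
    exact dd_smul hσ hf he κ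
  by_cases hκ : κ = 0
  · rw [hκ, zero_smul, add_zero]
    exact hY z hzi hza hze hzf
  have h1 : κ⁻¹ • z + e ∈ DD σ H := by
    apply h2
    · exact smul_ne_zero (inv_ne_zero hκ) hz0
    · rw [herm_smul_left, herm_smul_right hσ, hzi, mul_zero, mul_zero]
    · exact perp_smul hf a' _ _ hza
    · rw [herm_smul_left, hze, mul_zero]
    · rw [herm_smul_left, hzf, mul_zero]
  have h3 := dd_smul hσ hf h1 κ
  rwa [smul_add, smul_smul, mul_inv_cancel₀ hκ, one_smul] at h3

/-- step 3: `z + p ∈ DD` for every isotropic `p` of the hyperbolic plane. -/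
theorem step3 (hσ : ∀ x, σ x = x ^ q)
    (hf : Cfsg.Geo.IsUnitaryForm σ (Cfsg.hermForm n F q)) {H : Subgroup ↥(Cfsg.SU n F q)}
    {e f : Fin n → F}
    (hee : Cfsg.hermForm n F q e e = 0)
    (hfe : Cfsg.hermForm n F q f e = 1) (hef : Cfsg.hermForm n F q e f = 1)
    (he : e ∈ DD σ H) (hfD : f ∈ DD σ H)
    (z : Fin n → F)
    (hze : Cfsg.hermForm n F q z e = 0) (hzf : Cfsg.hermForm n F q z f = 0)
    (h2 : ∀ κ : F, z + κ • e ∈ DD σ H)
    (x x' : F) (hxx : x * σ x' + x' * σ x = 0) :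
    z + x • e + x' • f ∈ DD σ H := by
  by_cases hx : x = 0
  · obtain ⟨c0, hc0, hc0σ⟩ := Cfsg.Agent.Lib.Helper28.UForm.exists_K0 hf
    have hci : σ (-c0⁻¹) = -(-c0⁻¹) := by
      rw [map_neg, map_inv₀, hc0σ, inv_neg]
    have t1 := dd_move hσ hf (h2 (x' / c0)) hfD hc0σ
    have t2 := dd_move hσ hf t1 he hci
    have e1 : Cfsg.hermForm n F q (z + (x' / c0) • e) f = x' / c0 := by
      rw [herm_add_left, herm_smul_left, hzf, hef, zero_add, mul_one]
    rw [e1] at t1 t2
    have e2 : Cfsg.hermForm n F q (z + (x' / c0) • e + (c0 * (x' / c0)) • f) e = x' := by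
      rw [herm_add_left, herm_add_left, herm_smul_left, herm_smul_left, hze, hee, hfe]
      field_simp
      ring
    rw [e2] at t2
    have e3 : z + (x' / c0) • e + (c0 * (x' / c0)) • f + (-c0⁻¹ * x') • e =
        z + x • e + x' • f := by
      rw [hx]
      funext i
      simp only [Pi.add_apply, Pi.smul_apply, smul_eq_mul]
      field_simp
      ring
    rwa [e3] at t2
  · have hc : σ (x' / x) = -(x' / x) := by
      have hσx : σ x ≠ 0 := by
        rw [Ne, map_eq_zero]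
        exact hx
      rw [map_div₀]
      field_simp
      linear_combination hxx
    have t1 := dd_move hσ hf (h2 x) hfD hc
    have e1 : Cfsg.hermForm n F q (z + x • e) f = x := by
      rw [herm_add_left, herm_smul_left, hzf, hef, zero_add, mul_one]
    rw [e1] at t1
    have e3 : z + x • e + (x' / x * x) • f = z + x • e + x' • f := by
      congr 2
      field_simp
    rwa [e3] at t1


/-- existence of an isotropic vector of `a^⊥` not orthogonal to a given anisotropic one -/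
theorem ex_iso_nonperp (hσ : ∀ x, σ x = x ^ q)
    (hf : Cfsg.Geo.IsUnitaryForm σ (Cfsg.hermForm n F q))
    {m : ℕ} (a : Fin m → Fin n → F) (ha : Nd (Cfsg.hermForm n F q) a) (hm : m + 2 ≤ n)
    (y : Fin n → F) (hya : Perp (Cfsg.hermForm n F q) a y)
    (hyy : Cfsg.hermForm n F q y y ≠ 0) :
    ∃ w, Cfsg.hermForm n F q w w = 0 ∧ Perp (Cfsg.hermForm n F q) a w ∧
      Cfsg.hermForm n F q y w ≠ 0 := by
  obtain ⟨u, v', huu, hvv, hvu, hua, hva⟩ := ex_hyp hf a ha hm
  by_cases h1 : Cfsg.hermForm n F q y u = 0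
  · by_cases h2 : Cfsg.hermForm n F q y v' = 0
    · have hfix : σ (-(Cfsg.hermForm n F q y y)) = -(Cfsg.hermForm n F q y y) := by
        rw [map_neg, Cfsg.Agent.Lib.Helper28.UForm.f_self_fixed hf]
      obtain ⟨β, hβ⟩ := Cfsg.Agent.Lib.Helper28.UForm.trace_surj hf _ hfix
      have h1' : Cfsg.hermForm n F q u y = 0 := Cfsg.Agent.Lib.Helper28.UForm.f_swap_zero hf h1
      have h2' : Cfsg.hermForm n F q v' y = 0 := Cfsg.Agent.Lib.Helper28.UForm.f_swap_zero hf h2
      have huv : Cfsg.hermForm n F q u v' = 1 := by rw [hf.herm, hvu, map_one]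
      refine ⟨y + u + β • v', ?_, ?_, ?_⟩
      · simp only [herm_add_left, herm_smul_left, herm_add_right hσ, herm_smul_right hσ,
          h1, h2, h1', h2', huu, hvv, hvu, huv]
        linear_combination hβ
      · exact perp_add hf a _ _ (perp_add hf a _ _ hya hua) (perp_smul hf a _ _ hva)
      · simp only [herm_add_right hσ, herm_smul_right hσ, h1, h2]
        simpa using hyy
    · exact ⟨v', hvv, hva, h2⟩
  · exact ⟨u, huu, hua, h1⟩

theorem lemB (hF : Fintype.card F = q ^ 2) (hσ : ∀ x, σ x = x ^ q)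
    (hf : Cfsg.Geo.IsUnitaryForm σ (Cfsg.hermForm n F q)) {H : Subgroup ↥(Cfsg.SU n F q)}
    {k : ℕ} (a' : Fin k → Fin n → F) (ha' : Nd (Cfsg.hermForm n F q) a') (hk : k + 5 ≤ n)
    {e f z0 : Fin n → F} (hp : HP (Cfsg.hermForm n F q) a' e f)
    (he : e ∈ DD σ H) (hfD : f ∈ DD σ H)
    (hY : ∀ v : Fin n → F, Cfsg.hermForm n F q v v = 0 → Perp (Cfsg.hermForm n F q) a' v →
      Cfsg.hermForm n F q v e = 0 → Cfsg.hermForm n F q v f = 0 → v ∈ DD σ H)
    (hz0 : z0 ≠ 0) (hz0i : Cfsg.hermForm n F q z0 z0 = 0)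
    (hz0a : Perp (Cfsg.hermForm n F q) a' z0)
    (hz0e : Cfsg.hermForm n F q z0 e = 0) (hz0f : Cfsg.hermForm n F q z0 f = 0)
    (hz : z0 + e ∈ DD σ H) :
    ∀ v : Fin n → F, Cfsg.hermForm n F q v v = 0 → Perp (Cfsg.hermForm n F q) a' v →
      v ∈ DD σ H := by
  intro v hvi hva
  have hee := hp.hu
  have hff := hp.hv
  have hfe := hp.hvu
  have hef := hp.huv hf
  have hnd : Nd (Cfsg.hermForm n F q)
      (Fin.cons e (Fin.cons f a') : Fin (k + 1 + 1) → Fin n → F) :=
    nd_cons2 hf a' ha' e f hp.hua hp.hva hp.hu hp.hv (by rw [hp.hvu]; exact one_ne_zero)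
  have hperp : ∀ w, Perp (Cfsg.hermForm n F q) a' w → Cfsg.hermForm n F q w e = 0 →
      Cfsg.hermForm n F q w f = 0 →
      Perp (Cfsg.hermForm n F q) (Fin.cons e (Fin.cons f a') : Fin (k + 1 + 1) → Fin n → F) w := by
    intro w h1 h2 h3
    rw [perp_cons, perp_cons]
    exact ⟨h2, h3, h1⟩
  have hperp' : ∀ w, Perp (Cfsg.hermForm n F q)
      (Fin.cons e (Fin.cons f a') : Fin (k + 1 + 1) → Fin n → F) w →
      Cfsg.hermForm n F q w e = 0 ∧ Cfsg.hermForm n F q w f = 0 ∧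
        Perp (Cfsg.hermForm n F q) a' w := by
    intro w h
    rw [perp_cons, perp_cons] at h
    exact h
  have hY' : ∀ w : Fin n → F, Cfsg.hermForm n F q w w = 0 → Perp (Cfsg.hermForm n F q)
      (Fin.cons e (Fin.cons f a') : Fin (k + 1 + 1) → Fin n → F) w → w ∈ DD σ H := by
    intro w h1 h2
    obtain ⟨h3, h4, h5⟩ := hperp' w h2
    exact hY w h1 h5 h3 h4
  -- step 2
  have h2 : ∀ z : Fin n → F, z ≠ 0 → Cfsg.hermForm n F q z z = 0 →
      Perp (Cfsg.hermForm n F q) a' z →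
      Cfsg.hermForm n F q z e = 0 → Cfsg.hermForm n F q z f = 0 → z + e ∈ DD σ H := by
    intro z hz0' hzi hza hze hzf
    obtain ⟨r, hr, hrz⟩ := h1 (σ := σ) hf _ hnd (by omega) z0 z hz0 hz0' hz0i hzi
      (hperp z0 hz0a hz0e hz0f) (hperp z hza hze hzf)
    have hrG := Ra_le_GA hf _ hr
    have hre : (r : Matrix (Fin n) (Fin n) F) *ᵥ e = e := by simpa using hrG.2.2 0
    have hInH := ra_inh hσ hf _ hY' r hr
    have h3 := dd_inh hσ hf hz hInH
    rwa [Matrix.mulVec_add, hrz, hre] at h3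
  -- step 3
  have h3 : ∀ z : Fin n → F, Cfsg.hermForm n F q z z = 0 →
      Perp (Cfsg.hermForm n F q) a' z →
      Cfsg.hermForm n F q z e = 0 → Cfsg.hermForm n F q z f = 0 → ∀ x x' : F,
      x * σ x' + x' * σ x = 0 → z + x • e + x' • f ∈ DD σ H := by
    intro z hzi hza hze hzf x x' hxx
    exact step3 hσ hf hee hfe hef he hfD z hze hzf
      (fun κ => step2 hσ hf a' he hY h2 z hzi hza hze hzf κ) x x' hxx
  -- step 4
  obtain ⟨x, hx⟩ : ∃ x, x = Cfsg.hermForm n F q v f := ⟨_, rfl⟩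
  obtain ⟨x', hx'⟩ : ∃ x', x' = Cfsg.hermForm n F q v e := ⟨_, rfl⟩
  obtain ⟨y, hy⟩ : ∃ y, y = v - x • e - x' • f := ⟨_, rfl⟩
  have hv : v = y + x • e + x' • f := by rw [hy]; abel
  have hye : Cfsg.hermForm n F q y e = 0 := by
    rw [hy, herm_sub_left, herm_sub_left, herm_smul_left, herm_smul_left, hee, hfe, ← hx']
    ring
  have hyf : Cfsg.hermForm n F q y f = 0 := by
    rw [hy, herm_sub_left, herm_sub_left, herm_smul_left, herm_smul_left, hef, hff, ← hx]
    ring
  have hey : Cfsg.hermForm n F q e y = 0 := Cfsg.Agent.Lib.Helper28.UForm.f_swap_zero hf hye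
  have hfy : Cfsg.hermForm n F q f y = 0 := Cfsg.Agent.Lib.Helper28.UForm.f_swap_zero hf hyf
  have hya : Perp (Cfsg.hermForm n F q) a' y := by
    rw [hy]
    exact perp_sub hf a' _ _ (perp_sub hf a' _ _ hva (perp_smul hf a' _ _ hp.hua))
      (perp_smul hf a' _ _ hp.hva)
  have hyy : Cfsg.hermForm n F q y y + (x * σ x' + x' * σ x) = 0 := by
    have h := hvi
    rw [hv] at h
    simp only [herm_add_left, herm_smul_left, herm_add_right hσ, herm_smul_right hσ,
      hye, hyf, hey, hfy, hee, hff, hef, hfe] at h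
    linear_combination h
  by_cases hν : Cfsg.hermForm n F q y y = 0
  · rw [hv]
    exact h3 y hν hya hye hyf x x' (by linear_combination hyy - hν)
  -- the anisotropic case
  obtain ⟨w, hwi, hwa, hyw⟩ := ex_iso_nonperp hσ hf _ hnd (by omega) y (hperp y hya hye hyf) hν
  obtain ⟨hwe, hwf, hwa'⟩ := hperp' w hwa
  have hew : Cfsg.hermForm n F q e w = 0 := Cfsg.Agent.Lib.Helper28.UForm.f_swap_zero hf hwe
  have hfw : Cfsg.hermForm n F q f w = 0 := Cfsg.Agent.Lib.Helper28.UForm.f_swap_zero hf hwf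
  have hνfix : σ (Cfsg.hermForm n F q y y) = Cfsg.hermForm n F q y y :=
    Cfsg.Agent.Lib.Helper28.UForm.f_self_fixed hf y
  obtain ⟨μ, hμtr, hμne⟩ : ∃ μ : F, μ + σ μ = Cfsg.hermForm n F q y y ∧ μ + x * σ x' ≠ 0 := by
    obtain ⟨μ0, hμ0⟩ := Cfsg.Agent.Lib.Helper28.UForm.trace_surj hf _ hνfix
    by_cases h0 : μ0 + x * σ x' = 0
    · obtain ⟨c0, hc0, hc0σ⟩ := Cfsg.Agent.Lib.Helper28.UForm.exists_K0 hf
      refine ⟨μ0 + c0, ?_, ?_⟩
      · rw [map_add, hc0σ]
        linear_combination hμ0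
      · intro h
        apply hc0
        linear_combination h - h0
    · exact ⟨μ0, hμ0, h0⟩
  obtain ⟨β, hβ⟩ : ∃ β, β = Cfsg.hermForm n F q y w := ⟨_, rfl⟩
  have hβ0 : β ≠ 0 := by rw [hβ]; exact hyw
  have hσβ0 : σ β ≠ 0 := by rw [Ne, map_eq_zero]; exact hβ0
  have hwy : Cfsg.hermForm n F q w y = σ β := by rw [hβ]; exact hf.herm w y
  obtain ⟨l, hl⟩ : ∃ l, l = μ / σ β := ⟨_, rfl⟩
  have hlμ : l * σ β = μ := by rw [hl]; field_simp
  have hσlμ : σ l * β = σ μ := by
    rw [hl, map_div₀, hf.involutive]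
    field_simp
  -- the two isotropic vectors
  have hz1i : Cfsg.hermForm n F q (l • w) (l • w) = 0 := by
    rw [herm_smul_left, herm_smul_right hσ, hwi, mul_zero, mul_zero]
  have hz1a : Perp (Cfsg.hermForm n F q) a' (l • w) := perp_smul hf a' _ _ hwa'
  have hz1e : Cfsg.hermForm n F q (l • w) e = 0 := by rw [herm_smul_left, hwe, mul_zero]
  have hz1f : Cfsg.hermForm n F q (l • w) f = 0 := by rw [herm_smul_left, hwf, mul_zero]
  have hz2i : Cfsg.hermForm n F q (y - l • w) (y - l • w) = 0 := by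
    simp only [herm_sub_left, herm_smul_left, herm_sub_right hσ, herm_smul_right hσ, hwi, hwy,
      ← hβ]
    linear_combination -hσlμ - hlμ - hμtr
  have hz2a : Perp (Cfsg.hermForm n F q) a' (y - l • w) := perp_sub hf a' _ _ hya hz1a
  have hz2e : Cfsg.hermForm n F q (y - l • w) e = 0 := by
    rw [herm_sub_left, hye, hz1e, sub_zero]
  have hz2f : Cfsg.hermForm n F q (y - l • w) f = 0 := by
    rw [herm_sub_left, hyf, hz1f, sub_zero]
  have t1 := h3 (l • w) hz1i hz1a hz1e hz1f x 0 (by rw [map_zero]; ring)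
  have t2 := h3 (y - l • w) hz2i hz2a hz2e hz2f 0 x' (by rw [map_zero]; ring)
  rw [zero_smul, add_zero] at t1 t2
  have hη : Cfsg.hermForm n F q (l • w + x • e) (y - l • w + x' • f) = μ + x * σ x' := by
    simp only [herm_add_left, herm_smul_left, herm_add_right hσ, herm_sub_right hσ,
      herm_smul_right hσ, hwi, hwy, hwf, hey, hew, hef]
    linear_combination hlμ
  have hησ : σ (μ + x * σ x')⁻¹ = -(μ + x * σ x')⁻¹ := by
    have h1 : σ (μ + x * σ x') = -(μ + x * σ x') := by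
      rw [map_add, map_mul, hf.involutive]
      linear_combination hμtr + hyy
    rw [map_inv₀, h1, inv_neg]
  have t3 := dd_move hσ hf t1 t2 hησ
  rw [hη, inv_mul_cancel₀ hμne, one_smul] at t3
  have hfin : l • w + x • e + (y - l • w + x' • f) = v := by rw [hv]; abel
  rwa [hfin] at t3

end Cfsg.Agent.Lib.Helper19.SUnP5
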