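import Mathlib

set_option autoImplicit false

/-! Element orders in semidirect products `N ⋊[φ] G`. -/

namespace Cfsg.Agent.Lib.Helper19.SemiOrd

variable {N G : Type*} [Group N] [Group G] (φ : G →* MulAut N)
open SemidirectProduct

/-- if `g` acts fixed-point-freely then `(m, g)` is conjugate to `(1, g)` -/
theorem orderOf_mk_eq_of_fpf [Finite N] (g : G) (hfpf : ∀ w : N, φ g w = w → w = 1) (m : N) :
    orderOf (⟨m, g⟩ : N ⋊[φ] G) = orderOf g := by
  have hinj : Function.Injective (fun w : N => w * (φ g w)⁻¹) := by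
    intro w w' h
    have h' : w * (φ g w)⁻¹ = w' * (φ g w')⁻¹ := h
    have h1 : φ g (w'⁻¹ * w) = w'⁻¹ * w := by
      rw [map_mul, map_inv]
      calc (φ g w')⁻¹ * φ g w = w'⁻¹ * (w' * (φ g w')⁻¹) * φ g w := by group
        _ = w'⁻¹ * (w * (φ g w)⁻¹) * φ g w := by rw [h']
        _ = w'⁻¹ * w := by group
    have h3 := hfpf _ h1
    exact (inv_mul_eq_one.mp h3).symm
  have hsurj := Finite.injective_iff_surjective.mp hinj
  obtain ⟨w, hw⟩ := hsurj m
  have hw' : w * (φ g w)⁻¹ = m := hw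
  have hconj : (⟨m, g⟩ : N ⋊[φ] G) = MulAut.conj (inl w) (inr g) := by
    rw [MulAut.conj_apply]
    ext
    · simp [← hw']
    · simp
  rw [hconj, MulEquiv.orderOf_eq, orderOf_injective inr inr_injective]

/-- the order of the `G`-component divides the order -/
theorem orderOf_right_dvd (x : N ⋊[φ] G) : orderOf x.right ∣ orderOf x := by
  have : x.right = (rightHom : N ⋊[φ] G →* G) x := rfl
  rw [this]
  exact orderOf_map_dvd _ x

/-- if `N` has exponent `p`, orders are `o(g)` or `p * o(g)` -/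
theorem orderOf_dvd_mul (p : ℕ) (hN : ∀ n : N, n ^ p = 1) (x : N ⋊[φ] G) :
    orderOf x ∣ orderOf x.right * p := by
  apply orderOf_dvd_of_pow_eq_one
  rw [pow_mul]
  have hr : (rightHom : N ⋊[φ] G →* G) (x ^ orderOf x.right) = 1 := by
    rw [map_pow]
    exact pow_orderOf_eq_one x.right
  have hmem : x ^ orderOf x.right ∈ (rightHom : N ⋊[φ] G →* G).ker := hr
  rw [← range_inl_eq_ker_rightHom] at hmem
  obtain ⟨n, hn⟩ := hmem
  rw [← hn, ← map_pow, hN, map_one]

end Cfsg.Agent.Lib.Helper19.SemiOrd
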