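import Mathlib

set_option autoImplicit false

namespace Cfsg.Agent.Lib.Helper19.Sp43

abbrev Z3 := ZMod 3
abbrev I4 := Fin 2 ⊕ Fin 2

def Bf (v1 v2 v3 v4 w1 w2 w3 w4 : Z3) : Z3 := v3*w1 + v4*w2 - v1*w3 - v2*w4

def all3 (f : Z3 → Bool) : Bool := f 0 && f 1 && f 2
def any3 (f : Z3 → Bool) : Bool := f 0 || f 1 || f 2
def all4 (f : Z3 → Z3 → Z3 → Z3 → Bool) : Bool :=
  all3 fun a => all3 fun b => all3 fun c => all3 fun d => f a b c d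
def any4 (f : Z3 → Z3 → Z3 → Z3 → Bool) : Bool :=
  any3 fun a => any3 fun b => any3 fun c => any3 fun d => f a b c d
def imp (p q : Bool) : Bool := !p || q
def sum3 (f : Z3 → ℕ) : ℕ := f 0 + f 1 + f 2
def sum4 (f : Z3 → Z3 → Z3 → Z3 → ℕ) : ℕ :=
  sum3 fun a => sum3 fun b => sum3 fun c => sum3 fun d => f a b c d

def cubeOne (a1 a2 a3 a4 b1 b2 b3 b4 c1 c2 c3 c4 d1 d2 d3 d4 : Z3) : Bool :=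
    (((a1 * a1 + a2 * b1 + a3 * c1 + a4 * d1) * a1 + (a1 * a2 + a2 * b2 + a3 * c2 + a4 * d2) * b1 + (a1 * a3 + a2 * b3 + a3 * c3 + a4 * d3) * c1 + (a1 * a4 + a2 * b4 + a3 * c4 + a4 * d4) * d1) == 1) &&
    (((a1 * a1 + a2 * b1 + a3 * c1 + a4 * d1) * a2 + (a1 * a2 + a2 * b2 + a3 * c2 + a4 * d2) * b2 + (a1 * a3 + a2 * b3 + a3 * c3 + a4 * d3) * c2 + (a1 * a4 + a2 * b4 + a3 * c4 + a4 * d4) * d2) == 0) &&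
    (((a1 * a1 + a2 * b1 + a3 * c1 + a4 * d1) * a3 + (a1 * a2 + a2 * b2 + a3 * c2 + a4 * d2) * b3 + (a1 * a3 + a2 * b3 + a3 * c3 + a4 * d3) * c3 + (a1 * a4 + a2 * b4 + a3 * c4 + a4 * d4) * d3) == 0) &&
    (((a1 * a1 + a2 * b1 + a3 * c1 + a4 * d1) * a4 + (a1 * a2 + a2 * b2 + a3 * c2 + a4 * d2) * b4 + (a1 * a3 + a2 * b3 + a3 * c3 + a4 * d3) * c4 + (a1 * a4 + a2 * b4 + a3 * c4 + a4 * d4) * d4) == 0) &&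
    (((b1 * a1 + b2 * b1 + b3 * c1 + b4 * d1) * a1 + (b1 * a2 + b2 * b2 + b3 * c2 + b4 * d2) * b1 + (b1 * a3 + b2 * b3 + b3 * c3 + b4 * d3) * c1 + (b1 * a4 + b2 * b4 + b3 * c4 + b4 * d4) * d1) == 0) &&
    (((b1 * a1 + b2 * b1 + b3 * c1 + b4 * d1) * a2 + (b1 * a2 + b2 * b2 + b3 * c2 + b4 * d2) * b2 + (b1 * a3 + b2 * b3 + b3 * c3 + b4 * d3) * c2 + (b1 * a4 + b2 * b4 + b3 * c4 + b4 * d4) * d2) == 1) &&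
    (((b1 * a1 + b2 * b1 + b3 * c1 + b4 * d1) * a3 + (b1 * a2 + b2 * b2 + b3 * c2 + b4 * d2) * b3 + (b1 * a3 + b2 * b3 + b3 * c3 + b4 * d3) * c3 + (b1 * a4 + b2 * b4 + b3 * c4 + b4 * d4) * d3) == 0) &&
    (((b1 * a1 + b2 * b1 + b3 * c1 + b4 * d1) * a4 + (b1 * a2 + b2 * b2 + b3 * c2 + b4 * d2) * b4 + (b1 * a3 + b2 * b3 + b3 * c3 + b4 * d3) * c4 + (b1 * a4 + b2 * b4 + b3 * c4 + b4 * d4) * d4) == 0) &&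
    (((c1 * a1 + c2 * b1 + c3 * c1 + c4 * d1) * a1 + (c1 * a2 + c2 * b2 + c3 * c2 + c4 * d2) * b1 + (c1 * a3 + c2 * b3 + c3 * c3 + c4 * d3) * c1 + (c1 * a4 + c2 * b4 + c3 * c4 + c4 * d4) * d1) == 0) &&
    (((c1 * a1 + c2 * b1 + c3 * c1 + c4 * d1) * a2 + (c1 * a2 + c2 * b2 + c3 * c2 + c4 * d2) * b2 + (c1 * a3 + c2 * b3 + c3 * c3 + c4 * d3) * c2 + (c1 * a4 + c2 * b4 + c3 * c4 + c4 * d4) * d2) == 0) &&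
    (((c1 * a1 + c2 * b1 + c3 * c1 + c4 * d1) * a3 + (c1 * a2 + c2 * b2 + c3 * c2 + c4 * d2) * b3 + (c1 * a3 + c2 * b3 + c3 * c3 + c4 * d3) * c3 + (c1 * a4 + c2 * b4 + c3 * c4 + c4 * d4) * d3) == 1) &&
    (((c1 * a1 + c2 * b1 + c3 * c1 + c4 * d1) * a4 + (c1 * a2 + c2 * b2 + c3 * c2 + c4 * d2) * b4 + (c1 * a3 + c2 * b3 + c3 * c3 + c4 * d3) * c4 + (c1 * a4 + c2 * b4 + c3 * c4 + c4 * d4) * d4) == 0) &&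
    (((d1 * a1 + d2 * b1 + d3 * c1 + d4 * d1) * a1 + (d1 * a2 + d2 * b2 + d3 * c2 + d4 * d2) * b1 + (d1 * a3 + d2 * b3 + d3 * c3 + d4 * d3) * c1 + (d1 * a4 + d2 * b4 + d3 * c4 + d4 * d4) * d1) == 0) &&
    (((d1 * a1 + d2 * b1 + d3 * c1 + d4 * d1) * a2 + (d1 * a2 + d2 * b2 + d3 * c2 + d4 * d2) * b2 + (d1 * a3 + d2 * b3 + d3 * c3 + d4 * d3) * c2 + (d1 * a4 + d2 * b4 + d3 * c4 + d4 * d4) * d2) == 0) &&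
    (((d1 * a1 + d2 * b1 + d3 * c1 + d4 * d1) * a3 + (d1 * a2 + d2 * b2 + d3 * c2 + d4 * d2) * b3 + (d1 * a3 + d2 * b3 + d3 * c3 + d4 * d3) * c3 + (d1 * a4 + d2 * b4 + d3 * c4 + d4 * d4) * d3) == 0) &&
    (((d1 * a1 + d2 * b1 + d3 * c1 + d4 * d1) * a4 + (d1 * a2 + d2 * b2 + d3 * c2 + d4 * d2) * b4 + (d1 * a3 + d2 * b3 + d3 * c3 + d4 * d3) * c4 + (d1 * a4 + d2 * b4 + d3 * c4 + d4 * d4) * d4) == 1)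

def isOne (a1 a2 a3 a4 b1 b2 b3 b4 c1 c2 c3 c4 d1 d2 d3 d4 : Z3) : Bool :=
  (a1 == 1) && (a2 == 0) && (a3 == 0) && (a4 == 0) && (b1 == 0) && (b2 == 1) && (b3 == 0) && (b4 == 0) && (c1 == 0) && (c2 == 0) && (c3 == 1) && (c4 == 0) && (d1 == 0) && (d2 == 0) && (d3 == 0) && (d4 == 1)

def fixE (a1 a2 a3 a4 b1 b2 b3 b4 c1 c2 c3 c4 d1 d2 d3 d4 v1 v2 v3 v4 : Z3) : Bool :=
  ((a1 * v1 + a2 * v2 + a3 * v3 + a4 * v4) == v1) && ((b1 * v1 + b2 * v2 + b3 * v3 + b4 * v4) == v2) && ((c1 * v1 + c2 * v2 + c3 * v3 + c4 * v4) == v3) && ((d1 * v1 + d2 * v2 + d3 * v3 + d4 * v4) == v4)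

def qE (a1 a2 a3 a4 b1 b2 b3 b4 c1 c2 c3 c4 d1 d2 d3 d4 v1 v2 v3 v4 : Z3) : Z3 :=
  Bf (a1 * v1 + a2 * v2 + a3 * v3 + a4 * v4) (b1 * v1 + b2 * v2 + b3 * v3 + b4 * v4) (c1 * v1 + c2 * v2 + c3 * v3 + c4 * v4) (d1 * v1 + d2 * v2 + d3 * v3 + d4 * v4) v1 v2 v3 v4

def realE (a1 a2 a3 a4 b1 b2 b3 b4 c1 c2 c3 c4 d1 d2 d3 d4 : Z3) : Bool :=
  all3 fun t => imp (any4 fun v1 v2 v3 v4 => qE a1 a2 a3 a4 b1 b2 b3 b4 c1 c2 c3 c4 d1 d2 d3 d4 v1 v2 v3 v4 == t)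
    (any4 fun v1 v2 v3 v4 => qE a1 a2 a3 a4 b1 b2 b3 b4 c1 c2 c3 c4 d1 d2 d3 d4 v1 v2 v3 v4 == -t)

def countFix (a1 a2 a3 a4 b1 b2 b3 b4 c1 c2 c3 c4 d1 d2 d3 d4 : Z3) : ℕ :=
  sum4 fun v1 v2 v3 v4 => if fixE a1 a2 a3 a4 b1 b2 b3 b4 c1 c2 c3 c4 d1 d2 d3 d4 v1 v2 v3 v4 then 1 else 0

def isoE (a1 a2 a3 a4 b1 b2 b3 b4 c1 c2 c3 c4 d1 d2 d3 d4 : Z3) : Bool :=
  all4 fun v1 v2 v3 v4 => imp (fixE a1 a2 a3 a4 b1 b2 b3 b4 c1 c2 c3 c4 d1 d2 d3 d4 v1 v2 v3 v4) <|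
    all4 fun w1 w2 w3 w4 => imp (fixE a1 a2 a3 a4 b1 b2 b3 b4 c1 c2 c3 c4 d1 d2 d3 d4 w1 w2 w3 w4) (Bf v1 v2 v3 v4 w1 w2 w3 w4 == 0)

def chk (a1 a2 a3 a4 b1 b2 b3 b4 c1 c2 c3 c4 d1 d2 d3 d4 : Z3) : Bool :=
  imp (cubeOne a1 a2 a3 a4 b1 b2 b3 b4 c1 c2 c3 c4 d1 d2 d3 d4) <| imp (!isOne a1 a2 a3 a4 b1 b2 b3 b4 c1 c2 c3 c4 d1 d2 d3 d4) <| imp (realE a1 a2 a3 a4 b1 b2 b3 b4 c1 c2 c3 c4 d1 d2 d3 d4) <|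
    (countFix a1 a2 a3 a4 b1 b2 b3 b4 c1 c2 c3 c4 d1 d2 d3 d4 == 9) && isoE a1 a2 a3 a4 b1 b2 b3 b4 c1 c2 c3 c4 d1 d2 d3 d4

def keyB : Bool :=
  all4 fun a1 a2 a3 a4 => all4 fun c1 c2 c3 c4 =>
    imp (Bf a1 a2 a3 a4 c1 c2 c3 c4 == -1) <|
  all4 fun b1 b2 b3 b4 =>
    imp (Bf a1 a2 a3 a4 b1 b2 b3 b4 == 0) <| imp (Bf b1 b2 b3 b4 c1 c2 c3 c4 == 0) <|
  all4 fun d1 d2 d3 d4 =>
    imp (Bf a1 a2 a3 a4 d1 d2 d3 d4 == 0) <| imp (Bf b1 b2 b3 b4 d1 d2 d3 d4 == -1) <|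
    imp (Bf c1 c2 c3 c4 d1 d2 d3 d4 == 0) <| chk a1 a2 a3 a4 b1 b2 b3 b4 c1 c2 c3 c4 d1 d2 d3 d4

set_option maxRecDepth 1000000 in
theorem keyB_true : keyB = true := by decide +kernel

end Cfsg.Agent.Lib.Helper19.Sp43
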