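import Mathlib
import Cfsg.Agent.Lib.Helper19.Sp43Core

set_option autoImplicit false

namespace Cfsg.Agent.Lib.Helper19.Sp43

open Matrix

theorem z3_cases (x : Z3) : x = 0 ∨ x = 1 ∨ x = 2 := by revert x; decide

theorem all3_spec {f : Z3 → Bool} (h : all3 f = true) (x : Z3) : f x = true := by
  simp only [all3, Bool.and_eq_true] at h
  rcases z3_cases x with rfl | rfl | rfl
  exacts [h.1.1, h.1.2, h.2]

theorem all3_intro {f : Z3 → Bool} (h : ∀ x, f x = true) : all3 f = true := by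
  simp only [all3, Bool.and_eq_true]
  exact ⟨⟨h 0, h 1⟩, h 2⟩

theorem all4_spec {f : Z3 → Z3 → Z3 → Z3 → Bool} (h : all4 f = true) (a b c d : Z3) :
    f a b c d = true :=
  all3_spec (all3_spec (all3_spec (all3_spec h a) b) c) d

theorem any3_spec {f : Z3 → Bool} (h : any3 f = true) : ∃ x, f x = true := by
  simp only [any3, Bool.or_eq_true] at h
  rcases h with (h | h) | h
  exacts [⟨0, h⟩, ⟨1, h⟩, ⟨2, h⟩]

theorem any3_intro {f : Z3 → Bool} (x : Z3) (h : f x = true) : any3 f = true := by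
  simp only [any3, Bool.or_eq_true]
  rcases z3_cases x with rfl | rfl | rfl
  · exact Or.inl (Or.inl h)
  · exact Or.inl (Or.inr h)
  · exact Or.inr h

theorem any4_spec {f : Z3 → Z3 → Z3 → Z3 → Bool} (h : any4 f = true) :
    ∃ a b c d, f a b c d = true := by
  obtain ⟨a, ha⟩ := any3_spec h
  obtain ⟨b, hb⟩ := any3_spec ha
  obtain ⟨c, hc⟩ := any3_spec hb
  obtain ⟨d, hd⟩ := any3_spec hc
  exact ⟨a, b, c, d, hd⟩

theorem any4_intro {f : Z3 → Z3 → Z3 → Z3 → Bool} (a b c d : Z3) (h : f a b c d = true) :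
    any4 f = true :=
  any3_intro a (any3_intro b (any3_intro c (any3_intro d h)))

theorem imp_spec {p q : Bool} (h : imp p q = true) (hp : p = true) : q = true := by
  subst hp
  simpa [imp] using h

theorem imp_intro {p q : Bool} (h : p = true → q = true) : imp p q = true := by
  cases p
  · simp [imp]
  · simpa [imp] using h rfl

abbrev i1 : I4 := Sum.inl 0
abbrev i2 : I4 := Sum.inl 1
abbrev i3 : I4 := Sum.inr 0
abbrev i4 : I4 := Sum.inr 1

theorem sum_I4 {M : Type*} [AddCommMonoid M] (f : I4 → M) :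
    ∑ i, f i = f i1 + f i2 + f i3 + f i4 := by
  simp only [Fintype.sum_sum_type, Fin.sum_univ_two, add_assoc]

theorem forall_I4 {P : I4 → Prop} : (∀ i, P i) ↔ P i1 ∧ P i2 ∧ P i3 ∧ P i4 := by
  rw [Sum.forall, Fin.forall_fin_two, Fin.forall_fin_two, and_assoc]

theorem mulVec_apply4 (A : Matrix I4 I4 Z3) (v : I4 → Z3) (i : I4) :
    (A *ᵥ v) i = A i i1 * v i1 + A i i2 * v i2 + A i i3 * v i3 + A i i4 * v i4 := by
  rw [Matrix.mulVec, dotProduct, sum_I4]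

theorem J_mulVec (w : I4 → Z3) : J (Fin 2) Z3 *ᵥ w =
    Sum.elim (fun i => - w (Sum.inr i)) (fun i => w (Sum.inl i)) := by
  rw [J, fromBlocks_mulVec]
  simp only [zero_mulVec, neg_mulVec, one_mulVec, zero_add, add_zero]
  rfl

theorem B_eq (v w : I4 → Z3) : v ⬝ᵥ (J (Fin 2) Z3 *ᵥ w) =
    Bf (v i1) (v i2) (v i3) (v i4) (w i1) (w i2) (w i3) (w i4) := by
  rw [J_mulVec, dotProduct, sum_I4]
  simp only [Sum.elim_inl, Sum.elim_inr, Bf]
  ring

/-- apply a function of 16 entries to the entries of `A`. -/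
def ent {α : Type*} (A : Matrix I4 I4 Z3)
    (f : Z3 → Z3 → Z3 → Z3 → Z3 → Z3 → Z3 → Z3 → Z3 → Z3 → Z3 → Z3 → Z3 → Z3 → Z3 → Z3 → α) : α :=
  f (A i1 i1) (A i1 i2) (A i1 i3) (A i1 i4) (A i2 i1) (A i2 i2) (A i2 i3) (A i2 i4) (A i3 i1) (A i3 i2) (A i3 i3) (A i3 i4) (A i4 i1) (A i4 i2) (A i4 i3) (A i4 i4)

def vec4 (v1 v2 v3 v4 : Z3) : I4 → Z3 := Sum.elim ![v1, v2] ![v3, v4]

theorem fixE_iff (A : Matrix I4 I4 Z3) (v : I4 → Z3) :
    ent A fixE (v i1) (v i2) (v i3) (v i4) = true ↔ A *ᵥ v = v := by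
  rw [funext_iff, forall_I4]
  simp only [mulVec_apply4, ent, fixE, Bool.and_eq_true, beq_iff_eq, and_assoc]

theorem qE_eq (A : Matrix I4 I4 Z3) (u : I4 → Z3) :
    ent A qE (u i1) (u i2) (u i3) (u i4) = (A *ᵥ u) ⬝ᵥ (J (Fin 2) Z3 *ᵥ u) := by
  rw [B_eq]
  simp only [mulVec_apply4, ent, qE]

theorem sympl_apply (A : Matrix I4 I4 Z3) (i j : I4) :
    (A * J (Fin 2) Z3 * Aᵀ) i j =
      Bf (A i i1) (A i i2) (A i i3) (A i i4) (A j i1) (A j i2) (A j i3) (A j i4) := by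
  have h : (A * J (Fin 2) Z3 * Aᵀ) i j = (fun k => A i k) ⬝ᵥ (J (Fin 2) Z3 *ᵥ (fun k => A j k)) := by
    rw [Matrix.mul_assoc, Matrix.mul_apply]
    rfl
  rw [h, B_eq]

theorem cube_apply (A : Matrix I4 I4 Z3) (i j : I4) : (A * A * A) i j =
    (A i i1 * A i1 i1 + A i i2 * A i2 i1 + A i i3 * A i3 i1 + A i i4 * A i4 i1) * A i1 j +
    (A i i1 * A i1 i2 + A i i2 * A i2 i2 + A i i3 * A i3 i2 + A i i4 * A i4 i2) * A i2 j +
    (A i i1 * A i1 i3 + A i i2 * A i2 i3 + A i i3 * A i3 i3 + A i i4 * A i4 i3) * A i3 j +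
    (A i i1 * A i1 i4 + A i i2 * A i2 i4 + A i i3 * A i3 i4 + A i i4 * A i4 i4) * A i4 j := by
  simp only [Matrix.mul_apply, sum_I4]

theorem cubeOne_of (A : Matrix I4 I4 Z3) (h3 : A * A * A = 1) : ent A cubeOne = true := by
  simp only [ent, cubeOne, Bool.and_eq_true, beq_iff_eq]
  refine ⟨⟨⟨⟨⟨⟨⟨⟨⟨⟨⟨⟨⟨⟨⟨?_, ?_⟩, ?_⟩, ?_⟩, ?_⟩, ?_⟩, ?_⟩, ?_⟩, ?_⟩, ?_⟩, ?_⟩, ?_⟩, ?_⟩, ?_⟩, ?_⟩, ?_⟩
  · have h := congrFun (congrFun h3 i1) i1
    rw [cube_apply] at h
    simpa using h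
  · have h := congrFun (congrFun h3 i1) i2
    rw [cube_apply] at h
    simpa using h
  · have h := congrFun (congrFun h3 i1) i3
    rw [cube_apply] at h
    simpa using h
  · have h := congrFun (congrFun h3 i1) i4
    rw [cube_apply] at h
    simpa using h
  · have h := congrFun (congrFun h3 i2) i1
    rw [cube_apply] at h
    simpa using h
  · have h := congrFun (congrFun h3 i2) i2
    rw [cube_apply] at h
    simpa using h
  · have h := congrFun (congrFun h3 i2) i3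
    rw [cube_apply] at h
    simpa using h
  · have h := congrFun (congrFun h3 i2) i4
    rw [cube_apply] at h
    simpa using h
  · have h := congrFun (congrFun h3 i3) i1
    rw [cube_apply] at h
    simpa using h
  · have h := congrFun (congrFun h3 i3) i2
    rw [cube_apply] at h
    simpa using h
  · have h := congrFun (congrFun h3 i3) i3
    rw [cube_apply] at h
    simpa using h
  · have h := congrFun (congrFun h3 i3) i4
    rw [cube_apply] at h
    simpa using h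
  · have h := congrFun (congrFun h3 i4) i1
    rw [cube_apply] at h
    simpa using h
  · have h := congrFun (congrFun h3 i4) i2
    rw [cube_apply] at h
    simpa using h
  · have h := congrFun (congrFun h3 i4) i3
    rw [cube_apply] at h
    simpa using h
  · have h := congrFun (congrFun h3 i4) i4
    rw [cube_apply] at h
    simpa using h

theorem eq_one_of_isOne (A : Matrix I4 I4 Z3) (h : ent A isOne = true) : A = 1 := by
  simp only [ent, isOne, Bool.and_eq_true, beq_iff_eq] at h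
  obtain ⟨⟨⟨⟨⟨⟨⟨⟨⟨⟨⟨⟨⟨⟨⟨h11, h12⟩, h13⟩, h14⟩, h21⟩, h22⟩, h23⟩, h24⟩, h31⟩, h32⟩, h33⟩, h34⟩, h41⟩, h42⟩, h43⟩, h44⟩ := h
  rw [← Matrix.ext_iff, forall_I4]
  simp only [forall_I4]
  simp [h11, h12, h13, h14, h21, h22, h23, h24, h31, h32, h33, h34, h41, h42, h43, h44]


theorem realE_of (A : Matrix I4 I4 Z3)
    (hR : ∀ u : I4 → Z3, ∃ u' : I4 → Z3,
      (A *ᵥ u') ⬝ᵥ (J (Fin 2) Z3 *ᵥ u') = - ((A *ᵥ u) ⬝ᵥ (J (Fin 2) Z3 *ᵥ u))) :
    ent A realE = true := by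
  unfold ent realE
  apply all3_intro
  intro t
  apply imp_intro
  intro h
  obtain ⟨v1, v2, v3, v4, hv⟩ := any4_spec h
  rw [beq_iff_eq] at hv
  obtain ⟨u', hu'⟩ := hR (vec4 v1 v2 v3 v4)
  apply any4_intro (u' i1) (u' i2) (u' i3) (u' i4)
  rw [beq_iff_eq]
  have h1 := qE_eq A u'
  have h2 := qE_eq A (vec4 v1 v2 v3 v4)
  unfold ent at h1 h2
  rw [h1, hu', ← h2, ← hv]
  rfl

def tupEquiv : (Z3 × Z3 × Z3 × Z3) ≃ (I4 → Z3) where
  toFun t := vec4 t.1 t.2.1 t.2.2.1 t.2.2.2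
  invFun v := (v i1, v i2, v i3, v i4)
  left_inv t := rfl
  right_inv v := by
    funext i
    rcases i with i | i <;> fin_cases i <;> rfl

theorem sum_Z3 (f : Z3 → ℕ) : ∑ x, f x = f 0 + f 1 + f 2 := Fin.sum_univ_three f

theorem card_fix (A : Matrix I4 I4 Z3) :
    Fintype.card {v : I4 → Z3 // A *ᵥ v = v} = ent A countFix := by
  have e : {t : Z3 × Z3 × Z3 × Z3 // ent A fixE t.1 t.2.1 t.2.2.1 t.2.2.2 = true} ≃
      {v : I4 → Z3 // A *ᵥ v = v} :=
    tupEquiv.subtypeEquiv (fun t => fixE_iff A (tupEquiv t))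
  rw [← Fintype.card_congr e, Fintype.card_subtype, Finset.card_filter]
  simp only [Fintype.sum_prod_type, sum_Z3]
  rfl

theorem iso_of (A : Matrix I4 I4 Z3) (h : ent A isoE = true) (v w : I4 → Z3)
    (hv : A *ᵥ v = v) (hw : A *ᵥ w = w) : v ⬝ᵥ (J (Fin 2) Z3 *ᵥ w) = 0 := by
  unfold ent isoE at h
  have h1 := all4_spec h (v i1) (v i2) (v i3) (v i4)
  have h2 := imp_spec h1 ((fixE_iff A v).mpr hv)
  have h3 := all4_spec h2 (w i1) (w i2) (w i3) (w i4)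
  have h4 := imp_spec h3 ((fixE_iff A w).mpr hw)
  rw [beq_iff_eq] at h4
  rw [B_eq]
  exact h4

theorem J13 : J (Fin 2) Z3 i1 i3 = -1 := by decide
theorem J24 : J (Fin 2) Z3 i2 i4 = -1 := by decide
theorem J12 : J (Fin 2) Z3 i1 i2 = 0 := by decide
theorem J14 : J (Fin 2) Z3 i1 i4 = 0 := by decide
theorem J23 : J (Fin 2) Z3 i2 i3 = 0 := by decide
theorem J34 : J (Fin 2) Z3 i3 i4 = 0 := by decide

theorem key (A : Matrix I4 I4 Z3) (hs : A * J (Fin 2) Z3 * Aᵀ = J (Fin 2) Z3)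
    (h3 : A * A * A = 1) (h1 : A ≠ 1)
    (hR : ∀ u : I4 → Z3, ∃ u' : I4 → Z3,
      (A *ᵥ u') ⬝ᵥ (J (Fin 2) Z3 *ᵥ u') = - ((A *ᵥ u) ⬝ᵥ (J (Fin 2) Z3 *ᵥ u))) :
    Fintype.card {v : I4 → Z3 // A *ᵥ v = v} = 9 ∧
      ∀ v w : I4 → Z3, A *ᵥ v = v → A *ᵥ w = w → v ⬝ᵥ (J (Fin 2) Z3 *ᵥ w) = 0 := by
  have hk := keyB_true
  unfold keyB at hk
  have ha := all4_spec (all4_spec hk (A i1 i1) (A i1 i2) (A i1 i3) (A i1 i4)) (A i3 i1) (A i3 i2) (A i3 i3) (A i3 i4)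
  have hac := imp_spec ha (by rw [beq_iff_eq, ← sympl_apply, hs, J13])
  have hb := all4_spec hac (A i2 i1) (A i2 i2) (A i2 i3) (A i2 i4)
  have hab := imp_spec hb (by rw [beq_iff_eq, ← sympl_apply, hs, J12])
  have hbc := imp_spec hab (by rw [beq_iff_eq, ← sympl_apply, hs, J23])
  have hd := all4_spec hbc (A i4 i1) (A i4 i2) (A i4 i3) (A i4 i4)
  have had := imp_spec hd (by rw [beq_iff_eq, ← sympl_apply, hs, J14])
  have hbd := imp_spec had (by rw [beq_iff_eq, ← sympl_apply, hs, J24])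
  have hcd := imp_spec hbd (by rw [beq_iff_eq, ← sympl_apply, hs, J34])
  unfold chk at hcd
  have h5 := imp_spec hcd (cubeOne_of A h3)
  have h6 := imp_spec h5 (by
    rw [Bool.not_eq_true', Bool.eq_false_iff]
    intro hone
    exact h1 (eq_one_of_isOne A hone))
  have h7 := imp_spec h6 (realE_of A hR)
  rw [Bool.and_eq_true, beq_iff_eq] at h7
  refine ⟨?_, fun v w hv hw => iso_of A h7.2 v w hv hw⟩
  rw [card_fix]
  exact h7.1


end Cfsg.Agent.Lib.Helper19.Sp43
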