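import Mathlib
import Cfsg.Prelude.Def_Local
import Cfsg.Prelude.Def_CaseTheorems
import Cfsg.Agent.Lib.Helper9.Components
import Cfsg.Agent.Lib.Helper1.Fitting
import Cfsg.Agent.S0058
import Cfsg.Agent.Lib.Helper10.PComp2

set_option autoImplicit false

/-! Tools for standard subgroups whose centralizer has 2-rank one (statement S3153). -/

namespace Cfsg.Agent.Lib.Helper19.StdRankOne

open Cfsg
open scoped commutatorElement

variable {X : Type*} [Group X]

theorem conj_toMonoidHom_apply (g s : X) : (MulAut.conj g).toMonoidHom s = g * s * g⁻¹ := rfl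

theorem mem_normalizer_of_conj_mem [Finite X] (H : Subgroup X) (g : X)
    (h : ∀ s ∈ H, g * s * g⁻¹ ∈ H) : g ∈ Subgroup.normalizer (H : Set X) := by
  have hle : H.map (MulAut.conj g).toMonoidHom ≤ H := by
    rintro _ ⟨s, hs, rfl⟩
    exact h s hs
  have hcard : Nat.card (H.map (MulAut.conj g).toMonoidHom) = Nat.card H :=
    Subgroup.card_map_of_injective (MulAut.conj g).injective
  have heq : H.map (MulAut.conj g).toMonoidHom = H :=
    Subgroup.eq_of_le_of_card_ge hle (by rw [hcard])
  rw [Subgroup.mem_normalizer_iff]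
  intro s
  constructor
  · exact h s
  · intro hs
    rw [← heq] at hs
    obtain ⟨s', hs', he⟩ := hs
    rw [conj_toMonoidHom_apply] at he
    have : s' = s := by
      have h1 := congrArg (fun y => g⁻¹ * y * g) he
      simpa [mul_assoc] using h1
    rw [← this]
    exact hs'

theorem mem_zpowers_of_sq {v a : X} (hv : v ^ 2 = 1) (ha : a ∈ Subgroup.zpowers v) :
    a = 1 ∨ a = v := by
  obtain ⟨k, rfl⟩ := Subgroup.mem_zpowers_iff.mp ha
  have hv' : v ^ (2 : ℤ) = 1 := by
    rw [← hv]; exact zpow_natCast v 2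
  rw [zpow_eq_zpow_emod k hv']
  rcases Int.emod_two_eq_zero_or_one k with h | h
  · left; rw [h, zpow_zero]
  · right; rw [h, zpow_one]

theorem sq_eq_one_of_orderOf {t : X} (ht : orderOf t = 2) : t ^ 2 = 1 := by
  rw [← ht]; exact pow_orderOf_eq_one t

theorem ne_one_of_orderOf {t : X} (ht : orderOf t = 2) : t ≠ 1 := by
  intro h
  rw [h, orderOf_one] at ht
  omega

theorem orderOf_eq_two {t : X} (h2 : t ^ 2 = 1) (h1 : t ≠ 1) : orderOf t = 2 :=
  orderOf_eq_prime h2 h1

/-- In a finite group of 2-rank at most one, two commuting involutions are equal. -/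
theorem eq_of_commute_involutions {H : Type*} [Group H] [Finite H] (hr : Cfsg.PRankLE 2 1 H)
    {x z : H} (hx : orderOf x = 2) (hz : orderOf z = 2) (hc : Commute x z) : x = z := by
  by_contra hne
  have hx2 := sq_eq_one_of_orderOf hx
  have hz2 := sq_eq_one_of_orderOf hz
  have hcomm : ∀ a ∈ ({x, z} : Set H), ∀ b ∈ ({x, z} : Set H), a * b = b * a := by
    intro a ha b hb
    rcases ha with rfl | rfl <;> rcases hb with rfl | rfl
    · rfl
    · exact hc.eq
    · exact hc.eq.symm
    · rfl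
  have hA : IsMulCommutative ↥(Subgroup.closure ({x, z} : Set H)) :=
    Subgroup.isMulCommutative_closure hcomm
  have hexp : ∀ a ∈ Subgroup.closure ({x, z} : Set H), a ^ 2 = 1 := by
    intro a ha
    induction ha using Subgroup.closure_induction with
    | mem y hy =>
      rcases hy with rfl | rfl
      · exact hx2
      · exact hz2
    | one => exact one_pow 2
    | mul a b ha hb iha ihb =>
      have hab : a * b = b * a := by
        have := hA.is_comm.comm (⟨a, ha⟩ : ↥(Subgroup.closure ({x, z} : Set H))) ⟨b, hb⟩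
        exact congrArg Subtype.val this
      have hab' : Commute a b := hab
      rw [hab'.mul_pow, iha, ihb, one_mul]
    | inv a ha iha => rw [inv_pow, iha, inv_one]
  have hcard := hr _ hA hexp
  have hxA : x ∈ Subgroup.closure ({x, z} : Set H) := Subgroup.subset_closure (by simp)
  have hzA : z ∈ Subgroup.closure ({x, z} : Set H) := Subgroup.subset_closure (by simp)
  have hle : Subgroup.zpowers x ≤ Subgroup.closure ({x, z} : Set H) := by
    rw [Subgroup.zpowers_le]; exact hxA
  have hcz : Nat.card (Subgroup.zpowers x) = 2 := by rw [Nat.card_zpowers, hx]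
  have heq : Subgroup.zpowers x = Subgroup.closure ({x, z} : Set H) :=
    Subgroup.eq_of_le_of_card_ge hle (by rw [hcz]; simpa using hcard)
  rw [← heq] at hzA
  rcases mem_zpowers_of_sq hx2 hzA with h | h
  · exact ne_one_of_orderOf hz h
  · exact hne h.symm

/-- In a 2-subgroup `R` of a subgroup `K` of 2-rank at most one, all involutions coincide. -/
theorem involution_unique [Finite X] (K : Subgroup X) (hr : Cfsg.PRankLE 2 1 ↥K)
    (R : Subgroup X) (hR : IsPGroup 2 R) (hRK : R ≤ K) {x y : X} (hx : x ∈ R) (hy : y ∈ R)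
    (hx2 : orderOf x = 2) (hy2 : orderOf y = 2) : x = y := by
  have : Fact (Nat.Prime 2) := ⟨Nat.prime_two⟩
  have hnt : Nontrivial ↥R := by
    refine ⟨⟨⟨x, hx⟩, 1, ?_⟩⟩
    intro h
    exact ne_one_of_orderOf hx2 (congrArg Subtype.val h)
  have hcnt : Nontrivial ↥(Subgroup.center ↥R) := hR.center_nontrivial
  have hcpg : IsPGroup 2 ↥(Subgroup.center ↥R) := hR.to_subgroup _
  have h2 : 2 ∣ Nat.card ↥(Subgroup.center ↥R) := by
    obtain ⟨n, hn⟩ := IsPGroup.iff_card.mp hcpg
    have hn0 : n ≠ 0 := by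
      intro h0
      rw [h0, pow_zero] at hn
      have := (Nat.card_eq_one_iff_unique.mp hn).1
      exact not_subsingleton _ this
    rw [hn]
    exact dvd_pow_self 2 hn0
  obtain ⟨z, hz⟩ := exists_prime_orderOf_dvd_card' 2 h2
  have hzc : ∀ a ∈ R, a * (z : ↥R) = (z : ↥R) * a := by
    intro a ha
    have := Subgroup.mem_center_iff.mp z.2 ⟨a, ha⟩
    exact congrArg Subtype.val this
  have hz2 : orderOf ((z : ↥R) : X) = 2 := by
    rw [Subgroup.orderOf_coe, Subgroup.orderOf_coe]; exact hz
  have key : ∀ a ∈ R, orderOf a = 2 → a = ((z : ↥R) : X) := by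
    intro a ha ha2
    have hc : Commute (⟨a, hRK ha⟩ : ↥K) ⟨((z : ↥R) : X), hRK (z : ↥R).2⟩ := by
      apply Subtype.ext
      exact hzc a ha
    have := eq_of_commute_involutions hr (x := (⟨a, hRK ha⟩ : ↥K))
      (z := ⟨((z : ↥R) : X), hRK (z : ↥R).2⟩) (by rw [← Subgroup.orderOf_coe]; exact ha2)
      (by rw [← Subgroup.orderOf_coe]; exact hz2) hc
    exact congrArg Subtype.val this
  rw [key x hx hx2, key y hy hy2]


/-- If `K` is tightly embedded and `t ∈ K` is an involution, then `C(t) ≤ N(K)`. -/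
theorem mem_normalizer_of_commute_involution [Finite X] {K : Subgroup X}
    (hte : Cfsg.IsTightlyEmbedded K) {t : X} (ht : orderOf t = 2) (htK : t ∈ K) {w : X}
    (hw : w * t = t * w) : w ∈ Subgroup.normalizer (K : Set X) := by
  by_contra hn
  have hodd := hte.2 w hn
  have htm : t ∈ K ⊓ K.map (MulAut.conj w).toMonoidHom := by
    refine ⟨htK, t, htK, ?_⟩
    rw [conj_toMonoidHom_apply, hw, mul_assoc, mul_inv_cancel, mul_one]
  have h2 : orderOf (⟨t, htm⟩ : ↥(K ⊓ K.map (MulAut.conj w).toMonoidHom)) = 2 := by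
    rw [← Subgroup.orderOf_coe]; exact ht
  have hdvd := orderOf_dvd_natCard (⟨t, htm⟩ : ↥(K ⊓ K.map (MulAut.conj w).toMonoidHom))
  rw [h2] at hdvd
  exact (Nat.not_even_iff_odd.mpr hodd) (even_iff_two_dvd.mpr hdvd)

theorem not_mem_of_odd [Finite X] {W : Subgroup X} (hWodd : Odd (Nat.card W)) {p : X}
    (hp2 : orderOf p = 2) : p ∉ W := by
  intro hp
  have h2 : orderOf (⟨p, hp⟩ : ↥W) = 2 := by
    rw [← Subgroup.orderOf_coe]; exact hp2
  have hdvd := orderOf_dvd_natCard (⟨p, hp⟩ : ↥W)
  rw [h2] at hdvd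
  exact (Nat.not_even_iff_odd.mpr hWodd) (even_iff_two_dvd.mpr hdvd)

/-- A normal subgroup of odd order meets a quasisimple subgroup containing an involution in a
subgroup centralizing it. -/
theorem inf_le_centralizer [Finite X] {P W : Subgroup X} (hq : IsQuasisimple ↥P) (hWn : W.Normal)
    (hWodd : Odd (Nat.card W)) {p : X} (hp : p ∈ P) (hp2 : orderOf p = 2) :
    P ⊓ W ≤ Subgroup.centralizer (P : Set X) := by
  have hn : (W.subgroupOf P).Normal := inferInstance
  rcases Cfsg.Agent.Lib.Helper9.quasisimple_normal_top_or_central hq _ hn with h | h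
  · exfalso
    rw [Subgroup.subgroupOf_eq_top] at h
    exact not_mem_of_odd hWodd hp2 (h hp)
  · intro x hx
    rw [Subgroup.mem_centralizer_iff]
    intro y hy
    have h1 : (⟨x, hx.1⟩ : ↥P) ∈ Subgroup.center ↥P := h (by
      rw [Subgroup.mem_subgroupOf]; exact hx.2)
    have h2 := Subgroup.mem_center_iff.mp h1 ⟨y, hy⟩
    exact congrArg Subtype.val h2

theorem perfect_commutator_self {P : Subgroup X} (hq : IsQuasisimple ↥P) : ⁅P, P⁆ = P :=
  Subgroup.isPerfect_iff.mp hq.1

/-- For a standard subgroup `P` and a normal subgroup `W` of odd order, the fixed points on `W`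
of an involution centralizing `P` centralize `P`. -/
theorem fixed_le_centralizer [Finite X] {P : Subgroup X} (hP : IsStandardSubgroup P)
    {W : Subgroup X} (hWn : W.Normal) (hWodd : Odd (Nat.card W)) {p : X} (hp : p ∈ P)
    (hp2 : orderOf p = 2) {t : X} (ht : orderOf t = 2)
    (htK : t ∈ Subgroup.centralizer (P : Set X)) :
    W ⊓ Subgroup.centralizer {t} ≤ Subgroup.centralizer (P : Set X) := by
  obtain ⟨hq, hte, -, hN⟩ := hP
  have hcomm : ⁅W ⊓ Subgroup.centralizer {t}, P⁆ ≤ P ⊓ W := by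
    rw [Subgroup.commutator_le]
    intro y hy x hx
    have hyt : y * t = t * y := by
      have := Subgroup.mem_centralizer_iff.mp hy.2 t (Set.mem_singleton t)
      exact this.symm
    have hyN : y ∈ Subgroup.normalizer (P : Set X) := by
      rw [hN]
      exact mem_normalizer_of_commute_involution hte ht htK hyt
    refine ⟨?_, ?_⟩
    · have h1 : y * x * y⁻¹ ∈ P := (Subgroup.mem_normalizer_iff.mp hyN x).mp hx
      rw [commutatorElement_def]
      exact P.mul_mem h1 (P.inv_mem hx)
    · have h1 : x * y⁻¹ * x⁻¹ ∈ W := hWn.conj_mem _ (W.inv_mem hy.1) x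
      have h2 : ⁅y, x⁆ = y * (x * y⁻¹ * x⁻¹) := by
        rw [commutatorElement_def]; group
      rw [h2]
      exact W.mul_mem hy.1 h1
  have hcen := inf_le_centralizer hq hWn hWodd hp hp2
  have h1 : ⁅⁅W ⊓ Subgroup.centralizer {t}, P⁆, P⁆ = ⊥ := by
    rw [Subgroup.commutator_eq_bot_iff_le_centralizer]
    exact hcomm.trans hcen
  have h2 : ⁅⁅P, W ⊓ Subgroup.centralizer {t}⁆, P⁆ = ⊥ := by
    rw [Subgroup.commutator_comm P]; exact h1
  have h3 := Subgroup.commutator_commutator_eq_bot_of_rotate h2 h1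
  rw [perfect_commutator_self hq, Subgroup.commutator_eq_bot_iff_le_centralizer,
    Subgroup.le_centralizer_iff] at h3
  exact h3


theorem mem_four {t u a : X} (ht : t ^ 2 = 1) (hu : u ^ 2 = 1) (hc : t * u = u * t)
    (ha : a ∈ Subgroup.zpowers t ⊔ Subgroup.zpowers u) :
    a = 1 ∨ a = t ∨ a = u ∨ a = t * u := by
  have hle : Subgroup.zpowers t ≤ Subgroup.normalizer ((Subgroup.zpowers u : Subgroup X) : Set X) := by
    rw [Subgroup.zpowers_le, Subgroup.mem_normalizer_iff]
    intro h
    have hcu : ∀ k : ℤ, t * u ^ k * t⁻¹ = u ^ k := by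
      intro k
      have : Commute t (u ^ k) := (show Commute t u from hc).zpow_right k
      rw [this.eq, mul_assoc, mul_inv_cancel, mul_one]
    constructor
    · intro hh
      obtain ⟨k, rfl⟩ := Subgroup.mem_zpowers_iff.mp hh
      rw [hcu]
      exact Subgroup.zpow_mem_zpowers u k
    · intro hh
      obtain ⟨k, hk⟩ := Subgroup.mem_zpowers_iff.mp hh
      have : h = u ^ k := by
        have h1 : h = t⁻¹ * (t * h * t⁻¹) * t := by group
        have e : t * u ^ k = u ^ k * t := ((show Commute t u from hc).zpow_right k).eq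
        rw [h1, ← hk, mul_assoc, ← e, inv_mul_cancel_left]
      rw [this]
      exact Subgroup.zpow_mem_zpowers u k
  have hmem : a ∈ ((Subgroup.zpowers t ⊔ Subgroup.zpowers u : Subgroup X) : Set X) := ha
  rw [Subgroup.coe_mul_of_left_le_normalizer_right _ _ hle, Set.mem_mul] at hmem
  obtain ⟨x, hx, y, hy, rfl⟩ := hmem
  rcases mem_zpowers_of_sq ht hx with rfl | rfl <;> rcases mem_zpowers_of_sq hu hy with rfl | rfl
  · left; rw [one_mul]
  · right; right; left; rw [one_mul]
  · right; left; rw [mul_one]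
  · right; right; right; rfl

/-- A four-group `⟨t, u⟩` acts on a normal subgroup `W` of odd order; if the fixed points of `t`
and of `u` on `W` are centralized by `t * u`, then `t * u` centralizes `W`. -/
theorem four_group_centralizes [Finite X] {W : Subgroup X} (hWn : W.Normal)
    (hWodd : Odd (Nat.card W)) {t u : X} (ht : orderOf t = 2) (hu : orderOf u = 2) (htu : t ≠ u)
    (hc : t * u = u * t)
    (h1 : W ⊓ Subgroup.centralizer {t} ≤ Subgroup.centralizer {t * u})
    (h2 : W ⊓ Subgroup.centralizer {u} ≤ Subgroup.centralizer {t * u}) :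
    W ≤ Subgroup.centralizer {t * u} := by
  have ht2 := sq_eq_one_of_orderOf ht
  have hu2 := sq_eq_one_of_orderOf hu
  have ht1 := ne_one_of_orderOf ht
  have hu1 := ne_one_of_orderOf hu
  have htu2 : (t * u) ^ 2 = 1 := by
    have : Commute t u := hc
    rw [this.mul_pow, ht2, hu2, one_mul]
  set V : Subgroup X := Subgroup.zpowers t ⊔ Subgroup.zpowers u with hV
  have hmem : ∀ a ∈ V, a = 1 ∨ a = t ∨ a = u ∨ a = t * u := fun a ha => mem_four ht2 hu2 hc ha
  have htV : t ∈ V := Subgroup.mem_sup_left (Subgroup.mem_zpowers t)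
  have huV : u ∈ V := Subgroup.mem_sup_right (Subgroup.mem_zpowers u)
  have hsq : ∀ a ∈ V, a ^ 2 = 1 := by
    intro a ha
    rcases hmem a ha with rfl | rfl | rfl | rfl
    · exact one_pow 2
    · exact ht2
    · exact hu2
    · exact htu2
  have hct : ∀ a ∈ V, a * t = t * a := by
    intro a ha
    rcases hmem a ha with rfl | rfl | rfl | rfl
    · rw [one_mul, mul_one]
    · rfl
    · exact hc.symm
    · rw [mul_assoc, ← hc]
  have hcu : ∀ a ∈ V, a * u = u * a := by
    intro a ha
    rcases hmem a ha with rfl | rfl | rfl | rfl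
    · rw [one_mul, mul_one]
    · exact hc
    · rfl
    · rw [← mul_assoc, ← hc]
  have hVcomm : IsMulCommutative ↥V := by
    refine ⟨⟨fun a b => Subtype.ext ?_⟩⟩
    show (a : X) * b = b * a
    rcases hmem b b.2 with h | h | h | h
    · rw [h, one_mul, mul_one]
    · rw [h]; exact hct a a.2
    · rw [h]; exact hcu a a.2
    · rw [h, ← mul_assoc, hct a a.2, mul_assoc, hcu a a.2, mul_assoc]
  have hVnc : ¬ IsCyclic ↥V := by
    intro hcyc
    obtain ⟨v, hv⟩ := hcyc.exists_generator
    have hv2 : (v : X) ^ 2 = 1 := hsq v v.2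
    have hall : ∀ a ∈ V, a = 1 ∨ a = (v : X) := by
      intro a ha
      have h3 := hv ⟨a, ha⟩
      have h4 : a ∈ Subgroup.zpowers (v : X) := by
        obtain ⟨k, hk⟩ := Subgroup.mem_zpowers_iff.mp h3
        rw [Subgroup.mem_zpowers_iff]
        refine ⟨k, ?_⟩
        have := congrArg Subtype.val hk
        simpa using this
      exact mem_zpowers_of_sq hv2 h4
    rcases hall t htV with h | h
    · exact ht1 h
    · rcases hall u huV with h' | h'
      · exact hu1 h'
      · exact htu (h.trans h'.symm)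
  have hVN : V ≤ Subgroup.normalizer (W : Set X) := by
    rw [Subgroup.normalizer_eq_top]; exact le_top
  have hVp : IsPGroup 2 ↥V := by
    intro a
    refine ⟨1, Subtype.ext ?_⟩
    rw [pow_one]
    exact hsq a a.2
  have hcop : (Nat.card ↥V).Coprime (Nat.card ↥W) := by
    obtain ⟨n, hn⟩ := IsPGroup.iff_card.mp hVp
    rw [hn]
    exact Nat.Coprime.pow_left n (Nat.coprime_two_left.mpr hWodd)
  have hgen := @Cfsg.Agent.S0058.result X _ _ V W hVcomm hVnc hVN hcop
  rw [← hgen]
  apply iSup₂_le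
  intro a ha
  obtain ⟨haV, ha1⟩ := ha
  rcases hmem a haV with rfl | rfl | rfl | rfl
  · exact absurd rfl ha1
  · exact h1
  · exact h2
  · exact inf_le_right


theorem oddCore_odd [Finite X] : Odd (Nat.card ↥(Cfsg.oddCore X)) :=
  Nat.coprime_two_right.mp (Cfsg.Agent.Lib.Helper1.pPrimeCore_card_coprime 2)

/-- A 2-element normalizing a Sylow 2-subgroup lies in it. -/
theorem mem_sylow_of_normalizes {N : Type*} [Group N] [Finite N] (S : Sylow 2 N) (g : N)
    (h1 : ∀ s ∈ (S : Subgroup N), g * s * g⁻¹ ∈ (S : Subgroup N))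
    (h2 : g ^ 2 ∈ (S : Subgroup N)) : g ∈ (S : Subgroup N) := by
  have : Fact (Nat.Prime 2) := ⟨Nat.prime_two⟩
  have hn : g ∈ Subgroup.normalizer ((S : Subgroup N) : Set N) :=
    mem_normalizer_of_conj_mem _ g h1
  obtain ⟨k, hk⟩ := S.isPGroup' ⟨g ^ 2, h2⟩
  have hk' : g ^ (2 ^ (k + 1)) = 1 := by
    have h3 := congrArg Subtype.val hk
    rw [Subgroup.coe_pow] at h3
    rw [pow_succ, mul_comm, pow_mul]
    exact h3
  have hz : IsPGroup 2 ↥(Subgroup.zpowers g) := by
    rintro ⟨y, hy⟩
    obtain ⟨i, rfl⟩ := Subgroup.mem_zpowers_iff.mp hy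
    refine ⟨k + 1, Subtype.ext ?_⟩
    show (g ^ i) ^ (2 ^ (k + 1)) = 1
    rw [← zpow_natCast, ← zpow_mul, mul_comm, zpow_mul, zpow_natCast, hk', one_zpow]
  have h3 := hz.inf_normalizer_sylow S
  have h4 : g ∈ Subgroup.zpowers g ⊓ Subgroup.normalizer ((S : Subgroup N) : Set N) :=
    ⟨Subgroup.mem_zpowers g, hn⟩
  exact (h3.le h4).2


/-- Splitting an involution `u = p * k` of `P * C(P)` (with `Z(P)` of odd order) into commuting
factors of order at most two. -/
theorem split_involution [Finite X] {P : Subgroup X}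
    (hZ : Odd (Nat.card ↥(Subgroup.center ↥P))) {u : X} (hu : u ^ 2 = 1)
    (hmem : u ∈ P ⊔ Subgroup.centralizer (P : Set X)) :
    ∃ p ∈ P, ∃ k ∈ Subgroup.centralizer (P : Set X), u = p * k ∧ p ^ 2 = 1 ∧ k ^ 2 = 1 := by
  have hle : P ≤ Subgroup.normalizer ((Subgroup.centralizer (P : Set X) : Subgroup X) : Set X) := by
    intro x hx
    rw [Subgroup.mem_normalizer_iff]
    intro h
    simp only [Subgroup.mem_centralizer_iff]
    constructor
    · intro hh y hy
      have h1 := hh (x⁻¹ * y * x) (P.mul_mem (P.mul_mem (P.inv_mem hx) hy) hx)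
      have h2 : y * (x * h * x⁻¹) = x * ((x⁻¹ * y * x) * h) * x⁻¹ := by group
      rw [h2, h1]; group
    · intro hh y hy
      have h1 := hh (x * y * x⁻¹) (P.mul_mem (P.mul_mem hx hy) (P.inv_mem hx))
      have h2 : y * h = x⁻¹ * ((x * y * x⁻¹) * (x * h * x⁻¹)) * x := by group
      rw [h2, h1]; group
  have hm : u ∈ ((P ⊔ Subgroup.centralizer (P : Set X) : Subgroup X) : Set X) := hmem
  rw [Subgroup.coe_mul_of_left_le_normalizer_right _ _ hle, Set.mem_mul] at hm
  obtain ⟨p, hp, k, hk, rfl⟩ := hm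
  have hp' : p ∈ P := hp
  have hk' : k ∈ Subgroup.centralizer (P : Set X) := hk
  have hkc : ∀ y ∈ P, y * k = k * y := fun y hy => Subgroup.mem_centralizer_iff.mp hk' y hy
  have hpk : p * k = k * p := hkc p hp'
  -- c = p ^ 2 = k ^ (-2) is central in P
  have hc : p ^ 2 * k ^ 2 = 1 := by
    have : Commute p k := hpk
    rw [← this.mul_pow]; exact hu
  have hcK : p ^ 2 ∈ Subgroup.centralizer (P : Set X) := by
    have : p ^ 2 = (k ^ 2)⁻¹ := eq_inv_of_mul_eq_one_left hc
    rw [this]
    exact Subgroup.inv_mem _ (Subgroup.pow_mem _ hk' 2)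
  have hcP : p ^ 2 ∈ P := P.pow_mem hp' 2
  have hcZ : (⟨p ^ 2, hcP⟩ : ↥P) ∈ Subgroup.center ↥P := by
    rw [Subgroup.mem_center_iff]
    intro y
    apply Subtype.ext
    exact Subgroup.mem_centralizer_iff.mp hcK y y.2
  -- odd order
  have hodd : Odd (orderOf (p ^ 2)) := by
    have h1 : orderOf (⟨⟨p ^ 2, hcP⟩, hcZ⟩ : ↥(Subgroup.center ↥P)) = orderOf (p ^ 2) := by
      rw [← Subgroup.orderOf_coe, ← Subgroup.orderOf_coe]
    have h2 := orderOf_dvd_natCard (⟨⟨p ^ 2, hcP⟩, hcZ⟩ : ↥(Subgroup.center ↥P))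
    rw [h1] at h2
    exact Odd.of_dvd_nat hZ h2
  obtain ⟨m, hm⟩ := hodd
  -- d = (p^2)^(m+1) is a square root of p^2
  set d : X := (p ^ 2) ^ (m + 1) with hd
  have hd2 : d ^ 2 = p ^ 2 := by
    rw [hd, ← pow_mul]
    have : (m + 1) * 2 = orderOf (p ^ 2) + 1 := by rw [hm]; ring
    rw [this, pow_succ, pow_orderOf_eq_one, one_mul]
  have hdP : d ∈ P := P.pow_mem hcP _
  have hdK : d ∈ Subgroup.centralizer (P : Set X) := Subgroup.pow_mem _ hcK _
  have hdp : p * d = d * p := Subgroup.mem_centralizer_iff.mp hdK p hp'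
  have hdk : d * k = k * d := hkc d hdP
  refine ⟨p * d⁻¹, P.mul_mem hp' (P.inv_mem hdP), d * k, Subgroup.mul_mem _ hdK hk', ?_, ?_, ?_⟩
  · group
  · have h1 : Commute p d⁻¹ := (show Commute p d from hdp).inv_right
    rw [h1.mul_pow, inv_pow, hd2, mul_inv_cancel]
  · have h1 : Commute d k := hdk
    rw [h1.mul_pow, hd2]; exact hc


/-- Main step of S3153: under its hypotheses `P` commutes with `O(X)` and contains an involution. -/
theorem standard_core_commute [Finite X] (P : Subgroup X) (hP : Cfsg.IsStandardSubgroup P)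
    (hr : Cfsg.PRankLE 2 1 ↥(Subgroup.centralizer (P : Set X)))
    (hZ : Odd (Nat.card ↥(Subgroup.center ↥P)))
    (S : Sylow 2 ↥(Subgroup.normalizer (P : Set X))) (t : X) (ht : orderOf t = 2)
    (htS : t ∈ (S : Subgroup ↥(Subgroup.normalizer (P : Set X))).map
      (Subgroup.normalizer (P : Set X)).subtype)
    (htP : t ∈ Subgroup.centralizer (P : Set X))
    (g : X)
    (hgN : ∀ s ∈ (S : Subgroup ↥(Subgroup.normalizer (P : Set X))).map
        (Subgroup.normalizer (P : Set X)).subtype,
      g * s * g⁻¹ ∈ (S : Subgroup ↥(Subgroup.normalizer (P : Set X))).map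
        (Subgroup.normalizer (P : Set X)).subtype)
    (hgS : g ∉ (S : Subgroup ↥(Subgroup.normalizer (P : Set X))).map
      (Subgroup.normalizer (P : Set X)).subtype)
    (hg2 : g ^ 2 ∈ (S : Subgroup ↥(Subgroup.normalizer (P : Set X))).map
      (Subgroup.normalizer (P : Set X)).subtype)
    (hgt : g * t * g⁻¹ ∈ P ⊔ Subgroup.centralizer (P : Set X)) :
    ⁅P, Cfsg.oddCore X⁆ = ⊥ ∧ ∃ p ∈ P, orderOf p = 2 := by
  obtain ⟨hq, hte, -, hN⟩ := id hP
  have hS'N : (S : Subgroup ↥(Subgroup.normalizer (P : Set X))).map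
      (Subgroup.normalizer (P : Set X)).subtype ≤ Subgroup.normalizer (P : Set X) :=
    Subgroup.map_subtype_le _
  have hS'p : IsPGroup 2 ↥((S : Subgroup ↥(Subgroup.normalizer (P : Set X))).map
      (Subgroup.normalizer (P : Set X)).subtype) := S.isPGroup'.map _
  have hgn := mem_normalizer_of_conj_mem _ g hgN
  have hgn' : ∀ s ∈ (S : Subgroup ↥(Subgroup.normalizer (P : Set X))).map
      (Subgroup.normalizer (P : Set X)).subtype,
      g⁻¹ * s * g ∈ (S : Subgroup ↥(Subgroup.normalizer (P : Set X))).map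
        (Subgroup.normalizer (P : Set X)).subtype := by
    intro s hs
    have h1 := (Subgroup.mem_normalizer_iff.mp (Subgroup.inv_mem _ hgn) s).mp hs
    rwa [inv_inv] at h1
  -- g does not normalize P
  have hgN' : g ∉ Subgroup.normalizer (P : Set X) := by
    intro hg
    apply hgS
    have h1 : (⟨g, hg⟩ : ↥(Subgroup.normalizer (P : Set X))) ∈
        (S : Subgroup ↥(Subgroup.normalizer (P : Set X))) := by
      apply mem_sylow_of_normalizes S
      · intro s hs
        obtain ⟨s', hs', he⟩ := hgN _ ⟨s, hs, rfl⟩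
        have : s' = ⟨g, hg⟩ * s * (⟨g, hg⟩ : ↥(Subgroup.normalizer (P : Set X)))⁻¹ :=
          Subtype.ext he
        rw [← this]; exact hs'
      · obtain ⟨s', hs', he⟩ := hg2
        have : s' = (⟨g, hg⟩ : ↥(Subgroup.normalizer (P : Set X))) ^ 2 := Subtype.ext he
        rw [← this]; exact hs'
    exact ⟨⟨g, hg⟩, h1, rfl⟩
  have hgK : g ∉ Subgroup.normalizer
      ((Subgroup.centralizer (P : Set X) : Subgroup X) : Set X) := by
    rw [← hN]; exact hgN'
  have hoddKK := hte.2 g hgK
  have ht2 := sq_eq_one_of_orderOf ht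
  have ht1 := ne_one_of_orderOf ht
  -- u = g t g⁻¹
  have hu : orderOf (g * t * g⁻¹) = 2 := by
    have := orderOf_injective (MulAut.conj g).toMonoidHom (MulAut.conj g).injective t
    rw [conj_toMonoidHom_apply] at this
    rw [this]; exact ht
  have hu2 := sq_eq_one_of_orderOf hu
  have huS := hgN t htS
  have huK : g * t * g⁻¹ ∉ Subgroup.centralizer (P : Set X) := by
    intro h
    have hm : g * t * g⁻¹ ∈ Subgroup.centralizer (P : Set X) ⊓
        (Subgroup.centralizer (P : Set X)).map (MulAut.conj g).toMonoidHom :=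
      ⟨h, t, htP, conj_toMonoidHom_apply g t⟩
    exact not_mem_of_odd hoddKK hu (by exact hm)
  -- t is central in S'
  have hRp : IsPGroup 2 ↥((S : Subgroup ↥(Subgroup.normalizer (P : Set X))).map
      (Subgroup.normalizer (P : Set X)).subtype ⊓ Subgroup.centralizer (P : Set X)) :=
    hS'p.to_le inf_le_left
  have htZ : ∀ s ∈ (S : Subgroup ↥(Subgroup.normalizer (P : Set X))).map
      (Subgroup.normalizer (P : Set X)).subtype, s * t * s⁻¹ = t := by
    intro s hs
    have hsN : s ∈ Subgroup.normalizer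
        ((Subgroup.centralizer (P : Set X) : Subgroup X) : Set X) := by
      rw [← hN]; exact hS'N hs
    have h1 : s * t * s⁻¹ ∈ Subgroup.centralizer (P : Set X) :=
      (Subgroup.mem_normalizer_iff.mp hsN t).mp htP
    have h2 : s * t * s⁻¹ ∈ (S : Subgroup ↥(Subgroup.normalizer (P : Set X))).map
        (Subgroup.normalizer (P : Set X)).subtype :=
      Subgroup.mul_mem _ (Subgroup.mul_mem _ hs htS) (Subgroup.inv_mem _ hs)
    have h3 : orderOf (s * t * s⁻¹) = 2 := by
      have := orderOf_injective (MulAut.conj s).toMonoidHom (MulAut.conj s).injective t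
      rw [conj_toMonoidHom_apply] at this
      rw [this]; exact ht
    exact involution_unique _ hr _ hRp inf_le_right ⟨h2, h1⟩ ⟨htS, htP⟩ h3 ht
  -- u is central in S'
  have huZ : ∀ s ∈ (S : Subgroup ↥(Subgroup.normalizer (P : Set X))).map
      (Subgroup.normalizer (P : Set X)).subtype, s * (g * t * g⁻¹) * s⁻¹ = g * t * g⁻¹ := by
    intro s hs
    have h1 := htZ _ (hgn' s hs)
    have h2 : s * (g * t * g⁻¹) * s⁻¹ = g * ((g⁻¹ * s * g) * t * (g⁻¹ * s * g)⁻¹) * g⁻¹ := by
      group
    rw [h2, h1]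
  have htu_comm : t * (g * t * g⁻¹) = (g * t * g⁻¹) * t := by
    have h1 := huZ t htS
    have h2 : t * (g * t * g⁻¹) = (t * (g * t * g⁻¹) * t⁻¹) * t := by group
    rw [h2, h1]
  -- split u
  obtain ⟨p, hpP, k, hkK, hupk, hp2, hk2⟩ := split_involution hZ hu2 hgt
  have hpt : p * t = t * p := Subgroup.mem_centralizer_iff.mp htP p hpP
  have hpk : p * k = k * p := Subgroup.mem_centralizer_iff.mp hkK p hpP
  have hkt : k * t = t * k := by
    have h1 : k = p⁻¹ * (g * t * g⁻¹) := by rw [hupk]; group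
    have hpt' : p⁻¹ * t = t * p⁻¹ := by
      have : Commute p t := hpt
      exact this.inv_left.eq
    rw [h1, mul_assoc, ← htu_comm, ← mul_assoc, hpt', mul_assoc]
  have hk1t : k = 1 ∨ k = t := by
    by_cases hk1 : k = 1
    · left; exact hk1
    · right
      have hko : orderOf k = 2 := orderOf_eq_two hk2 hk1
      have hc : Commute (⟨k, hkK⟩ : ↥(Subgroup.centralizer (P : Set X))) ⟨t, htP⟩ :=
        Subtype.ext hkt
      have := eq_of_commute_involutions hr
        (x := (⟨k, hkK⟩ : ↥(Subgroup.centralizer (P : Set X)))) (z := ⟨t, htP⟩)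
        (by rw [← Subgroup.orderOf_coe]; exact hko) (by rw [← Subgroup.orderOf_coe]; exact ht) hc
      exact congrArg Subtype.val this
  have hp1 : p ≠ 1 := by
    intro h
    apply huK
    rw [hupk, h, one_mul]; exact hkK
  have hpo : orderOf p = 2 := orderOf_eq_two hp2 hp1
  refine ⟨?_, p, hpP, hpo⟩
  -- the odd core
  have hWn : (Cfsg.oddCore X).Normal := Cfsg.Agent.Lib.Helper1.pPrimeCore_normal 2
  have hWodd : Odd (Nat.card ↥(Cfsg.oddCore X)) := oddCore_odd
  have hfix := fixed_le_centralizer hP hWn hWodd hpP hpo ht htP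
  -- fixed points of t commute with u
  have hfix_u : ∀ w ∈ Cfsg.oddCore X, w * t = t * w → w * (g * t * g⁻¹) = (g * t * g⁻¹) * w := by
    intro w hw hwt
    have hwc : w ∈ Subgroup.centralizer {t} := by
      rw [Subgroup.mem_centralizer_iff]
      intro y hy
      rw [Set.mem_singleton_iff] at hy
      rw [hy]; exact hwt.symm
    have hwP : w ∈ Subgroup.centralizer (P : Set X) := hfix ⟨hw, hwc⟩
    have hwp : p * w = w * p := Subgroup.mem_centralizer_iff.mp hwP p hpP
    have hwk : w * k = k * w := by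
      rcases hk1t with h | h
      · rw [h, mul_one, one_mul]
      · rw [h]; exact hwt
    rw [hupk, ← mul_assoc, ← hwp, mul_assoc, hwk, mul_assoc]
  have hg2t : g ^ 2 * t * (g ^ 2)⁻¹ = t := htZ _ hg2
  -- fixed points of u commute with t
  have hfix_t : ∀ w ∈ Cfsg.oddCore X, w * (g * t * g⁻¹) = (g * t * g⁻¹) * w → w * t = t * w := by
    intro w hw hwu
    have hw' : g⁻¹ * w * g ∈ Cfsg.oddCore X := by
      have := hWn.conj_mem w hw g⁻¹
      rwa [inv_inv] at this
    have h1 : (g⁻¹ * w * g) * t = t * (g⁻¹ * w * g) := by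
      have e1 : (g⁻¹ * w * g) * t = g⁻¹ * (w * (g * t * g⁻¹)) * g := by group
      have e2 : t * (g⁻¹ * w * g) = g⁻¹ * ((g * t * g⁻¹) * w) * g := by group
      rw [e1, e2, hwu]
    have h2 := hfix_u _ hw' h1
    have e5 : g * (g * t * g⁻¹) * g⁻¹ = t := by
      calc g * (g * t * g⁻¹) * g⁻¹ = g ^ 2 * t * (g ^ 2)⁻¹ := by rw [pow_two]; group
        _ = t := hg2t
    have e6 : w * (g * (g * t * g⁻¹) * g⁻¹) = (g * (g * t * g⁻¹) * g⁻¹) * w := by
      have l : w * (g * (g * t * g⁻¹) * g⁻¹) =
          g * ((g⁻¹ * w * g) * (g * t * g⁻¹)) * g⁻¹ := by group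
      have r : (g * (g * t * g⁻¹) * g⁻¹) * w =
          g * ((g * t * g⁻¹) * (g⁻¹ * w * g)) * g⁻¹ := by group
      rw [l, r, h2]
    rw [e5] at e6
    exact e6
  have htu_ne : t ≠ g * t * g⁻¹ := by
    intro h
    apply huK
    rw [← h]; exact htP
  have hcen : Cfsg.oddCore X ≤ Subgroup.centralizer {t * (g * t * g⁻¹)} := by
    apply four_group_centralizes hWn hWodd ht hu htu_ne htu_comm
    · intro w hw
      have hwt : w * t = t * w :=
        (Subgroup.mem_centralizer_iff.mp hw.2 t (Set.mem_singleton t)).symm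
      have hwu := hfix_u w hw.1 hwt
      rw [Subgroup.mem_centralizer_iff]
      intro y hy
      rw [Set.mem_singleton_iff] at hy
      rw [hy, mul_assoc, ← hwu, ← mul_assoc, ← hwt, mul_assoc]
    · intro w hw
      have hwu : w * (g * t * g⁻¹) = (g * t * g⁻¹) * w :=
        (Subgroup.mem_centralizer_iff.mp hw.2 _ (Set.mem_singleton _)).symm
      have hwt := hfix_t w hw.1 hwu
      rw [Subgroup.mem_centralizer_iff]
      intro y hy
      rw [Set.mem_singleton_iff] at hy
      rw [hy, mul_assoc, ← hwu, ← mul_assoc, ← hwt, mul_assoc]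
  -- t * u ∈ C(W), and [t u, a] = [p, a] for a ∈ P
  have hCn : (Subgroup.centralizer ((Cfsg.oddCore X : Subgroup X) : Set X)).Normal :=
    Subgroup.normal_centralizer
  have htuC : t * (g * t * g⁻¹) ∈ Subgroup.centralizer ((Cfsg.oddCore X : Subgroup X) : Set X) := by
    rw [Subgroup.mem_centralizer_iff]
    intro w hw
    have := Subgroup.mem_centralizer_iff.mp (hcen hw) _ (Set.mem_singleton _)
    exact this.symm
  have hcommC : ∀ a ∈ P, ⁅p, a⁆ ∈ Subgroup.centralizer ((Cfsg.oddCore X : Subgroup X) : Set X) := by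
    intro a ha
    have hat : a * t = t * a := Subgroup.mem_centralizer_iff.mp htP a ha
    have h1 : ⁅t * (g * t * g⁻¹), a⁆ ∈
        Subgroup.centralizer ((Cfsg.oddCore X : Subgroup X) : Set X) := by
      rw [commutatorElement_def]
      have h2 := hCn.conj_mem _ (Subgroup.inv_mem _ htuC) a
      have h3 := Subgroup.mul_mem _ htuC h2
      have e : t * (g * t * g⁻¹) * (a * (t * (g * t * g⁻¹))⁻¹ * a⁻¹) =
          t * (g * t * g⁻¹) * a * (t * (g * t * g⁻¹))⁻¹ * a⁻¹ := by group
      rw [← e]; exact h3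
    have h2 : ⁅t * (g * t * g⁻¹), a⁆ = ⁅p, a⁆ := by
      rcases hk1t with h | h
      · rw [hupk, h, mul_one, commutatorElement_def, commutatorElement_def]
        have hat' : a * t⁻¹ = t⁻¹ * a := by
          have : Commute a t := hat
          exact this.inv_right.eq
        have hpt'' : p⁻¹ * t⁻¹ = t⁻¹ * p⁻¹ := by
          have : Commute p t := hpt
          exact this.inv_inv.eq
        calc t * p * a * (t * p)⁻¹ * a⁻¹ = t * (p * (a * (p⁻¹ * t⁻¹))) * a⁻¹ := by group
          _ = t * (p * (a * (t⁻¹ * p⁻¹))) * a⁻¹ := by rw [hpt'']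
          _ = t * (p * ((a * t⁻¹) * p⁻¹)) * a⁻¹ := by group
          _ = t * (p * ((t⁻¹ * a) * p⁻¹)) * a⁻¹ := by rw [hat']
          _ = t * ((p * t⁻¹) * (a * p⁻¹)) * a⁻¹ := by group
          _ = t * ((t⁻¹ * p) * (a * p⁻¹)) * a⁻¹ := by
              have : Commute p t := hpt
              rw [this.inv_right.eq]
          _ = p * a * p⁻¹ * a⁻¹ := by group
      · have e : t * (g * t * g⁻¹) = p := by
          rw [hupk, h, ← mul_assoc, ← hpt, mul_assoc, ← pow_two, ht2, mul_one]
        rw [e]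
    rw [← h2]; exact h1
  -- conclude with quasisimplicity
  have hn : ((Subgroup.centralizer ((Cfsg.oddCore X : Subgroup X) : Set X)).subgroupOf P).Normal :=
    inferInstance
  rcases Cfsg.Agent.Lib.Helper9.quasisimple_normal_top_or_central hq _ hn with h | h
  · rw [Subgroup.subgroupOf_eq_top] at h
    rw [Subgroup.commutator_eq_bot_iff_le_centralizer]
    exact h
  · exfalso
    have hperf : Group.IsPerfect ↥P := hq.1
    have hgrun := Group.IsPerfect.center_quotient_center_eq_bot (G := ↥P)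
    have hpc : (QuotientGroup.mk' (Subgroup.center ↥P)) ⟨p, hpP⟩ ∈
        Subgroup.center (↥P ⧸ Subgroup.center ↥P) := by
      rw [Subgroup.mem_center_iff]
      intro b
      obtain ⟨a, rfl⟩ := QuotientGroup.mk'_surjective (Subgroup.center ↥P) b
      rw [← map_mul, ← map_mul]
      symm
      rw [QuotientGroup.mk'_apply, QuotientGroup.mk'_apply, QuotientGroup.eq]
      have h3 : ((⟨p, hpP⟩ : ↥P) * a)⁻¹ * (a * ⟨p, hpP⟩) = ⁅(⟨p, hpP⟩ : ↥P)⁻¹, a⁻¹⁆⁻¹ := by
        rw [commutatorElement_def]; group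
      rw [h3]
      apply Subgroup.inv_mem
      apply h
      rw [Subgroup.mem_subgroupOf]
      have hpinv : p⁻¹ = p := by
        rw [inv_eq_iff_mul_eq_one, ← pow_two, hp2]
      have h4 : ((⁅(⟨p, hpP⟩ : ↥P)⁻¹, a⁻¹⁆ : ↥P) : X) = ⁅p, (a : X)⁻¹⁆ := by
        rw [commutatorElement_def, commutatorElement_def]
        simp only [Subgroup.coe_mul, Subgroup.coe_inv, inv_inv, hpinv]
      rw [h4]
      exact hcommC _ (P.inv_mem a.2)
    rw [hgrun, Subgroup.mem_bot, QuotientGroup.mk'_apply, QuotientGroup.eq_one_iff] at hpc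
    have h5 : orderOf (⟨⟨p, hpP⟩, hpc⟩ : ↥(Subgroup.center ↥P)) = 2 := by
      rw [← Subgroup.orderOf_coe, ← Subgroup.orderOf_coe]; exact hpo
    have h6 := orderOf_dvd_natCard (⟨⟨p, hpP⟩, hpc⟩ : ↥(Subgroup.center ↥P))
    rw [h5] at h6
    exact (Nat.not_even_iff_odd.mpr hZ) (even_iff_two_dvd.mpr h6)


/-- A 2-component containing a quasisimple subgroup `P` (with an involution) that centralizes
`O(X)` is quasisimple. -/
theorem pcomponent_quasisimple [Finite X] {P : Subgroup X} (hq : IsQuasisimple ↥P)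
    (hPW : ⁅P, Cfsg.oddCore X⁆ = ⊥) {p : X} (hp : p ∈ P) (hp2 : orderOf p = 2)
    {L : Subgroup X} (hL : Cfsg.IsPComponent 2 L) (hPL : P ≤ L) : Cfsg.IsQuasisimple ↥L := by
  have hL' := hL
  obtain ⟨hsn, hcomp, hmin⟩ := hL
  have hWodd : Odd (Nat.card ↥(Cfsg.oddCore X)) := oddCore_odd
  have hCn : (Subgroup.centralizer ((Cfsg.oddCore X : Subgroup X) : Set X)).Normal :=
    Subgroup.normal_centralizer
  have hPC : P ≤ Subgroup.centralizer ((Cfsg.oddCore X : Subgroup X) : Set X) :=
    Subgroup.commutator_eq_bot_iff_le_centralizer.mp hPW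
  have hHsn : (L ⊓ Subgroup.centralizer ((Cfsg.oddCore X : Subgroup X) : Set X)).IsSubnormal :=
    hsn.inf hCn.isSubnormal
  have hHL : L ⊓ Subgroup.centralizer ((Cfsg.oddCore X : Subgroup X) : Set X) ≤ L := inf_le_left
  have hPH : P ≤ L ⊓ Subgroup.centralizer ((Cfsg.oddCore X : Subgroup X) : Set X) :=
    le_inf hPL hPC
  have hle : (L ⊓ Subgroup.centralizer ((Cfsg.oddCore X : Subgroup X) : Set X)).map
      (QuotientGroup.mk' (pPrimeCore 2 X)) ≤ L.map (QuotientGroup.mk' (pPrimeCore 2 X)) :=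
    Subgroup.map_mono hHL
  have hHbsn : ((L ⊓ Subgroup.centralizer ((Cfsg.oddCore X : Subgroup X) : Set X)).map
      (QuotientGroup.mk' (pPrimeCore 2 X))).IsSubnormal :=
    hHsn.map (QuotientGroup.mk'_surjective _)
  have hLC : L ≤ Subgroup.centralizer ((Cfsg.oddCore X : Subgroup X) : Set X) := by
    rcases Cfsg.Agent.Lib.Helper9.quasisimple_subnormal_top_or_central hcomp.2 _
      (hHbsn.subgroupOf (K := L.map (QuotientGroup.mk' (pPrimeCore 2 X)))) with h | h
    · rw [Subgroup.subgroupOf_eq_top] at h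
      have := hmin _ hHsn hHL (le_antisymm hle h)
      rw [← this]
      exact inf_le_right
    · exfalso
      have hcomm : ⁅P.map (QuotientGroup.mk' (pPrimeCore 2 X)),
          P.map (QuotientGroup.mk' (pPrimeCore 2 X))⁆ = ⊥ := by
        rw [Subgroup.commutator_eq_bot_iff_le_centralizer]
        intro x hx
        rw [Subgroup.mem_centralizer_iff]
        intro y hy
        have hx' := Subgroup.map_mono (f := QuotientGroup.mk' (pPrimeCore 2 X)) hPH hx
        have hy' := Subgroup.map_mono (f := QuotientGroup.mk' (pPrimeCore 2 X)) hPH hy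
        have h1 : (⟨x, hle hx'⟩ : L.map (QuotientGroup.mk' (pPrimeCore 2 X))) ∈
            Subgroup.center (L.map (QuotientGroup.mk' (pPrimeCore 2 X))) := h (by
          rw [Subgroup.mem_subgroupOf]; exact hx')
        rw [Subgroup.mem_center_iff] at h1
        have h2 := h1 ⟨y, hle hy'⟩
        exact congrArg Subtype.val h2
      rw [← Subgroup.map_commutator, perfect_commutator_self hq,
        Cfsg.Agent.Lib.Helper10.map_mk'_eq_bot_iff] at hcomm
      exact not_mem_of_odd hWodd hp2 (hcomm hp)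
  have hperf : Group.IsPerfect ↥L :=
    Subgroup.isPerfect_iff.mpr (Cfsg.Agent.Lib.Helper10.isPComponent_perfect 2 hL')
  have hM : pPrimeCore 2 ↥L ≤ Subgroup.center ↥L := by
    rw [Cfsg.Agent.Lib.Helper10.pPrimeCore_subgroupOf_eq 2 hsn]
    intro x hx
    rw [Subgroup.mem_subgroupOf] at hx
    rw [Subgroup.mem_center_iff]
    intro y
    apply Subtype.ext
    have := Subgroup.mem_centralizer_iff.mp (hLC y.2) _ hx
    exact this.symm
  exact Cfsg.Agent.Lib.Helper10.isQuasisimple_of_central_quotient hperf _ hM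
    (Cfsg.Agent.Lib.Helper10.isPComponent_quotient_isQuasisimple 2 hL')

end Cfsg.Agent.Lib.Helper19.StdRankOne
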