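import Mathlib
import Cfsg.Prelude.Def_Local
import Cfsg.Prelude.Def_CaseTheorems
import Cfsg.Agent.Lib.Helper19.StdRankOne
import Cfsg.Agent.Lib.Helper10.MaxComp6
import Cfsg.Agent.Lib.Helper10.PComp4
import Cfsg.Agent.Lib.Helper12.Local
import Cfsg.Agent.S1301
import Cfsg.Agent.S1754

set_option autoImplicit false

/-! Tools for S3164: a standard subgroup with an involution lies in the layer of `⟨A^G⟩⟨t⟩`
(via L-balance, S1301). -/

namespace Cfsg.Agent.Lib.Helper19.StdSemi

open Cfsg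
open scoped commutatorElement
open Cfsg.Agent.Lib.Helper19.StdRankOne

section Ambient

variable {H : Type*} [Group H]

/-- If `N ⊔ ⟨t⟩ = ⊤` with `N` normal, then every commutator lies in `N`. -/
theorem commutator_mem_of_sup_zpowers (N : Subgroup H) [hN : N.Normal] (t : H)
    (hNt : N ⊔ Subgroup.zpowers t = ⊤) (x y : H) : ⁅x, y⁆ ∈ N := by
  have hx : x ∈ N ⊔ Subgroup.zpowers t := by rw [hNt]; trivial
  have hy : y ∈ N ⊔ Subgroup.zpowers t := by rw [hNt]; trivial
  obtain ⟨n, hn, z, hz, rfl⟩ := Subgroup.mem_sup_of_normal_left.mp hx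
  obtain ⟨m, hm, w, hw, rfl⟩ := Subgroup.mem_sup_of_normal_left.mp hy
  obtain ⟨i, rfl⟩ := Subgroup.mem_zpowers_iff.mp hz
  obtain ⟨j, rfl⟩ := Subgroup.mem_zpowers_iff.mp hw
  rw [← QuotientGroup.eq_one_iff, ← QuotientGroup.mk'_apply, map_commutatorElement]
  have e1 : (QuotientGroup.mk' N) (n * t ^ i) = (QuotientGroup.mk' N) t ^ i := by
    rw [map_mul, map_zpow]
    have : (QuotientGroup.mk' N) n = 1 := (QuotientGroup.eq_one_iff n).mpr hn
    rw [this, one_mul]
  have e2 : (QuotientGroup.mk' N) (m * t ^ j) = (QuotientGroup.mk' N) t ^ j := by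
    rw [map_mul, map_zpow]
    have : (QuotientGroup.mk' N) m = 1 := (QuotientGroup.eq_one_iff m).mpr hm
    rw [this, one_mul]
  rw [e1, e2, commutatorElement_eq_one_iff_commute]
  exact (Commute.refl _).zpow_zpow i j

theorem commutator_le_of_sup_zpowers (N : Subgroup H) [hN : N.Normal] (t : H)
    (hNt : N ⊔ Subgroup.zpowers t = ⊤) (K : Subgroup H) : ⁅K, K⁆ ≤ N := by
  rw [Subgroup.commutator_le]
  intro x _ y _
  exact commutator_mem_of_sup_zpowers N t hNt x y

/-- If `N ⊔ ⟨t⟩ = ⊤` with `t ^ 2 = 1`, every element of odd order lies in `N`. -/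
theorem mem_of_odd_order_of_sup_zpowers (N : Subgroup H) [hN : N.Normal] (t : H) (ht : t ^ 2 = 1)
    (hNt : N ⊔ Subgroup.zpowers t = ⊤) {w : H} (hw : Odd (orderOf w)) : w ∈ N := by
  have hsq : ∀ q : H ⧸ N, q ^ 2 = 1 := by
    intro q
    obtain ⟨x, rfl⟩ := QuotientGroup.mk'_surjective N q
    have hx : x ∈ N ⊔ Subgroup.zpowers t := by rw [hNt]; trivial
    obtain ⟨n, hn, z, hz, rfl⟩ := Subgroup.mem_sup_of_normal_left.mp hx
    obtain ⟨i, rfl⟩ := Subgroup.mem_zpowers_iff.mp hz
    have e1 : (QuotientGroup.mk' N) (n * t ^ i) = (QuotientGroup.mk' N) t ^ i := by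
      rw [map_mul, map_zpow]
      have : (QuotientGroup.mk' N) n = 1 := (QuotientGroup.eq_one_iff n).mpr hn
      rw [this, one_mul]
    rw [e1, ← zpow_natCast, ← zpow_mul, mul_comm, zpow_mul, zpow_natCast, ← map_pow, ht, map_one,
      one_zpow]
  obtain ⟨m, hm⟩ := hw
  rw [← QuotientGroup.eq_one_iff, ← QuotientGroup.mk'_apply]
  have h1 : (QuotientGroup.mk' N) w ^ (2 * m + 1) = 1 := by
    rw [← map_pow, ← hm, pow_orderOf_eq_one, map_one]
  rw [pow_succ, pow_mul, hsq, one_pow, one_mul] at h1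
  exact h1

variable [Finite H]

theorem oddCore_le_of_sup_zpowers (N : Subgroup H) [hN : N.Normal] (t : H) (ht : t ^ 2 = 1)
    (hNt : N ⊔ Subgroup.zpowers t = ⊤) : Cfsg.oddCore H ≤ N := by
  intro w hw
  apply mem_of_odd_order_of_sup_zpowers N t ht hNt
  have h1 : orderOf (⟨w, hw⟩ : ↥(Cfsg.oddCore H)) = orderOf w := by
    rw [← Subgroup.orderOf_coe]
  have h2 := orderOf_dvd_natCard (⟨w, hw⟩ : ↥(Cfsg.oddCore H))
  rw [h1] at h2
  exact Odd.of_dvd_nat oddCore_odd h2

/-- L-balance consequence: a quasisimple subgroup `A` of even order normalized by `C(t)` and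
centralized by `t` lies in the layer, provided `N ⊔ ⟨t⟩ = ⊤` for a normal `N` centralizing `O(H)`. -/
theorem le_layer_of_lbalance (N : Subgroup H) [hN : N.Normal] (t : H) (ht : orderOf t = 2)
    (hNt : N ⊔ Subgroup.zpowers t = ⊤) (A : Subgroup H) (hq : IsQuasisimple ↥A)
    (heven : Even (Nat.card ↥A))
    (hCt : Subgroup.centralizer {t} ≤ Subgroup.normalizer (A : Set H))
    (htA : t ∈ Subgroup.centralizer (A : Set H)) (hNW : ⁅N, Cfsg.oddCore H⁆ = ⊥) :
    A ≤ Cfsg.layer H := by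
  have hp2 : Fact (Nat.Prime 2) := ⟨Nat.prime_two⟩
  have ht2 := sq_eq_one_of_orderOf ht
  have hT : IsPGroup 2 ↥(Subgroup.zpowers t) := by
    rintro ⟨y, hy⟩
    refine ⟨1, Subtype.ext ?_⟩
    rw [pow_one]
    rcases mem_zpowers_of_sq ht2 hy with h | h
    · show y ^ 2 = 1
      rw [h, one_pow]
    · show y ^ 2 = 1
      rw [h, ht2]
  have hAC : A ≤ Subgroup.centralizer ((Subgroup.zpowers t : Subgroup H) : Set H) := by
    intro a ha
    rw [Subgroup.mem_centralizer_iff]
    intro z hz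
    obtain ⟨i, rfl⟩ := Subgroup.mem_zpowers_iff.mp hz
    have h1 : Commute t a := (Subgroup.mem_centralizer_iff.mp htA a ha).symm
    exact (h1.zpow_left i).eq
  have hCC : Subgroup.centralizer ((Subgroup.zpowers t : Subgroup H) : Set H) ≤
      Subgroup.centralizer {t} := by
    apply Subgroup.centralizer_le
    intro x hx
    rw [Set.mem_singleton_iff] at hx
    rw [hx]; exact Subgroup.mem_zpowers t
  have hnorm : (A.subgroupOf
      (Subgroup.centralizer ((Subgroup.zpowers t : Subgroup H) : Set H))).Normal :=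
    (Subgroup.normal_subgroupOf_iff_le_normalizer hAC).mpr (hCC.trans hCt)
  have hcomp : IsComponent (A.subgroupOf
      (Subgroup.centralizer ((Subgroup.zpowers t : Subgroup H) : Set H))) :=
    ⟨hnorm.isSubnormal,
      Cfsg.Agent.Lib.Helper9.isQuasisimple_of_mulEquiv (Subgroup.subgroupOfEquivOfLe hAC).symm hq⟩
  have heven' : Even (Nat.card ↥(A.subgroupOf
      (Subgroup.centralizer ((Subgroup.zpowers t : Subgroup H) : Set H)))) := by
    rw [Nat.card_congr (Subgroup.subgroupOfEquivOfLe hAC).toEquiv]; exact heven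
  have h2c := Cfsg.Agent.Lib.Helper10.MaxComp.isPComponent_two_of_isComponent hcomp heven'
  have hle1 := Cfsg.Agent.Lib.Helper10.isPComponent_le_pLayer 2 h2c
  have hle2 := Cfsg.Agent.S1301.result (Subgroup.zpowers t) hT
  have hA2 : A ≤ Cfsg.pLayer 2 H := by
    have h3 := (Subgroup.map_mono (f := (Subgroup.centralizer
      ((Subgroup.zpowers t : Subgroup H) : Set H)).subtype) hle1).trans hle2
    rwa [Subgroup.map_subgroupOf_eq_of_le hAC] at h3
  have hplN : Cfsg.pLayer 2 H ≤ N := by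
    apply sSup_le
    intro K hK
    have h4 : ⁅K, K⁆ = K := Cfsg.Agent.Lib.Helper10.isPComponent_perfect 2 hK
    rw [← h4]
    exact commutator_le_of_sup_zpowers N t hNt K
  have hpl : ⁅Cfsg.pLayer 2 H, Cfsg.oddCore H⁆ = ⊥ := by
    rw [eq_bot_iff, ← hNW]
    exact Subgroup.commutator_mono hplN le_rfl
  exact hA2.trans (Cfsg.Agent.Lib.Helper10.MaxComp.pLayer_le_layer_of_commutator_core hpl)

omit [Finite H] in
/-- With `N ⊔ ⟨t⟩ = ⊤`, the layer of `H` comes from the layer of `N`. -/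
theorem layer_le_map_layer (N : Subgroup H) [hN : N.Normal] (t : H)
    (hNt : N ⊔ Subgroup.zpowers t = ⊤) : Cfsg.layer H ≤ (Cfsg.layer ↥N).map N.subtype := by
  apply sSup_le
  intro K hK
  have h1 : ⁅K, K⁆ = K := Cfsg.Agent.Lib.Helper10.isComponent_commutator_self hK
  have hKN : K ≤ N := by
    rw [← h1]; exact commutator_le_of_sup_zpowers N t hNt K
  have h2 := Cfsg.Agent.Lib.Helper9.isComponent_subgroupOf hK hKN
  have h3 : K.subgroupOf N ≤ Cfsg.layer ↥N := le_sSup h2
  have h4 := Subgroup.map_mono (f := N.subtype) h3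
  rwa [Subgroup.map_subgroupOf_eq_of_le hKN] at h4

end Ambient


section Main

variable {G : Type*} [Group G] [Finite G]

/-- Cyclic Sylow 2-subgroups force 2-rank at most one. -/
theorem prankLE_of_cyclic_sylow {K : Type*} [Group K] [Finite K]
    (hcyc : ∀ R : Sylow 2 K, IsCyclic ↥(R : Subgroup K)) : Cfsg.PRankLE 2 1 K := by
  have hp2 : Fact (Nat.Prime 2) := ⟨Nat.prime_two⟩
  intro B _ hexp
  have hB : IsPGroup 2 ↥B := by
    intro b
    refine ⟨1, Subtype.ext ?_⟩
    rw [pow_one]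
    exact hexp b b.2
  obtain ⟨R, hR⟩ := hB.exists_le_sylow
  have hRc := hcyc R
  have hBc : IsCyclic ↥(B.subgroupOf (R : Subgroup K)) := inferInstance
  obtain ⟨g, hg⟩ := hBc.exists_generator
  have hg2 : g ^ 2 = 1 := by
    apply Subtype.ext
    apply Subtype.ext
    have := hexp (g : ↥(R : Subgroup K)) g.2
    simpa using this
  have hcard : Nat.card ↥(B.subgroupOf (R : Subgroup K)) = orderOf g :=
    (orderOf_eq_card_of_forall_mem_zpowers hg).symm
  have hle : orderOf g ≤ 2 := Nat.le_of_dvd (by norm_num) (orderOf_dvd_of_pow_eq_one hg2)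
  rw [pow_one, ← Nat.card_congr (Subgroup.subgroupOfEquivOfLe hR).toEquiv, hcard]
  exact hle

/-- Core step of S3164: a nontrivial commutator `[r, t]` lying in the standard subgroup `A`
(with its `r`-conjugate) forces `A` to centralize `O(G)`. -/
theorem core_commute_of_commutator (A : Subgroup G) (hA : Cfsg.IsStandardSubgroup A)
    (hr : Cfsg.PRankLE 2 1 ↥(Subgroup.centralizer (A : Set G))) (t : G) (ht : orderOf t = 2)
    (htA : t ∈ Subgroup.centralizer (A : Set G)) (r : G) (ha : ⁅r, t⁆ ∈ A) (ha1 : ⁅r, t⁆ ≠ 1)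
    (har : r⁻¹ * ⁅r, t⁆ * r ∈ A) :
    ⁅A, Cfsg.oddCore G⁆ = ⊥ ∧ orderOf ⁅r, t⁆ = 2 := by
  have hq := hA.1
  have ht2 := sq_eq_one_of_orderOf ht
  have ht1 := ne_one_of_orderOf ht
  have tinv : t⁻¹ = t := by
    rw [inv_eq_iff_mul_eq_one, ← pow_two, ht2]
  have hu : orderOf (r * t * r⁻¹) = 2 := by
    have := orderOf_injective (MulAut.conj r).toMonoidHom (MulAut.conj r).injective t
    rw [conj_toMonoidHom_apply] at this
    rw [this]; exact ht
  have hu2 := sq_eq_one_of_orderOf hu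
  have hau : ⁅r, t⁆ = r * t * r⁻¹ * t := by
    rw [commutatorElement_def, tinv]
  have hat : ⁅r, t⁆ * t = t * ⁅r, t⁆ := Subgroup.mem_centralizer_iff.mp htA _ ha
  have htt : t * t = 1 := by rw [← pow_two, ht2]
  have hua : r * t * r⁻¹ = ⁅r, t⁆ * t := by
    rw [hau, mul_assoc (r * t * r⁻¹), htt, mul_one]
  have ha2 : ⁅r, t⁆ ^ 2 = 1 := by
    have h1 : (⁅r, t⁆ * t) ^ 2 = 1 := by rw [← hua]; exact hu2
    have h2 : Commute ⁅r, t⁆ t := hat
    rw [h2.mul_pow, ht2, mul_one] at h1
    exact h1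
  have hao : orderOf ⁅r, t⁆ = 2 := orderOf_eq_two ha2 ha1
  refine ⟨?_, hao⟩
  have htu_ne : t ≠ r * t * r⁻¹ := by
    intro h
    apply ha1
    rw [hau, ← h, ← pow_two, ht2]
  have htu_comm : t * (r * t * r⁻¹) = (r * t * r⁻¹) * t := by
    rw [hua, ← mul_assoc, ← hat, mul_assoc]
  have htu : t * (r * t * r⁻¹) = ⁅r, t⁆ := by
    rw [hua, ← mul_assoc, ← hat, mul_assoc, htt, mul_one]
  have hWn : (Cfsg.oddCore G).Normal := Cfsg.Agent.Lib.Helper1.pPrimeCore_normal 2
  have hWodd : Odd (Nat.card ↥(Cfsg.oddCore G)) := oddCore_odd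
  have hfix := fixed_le_centralizer hA hWn hWodd ha hao ht htA
  have hfixa : ∀ w ∈ Cfsg.oddCore G, w * t = t * w → ∀ b ∈ A, b * w = w * b := by
    intro w hw hwt b hb
    have hwc : w ∈ Subgroup.centralizer {t} := by
      rw [Subgroup.mem_centralizer_iff]
      intro y hy
      rw [Set.mem_singleton_iff] at hy
      rw [hy]; exact hwt.symm
    exact Subgroup.mem_centralizer_iff.mp (hfix ⟨hw, hwc⟩) b hb
  have h1 : Cfsg.oddCore G ⊓ Subgroup.centralizer {t} ≤
      Subgroup.centralizer {t * (r * t * r⁻¹)} := by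
    intro w hw
    have hwt : w * t = t * w :=
      (Subgroup.mem_centralizer_iff.mp hw.2 t (Set.mem_singleton t)).symm
    rw [Subgroup.mem_centralizer_iff]
    intro y hy
    rw [Set.mem_singleton_iff] at hy
    rw [hy, htu]
    exact hfixa w hw.1 hwt _ ha
  have h2 : Cfsg.oddCore G ⊓ Subgroup.centralizer {r * t * r⁻¹} ≤
      Subgroup.centralizer {t * (r * t * r⁻¹)} := by
    intro w hw
    have hwu : w * (r * t * r⁻¹) = (r * t * r⁻¹) * w :=
      (Subgroup.mem_centralizer_iff.mp hw.2 _ (Set.mem_singleton _)).symm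
    have hw' : r⁻¹ * w * r ∈ Cfsg.oddCore G := by
      have := hWn.conj_mem w hw.1 r⁻¹
      rwa [inv_inv] at this
    have hw't : (r⁻¹ * w * r) * t = t * (r⁻¹ * w * r) := by
      have e1 : (r⁻¹ * w * r) * t = r⁻¹ * (w * (r * t * r⁻¹)) * r := by group
      have e2 : t * (r⁻¹ * w * r) = r⁻¹ * ((r * t * r⁻¹) * w) * r := by group
      rw [e1, e2, hwu]
    have h3 := hfixa _ hw' hw't _ har
    rw [Subgroup.mem_centralizer_iff]
    intro y hy
    rw [Set.mem_singleton_iff] at hy
    rw [hy, htu]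
    have e3 : ⁅r, t⁆ * w = r * ((r⁻¹ * ⁅r, t⁆ * r) * (r⁻¹ * w * r)) * r⁻¹ := by group
    have e4 : w * ⁅r, t⁆ = r * ((r⁻¹ * w * r) * (r⁻¹ * ⁅r, t⁆ * r)) * r⁻¹ := by group
    rw [e3, e4, h3]
  have hcen := four_group_centralizes hWn hWodd ht hu htu_ne htu_comm h1 h2
  rw [htu] at hcen
  have haC : ⁅r, t⁆ ∈ Subgroup.centralizer ((Cfsg.oddCore G : Subgroup G) : Set G) := by
    rw [Subgroup.mem_centralizer_iff]
    intro w hw
    have := Subgroup.mem_centralizer_iff.mp (hcen hw) _ (Set.mem_singleton _)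
    exact this.symm
  have hn : ((Subgroup.centralizer ((Cfsg.oddCore G : Subgroup G) : Set G)).subgroupOf A).Normal :=
    inferInstance
  rcases Cfsg.Agent.Lib.Helper9.quasisimple_normal_top_or_central hq _ hn with h | h
  · rw [Subgroup.subgroupOf_eq_top] at h
    rw [Subgroup.commutator_eq_bot_iff_le_centralizer]
    exact h
  · exfalso
    have hz : (⟨⁅r, t⁆, ha⟩ : ↥A) ∈ Subgroup.center ↥A := h (by
      rw [Subgroup.mem_subgroupOf]; exact haC)
    have haK : ⁅r, t⁆ ∈ Subgroup.centralizer (A : Set G) := by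
      rw [Subgroup.mem_centralizer_iff]
      intro b hb
      have := Subgroup.mem_center_iff.mp hz ⟨b, hb⟩
      exact congrArg Subtype.val this
    have hc : Commute (⟨⁅r, t⁆, haK⟩ : ↥(Subgroup.centralizer (A : Set G))) ⟨t, htA⟩ :=
      Subtype.ext hat
    have h5 := eq_of_commute_involutions hr
      (x := (⟨⁅r, t⁆, haK⟩ : ↥(Subgroup.centralizer (A : Set G)))) (z := ⟨t, htA⟩)
      (by rw [← Subgroup.orderOf_coe]; exact hao) (by rw [← Subgroup.orderOf_coe]; exact ht) hc
    have h6 : ⁅r, t⁆ = t := congrArg Subtype.val h5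
    have h7 : r * t * r⁻¹ = 1 := by rw [hua, h6, ← pow_two, ht2]
    rw [h7, orderOf_one] at hu
    omega


/-- The odd core of `Y = X ⊔ ⟨t⟩` (`X` normal in `G`, `t` an involution) lies in `O(G)`. -/
theorem oddCore_sup_zpowers_le (X : Subgroup G) [hXn : X.Normal] (t : G) (ht : orderOf t = 2)
    (w : ↥(X ⊔ Subgroup.zpowers t)) (hw : w ∈ Cfsg.oddCore ↥(X ⊔ Subgroup.zpowers t)) :
    (w : G) ∈ Cfsg.oddCore G := by
  have hXY : X ≤ X ⊔ Subgroup.zpowers t := le_sup_left
  have htY : t ∈ X ⊔ Subgroup.zpowers t := Subgroup.mem_sup_right (Subgroup.mem_zpowers t)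
  have ht2 := sq_eq_one_of_orderOf ht
  have ht'2 : (⟨t, htY⟩ : ↥(X ⊔ Subgroup.zpowers t)) ^ 2 = 1 := Subtype.ext ht2
  have hNt : X.subgroupOf (X ⊔ Subgroup.zpowers t) ⊔
      Subgroup.zpowers (⟨t, htY⟩ : ↥(X ⊔ Subgroup.zpowers t)) = ⊤ := by
    rw [eq_top_iff]
    intro y _
    obtain ⟨x, hx, z, hz, hxz⟩ := Subgroup.mem_sup_of_normal_left.mp y.2
    obtain ⟨i, rfl⟩ := Subgroup.mem_zpowers_iff.mp hz
    have hy : y = ⟨x, hXY hx⟩ * (⟨t, htY⟩ : ↥(X ⊔ Subgroup.zpowers t)) ^ i := by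
      apply Subtype.ext
      rw [Subgroup.coe_mul, Subgroup.coe_zpow]
      exact hxz.symm
    rw [hy]
    exact Subgroup.mul_mem _ (Subgroup.mem_sup_left (Subgroup.mem_subgroupOf.mpr hx))
      (Subgroup.mem_sup_right (Subgroup.zpow_mem_zpowers _ i))
  have hOYN := oddCore_le_of_sup_zpowers (X.subgroupOf (X ⊔ Subgroup.zpowers t)) _ ht'2 hNt
  have hOn : (Cfsg.oddCore ↥(X ⊔ Subgroup.zpowers t)).Normal :=
    Cfsg.Agent.Lib.Helper1.pPrimeCore_normal 2
  -- the image in `X`
  have hle : (Cfsg.oddCore ↥(X ⊔ Subgroup.zpowers t)).map (X ⊔ Subgroup.zpowers t).subtype ≤ X := by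
    rintro _ ⟨v, hv, rfl⟩
    exact Subgroup.mem_subgroupOf.mp (hOYN hv)
  have hO'n : (((Cfsg.oddCore ↥(X ⊔ Subgroup.zpowers t)).map
      (X ⊔ Subgroup.zpowers t).subtype).subgroupOf X).Normal := by
    refine ⟨fun o ho x => ?_⟩
    rw [Subgroup.mem_subgroupOf] at ho ⊢
    obtain ⟨v, hv, hvo⟩ := ho
    refine ⟨⟨x.1, hXY x.2⟩ * v * (⟨x.1, hXY x.2⟩ : ↥(X ⊔ Subgroup.zpowers t))⁻¹,
      hOn.conj_mem v hv _, ?_⟩
    simp only [Subgroup.coe_subtype, Subgroup.coe_mul, Subgroup.coe_inv] at hvo ⊢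
    rw [hvo]
  have hO'c : (Nat.card ↥(((Cfsg.oddCore ↥(X ⊔ Subgroup.zpowers t)).map
      (X ⊔ Subgroup.zpowers t).subtype).subgroupOf X)).Coprime 2 := by
    rw [Nat.card_congr (Subgroup.subgroupOfEquivOfLe hle).toEquiv,
      Subgroup.card_map_of_injective (Subgroup.subtype_injective _)]
    exact Cfsg.Agent.Lib.Helper1.pPrimeCore_card_coprime 2
  have h1 := Cfsg.Agent.Lib.Helper1.le_pPrimeCore hO'n hO'c
  rw [Cfsg.Agent.Lib.Helper10.pPrimeCore_subgroupOf_eq 2 hXn.isSubnormal] at h1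
  have hwX : (w : G) ∈ X := Subgroup.mem_subgroupOf.mp (hOYN hw)
  have h2 : (⟨(w : G), hwX⟩ : ↥X) ∈ ((Cfsg.oddCore ↥(X ⊔ Subgroup.zpowers t)).map
      (X ⊔ Subgroup.zpowers t).subtype).subgroupOf X := by
    rw [Subgroup.mem_subgroupOf]
    exact ⟨w, hw, rfl⟩
  exact Subgroup.mem_subgroupOf.mp (h1 h2)


/-- `A ≤ E(X)` for `X = ⟨A^G⟩`, given that `A` (standard, containing an involution) centralizes
`O(G)`. -/
theorem le_map_layer_normalClosure (A : Subgroup G) (hA : Cfsg.IsStandardSubgroup A)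
    (t : G) (ht : orderOf t = 2) (htA : t ∈ Subgroup.centralizer (A : Set G))
    (hAW : ⁅A, Cfsg.oddCore G⁆ = ⊥) {a : G} (haA : a ∈ A) (hao : orderOf a = 2) :
    A ≤ (Cfsg.layer ↥(Subgroup.normalClosure (A : Set G))).map
      (Subgroup.normalClosure (A : Set G)).subtype := by
  have hXn : (Subgroup.normalClosure (A : Set G)).Normal := Subgroup.normalClosure_normal
  have hAX : A ≤ Subgroup.normalClosure (A : Set G) := Subgroup.le_normalClosure
  have hXY : Subgroup.normalClosure (A : Set G) ≤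
      Subgroup.normalClosure (A : Set G) ⊔ Subgroup.zpowers t := le_sup_left
  have htY : t ∈ Subgroup.normalClosure (A : Set G) ⊔ Subgroup.zpowers t :=
    Subgroup.mem_sup_right (Subgroup.mem_zpowers t)
  have hAY : A ≤ Subgroup.normalClosure (A : Set G) ⊔ Subgroup.zpowers t := hAX.trans hXY
  have ht2 := sq_eq_one_of_orderOf ht
  -- X centralizes O(G)
  have hWn : (Cfsg.oddCore G).Normal := Cfsg.Agent.Lib.Helper1.pPrimeCore_normal 2
  have hCn : (Subgroup.centralizer ((Cfsg.oddCore G : Subgroup G) : Set G)).Normal :=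
    Subgroup.normal_centralizer
  have hXW : Subgroup.normalClosure (A : Set G) ≤
      Subgroup.centralizer ((Cfsg.oddCore G : Subgroup G) : Set G) :=
    Subgroup.normalClosure_le_normal (Subgroup.commutator_eq_bot_iff_le_centralizer.mp hAW)
  have ht' : orderOf (⟨t, htY⟩ : ↥(Subgroup.normalClosure (A : Set G) ⊔ Subgroup.zpowers t)) = 2 := by
    rw [← Subgroup.orderOf_coe]; exact ht
  have hNt : (Subgroup.normalClosure (A : Set G)).subgroupOf
      (Subgroup.normalClosure (A : Set G) ⊔ Subgroup.zpowers t) ⊔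
      Subgroup.zpowers (⟨t, htY⟩ : ↥(Subgroup.normalClosure (A : Set G) ⊔ Subgroup.zpowers t)) = ⊤ := by
    rw [eq_top_iff]
    intro y _
    obtain ⟨x, hx, z, hz, hxz⟩ := Subgroup.mem_sup_of_normal_left.mp y.2
    obtain ⟨i, rfl⟩ := Subgroup.mem_zpowers_iff.mp hz
    have hy : y = ⟨x, hXY hx⟩ *
        (⟨t, htY⟩ : ↥(Subgroup.normalClosure (A : Set G) ⊔ Subgroup.zpowers t)) ^ i := by
      apply Subtype.ext
      rw [Subgroup.coe_mul, Subgroup.coe_zpow]
      exact hxz.symm
    rw [hy]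
    exact Subgroup.mul_mem _ (Subgroup.mem_sup_left (Subgroup.mem_subgroupOf.mpr hx))
      (Subgroup.mem_sup_right (Subgroup.zpow_mem_zpowers _ i))
  have hq' : IsQuasisimple ↥(A.subgroupOf
      (Subgroup.normalClosure (A : Set G) ⊔ Subgroup.zpowers t)) :=
    Cfsg.Agent.Lib.Helper9.isQuasisimple_of_mulEquiv (Subgroup.subgroupOfEquivOfLe hAY).symm hA.1
  have heven' : Even (Nat.card ↥(A.subgroupOf
      (Subgroup.normalClosure (A : Set G) ⊔ Subgroup.zpowers t))) := by
    rw [Nat.card_congr (Subgroup.subgroupOfEquivOfLe hAY).toEquiv, even_iff_two_dvd]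
    have h2 : orderOf (⟨a, haA⟩ : ↥A) = 2 := by
      rw [← Subgroup.orderOf_coe]; exact hao
    rw [← h2]
    exact orderOf_dvd_natCard _
  have hCt' : Subgroup.centralizer
      {(⟨t, htY⟩ : ↥(Subgroup.normalClosure (A : Set G) ⊔ Subgroup.zpowers t))} ≤
      Subgroup.normalizer ((A.subgroupOf
        (Subgroup.normalClosure (A : Set G) ⊔ Subgroup.zpowers t) : Subgroup _) : Set _) := by
    intro y hy
    have hyt : (y : G) ∈ Subgroup.centralizer ({t} : Set G) := by
      rw [Subgroup.mem_centralizer_iff]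
      intro z hz
      rw [Set.mem_singleton_iff] at hz
      have := Subgroup.mem_centralizer_iff.mp hy _ (Set.mem_singleton _)
      rw [hz]
      exact congrArg Subtype.val this
    have hyN := (Cfsg.Agent.S1754.result A hA t ht htA).1 hyt
    rw [Subgroup.mem_normalizer_iff]
    intro h
    rw [Subgroup.mem_subgroupOf, Subgroup.mem_subgroupOf]
    exact Subgroup.mem_normalizer_iff.mp hyN h
  have htA' : (⟨t, htY⟩ : ↥(Subgroup.normalClosure (A : Set G) ⊔ Subgroup.zpowers t)) ∈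
      Subgroup.centralizer ((A.subgroupOf
        (Subgroup.normalClosure (A : Set G) ⊔ Subgroup.zpowers t) : Subgroup _) : Set _) := by
    rw [Subgroup.mem_centralizer_iff]
    intro b hb
    apply Subtype.ext
    exact Subgroup.mem_centralizer_iff.mp htA b hb
  have hNW' : ⁅(Subgroup.normalClosure (A : Set G)).subgroupOf
      (Subgroup.normalClosure (A : Set G) ⊔ Subgroup.zpowers t),
      Cfsg.oddCore ↥(Subgroup.normalClosure (A : Set G) ⊔ Subgroup.zpowers t)⁆ = ⊥ := by
    rw [Subgroup.commutator_eq_bot_iff_le_centralizer]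
    intro n hn
    rw [Subgroup.mem_centralizer_iff]
    intro w hw
    apply Subtype.ext
    have hwG := oddCore_sup_zpowers_le (Subgroup.normalClosure (A : Set G)) t ht w hw
    exact Subgroup.mem_centralizer_iff.mp (hXW (Subgroup.mem_subgroupOf.mp hn)) _ hwG
  have h1 := le_layer_of_lbalance _ _ ht' hNt _ hq' heven' hCt' htA' hNW'
  have h2 := layer_le_map_layer _ _ hNt
  have h3 := Cfsg.Agent.Lib.Helper12.layer_map_mulEquiv (Subgroup.subgroupOfEquivOfLe hXY)
  intro b hb
  have hb' : (⟨b, hAY hb⟩ : ↥(Subgroup.normalClosure (A : Set G) ⊔ Subgroup.zpowers t)) ∈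
      A.subgroupOf (Subgroup.normalClosure (A : Set G) ⊔ Subgroup.zpowers t) :=
    Subgroup.mem_subgroupOf.mpr hb
  obtain ⟨n, hn, hnb⟩ := h2 (h1 hb')
  refine ⟨(Subgroup.subgroupOfEquivOfLe hXY) n, ?_, ?_⟩
  · rw [← h3]
    exact Subgroup.mem_map_of_mem _ hn
  · have := congrArg Subtype.val hnb
    exact this


/-- S3164. -/
theorem semisimple_normalClosure (A : Subgroup G) (hA : Cfsg.IsStandardSubgroup A)
    (hcyc : ∀ R : Sylow 2 ↥(Subgroup.centralizer (A : Set G)),
      IsCyclic ↥(R : Subgroup ↥(Subgroup.centralizer (A : Set G))))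
    (t : G) (ht : orderOf t = 2) (htA : t ∈ Subgroup.centralizer (A : Set G))
    (R : Subgroup G) (hRX : R ≤ Subgroup.normalClosure (A : Set G))
    (hc1 : ⁅R, Subgroup.zpowers t⁆ ≠ ⊥) (hc2 : ⁅R, Subgroup.zpowers t⁆ ≤ A) :
    Cfsg.layer ↥(Subgroup.normalClosure (A : Set G)) = ⊤ ∧
      Odd (Nat.card ↥(Subgroup.center ↥(Subgroup.normalClosure (A : Set G)))) := by
  have hr := prankLE_of_cyclic_sylow hcyc
  have ht2 := sq_eq_one_of_orderOf ht
  have htt : t * t = 1 := by rw [← pow_two, ht2]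
  have tinv : t⁻¹ = t := by rw [inv_eq_iff_mul_eq_one, htt]
  -- pick r
  obtain ⟨r, hrR, hrt⟩ : ∃ r ∈ R, ⁅r, t⁆ ≠ 1 := by
    by_contra hcon
    push Not at hcon
    apply hc1
    rw [Subgroup.commutator_eq_bot_iff_le_centralizer]
    intro r hr'
    rw [Subgroup.mem_centralizer_iff]
    intro z hz
    obtain ⟨i, rfl⟩ := Subgroup.mem_zpowers_iff.mp hz
    have h1 : Commute r t := (commutatorElement_eq_one_iff_commute).mp (hcon r hr')
    exact (h1.symm.zpow_left i).eq
  have hmem : ⁅r, t⁆ ∈ ⁅R, Subgroup.zpowers t⁆ :=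
    Subgroup.commutator_mem_commutator hrR (Subgroup.mem_zpowers t)
  have haA : ⁅r, t⁆ ∈ A := hc2 hmem
  have har : r⁻¹ * ⁅r, t⁆ * r ∈ A := by
    apply hc2
    have h1 := Cfsg.Agent.Lib.Helper10.le_normalizer_commutator_left R (Subgroup.zpowers t)
      (R.inv_mem hrR)
    have h2 := (Subgroup.mem_normalizer_iff.mp h1 ⁅r, t⁆).mp hmem
    rwa [inv_inv] at h2
  obtain ⟨hAW, hao⟩ := core_commute_of_commutator A hA hr t ht htA r haA hrt har
  have hAE := le_map_layer_normalClosure A hA t ht htA hAW haA hao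
  have hXn : (Subgroup.normalClosure (A : Set G)).Normal := Subgroup.normalClosure_normal
  have hEn : ((Cfsg.layer ↥(Subgroup.normalClosure (A : Set G))).map
      (Subgroup.normalClosure (A : Set G)).subtype).Normal := by
    have hchar : (Cfsg.layer ↥(Subgroup.normalClosure (A : Set G))).Characteristic :=
      Cfsg.Agent.Lib.Helper12.layer_characteristic _
    exact ConjAct.normal_of_characteristic_of_normal
  have hXE : Subgroup.normalClosure (A : Set G) ≤
      (Cfsg.layer ↥(Subgroup.normalClosure (A : Set G))).map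
        (Subgroup.normalClosure (A : Set G)).subtype :=
    Subgroup.normalClosure_le_normal hAE
  refine ⟨?_, ?_⟩
  · rw [eq_top_iff]
    intro x _
    obtain ⟨y, hy, hyx⟩ := hXE x.2
    have : y = x := Subtype.ext hyx
    rw [← this]; exact hy
  · -- the centre has odd order
    by_contra hodd
    have heven : 2 ∣ Nat.card ↥(Subgroup.center ↥(Subgroup.normalClosure (A : Set G))) :=
      even_iff_two_dvd.mp (Nat.not_odd_iff_even.mp hodd)
    have hp2 : Fact (Nat.Prime 2) := ⟨Nat.prime_two⟩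
    obtain ⟨z, hz⟩ := exists_prime_orderOf_dvd_card' 2 heven
    have hzo : orderOf ((z : ↥(Subgroup.normalClosure (A : Set G))) : G) = 2 := by
      rw [Subgroup.orderOf_coe, Subgroup.orderOf_coe]; exact hz
    have hzX : ((z : ↥(Subgroup.normalClosure (A : Set G))) : G) ∈
        Subgroup.normalClosure (A : Set G) := (z : ↥(Subgroup.normalClosure (A : Set G))).2
    have hzc : ∀ x ∈ Subgroup.normalClosure (A : Set G),
        ((z : ↥(Subgroup.normalClosure (A : Set G))) : G) * x =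
          x * ((z : ↥(Subgroup.normalClosure (A : Set G))) : G) := by
      intro x hx
      have := Subgroup.mem_center_iff.mp z.2 ⟨x, hx⟩
      exact (congrArg Subtype.val this).symm
    -- a central involution of X commuting with t is impossible
    have key : ∀ v : G, v ∈ Subgroup.normalClosure (A : Set G) →
        (∀ x ∈ Subgroup.normalClosure (A : Set G), v * x = x * v) → orderOf v = 2 →
        v * t = t * v → False := by
      intro v _ hvc hvo hvt
      have hvK : v ∈ Subgroup.centralizer (A : Set G) := by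
        rw [Subgroup.mem_centralizer_iff]
        intro b hb
        exact (hvc b (Subgroup.le_normalClosure hb)).symm
      have hc : Commute (⟨v, hvK⟩ : ↥(Subgroup.centralizer (A : Set G))) ⟨t, htA⟩ :=
        Subtype.ext hvt
      have h5 := eq_of_commute_involutions hr
        (x := (⟨v, hvK⟩ : ↥(Subgroup.centralizer (A : Set G)))) (z := ⟨t, htA⟩)
        (by rw [← Subgroup.orderOf_coe]; exact hvo) (by rw [← Subgroup.orderOf_coe]; exact ht) hc
      have h6 : v = t := congrArg Subtype.val h5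
      apply hrt
      rw [commutatorElement_eq_one_iff_commute]
      have := hvc r (hRX hrR)
      rw [h6] at this
      exact this.symm
    set v0 : G := ((z : ↥(Subgroup.normalClosure (A : Set G))) : G) with hv0
    have hv02 := sq_eq_one_of_orderOf hzo
    have hv01 := ne_one_of_orderOf hzo
    have hcX : t * v0 * t⁻¹ ∈ Subgroup.normalClosure (A : Set G) := hXn.conj_mem v0 hzX t
    have hcc : ∀ x ∈ Subgroup.normalClosure (A : Set G), (t * v0 * t⁻¹) * x = x * (t * v0 * t⁻¹) := by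
      intro x hx
      have hx' : t⁻¹ * x * t ∈ Subgroup.normalClosure (A : Set G) := by
        have := hXn.conj_mem x hx t⁻¹
        rwa [inv_inv] at this
      have h1 := hzc _ hx'
      have e1 : (t * v0 * t⁻¹) * x = t * (v0 * (t⁻¹ * x * t)) * t⁻¹ := by group
      have e2 : x * (t * v0 * t⁻¹) = t * ((t⁻¹ * x * t) * v0) * t⁻¹ := by group
      rw [e1, e2, h1]
    by_cases hfix : t * v0 * t⁻¹ = v0
    · apply key v0 hzX hzc hzo
      have h1 : v0 * t = (t * v0 * t⁻¹) * t := by rw [hfix]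
      rw [h1]; group
    · have hcomm : v0 * (t * v0 * t⁻¹) = (t * v0 * t⁻¹) * v0 := hzc _ hcX
      have hv2 : (v0 * (t * v0 * t⁻¹)) ^ 2 = 1 := by
        have h1 : Commute v0 (t * v0 * t⁻¹) := hcomm
        have h2 : (t * v0 * t⁻¹) ^ 2 = 1 := by
          rw [pow_two]
          have : t * v0 * t⁻¹ * (t * v0 * t⁻¹) = t * (v0 * v0) * t⁻¹ := by group
          rw [this, ← pow_two, hv02]; group
        rw [h1.mul_pow, hv02, h2, one_mul]
      have hv1 : v0 * (t * v0 * t⁻¹) ≠ 1 := by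
        intro h
        apply hfix
        have h1 : t * v0 * t⁻¹ = v0⁻¹ := (inv_eq_of_mul_eq_one_right h).symm
        have h2 : v0⁻¹ = v0 := by rw [inv_eq_iff_mul_eq_one, ← pow_two, hv02]
        rw [h1, h2]
      apply key (v0 * (t * v0 * t⁻¹)) (Subgroup.mul_mem _ hzX hcX)
      · intro x hx
        rw [mul_assoc, hcc x hx, ← mul_assoc, hzc x hx, mul_assoc]
      · exact orderOf_eq_two hv2 hv1
      · rw [tinv] at hcomm ⊢
        have e1 : v0 * (t * v0 * t) * t = v0 * t * v0 := by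
          calc v0 * (t * v0 * t) * t = v0 * t * v0 * (t * t) := by group
            _ = v0 * t * v0 := by rw [htt, mul_one]
        have e2 : t * (v0 * (t * v0 * t)) = v0 * t * v0 := by
          rw [hcomm]
          calc t * (t * v0 * t * v0) = (t * t) * v0 * t * v0 := by group
            _ = v0 * t * v0 := by rw [htt, one_mul]
        rw [e1, e2]

end Main

end Cfsg.Agent.Lib.Helper19.StdSemi
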