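import Mathlib

set_option autoImplicit false

namespace Cfsg.Agent.Lib.Helper19.Syl9A

section triangle

variable {G : Type*} [Group G]

theorem tri_bab {a b : G} (hab : (a * b) ^ 3 = 1) : b * a * b = a⁻¹ * b⁻¹ * a⁻¹ := by
  have h : a * b * (a * b) * (a * b) = 1 := by
    rw [← hab]; simp [pow_succ]
  have h2 : b * a * b = a⁻¹ * (a * b * (a * b) * (a * b)) * (a * b)⁻¹ := by group
  rw [h2, h]; group

theorem inv_sq_of_cube {a : G} (ha : a ^ 3 = 1) : a⁻¹ = a * a := by
  have h : a * a * a = 1 := by rw [← ha]; simp [pow_succ]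
  exact inv_eq_of_mul_eq_one_right (by rw [← mul_assoc]; exact h)

/-- the three translations -/
def t1 (a b : G) : G := a⁻¹ * b
def t2 (a b : G) : G := b * a⁻¹
def t3 (a b : G) : G := a * b * a

theorem mul_mul_of_cube {a : G} (ha : a ^ 3 = 1) : a * a * a = 1 := by
  rw [← ha]; simp [pow_succ]

theorem inv_mul_inv_of_cube {a : G} (ha : a ^ 3 = 1) : a⁻¹ * a⁻¹ = a := by
  have h3 := mul_mul_of_cube ha
  calc a⁻¹ * a⁻¹ = a⁻¹ * a⁻¹ * (a * a * a) := by rw [h3, mul_one]
    _ = a := by group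

theorem conj_t1 (a b : G) : a * t1 a b * a⁻¹ = t2 a b := by unfold t1 t2; group

theorem conj_t2 {a : G} (ha : a ^ 3 = 1) (b : G) : a * t2 a b * a⁻¹ = t3 a b := by
  unfold t2 t3
  calc a * (b * a⁻¹) * a⁻¹ = a * b * (a⁻¹ * a⁻¹) := by group
    _ = a * b * a := by rw [inv_mul_inv_of_cube ha]

theorem conj_t3 {a : G} (ha : a ^ 3 = 1) (b : G) : a * t3 a b * a⁻¹ = t1 a b := by
  unfold t3 t1
  have h := inv_sq_of_cube ha
  calc a * (a * b * a) * a⁻¹ = a * a * b := by group
    _ = a⁻¹ * b := by rw [← h]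

theorem comm13 {a b : G} (ha : a ^ 3 = 1) (hb : b ^ 3 = 1) (hab : (a * b) ^ 3 = 1) :
    t1 a b * t3 a b = t3 a b * t1 a b := by
  unfold t1 t3
  have h1 := tri_bab hab
  have hb' := inv_sq_of_cube hb
  calc a⁻¹ * b * (a * b * a) = a⁻¹ * (b * a * b) * a := by group
    _ = a⁻¹ * (a⁻¹ * b⁻¹ * a⁻¹) * a := by rw [h1]
    _ = a⁻¹ * a⁻¹ * b⁻¹ := by group
    _ = a * b⁻¹ := by rw [inv_mul_inv_of_cube ha]
    _ = a * (b * b) := by rw [hb']
    _ = a * b * a * (a⁻¹ * b) := by group

theorem comm_conj {a u v : G} (h : u * v = v * u) :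
    (a * u * a⁻¹) * (a * v * a⁻¹) = (a * v * a⁻¹) * (a * u * a⁻¹) := by
  calc (a * u * a⁻¹) * (a * v * a⁻¹) = a * (u * v) * a⁻¹ := by group
    _ = a * (v * u) * a⁻¹ := by rw [h]
    _ = (a * v * a⁻¹) * (a * u * a⁻¹) := by group

theorem comm21 {a b : G} (ha : a ^ 3 = 1) (hb : b ^ 3 = 1) (hab : (a * b) ^ 3 = 1) :
    t2 a b * t1 a b = t1 a b * t2 a b := by
  have h := comm_conj (a := a) (comm13 ha hb hab)
  rw [conj_t1, conj_t3 ha] at h
  exact h

theorem comm32 {a b : G} (ha : a ^ 3 = 1) (hb : b ^ 3 = 1) (hab : (a * b) ^ 3 = 1) :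
    t3 a b * t2 a b = t2 a b * t3 a b := by
  have h := comm_conj (a := a) (comm21 ha hb hab)
  rw [conj_t1, conj_t2 ha] at h
  exact h

/-- the translation subgroup -/
def T (a b : G) : Subgroup G := Subgroup.closure {t1 a b, t2 a b, t3 a b}

theorem T_comm {a b : G} (ha : a ^ 3 = 1) (hb : b ^ 3 = 1) (hab : (a * b) ^ 3 = 1) :
    ∀ u ∈ T a b, ∀ v ∈ T a b, u * v = v * u := by
  have hc : ∀ x ∈ ({t1 a b, t2 a b, t3 a b} : Set G), ∀ y ∈ ({t1 a b, t2 a b, t3 a b} : Set G),
      x * y = y * x := by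
    intro x hx y hy
    simp only [Set.mem_insert_iff, Set.mem_singleton_iff] at hx hy
    rcases hx with rfl | rfl | rfl <;> rcases hy with rfl | rfl | rfl
    · rfl
    · exact (comm21 ha hb hab).symm
    · exact comm13 ha hb hab
    · exact comm21 ha hb hab
    · rfl
    · exact (comm32 ha hb hab).symm
    · exact (comm13 ha hb hab).symm
    · exact comm32 ha hb hab
    · rfl
  have hcomm := Subgroup.isMulCommutative_closure hc
  have hle : T a b ≤ Subgroup.centralizer (T a b : Set G) :=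
    Subgroup.le_centralizer_iff_isMulCommutative.mpr hcomm
  intro u hu v hv
  exact (Subgroup.mem_centralizer_iff.mp (hle hv) u hu)

theorem T_conj {a b : G} (ha : a ^ 3 = 1) : ∀ t ∈ T a b, a * t * a⁻¹ ∈ T a b := by
  intro t ht
  unfold T at ht ⊢
  induction ht using Subgroup.closure_induction with
  | mem x hx =>
    simp only [Set.mem_insert_iff, Set.mem_singleton_iff] at hx
    rcases hx with rfl | rfl | rfl
    · rw [conj_t1]; exact Subgroup.subset_closure (by simp)
    · rw [conj_t2 ha]; exact Subgroup.subset_closure (by simp)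
    · rw [conj_t3 ha]; exact Subgroup.subset_closure (by simp)
  | one => simp
  | mul x y _ _ hx hy =>
    have : a * (x * y) * a⁻¹ = (a * x * a⁻¹) * (a * y * a⁻¹) := by group
    rw [this]; exact Subgroup.mul_mem _ hx hy
  | inv x _ hx =>
    have : a * x⁻¹ * a⁻¹ = (a * x * a⁻¹)⁻¹ := by group
    rw [this]; exact Subgroup.inv_mem _ hx

theorem t1_mem (a b : G) : t1 a b ∈ T a b := Subgroup.subset_closure (by simp)

theorem T_conj_inv {a b : G} (ha : a ^ 3 = 1) : ∀ t ∈ T a b, a⁻¹ * t * a ∈ T a b := by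
  intro t ht
  have h1 := T_conj ha _ (T_conj ha t ht)
  have ha' := inv_sq_of_cube ha
  have h4 := inv_mul_inv_of_cube ha
  have : a⁻¹ * t * a = a * (a * t * a⁻¹) * a⁻¹ := by
    calc a⁻¹ * t * a = a⁻¹ * t * (a⁻¹ * a⁻¹) := by rw [h4]
      _ = (a * a) * t * (a⁻¹ * a⁻¹) := by rw [← ha']
      _ = a * (a * t * a⁻¹) * a⁻¹ := by group
  rw [this]; exact h1

/-- main lemma on `(3,3,3)` triangle groups in a group whose `3`-subgroups are abelian and whose
elements of order three have `3`-groups as centralisers -/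
theorem tri_main [Finite G] {a b : G} (ha : a ^ 3 = 1) (hb : b ^ 3 = 1) (hab : (a * b) ^ 3 = 1)
    (hC : IsPGroup 3 (Subgroup.centralizer ({a} : Set G)))
    (hord3 : ∀ s : G, orderOf s = 3 → IsPGroup 3 (Subgroup.centralizer ({s} : Set G)))
    (hS : ∀ H : Subgroup G, IsPGroup 3 H → ∀ u ∈ H, ∀ v ∈ H, u * v = v * u) :
    a * b = b * a ∨ IsConj a⁻¹ (a * b) := by
  classical
  have hTc := T_comm ha hb hab
  by_cases h3 : ∃ s ∈ T a b, orderOf s = 3
  · left
    obtain ⟨s, hsT, hs3⟩ := h3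
    have hTle : T a b ≤ Subgroup.centralizer ({s} : Set G) := by
      intro t ht
      rw [Subgroup.mem_centralizer_singleton_iff]
      exact hTc t ht s hsT
    have hTp : IsPGroup 3 (T a b) := (hord3 s hs3).to_le hTle
    have hap : IsPGroup 3 (Subgroup.zpowers a) := by
      refine IsPGroup.of_card (n := (Nat.factorization (orderOf a)) 3) ?_
      rw [Nat.card_zpowers]
      have hdvd : orderOf a ∣ 3 ^ 1 := by rw [pow_one]; exact orderOf_dvd_of_pow_eq_one ha
      obtain ⟨k, _, hk⟩ := (Nat.dvd_prime_pow Nat.prime_three).mp hdvd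
      rw [hk, Nat.Prime.factorization_pow Nat.prime_three]
      simp
    have hnorm : Subgroup.zpowers a ≤ Subgroup.normalizer (T a b : Set G) := by
      rw [Subgroup.zpowers_le]
      rw [Subgroup.mem_normalizer_iff]
      intro h
      constructor
      · exact T_conj ha h
      · intro hh
        have := T_conj_inv ha _ hh
        have h2 : a⁻¹ * (a * h * a⁻¹) * a = h := by group
        rwa [h2] at this
    have hH := IsPGroup.to_sup_of_normal_right' hap hTp hnorm
    have haH : a ∈ Subgroup.zpowers a ⊔ T a b :=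
      (le_sup_left : Subgroup.zpowers a ≤ _) (Subgroup.mem_zpowers a)
    have hbH : b ∈ Subgroup.zpowers a ⊔ T a b := by
      have h := Subgroup.mul_mem _ haH ((le_sup_right : T a b ≤ _) (t1_mem a b))
      have e : a * t1 a b = b := by unfold t1; group
      rwa [e] at h
    exact hS _ hH a haH b hbH
  · right
    push Not at h3
    -- the translation subgroup meets the centraliser of `a` trivially
    have htriv : ∀ u ∈ T a b, u * a = a * u → u = 1 := by
      intro u huT hua
      have huC : u ∈ Subgroup.centralizer ({a} : Set G) := by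
        rw [Subgroup.mem_centralizer_singleton_iff]; exact hua
      obtain ⟨k, hk⟩ := (IsPGroup.iff_orderOf.mp hC) ⟨u, huC⟩
      rw [Subgroup.orderOf_mk] at hk
      rcases Nat.eq_zero_or_pos k with hk0 | hkpos
      · rw [hk0, pow_zero] at hk
        exact orderOf_eq_one_iff.mp hk
      · exfalso
        have h1 : orderOf (u ^ 3 ^ (k - 1)) = 3 := by
          rw [orderOf_pow' _ (by positivity), hk, Nat.gcd_eq_right (pow_dvd_pow 3 (by omega))]
          rw [Nat.pow_div (by omega) (by norm_num)]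
          have : k - (k - 1) = 1 := by omega
          rw [this, pow_one]
        exact h3 _ (Subgroup.pow_mem _ huT _) h1
    let f : T a b → T a b := fun t =>
      ⟨a * (t : G) * a⁻¹ * (t : G)⁻¹,
        Subgroup.mul_mem _ (T_conj ha _ t.2) (Subgroup.inv_mem _ t.2)⟩
    have hf : Function.Injective f := by
      intro t t' htt
      have h1 : a * (t : G) * a⁻¹ * (t : G)⁻¹ = a * (t' : G) * a⁻¹ * (t' : G)⁻¹ :=
        congrArg Subtype.val htt
      have h2 : ((t' : G)⁻¹ * (t : G)) * a = a * ((t' : G)⁻¹ * (t : G)) := by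
        have h4 : (t' : G)⁻¹ * (t : G) * a⁻¹ = a⁻¹ * ((t' : G)⁻¹ * (t : G)) := by
          calc (t' : G)⁻¹ * (t : G) * a⁻¹
              = (t' : G)⁻¹ * a⁻¹ * (a * (t : G) * a⁻¹ * (t : G)⁻¹) * (t : G) := by group
            _ = (t' : G)⁻¹ * a⁻¹ * (a * (t' : G) * a⁻¹ * (t' : G)⁻¹) * (t : G) := by rw [h1]
            _ = a⁻¹ * ((t' : G)⁻¹ * (t : G)) := by group
        calc (t' : G)⁻¹ * (t : G) * a = a * (a⁻¹ * ((t' : G)⁻¹ * (t : G))) * a := by group
          _ = a * ((t' : G)⁻¹ * (t : G) * a⁻¹) * a := by rw [h4]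
          _ = a * ((t' : G)⁻¹ * (t : G)) := by group
      have h5 := htriv _ (Subgroup.mul_mem _ (Subgroup.inv_mem _ t'.2) t.2) h2
      apply Subtype.ext
      have : (t : G) = (t' : G) * ((t' : G)⁻¹ * (t : G)) := by group
      rw [this, h5, mul_one]
    obtain ⟨t, ht⟩ := (Finite.injective_iff_surjective.mp hf) ⟨t1 a b, t1_mem a b⟩
    have ht' : a * (t : G) * a⁻¹ * (t : G)⁻¹ = t1 a b := congrArg Subtype.val ht
    rw [isConj_iff]
    refine ⟨(t : G), ?_⟩
    have h6 : a * b = a⁻¹ * t1 a b := by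
      unfold t1
      rw [← mul_assoc, inv_mul_inv_of_cube ha]
    rw [h6, ← ht']
    group

end triangle

end Cfsg.Agent.Lib.Helper19.Syl9A
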