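import Mathlib

set_option autoImplicit false

namespace Cfsg.Agent.Lib.Helper19.Syl9Arith

/-- all positive -/
theorem dio_k0 (p1 p2 p3 : ℤ) (h1 : 2 ≤ p1) (h2 : 2 ≤ p2) (h3 : 2 ≤ p3)
    (E : (p1 * p2 * p3 + p2 * p3 + p1 * p3 + p1 * p2) * (1 + p1 + p2 + p3) = -2 * (p1 * p2 * p3)) :
    False := by
  have hq : 0 < p1 * p2 * p3 := by positivity
  have h12 : 0 < p1 * p2 := by positivity
  have h13 : 0 < p1 * p3 := by positivity
  have h23 : 0 < p2 * p3 := by positivity
  have hs : 0 < 1 + p1 + p2 + p3 := by linarith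
  have : 0 < (p1 * p2 * p3 + p2 * p3 + p1 * p3 + p1 * p2) * (1 + p1 + p2 + p3) := by positivity
  linarith

/-- one negative: `p1 = -a` -/
theorem dio_k1 (a b c : ℤ) (ha : 2 ≤ a) (hb : 4 ≤ b) (hc : 4 ≤ c)
    (ma : (3 : ℤ) ∣ a + 1) (mb : (3 : ℤ) ∣ b - 1) (mc : (3 : ℤ) ∣ c - 1)
    (E : (a * b * c + a * b + a * c - b * c) * (a - 1 - b - c) = 2 * (a * b * c)) : False := by
  have hab : 0 < a * b := by positivity
  have hac : 0 < a * c := by positivity
  have hbc : 0 < b * c := by positivity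
  have habc : 0 < a * b * c := by positivity
  set F := a * b * c + a * b + a * c - b * c with hF
  set m := a - 1 - b - c with hm
  have hF2 : a * b * c < 2 * F := by
    have : 0 ≤ b * c * (a - 2) := by positivity
    nlinarith
  have hFpos : 0 < F := by linarith
  have hmpos : 0 < m := by
    by_contra hneg
    push Not at hneg
    have : F * m ≤ 0 := mul_nonpos_of_nonneg_of_nonpos hFpos.le hneg
    linarith
  have hm4 : m < 4 := by
    by_contra hge
    push Not at hge
    have : F * 4 ≤ F * m := mul_le_mul_of_nonneg_left hge hFpos.le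
    linarith
  have hm2 : m = 2 := by omega
  rw [hm2] at E
  have hFe : F = a * b * c := by linarith
  have ha' : a = b + c + 3 := by omega
  rw [hF] at hFe
  subst ha'
  nlinarith [sq_nonneg (b - c)]

/-- two negatives: `p1 = -a`, `p2 = -b` with `a ≥ b` -/
theorem dio_k2 (a b c : ℤ) (hab' : b ≤ a) (hb : 2 ≤ b) (hc : 4 ≤ c)
    (ma : (3 : ℤ) ∣ a + 1) (mb : (3 : ℤ) ∣ b + 1) (mc : (3 : ℤ) ∣ c - 1)
    (E : (a * b * c + a * b - a * c - b * c) * (a + b - c - 1) = 2 * (a * b * c)) : False := by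
  have ha : 2 ≤ a := le_trans hb hab'
  have hab : 0 < a * b := by positivity
  have hac : 0 < a * c := by positivity
  have hbc : 0 < b * c := by positivity
  have habc : 0 < a * b * c := by positivity
  set F := a * b * c + a * b - a * c - b * c with hF
  set m := a + b - c - 1 with hm
  have hFpos : 0 < F := by
    have h1 : a + b ≤ a * b := by nlinarith
    have h2 : c * (a + b) ≤ c * (a * b) := mul_le_mul_of_nonneg_left h1 (by linarith)
    nlinarith
  have hmpos : 0 < m := by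
    by_contra hneg
    push Not at hneg
    have : F * m ≤ 0 := mul_nonpos_of_nonneg_of_nonpos hFpos.le hneg
    linarith
  rcases (by omega : b = 2 ∨ 5 ≤ b) with rfl | hb5
  · -- b = 2
    rcases (by omega : a = 2 ∨ 5 ≤ a) with rfl | ha5
    · omega
    · have hF' : F = a * c + 2 * a - 2 * c := by rw [hF]; ring
      have hbound : 6 * (a * c) ≤ 10 * F := by
        rw [hF']
        have : 5 * c ≤ a * c := mul_le_mul_of_nonneg_right ha5 (by linarith)
        nlinarith
      have hm7 : m < 7 := by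
        by_contra hge
        push Not at hge
        have : F * 7 ≤ F * m := mul_le_mul_of_nonneg_left hge hFpos.le
        nlinarith
      have hm25 : m = 2 ∨ m = 5 := by omega
      rcases hm25 with h2 | h5
      · rw [h2, hF'] at E
        have ha' : a = c + 1 := by omega
        subst ha'
        nlinarith
      · rw [h5, hF'] at E
        have ha' : a = c + 4 := by omega
        subst ha'
        nlinarith
  · -- b ≥ 5
    have ha5 : 5 ≤ a := le_trans hb5 hab'
    have hbound : 3 * (a * b * c) < 5 * F := by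
      rw [hF]
      have h1 : 5 * (a * c) ≤ a * b * c := by
        have : 5 * (a * c) ≤ b * (a * c) := mul_le_mul_of_nonneg_right hb5 hac.le
        linarith [this, (by ring : b * (a * c) = a * b * c)]
      have h2 : 5 * (b * c) ≤ a * b * c := by
        have : 5 * (b * c) ≤ a * (b * c) := mul_le_mul_of_nonneg_right ha5 hbc.le
        linarith [this, (by ring : a * (b * c) = a * b * c)]
      nlinarith
    have hm4 : m < 4 := by
      by_contra hge
      push Not at hge
      have : F * 4 ≤ F * m := mul_le_mul_of_nonneg_left hge hFpos.le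
      nlinarith
    have hm2 : m = 2 := by omega
    rw [hm2] at E
    have hFe : F = a * b * c := by linarith
    have hc' : c = a + b - 3 := by omega
    rw [hF] at hFe
    subst hc'
    have h5a : 5 * a ≤ a * b := by nlinarith
    nlinarith [sq_nonneg (a - b)]

/-- three negatives, `a ≥ b ≥ c` -/
theorem dio_k3 (a b c : ℤ) (hab' : b ≤ a) (hbc' : c ≤ b) (hc : 2 ≤ c)
    (ma : (3 : ℤ) ∣ a + 1) (mb : (3 : ℤ) ∣ b + 1) (mc : (3 : ℤ) ∣ c + 1)
    (E : (a * b * c - a * b - a * c - b * c) * (a + b + c - 1) = 2 * (a * b * c)) : False := by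
  have hb : 2 ≤ b := le_trans hc hbc'
  have ha : 2 ≤ a := le_trans hb hab'
  have hab : 0 < a * b := by positivity
  have hac : 0 < a * c := by positivity
  have hbc : 0 < b * c := by positivity
  have habc : 0 < a * b * c := by positivity
  rcases (by omega : c = 2 ∨ 5 ≤ c) with rfl | hc5
  · rcases (by omega : b = 2 ∨ 5 ≤ b) with rfl | hb5
    · nlinarith
    · rcases (by omega : b = 5 ∨ 8 ≤ b) with rfl | hb8
      · -- (3a - 10)(a + 6) = 20 a
        have hE : a * a - 4 * a - 20 = 0 := by nlinarith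
        rcases (by omega : a = 5 ∨ 8 ≤ a) with rfl | ha8
        · omega
        · nlinarith
      · have ha8 : 8 ≤ a := le_trans hb8 hab'
        have h1 : 4 * a ≤ a * b / 1 := by
          rw [Int.ediv_one]; nlinarith
        have hF : a * b ≤ 2 * (a * b * 2 - a * b - a * 2 - b * 2) := by nlinarith
        have hm : 17 ≤ a + b + 2 - 1 := by linarith
        nlinarith
  · have hb5 : 5 ≤ b := le_trans hc5 hbc'
    have ha5 : 5 ≤ a := le_trans hb5 hab'
    have h1 : 5 * (a * b) ≤ a * b * c := by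
      have := mul_le_mul_of_nonneg_left hc5 hab.le
      linarith
    have h2 : 5 * (a * c) ≤ a * b * c := by
      have : 5 * (a * c) ≤ b * (a * c) := mul_le_mul_of_nonneg_right hb5 hac.le
      linarith [this, (by ring : b * (a * c) = a * b * c)]
    have h3 : 5 * (b * c) ≤ a * b * c := by
      have : 5 * (b * c) ≤ a * (b * c) := mul_le_mul_of_nonneg_right ha5 hbc.le
      linarith [this, (by ring : a * (b * c) = a * b * c)]
    have hF : 2 * (a * b * c) ≤ 5 * (a * b * c - a * b - a * c - b * c) := by linarith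
    have hm : 14 ≤ a + b + c - 1 := by linarith
    nlinarith

/-- the sorted case -/
theorem dio_sorted (p1 p2 p3 : ℤ) (h12 : p1 ≤ p2) (h23 : p2 ≤ p3)
    (a1 : 2 ≤ |p1|) (a2 : 2 ≤ |p2|) (a3 : 2 ≤ |p3|)
    (m1 : (3 : ℤ) ∣ p1 - 1) (m2 : (3 : ℤ) ∣ p2 - 1) (m3 : (3 : ℤ) ∣ p3 - 1)
    (E : (p1 * p2 * p3 + p2 * p3 + p1 * p3 + p1 * p2) * (1 + p1 + p2 + p3) = -2 * (p1 * p2 * p3)) :
    False := by
  have c1 : p1 ≤ -2 ∨ 2 ≤ p1 := by
    rcases le_or_gt 0 p1 with h | h
    · right; rwa [abs_of_nonneg h] at a1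
    · left; rw [abs_of_neg h] at a1; linarith
  have c2 : p2 ≤ -2 ∨ 2 ≤ p2 := by
    rcases le_or_gt 0 p2 with h | h
    · right; rwa [abs_of_nonneg h] at a2
    · left; rw [abs_of_neg h] at a2; linarith
  have c3 : p3 ≤ -2 ∨ 2 ≤ p3 := by
    rcases le_or_gt 0 p3 with h | h
    · right; rwa [abs_of_nonneg h] at a3
    · left; rw [abs_of_neg h] at a3; linarith
  rcases c3 with n3 | q3
  · -- all negative
    refine dio_k3 (-p1) (-p2) (-p3) (by linarith) (by linarith) (by linarith) (by omega) (by omega)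
      (by omega) ?_
    linear_combination E
  · rcases c2 with n2 | q2
    · refine dio_k2 (-p1) (-p2) p3 (by linarith) (by linarith) (by omega) (by omega) (by omega) m3 ?_
      linear_combination (-1 : ℤ) * E
    · rcases c1 with n1 | q1
      · refine dio_k1 (-p1) p2 p3 (by linarith) (by omega) (by omega) (by omega) m2 m3 ?_
        linear_combination E
      · exact dio_k0 p1 p2 p3 q1 q2 q3 E

theorem dio_core (p1 p2 p3 : ℤ)
    (a1 : 2 ≤ |p1|) (a2 : 2 ≤ |p2|) (a3 : 2 ≤ |p3|)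
    (m1 : (3 : ℤ) ∣ p1 - 1) (m2 : (3 : ℤ) ∣ p2 - 1) (m3 : (3 : ℤ) ∣ p3 - 1)
    (E : (p1 * p2 * p3 + p2 * p3 + p1 * p3 + p1 * p2) * (1 + p1 + p2 + p3) = -2 * (p1 * p2 * p3)) :
    False := by
  rcases le_total p1 p2 with h12 | h12 <;> rcases le_total p2 p3 with h23 | h23 <;>
    rcases le_total p1 p3 with h13 | h13
  · exact dio_sorted p1 p2 p3 h12 h23 a1 a2 a3 m1 m2 m3 E
  · exact dio_sorted p1 p2 p3 h12 h23 a1 a2 a3 m1 m2 m3 E
  · exact dio_sorted p1 p3 p2 h13 h23 a1 a3 a2 m1 m3 m2 (by linear_combination E)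
  · exact dio_sorted p3 p1 p2 h13 h12 a3 a1 a2 m3 m1 m2 (by linear_combination E)
  · exact dio_sorted p2 p1 p3 h12 h13 a2 a1 a3 m2 m1 m3 (by linear_combination E)
  · exact dio_sorted p2 p3 p1 h23 h13 a2 a3 a1 m2 m3 m1 (by linear_combination E)
  · exact dio_sorted p3 p2 p1 h23 h12 a3 a2 a1 m3 m2 m1 (by linear_combination E)
  · exact dio_sorted p3 p2 p1 h23 h12 a3 a2 a1 m3 m2 m1 (by linear_combination E)

/-- the Diophantine statement in terms of signs and degrees -/
theorem dio (δ1 δ2 δ3 σ u1 u2 u3 d : ℤ)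
    (hδ1 : δ1 = 1 ∨ δ1 = -1) (hδ2 : δ2 = 1 ∨ δ2 = -1) (hδ3 : δ3 = 1 ∨ δ3 = -1)
    (hσ : σ = 1 ∨ σ = -1) (hu1 : 2 ≤ u1) (hu2 : 2 ≤ u2) (hu3 : 2 ≤ u3) (hd : 1 ≤ d)
    (m1 : (3 : ℤ) ∣ u1 - δ1) (m2 : (3 : ℤ) ∣ u2 - δ2) (m3 : (3 : ℤ) ∣ u3 - δ3)
    (I : 1 + δ1 * u1 + δ2 * u2 + δ3 * u3 - σ * d = 0)
    (A : (1 : ℚ) + δ1 / u1 + δ2 / u2 + δ3 / u3 + 2 * σ / d = 0) : False := by
  have hu1q : (u1 : ℚ) ≠ 0 := by have : (0 : ℤ) < u1 := by omega
                                 exact_mod_cast this.ne'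
  have hu2q : (u2 : ℚ) ≠ 0 := by have : (0 : ℤ) < u2 := by omega
                                 exact_mod_cast this.ne'
  have hu3q : (u3 : ℚ) ≠ 0 := by have : (0 : ℤ) < u3 := by omega
                                 exact_mod_cast this.ne'
  have hdq : (d : ℚ) ≠ 0 := by have : (0 : ℤ) < d := by omega
                               exact_mod_cast this.ne'
  have hδ1' : δ1 * δ1 = 1 := by rcases hδ1 with rfl | rfl <;> norm_num
  have hδ2' : δ2 * δ2 = 1 := by rcases hδ2 with rfl | rfl <;> norm_num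
  have hδ3' : δ3 * δ3 = 1 := by rcases hδ3 with rfl | rfl <;> norm_num
  have hσ' : σ * σ = 1 := by rcases hσ with rfl | rfl <;> norm_num
  -- clear denominators in `A`
  have A' : (d : ℚ) * (u1 * u2 * u3 + δ1 * u2 * u3 + δ2 * u1 * u3 + δ3 * u1 * u2)
      + 2 * σ * (u1 * u2 * u3) = 0 := by
    field_simp at A
    linear_combination A
  have A'' : d * (u1 * u2 * u3 + δ1 * u2 * u3 + δ2 * u1 * u3 + δ3 * u1 * u2)
      + 2 * σ * (u1 * u2 * u3) = 0 := by exact_mod_cast A'
  refine dio_core (δ1 * u1) (δ2 * u2) (δ3 * u3) ?_ ?_ ?_ ?_ ?_ ?_ ?_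
  · rcases hδ1 with rfl | rfl
    · rw [one_mul, abs_of_nonneg (by linarith)]; exact hu1
    · rw [neg_one_mul, abs_neg, abs_of_nonneg (by linarith)]; exact hu1
  · rcases hδ2 with rfl | rfl
    · rw [one_mul, abs_of_nonneg (by linarith)]; exact hu2
    · rw [neg_one_mul, abs_neg, abs_of_nonneg (by linarith)]; exact hu2
  · rcases hδ3 with rfl | rfl
    · rw [one_mul, abs_of_nonneg (by linarith)]; exact hu3
    · rw [neg_one_mul, abs_neg, abs_of_nonneg (by linarith)]; exact hu3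
  · rcases hδ1 with rfl | rfl <;> omega
  · rcases hδ2 with rfl | rfl <;> omega
  · rcases hδ3 with rfl | rfl <;> omega
  · -- multiply `A''` by `σ δ1 δ2 δ3` and use `I`
    have hd' : d = σ * (1 + δ1 * u1 + δ2 * u2 + δ3 * u3) := by
      have : σ * d = 1 + δ1 * u1 + δ2 * u2 + δ3 * u3 := by linarith
      calc d = σ * σ * d := by rw [hσ', one_mul]
        _ = σ * (σ * d) := by ring
        _ = σ * (1 + δ1 * u1 + δ2 * u2 + δ3 * u3) := by rw [this]
    rw [hd'] at A''
    clear hd' I A' A m1 m2 m3 hδ1' hδ2' hδ3' hσ'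
    rcases hδ1 with rfl | rfl <;> rcases hδ2 with rfl | rfl <;> rcases hδ3 with rfl | rfl <;>
      rcases hσ with rfl | rfl <;>
      first
      | linear_combination A''
      | linear_combination (-1 : ℤ) * A''

section split

variable {X : Type*} [Fintype X] [DecidableEq X]

/-- the complement of three points -/
def rest (x0 y1 y2 : X) : Finset X := ({x0, y1, y2} : Finset X)ᶜ

theorem rest_comm (x0 y1 y2 : X) : rest x0 y1 y2 = rest x0 y2 y1 := by
  unfold rest
  congr 1
  ext x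
  simp only [Finset.mem_insert, Finset.mem_singleton]
  tauto

theorem mem_rest {x0 y1 y2 x : X} : x ∈ rest x0 y1 y2 ↔ x ≠ x0 ∧ x ≠ y1 ∧ x ≠ y2 := by
  unfold rest
  simp only [Finset.mem_compl, Finset.mem_insert, Finset.mem_singleton, not_or]

theorem sum_split {M : Type*} [AddCommMonoid M] {x0 y1 y2 : X} (h01 : y1 ≠ x0) (h02 : y2 ≠ x0)
    (h12 : y1 ≠ y2) (f : X → M) :
    ∑ x, f x = f x0 + (f y1 + f y2) + ∑ x ∈ rest x0 y1 y2, f x := by
  unfold rest
  rw [← Finset.sum_add_sum_compl ({x0, y1, y2} : Finset X) f]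
  congr 1
  rw [Finset.sum_insert, Finset.sum_insert, Finset.sum_singleton]
  · simpa using h12
  · simp only [Finset.mem_insert, Finset.mem_singleton, not_or]
    exact ⟨h01.symm, h02.symm⟩

end split

/-- structure of two integral columns of norm nine that are orthogonal and congruent modulo `3` -/
theorem two_col {X : Type*} [Fintype X] [DecidableEq X] (x0 : X) (α β D : X → ℤ)
    (hα0 : α x0 = 1) (hβ0 : β x0 = 1) (hD : ∀ x, 1 ≤ D x)
    (h3 : ∀ x, (3 : ℤ) ∣ α x - β x)
    (O1 : ∑ x, α x * α x = 9) (O2 : ∑ x, β x * β x = 9) (O3 : ∑ x, α x * β x = 0)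
    (O4 : ∑ x, D x * α x = 0) (O5 : ∑ x, D x * β x = 0) :
    ∃ y1 y2 : X, ∃ σ : ℤ, (σ = 1 ∨ σ = -1) ∧ y1 ≠ y2 ∧ y1 ≠ x0 ∧ y2 ≠ x0 ∧
      α y1 = σ ∧ β y1 = -2 * σ ∧ α y2 = -2 * σ ∧ β y2 = σ ∧ D y1 = D y2 ∧
      (∀ x ∈ rest x0 y1 y2, α x = β x) ∧
      ∑ x ∈ rest x0 y1 y2, α x * α x = 3 := by
  classical
  choose c hc using h3
  -- the sum of the squares of `c`
  have hcc : ∑ x, c x * c x = 2 := by
    have h1 : ∑ x, (α x - β x) * (α x - β x) = 18 := by
      have : ∀ x, (α x - β x) * (α x - β x) = α x * α x - 2 * (α x * β x) + β x * β x :=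
        fun x => by ring
      simp only [this, Finset.sum_add_distrib, Finset.sum_sub_distrib, ← Finset.mul_sum, O1, O2, O3]
      norm_num
    have h2 : ∀ x, (α x - β x) * (α x - β x) = 9 * (c x * c x) := fun x => by rw [hc x]; ring
    simp only [h2, ← Finset.mul_sum] at h1
    linarith
  set W := Finset.univ.filter (fun x => c x ≠ 0) with hW
  have hW1 : ∀ x ∈ W, c x * c x = 1 := by
    intro x hx
    have hne : c x ≠ 0 := (Finset.mem_filter.mp hx).2
    have hle : c x * c x ≤ 2 := hcc ▸ Finset.single_le_sum (f := fun x => c x * c x)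
      (fun i _ => mul_self_nonneg _) (Finset.mem_univ x)
    have h1 : -1 ≤ c x := by nlinarith
    have h2 : c x ≤ 1 := by nlinarith
    have : c x = 1 ∨ c x = -1 := by omega
    rcases this with h | h <;> rw [h] <;> norm_num
  have hWsum : ∑ x ∈ W, c x * c x = 2 := by
    rw [← hcc]
    apply Finset.sum_filter_of_ne
    intro x _ h h0
    apply h
    rw [h0, zero_mul]
  have hWcard : W.card = 2 := by
    rw [Finset.sum_congr rfl hW1, Finset.sum_const, nsmul_eq_mul, mul_one] at hWsum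
    exact_mod_cast hWsum
  obtain ⟨y1, y2, h12, hWeq⟩ := Finset.card_eq_two.mp hWcard
  have hy1W : y1 ∈ W := by rw [hWeq]; simp
  have hy2W : y2 ∈ W := by rw [hWeq]; simp
  have hc0 : ∀ x, x ≠ y1 → x ≠ y2 → c x = 0 := by
    intro x h1 h2
    by_contra hne
    have hxW : x ∈ W := Finset.mem_filter.mpr ⟨Finset.mem_univ x, hne⟩
    rw [hWeq] at hxW
    simp only [Finset.mem_insert, Finset.mem_singleton] at hxW
    rcases hxW with h | h
    · exact h1 h
    · exact h2 h
  have hcx0 : c x0 = 0 := by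
    have := hc x0
    rw [hα0, hβ0] at this
    omega
  have h01 : y1 ≠ x0 := by
    rintro rfl
    exact (Finset.mem_filter.mp hy1W).2 hcx0
  have h02 : y2 ≠ x0 := by
    rintro rfl
    exact (Finset.mem_filter.mp hy2W).2 hcx0
  have hrest : ∀ x ∈ rest x0 y1 y2, α x = β x := by
    intro x hx
    obtain ⟨_, h1, h2⟩ := mem_rest.mp hx
    have := hc x
    rw [hc0 x h1 h2] at this
    linarith
  have hs1 : c y1 = 1 ∨ c y1 = -1 := by
    have h1 := hW1 y1 hy1W
    have h2 : (c y1 - 1) * (c y1 + 1) = 0 := by linarith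
    rcases mul_eq_zero.mp h2 with h | h
    · left; linarith
    · right; linarith
  have hs2 : c y2 = 1 ∨ c y2 = -1 := by
    have h1 := hW1 y2 hy2W
    have h2 : (c y2 - 1) * (c y2 + 1) = 0 := by linarith
    rcases mul_eq_zero.mp h2 with h | h
    · left; linarith
    · right; linarith
  -- the degrees
  have hDc : D y1 * c y1 + D y2 * c y2 = 0 := by
    have h1 : ∑ x, D x * (α x - β x) = 0 := by
      simp only [mul_sub, Finset.sum_sub_distrib, O4, O5, sub_zero]
    have h2 : ∀ x, D x * (α x - β x) = 3 * (D x * c x) := fun x => by rw [hc x]; ring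
    simp only [h2, ← Finset.mul_sum] at h1
    have h3 : ∑ x, D x * c x = 0 := by linarith
    rw [sum_split h01 h02 h12, hcx0, mul_zero, zero_add] at h3
    have h4 : ∑ x ∈ rest x0 y1 y2, D x * c x = 0 := by
      apply Finset.sum_eq_zero
      intro x hx
      obtain ⟨_, h1, h2⟩ := mem_rest.mp hx
      rw [hc0 x h1 h2, mul_zero]
    rw [h4, add_zero] at h3
    exact h3
  have hD1 := hD y1
  have hD2 := hD y2
  -- the three orthogonality relations on the support
  have E1 := sum_split h01 h02 h12 (fun x => α x * α x)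
  have E3 := sum_split h01 h02 h12 (fun x => α x * β x)
  have hr : ∑ x ∈ rest x0 y1 y2, α x * β x = ∑ x ∈ rest x0 y1 y2, α x * α x :=
    Finset.sum_congr rfl (fun x hx => by rw [hrest x hx])
  rw [O1, hα0] at E1
  rw [O3, hα0, hβ0, hr] at E3
  have hrnn : 0 ≤ ∑ x ∈ rest x0 y1 y2, α x * α x :=
    Finset.sum_nonneg (fun x _ => mul_self_nonneg _)
  set r := ∑ x ∈ rest x0 y1 y2, α x * α x with hrdef
  have hb1 : β y1 = α y1 - 3 * c y1 := by have := hc y1; linarith
  have hb2 : β y2 = α y2 - 3 * c y2 := by have := hc y2; linarith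
  rw [hb1, hb2] at E3
  set a1 := α y1 with ha1
  set a2 := α y2 with ha2

  clear hWsum hWcard hW1 hcc hWeq hy1W hy2W hc0 hr
  rcases hs1 with s1 | s1 <;> rcases hs2 with s2 | s2 <;> rw [s1, s2] at hDc E3 <;>
    rw [s1] at hb1 <;> rw [s2] at hb2
  · exfalso; linarith
  · -- s1 = 1, s2 = -1 : a1 - a2 = 3
    have hDeq : D y1 = D y2 := by linarith
    have ha : a1 = a2 + 3 := by nlinarith
    have hq : 2 * a2 * a2 + 6 * a2 + 1 ≤ 0 := by nlinarith
    have h1 : -2 ≤ a2 := by nlinarith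
    have h2 : a2 ≤ -1 := by nlinarith
    rcases (by omega : a2 = -2 ∨ a2 = -1) with h | h
    · have v1 : a1 = 1 := by linarith
      have v2 : β y1 = -2 * 1 := by linarith
      have v3 : a2 = -2 * 1 := by linarith
      have v4 : β y2 = 1 := by linarith
      have v5 : r = 3 := by rw [v1, h] at E1; linarith
      exact ⟨y1, y2, 1, Or.inl rfl, h12, h01, h02, v1, v2, v3, v4, hDeq, hrest, v5⟩
    · have v1 : a2 = -1 := h
      have v2 : β y2 = -2 * -1 := by linarith
      have v3 : a1 = -2 * -1 := by linarith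
      have v4 : β y1 = -1 := by linarith
      have v5 : r = 3 := by rw [v3, h] at E1; linarith
      refine ⟨y2, y1, -1, Or.inr rfl, h12.symm, h02, h01, v1, v2, v3, v4, hDeq.symm, ?_, ?_⟩
      · rw [rest_comm]; exact hrest
      · rw [rest_comm]; exact v5
  · -- s1 = -1, s2 = 1 : a2 - a1 = 3
    have hDeq : D y1 = D y2 := by linarith
    have ha : a2 = a1 + 3 := by nlinarith
    have hq : 2 * a1 * a1 + 6 * a1 + 1 ≤ 0 := by nlinarith
    have h1 : -2 ≤ a1 := by nlinarith
    have h2 : a1 ≤ -1 := by nlinarith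
    rcases (by omega : a1 = -2 ∨ a1 = -1) with h | h
    · have v1 : a2 = 1 := by linarith
      have v2 : β y2 = -2 * 1 := by linarith
      have v3 : a1 = -2 * 1 := by linarith
      have v4 : β y1 = 1 := by linarith
      have v5 : r = 3 := by rw [v1, h] at E1; linarith
      refine ⟨y2, y1, 1, Or.inl rfl, h12.symm, h02, h01, v1, v2, v3, v4, hDeq.symm, ?_, ?_⟩
      · rw [rest_comm]; exact hrest
      · rw [rest_comm]; exact v5
    · have v1 : a1 = -1 := h
      have v2 : β y1 = -2 * -1 := by linarith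
      have v3 : a2 = -2 * -1 := by linarith
      have v4 : β y2 = -1 := by linarith
      have v5 : r = 3 := by rw [v3, h] at E1; linarith
      exact ⟨y1, y2, -1, Or.inr rfl, h12, h01, h02, v1, v2, v3, v4, hDeq, hrest, v5⟩
  · exfalso; linarith

/-- the case of two classes of size four: the order is at most `720` -/
theorem arith_four {X : Type*} [Fintype X] [DecidableEq X] (x0 : X) (α β D : X → ℤ) (g : ℤ)
    (hα0 : α x0 = 1) (hβ0 : β x0 = 1) (hD0 : D x0 = 1) (hD : ∀ x, 1 ≤ D x)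
    (h3 : ∀ x, (3 : ℤ) ∣ α x - β x)
    (h9 : ∀ x, ∃ m : ℤ, 0 ≤ m ∧ D x + 4 * α x + 4 * β x = 9 * m)
    (O1 : ∑ x, α x * α x = 9) (O2 : ∑ x, β x * β x = 9) (O3 : ∑ x, α x * β x = 0)
    (O4 : ∑ x, D x * α x = 0) (O5 : ∑ x, D x * β x = 0)
    (C : (g : ℚ) * ∑ x, (α x : ℚ) * α x * β x / D x = 162) : g ≤ 720 := by
  classical
  obtain ⟨y1, y2, σ, hσ, h12, h01, h02, ha1, hb1, ha2, hb2, hDeq, hrest, hr⟩ :=
    two_col x0 α β D hα0 hβ0 hD h3 O1 O2 O3 O4 O5
  have hsplit := sum_split h01 h02 h12 (fun x => (α x : ℚ) * α x * β x / D x)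
  simp only [hα0, hβ0, hD0, ha1, hb1, ha2, hb2, ← hDeq] at hsplit
  set d := D y1 with hd
  have hdpos : (0 : ℚ) < d := by
    have := hD y1
    exact_mod_cast (by linarith : (0 : ℤ) < d)
  -- the rest of the sum
  have hterm : ∀ x ∈ rest x0 y1 y2,
      -((α x : ℚ) * α x) / 8 ≤ (α x : ℚ) * α x * β x / D x := by
    intro x hx
    have hle : α x * α x ≤ 3 := hr ▸ Finset.single_le_sum (f := fun x => α x * α x)
      (fun i _ => mul_self_nonneg _) hx
    have h1 : -1 ≤ α x := by nlinarith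
    have h2 : α x ≤ 1 := by nlinarith
    have hDx : (0 : ℚ) < D x := by
      have := hD x
      exact_mod_cast (by linarith : (0 : ℤ) < D x)
    rw [← hrest x hx]
    rcases (by omega : α x = -1 ∨ α x = 0 ∨ α x = 1) with h | h | h
    · obtain ⟨m, hm0, hm⟩ := h9 x
      rw [← hrest x hx, h] at hm
      have hD8 : (8 : ℤ) ≤ D x := by linarith
      have hD8' : (8 : ℚ) ≤ D x := by exact_mod_cast hD8
      rw [h]
      push_cast
      rw [div_le_div_iff₀ (by norm_num) hDx]
      linarith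
    · rw [h]; simp
    · rw [h]
      push_cast
      have : (0 : ℚ) ≤ 1 * 1 * 1 / (D x : ℚ) := by positivity
      linarith
  have hrestsum : -(3 : ℚ) / 8 ≤ ∑ x ∈ rest x0 y1 y2, (α x : ℚ) * α x * β x / D x := by
    have h1 : ∑ x ∈ rest x0 y1 y2, -((α x : ℚ) * α x) / 8 = -(3 : ℚ) / 8 := by
      rw [← Finset.sum_div, Finset.sum_neg_distrib]
      have : ((∑ x ∈ rest x0 y1 y2, α x * α x : ℤ) : ℚ) = 3 := by rw [hr]; norm_num
      push_cast at this
      rw [this]
    rw [← h1]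
    exact Finset.sum_le_sum hterm
  -- the two exceptional characters
  have hexc_eq : (σ : ℚ) * σ * ((-2 * σ : ℤ) : ℚ) / d
      + ((-2 * σ : ℤ) : ℚ) * ((-2 * σ : ℤ) : ℚ) * σ / d = 2 * σ / d := by
    rcases hσ with rfl | rfl <;> push_cast <;> ring
  have hexc : -(2 : ℚ) / 5 ≤ 2 * (σ : ℚ) / d := by
    rcases hσ with rfl | rfl
    · have : (0 : ℚ) ≤ 2 * ((1 : ℤ) : ℚ) / d := by positivity
      linarith
    · obtain ⟨m, hm0, hm⟩ := h9 y1
      rw [ha1, hb1] at hm
      have hd5 : (5 : ℤ) ≤ d := by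
        have := hD y1
        omega
      have hd5' : (5 : ℚ) ≤ d := by exact_mod_cast hd5
      push_cast
      rw [div_le_div_iff₀ (by norm_num) hdpos]
      linarith
  have hSig : (9 : ℚ) / 40 ≤ ∑ x, (α x : ℚ) * α x * β x / D x := by
    rw [hsplit, hexc_eq]
    push_cast
    linarith
  by_contra hgt
  push Not at hgt
  have hg' : (721 : ℚ) ≤ g := by exact_mod_cast hgt
  have hpos : (0 : ℚ) < ∑ x, (α x : ℚ) * α x * β x / D x := by linarith
  nlinarith


/-- the case of classes of size two is impossible -/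
theorem arith_two {X : Type*} [Fintype X] [DecidableEq X] (x0 : X) (α β D : X → ℤ)
    (hα0 : α x0 = 1) (hβ0 : β x0 = 1) (hD0 : D x0 = 1) (hD2 : ∀ x, x ≠ x0 → 2 ≤ D x)
    (hα3 : ∀ x, (3 : ℤ) ∣ D x - α x) (hβ3 : ∀ x, (3 : ℤ) ∣ D x - β x)
    (O1 : ∑ x, α x * α x = 9) (O2 : ∑ x, β x * β x = 9) (O3 : ∑ x, α x * β x = 0)
    (O4 : ∑ x, D x * α x = 0) (O5 : ∑ x, D x * β x = 0)
    (C : ∑ x, (α x : ℚ) * α x * β x / D x = 0) : False := by
  classical
  have hD : ∀ x, 1 ≤ D x := by
    intro x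
    by_cases hx : x = x0
    · rw [hx, hD0]
    · have := hD2 x hx; linarith
  have h3 : ∀ x, (3 : ℤ) ∣ α x - β x := by
    intro x
    have h1 := hα3 x
    have h2 := hβ3 x
    omega
  obtain ⟨y1, y2, σ, hσ, h12, h01, h02, ha1, hb1, ha2, hb2, hDeq, hrest, hr⟩ :=
    two_col x0 α β D hα0 hβ0 hD h3 O1 O2 O3 O4 O5
  -- the three remaining characters
  set T := (rest x0 y1 y2).filter (fun x => α x ≠ 0) with hT
  have hα1 : ∀ x ∈ rest x0 y1 y2, α x = -1 ∨ α x = 0 ∨ α x = 1 := by
    intro x hx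
    have hle : α x * α x ≤ 3 := hr ▸ Finset.single_le_sum (f := fun x => α x * α x)
      (fun i _ => mul_self_nonneg _) hx
    have h1 : -1 ≤ α x := by nlinarith
    have h2 : α x ≤ 1 := by nlinarith
    omega
  have hT1 : ∀ x ∈ T, α x * α x = 1 := by
    intro x hx
    obtain ⟨hx1, hx2⟩ := Finset.mem_filter.mp hx
    rcases hα1 x hx1 with h | h | h
    · rw [h]; norm_num
    · exact absurd h hx2
    · rw [h]; norm_num
  have hTsum : ∑ x ∈ T, α x * α x = 3 := by
    rw [← hr]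
    apply Finset.sum_filter_of_ne
    intro x _ h h0
    apply h
    rw [h0, zero_mul]
  have hTcard : T.card = 3 := by
    rw [Finset.sum_congr rfl hT1, Finset.sum_const, nsmul_eq_mul, mul_one] at hTsum
    exact_mod_cast hTsum
  obtain ⟨j1, j2, j3, n12, n13, n23, hTeq⟩ := Finset.card_eq_three.mp hTcard
  have hj : ∀ j ∈ T, j ∈ rest x0 y1 y2 ∧ (α j = 1 ∨ α j = -1) := by
    intro j hjT
    obtain ⟨hx1, hx2⟩ := Finset.mem_filter.mp hjT
    refine ⟨hx1, ?_⟩
    rcases hα1 j hx1 with h | h | h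
    · right; exact h
    · exact absurd h hx2
    · left; exact h
  have hj1T : j1 ∈ T := by rw [hTeq]; simp
  have hj2T : j2 ∈ T := by rw [hTeq]; simp
  have hj3T : j3 ∈ T := by rw [hTeq]; simp
  obtain ⟨r1, s1⟩ := hj j1 hj1T
  obtain ⟨r2, s2⟩ := hj j2 hj2T
  obtain ⟨r3, s3⟩ := hj j3 hj3T
  -- sums over the rest reduce to sums over `T`
  have hsumT : ∀ {M : Type} [AddCommMonoid M] (f : X → M), (∀ x, α x = 0 → f x = 0) →
      ∑ x ∈ rest x0 y1 y2, f x = f j1 + (f j2 + f j3) := by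
    intro M _ f hf
    have h1 : ∑ x ∈ rest x0 y1 y2, f x = ∑ x ∈ T, f x := by
      symm
      apply Finset.sum_filter_of_ne
      intro x _ h h0
      exact h (hf x h0)
    rw [h1, hTeq, Finset.sum_insert, Finset.sum_insert, Finset.sum_singleton]
    · simpa using n23
    · simp only [Finset.mem_insert, Finset.mem_singleton, not_or]
      exact ⟨n12, n13⟩
  have hne0 : ∀ j ∈ rest x0 y1 y2, j ≠ x0 := fun j hj => (mem_rest.mp hj).1
  -- the degree equation
  have I : 1 + α j1 * D j1 + α j2 * D j2 + α j3 * D j3 - σ * D y1 = 0 := by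
    have h1 := sum_split h01 h02 h12 (fun x => D x * α x)
    rw [O4, hsumT (fun x => D x * α x) (fun x hx => by simp only [hx, mul_zero]), hα0, hD0, ha1,
      ha2, ← hDeq] at h1
    linarith
  -- the class equation
  have A : (1 : ℚ) + (α j1 : ℚ) / D j1 + (α j2 : ℚ) / D j2 + (α j3 : ℚ) / D j3
      + 2 * (σ : ℚ) / D y1 = 0 := by
    have h1 := sum_split h01 h02 h12 (fun x => (α x : ℚ) * α x * β x / D x)
    rw [C, hsumT (fun x => (α x : ℚ) * α x * β x / D x)
      (fun x hx => by simp only [hx, Int.cast_zero, zero_mul, zero_div])] at h1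
    simp only [hα0, hβ0, hD0, ha1, hb1, ha2, hb2, ← hDeq, ← hrest j1 r1, ← hrest j2 r2,
      ← hrest j3 r3] at h1
    have e : ∀ a : ℤ, (a = 1 ∨ a = -1) → (a : ℚ) * a * a = a := by
      rintro a (rfl | rfl) <;> norm_num
    rw [e _ s1, e _ s2, e _ s3] at h1
    have hexc_eq : (σ : ℚ) * σ * ((-2 * σ : ℤ) : ℚ) / (D y1 : ℚ)
        + ((-2 * σ : ℤ) : ℚ) * ((-2 * σ : ℤ) : ℚ) * σ / (D y1 : ℚ) = 2 * σ / (D y1 : ℚ) := by
      rcases hσ with rfl | rfl <;> push_cast <;> ring
    rw [hexc_eq] at h1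
    push_cast at h1
    linarith
  refine dio (α j1) (α j2) (α j3) σ (D j1) (D j2) (D j3) (D y1) s1 s2 s3 hσ
    (hD2 j1 (hne0 j1 r1)) (hD2 j2 (hne0 j2 r2)) (hD2 j3 (hne0 j3 r3)) (hD y1)
    (hα3 j1) (hα3 j2) (hα3 j3) I A


end Cfsg.Agent.Lib.Helper19.Syl9Arith
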