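import Mathlib
import Cfsg.Agent.Lib.Helper19.SylTools
import Cfsg.Agent.Lib.Helper19.Syl9A

set_option autoImplicit false

namespace Cfsg.Agent.Lib.Helper19.Syl9B

open Cfsg.Agent.Lib.Helper19.SylTools Cfsg.Agent.Lib.Helper19.Syl9A

/-- the hypotheses on the Sylow `3`-subgroup -/
structure Hyp {G : Type*} [Group G] (P : Sylow 3 G) (S : Subgroup G) : Prop where
  hSP : S = P
  comm : ∀ u ∈ S, ∀ v ∈ S, u * v = v * u
  exp : ∀ a ∈ S, a ^ 3 = 1
  card : Nat.card S = 9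
  cent : ∀ s ∈ S, s ≠ 1 → Subgroup.centralizer ({s} : Set G) = S

variable {G : Type*} [Group G] {P : Sylow 3 G} {S : Subgroup G}

theorem Hyp.order3 (h : Hyp P S) {s : G} (hs : s ∈ S) (h1 : s ≠ 1) : orderOf s = 3 :=
  orderOf_eq_prime (h.exp s hs) h1

theorem Hyp.mem_iff (h : Hyp P S) {s : G} (hs : s ∈ S) (h1 : s ≠ 1) (y : G) :
    y ∈ S ↔ y * s = s * y := by
  rw [← h.cent s hs h1, Subgroup.mem_centralizer_singleton_iff]

theorem Hyp.conj_normalizer (h : Hyp P S) {s g : G} (hs : s ∈ S) (h1 : s ≠ 1)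
    (hg : g * s * g⁻¹ ∈ S) : g ∈ Subgroup.normalizer (S : Set G) := by
  have h1' : g * s * g⁻¹ ≠ 1 := by
    intro h2
    apply h1
    have : s = g⁻¹ * (g * s * g⁻¹) * g := by group
    rw [this, h2]; group
  rw [Subgroup.mem_normalizer_iff]
  intro y
  rw [h.mem_iff hs h1 y, h.mem_iff hg h1' (g * y * g⁻¹)]
  constructor
  · intro hy
    calc g * y * g⁻¹ * (g * s * g⁻¹) = g * (y * s) * g⁻¹ := by group
      _ = g * (s * y) * g⁻¹ := by rw [hy]
      _ = g * s * g⁻¹ * (g * y * g⁻¹) := by group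
  · intro hy
    calc y * s = g⁻¹ * (g * y * g⁻¹ * (g * s * g⁻¹)) * g := by group
      _ = g⁻¹ * (g * s * g⁻¹ * (g * y * g⁻¹)) * g := by rw [hy]
      _ = s * y := by group

theorem pgroup_zpowers {y : G} (hy : y ^ 3 = 1) : IsPGroup 3 (Subgroup.zpowers y) := by
  refine IsPGroup.of_card (n := (Nat.factorization (orderOf y)) 3) ?_
  rw [Nat.card_zpowers]
  have hdvd : orderOf y ∣ 3 ^ 1 := by rw [pow_one]; exact orderOf_dvd_of_pow_eq_one hy
  obtain ⟨k, _, hk⟩ := (Nat.dvd_prime_pow Nat.prime_three).mp hdvd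
  rw [hk, Nat.Prime.factorization_pow Nat.prime_three]
  simp

variable [Finite G]

/-- every `3`-subgroup is conjugate into `S` -/
theorem Hyp.exists_conj_le (h : Hyp P S) (H : Subgroup G) (hH : IsPGroup 3 H) :
    ∃ g : G, ∀ u ∈ H, g * u * g⁻¹ ∈ S := by
  obtain ⟨Q, hQ⟩ := hH.exists_le_sylow
  obtain ⟨g, hg⟩ := MulAction.exists_smul_eq G Q P
  refine ⟨g, fun u hu => ?_⟩
  have := conj_mem_smul (P := Q) (hQ hu) g
  rw [hg] at this
  rw [h.hSP]; exact this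

theorem Hyp.exists_conj_mem (h : Hyp P S) {y : G} (hy : y ^ 3 = 1) : ∃ g : G, g * y * g⁻¹ ∈ S := by
  obtain ⟨g, hg⟩ := h.exists_conj_le _ (pgroup_zpowers hy)
  exact ⟨g, hg y (Subgroup.mem_zpowers y)⟩

theorem Hyp.pgroup_comm (h : Hyp P S) (H : Subgroup G) (hH : IsPGroup 3 H) :
    ∀ u ∈ H, ∀ v ∈ H, u * v = v * u := by
  obtain ⟨g, hg⟩ := h.exists_conj_le H hH
  intro u hu v hv
  have := h.comm _ (hg u hu) _ (hg v hv)
  calc u * v = g⁻¹ * (g * u * g⁻¹ * (g * v * g⁻¹)) * g := by group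
    _ = g⁻¹ * (g * v * g⁻¹ * (g * u * g⁻¹)) * g := by rw [this]
    _ = v * u := by group

theorem Hyp.pgroup_cent (h : Hyp P S) {y : G} (hy : orderOf y = 3) :
    IsPGroup 3 (Subgroup.centralizer ({y} : Set G)) := by
  have hy3 : y ^ 3 = 1 := by rw [← hy]; exact pow_orderOf_eq_one y
  have hy1 : y ≠ 1 := by
    intro h1; rw [h1, orderOf_one] at hy; omega
  obtain ⟨g, hg⟩ := h.exists_conj_mem hy3
  have hg1 : g * y * g⁻¹ ≠ 1 := by
    intro h2
    apply hy1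
    have : y = g⁻¹ * (g * y * g⁻¹) * g := by group
    rw [this, h2]; group
  rintro ⟨c, hc⟩
  refine ⟨1, ?_⟩
  apply Subtype.ext
  rw [Subgroup.mem_centralizer_singleton_iff] at hc
  have h3 : g * c * g⁻¹ ∈ S := by
    rw [h.mem_iff hg hg1]
    calc g * c * g⁻¹ * (g * y * g⁻¹) = g * (c * y) * g⁻¹ := by group
      _ = g * (y * c) * g⁻¹ := by rw [hc]
      _ = g * y * g⁻¹ * (g * c * g⁻¹) := by group
  have h4 := h.exp _ h3
  have h5 : (g * c * g⁻¹) ^ 3 = g * c ^ 3 * g⁻¹ := by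
    simp only [pow_succ, pow_zero, one_mul]; group
  rw [h5] at h4
  show (c ^ 3 ^ 1 : G) = 1
  rw [pow_one]
  have : c ^ 3 = g⁻¹ * (g * c ^ 3 * g⁻¹) * g := by group
  rw [this, h4]; group

/-- the triangle lemma in our situation -/
theorem Hyp.tri (h : Hyp P S) {a b : G} (ha : orderOf a = 3) (hb : b ^ 3 = 1)
    (hab : (a * b) ^ 3 = 1) : a * b = b * a ∨ IsConj a⁻¹ (a * b) := by
  have ha3 : a ^ 3 = 1 := by rw [← ha]; exact pow_orderOf_eq_one a
  exact tri_main ha3 hb hab (h.pgroup_cent ha) (fun s hs => h.pgroup_cent hs)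
    (fun H hH => h.pgroup_comm H hH)

/-- distinct Sylow `3`-subgroups meet trivially -/
theorem Hyp.ti (h : Hyp P S) (Q₁ Q₂ : Sylow 3 G) (hne : Q₁ ≠ Q₂) :
    (Q₁ : Subgroup G) ⊓ (Q₂ : Subgroup G) = ⊥ := by
  rw [eq_bot_iff]
  intro y hy
  rw [Subgroup.mem_bot]
  by_contra hy1
  apply hne
  obtain ⟨g₁, hg₁⟩ := MulAction.exists_smul_eq G Q₁ P
  obtain ⟨g₂, hg₂⟩ := MulAction.exists_smul_eq G Q₂ P
  have h1 : g₁ * y * g₁⁻¹ ∈ S := by
    have := conj_mem_smul (P := Q₁) hy.1 g₁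
    rw [hg₁] at this; rw [h.hSP]; exact this
  have h2 : g₂ * y * g₂⁻¹ ∈ S := by
    have := conj_mem_smul (P := Q₂) hy.2 g₂
    rw [hg₂] at this; rw [h.hSP]; exact this
  have h1' : g₁ * y * g₁⁻¹ ≠ 1 := by
    intro h3
    apply hy1
    have : y = g₁⁻¹ * (g₁ * y * g₁⁻¹) * g₁ := by group
    rw [this, h3]; group
  have h3 : (g₂ * g₁⁻¹) * (g₁ * y * g₁⁻¹) * (g₂ * g₁⁻¹)⁻¹ ∈ S := by
    have : (g₂ * g₁⁻¹) * (g₁ * y * g₁⁻¹) * (g₂ * g₁⁻¹)⁻¹ = g₂ * y * g₂⁻¹ := by group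
    rw [this]; exact h2
  have h4 := h.conj_normalizer h1 h1' h3
  have h5 : (g₂ * g₁⁻¹) • P = P := by
    apply Sylow.smul_eq_iff_mem_normalizer.mpr
    have e : ((P : Sylow 3 G) : Set G) = (S : Set G) := by rw [h.hSP]; rfl
    rw [e]; exact h4
  rw [← hg₁, ← mul_smul] at h5
  have h6 : g₂ * g₁⁻¹ * g₁ = g₂ := by group
  rw [h6] at h5
  have h7 : g₂ • Q₁ = g₂ • Q₂ := by rw [h5, hg₁, hg₂]
  exact MulAction.injective g₂ h7

theorem Hyp.card_sylow_mod9 (h : Hyp P S) : Nat.card (Sylow 3 G) ≡ 1 [MOD 9] := by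
  classical
  let _ : Fintype G := Fintype.ofFinite G
  let _ : Fintype (Sylow 3 G) := Fintype.ofFinite _
  let _ : Fintype ↥(P : Subgroup G) := Fintype.ofFinite _
  have hB := MulAction.sum_card_fixedBy_eq_card_orbits_mul_card_group ↥(P : Subgroup G) (Sylow 3 G)
  have hcardP : Fintype.card ↥(P : Subgroup G) = 9 := by
    rw [← Nat.card_eq_fintype_card, ← h.card, h.hSP]
  have hfix1 : Fintype.card (MulAction.fixedBy (Sylow 3 G) (1 : ↥(P : Subgroup G))) =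
      Fintype.card (Sylow 3 G) := by
    apply Fintype.card_congr
    refine ⟨fun q => q.1, fun q => ⟨q, by simp⟩, fun q => rfl, fun q => rfl⟩
  have hfix : ∀ g : ↥(P : Subgroup G), g ≠ 1 →
      Fintype.card (MulAction.fixedBy (Sylow 3 G) g) = 1 := by
    intro g hg
    rw [Fintype.card_eq_one_iff]
    refine ⟨⟨P, ?_⟩, ?_⟩
    · rw [MulAction.mem_fixedBy]
      exact ti_smul_self g.2
    · rintro ⟨Q, hQ⟩
      apply Subtype.ext
      show Q = P
      by_contra hne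
      rw [MulAction.mem_fixedBy] at hQ
      have := ti_semireg (h.ti) hne g.2 hQ
      exact hg (Subtype.ext this)
  rw [← Finset.add_sum_erase Finset.univ _ (Finset.mem_univ (1 : ↥(P : Subgroup G))), hfix1,
    Finset.sum_congr rfl (fun g hg => hfix g (Finset.mem_erase.mp hg).1), Finset.sum_const,
    Finset.card_erase_of_mem (Finset.mem_univ _), Finset.card_univ, hcardP] at hB
  rw [Nat.card_eq_fintype_card]
  simp only [smul_eq_mul, mul_one] at hB
  have : Fintype.card (Sylow 3 G) + 8 =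
      Fintype.card (Quotient (MulAction.orbitRel ↥(P : Subgroup G) (Sylow 3 G))) * 9 := hB
  rw [Nat.ModEq]
  omega

omit [Finite G] in
theorem normalizer_conj_mem {n s : G} (hn : n ∈ Subgroup.normalizer (S : Set G))
    (hs : s ∈ S) : n * s * n⁻¹ ∈ S :=
  (Subgroup.mem_normalizer_iff.mp hn s).mp hs

omit [Finite G] in
theorem conj_ne_one {g s : G} (h1 : s ≠ 1) : g * s * g⁻¹ ≠ 1 := by
  intro h2
  apply h1
  have : s = g⁻¹ * (g * s * g⁻¹) * g := by group
  rw [this, h2]; group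

omit [Finite G] in
/-- orbit–stabiliser for the action of the normaliser on `S` -/
theorem Hyp.card_normalizer (h : Hyp P S) {x : G} (hx : x ∈ S) (hx1 : x ≠ 1) :
    Nat.card (Subgroup.normalizer (S : Set G)) =
      Nat.card {y : G // y ∈ S ∧ IsConj x y} * 9 := by
  classical
  have hrep : ∀ y : {y : G // y ∈ S ∧ IsConj x y},
      ∃ n : G, n ∈ Subgroup.normalizer (S : Set G) ∧ n * x * n⁻¹ = y := by
    rintro ⟨y, hyS, hy⟩
    obtain ⟨c, hc⟩ := isConj_iff.mp hy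
    exact ⟨c, h.conj_normalizer hx hx1 (by rw [hc]; exact hyS), hc⟩
  choose r hrN hrx using hrep
  have hsx : ∀ s ∈ S, s * x * s⁻¹ = x := by
    intro s hs
    rw [h.comm s hs x hx]; group
  let f : {y : G // y ∈ S ∧ IsConj x y} × S → Subgroup.normalizer (S : Set G) := fun p =>
    ⟨r p.1 * (p.2 : G), Subgroup.mul_mem _ (hrN p.1) (Subgroup.le_normalizer p.2.2)⟩
  have hconj : ∀ p : {y : G // y ∈ S ∧ IsConj x y} × S,
      (r p.1 * (p.2 : G)) * x * (r p.1 * (p.2 : G))⁻¹ = (p.1 : G) := by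
    intro p
    calc (r p.1 * (p.2 : G)) * x * (r p.1 * (p.2 : G))⁻¹
        = r p.1 * ((p.2 : G) * x * (p.2 : G)⁻¹) * (r p.1)⁻¹ := by group
      _ = (p.1 : G) := by rw [hsx _ p.2.2, hrx]
  have hf : Function.Bijective f := by
    constructor
    · rintro ⟨y, s⟩ ⟨y', s'⟩ hyy
      have h1 : r y * (s : G) = r y' * (s' : G) := congrArg Subtype.val hyy
      have h2 : y = y' := by
        apply Subtype.ext
        rw [← hconj (y, s), ← hconj (y', s')]
        show (r y * (s : G)) * x * (r y * (s : G))⁻¹ = (r y' * (s' : G)) * x * (r y' * (s' : G))⁻¹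
        rw [h1]
      subst h2
      have h3 : (s : G) = (s' : G) := mul_left_cancel h1
      rw [Subtype.ext h3]
    · rintro ⟨n, hn⟩
      have hyS : n * x * n⁻¹ ∈ S := normalizer_conj_mem hn hx
      let y : {y : G // y ∈ S ∧ IsConj x y} := ⟨n * x * n⁻¹, hyS, isConj_iff.mpr ⟨n, rfl⟩⟩
      have hs : (r y)⁻¹ * n ∈ S := by
        rw [h.mem_iff hx hx1]
        have h4 : r y * x * (r y)⁻¹ = n * x * n⁻¹ := hrx y
        calc (r y)⁻¹ * n * x = (r y)⁻¹ * (n * x * n⁻¹) * n := by group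
          _ = (r y)⁻¹ * (r y * x * (r y)⁻¹) * n := by rw [h4]
          _ = x * ((r y)⁻¹ * n) := by group
      refine ⟨(y, ⟨(r y)⁻¹ * n, hs⟩), ?_⟩
      apply Subtype.ext
      show r y * ((r y)⁻¹ * n) = n
      group
  rw [← Nat.card_eq_of_bijective f hf, Nat.card_prod, h.card]

end Cfsg.Agent.Lib.Helper19.Syl9B
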