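import Mathlib
import Cfsg.Agent.Lib.Helper19.Syl9B

set_option autoImplicit false

namespace Cfsg.Agent.Lib.Helper19.Syl9C

open Cfsg.Agent.Lib.Helper19.SylTools Cfsg.Agent.Lib.Helper19.Syl9A
  Cfsg.Agent.Lib.Helper19.Syl9B

variable {G : Type*} [Group G] {P : Sylow 3 G} {S : Subgroup G}

/-- the elements of `S` conjugate to `x` -/
def cls (S : Subgroup G) (x : G) : Set G := {y | y ∈ S ∧ IsConj x y}

theorem mem_cls {x y : G} : y ∈ cls S x ↔ y ∈ S ∧ IsConj x y := Iff.rfl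

theorem card_cls (x : G) : Nat.card {y : G // y ∈ S ∧ IsConj x y} = (cls S x).ncard :=
  Nat.card_coe_set_eq (cls S x)

theorem self_mem_cls {x : G} (hx : x ∈ S) : x ∈ cls S x := ⟨hx, IsConj.refl x⟩

theorem cls_disjoint {x z : G} (hxz : ¬ IsConj x z) : Disjoint (cls S x) (cls S z) := by
  rw [Set.disjoint_left]
  intro y hy hy'
  exact hxz (hy.2.trans hy'.2.symm)

theorem cls_subset {x : G} (hx1 : x ≠ 1) : cls S x ⊆ ((S : Set G) \ {1}) := by
  intro y hy
  refine ⟨hy.1, ?_⟩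
  rw [Set.mem_singleton_iff]
  rintro rfl
  exact hx1 (isConj_one_left.mp hy.2)

theorem ncard_S_diff (h : Hyp P S) : ((S : Set G) \ {1}).ncard = 8 := by
  rw [Set.ncard_sdiff (by simp) (Set.finite_singleton 1), Set.ncard_singleton]
  have : (S : Set G).ncard = 9 := by
    rw [← Nat.card_coe_set_eq]; exact h.card
  rw [this]

theorem card_cls_eq (h : Hyp P S) {x z : G} (hx : x ∈ S) (hx1 : x ≠ 1) (hz : z ∈ S)
    (hz1 : z ≠ 1) : (cls S x).ncard = (cls S z).ncard := by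
  have h1 := h.card_normalizer hx hx1
  have h2 := h.card_normalizer hz hz1
  rw [card_cls] at h1 h2
  omega

variable [Finite G]

theorem two_mul_le (h : Hyp P S) {x z : G} (hx : x ∈ S) (hx1 : x ≠ 1) (hz : z ∈ S)
    (hz1 : z ≠ 1) (hxz : ¬ IsConj x z) : 2 * (cls S x).ncard ≤ 8 := by
  have hfin : ((S : Set G) \ {1}).Finite := Set.toFinite _
  have h1 : (cls S x ∪ cls S z).ncard ≤ 8 := by
    rw [← ncard_S_diff h]
    exact Set.ncard_le_ncard (Set.union_subset (cls_subset hx1) (cls_subset hz1)) hfin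
  rw [Set.ncard_union_eq (cls_disjoint hxz) (Set.toFinite _) (Set.toFinite _),
    ← card_cls_eq h hx hx1 hz hz1] at h1
  omega

omit [Finite G] in
theorem ne_top [IsSimpleGroup G] (h : Hyp P S) {x : G} (hx : x ∈ S) (hx1 : x ≠ 1) :
    (P : Subgroup G) ≠ ⊤ := by
  intro htop
  have hS : S = ⊤ := by rw [h.hSP, htop]
  have hcomm : ∀ a b : G, a * b = b * a := fun a b =>
    h.comm a (by rw [hS]; trivial) b (by rw [hS]; trivial)
  have hnorm : (Subgroup.zpowers x).Normal := by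
    constructor
    intro n hn g
    have : g * n * g⁻¹ = n := by rw [hcomm g n]; group
    rw [this]; exact hn
  rcases hnorm.eq_bot_or_eq_top with h1 | h1
  · apply hx1
    have : x ∈ Subgroup.zpowers x := Subgroup.mem_zpowers x
    rw [h1, Subgroup.mem_bot] at this
    exact this
  · have h2 : Nat.card (Subgroup.zpowers x) = 3 := by
      rw [Nat.card_zpowers, h.order3 hx hx1]
    rw [h1, Subgroup.card_top] at h2
    have h3 : Nat.card G = 9 := by
      rw [← h.card, hS, Subgroup.card_top]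
    omega

variable [IsSimpleGroup G]

theorem exists_not_comm (h : Hyp P S) {x : G} (hx : x ∈ S) (hx1 : x ≠ 1) :
    ∃ n ∈ Subgroup.normalizer (S : Set G), n * x ≠ x * n := by
  by_contra hcon
  push Not at hcon
  have : IsMulCommutative (P : Subgroup G) :=
    ⟨⟨fun a b => Subtype.ext (h.comm a (by rw [h.hSP]; exact a.2) b (by rw [h.hSP]; exact b.2))⟩⟩
  apply hx1
  refine abelian_sylow_center_normalizer P (ne_top h hx hx1) x (show x ∈ (P : Subgroup G) by rw [← h.hSP]; exact hx) ?_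
  intro n hn
  apply hcon
  have e : ((P : Subgroup G) : Set G) = (S : Set G) := by rw [h.hSP]
  rw [e] at hn
  exact hn

theorem card_normalizer_ne (h : Hyp P S) {x : G} (hx : x ∈ S) (hx1 : x ≠ 1) :
    Nat.card (Subgroup.normalizer (S : Set G)) ≠ 9 := by
  intro h9
  obtain ⟨n, hn, hnx⟩ := exists_not_comm h hx hx1
  apply hnx
  have hle : S ≤ Subgroup.normalizer (S : Set G) := Subgroup.le_normalizer
  have heq : S = Subgroup.normalizer (S : Set G) := by
    apply Subgroup.eq_of_le_of_card_ge hle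
    rw [h9, h.card]
  rw [← heq] at hn
  exact h.comm n hn x hx

theorem card_cls_cases (h : Hyp P S) {x z : G} (hx : x ∈ S) (hx1 : x ≠ 1) (hz : z ∈ S)
    (hz1 : z ≠ 1) (hxz : ¬ IsConj x z) : (cls S x).ncard = 2 ∨ (cls S x).ncard = 4 := by
  have h1 := h.card_normalizer hx hx1
  rw [card_cls] at h1
  have h2 := card_normalizer_ne h hx hx1
  have h3 := two_mul_le h hx hx1 hz hz1 hxz
  have h4 : 0 < (cls S x).ncard := by
    rw [Set.ncard_pos (Set.toFinite _)]
    exact ⟨x, self_mem_cls hx⟩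
  have h5 : (cls S x).ncard ≠ 3 := by
    intro h6
    rw [h6] at h1
    have h7 : Nat.card (Subgroup.normalizer (S : Set G)) ∣ Nat.card G :=
      Subgroup.card_subgroup_dvd_card _
    have h8 : Nat.card G = 9 * (P : Subgroup G).index := by
      rw [← Subgroup.card_mul_index (P : Subgroup G), ← h.hSP, h.card]
    have h9 : ¬ 3 ∣ (P : Subgroup G).index := P.not_dvd_index
    rw [h1, h8] at h7
    apply h9
    have : 3 * 9 ∣ 9 * (P : Subgroup G).index := h7
    omega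
  omega

/-- an element of the normaliser inverting `S` -/
theorem exists_invert (h : Hyp P S) {x z : G} (hx : x ∈ S) (hx1 : x ≠ 1) (hz : z ∈ S)
    (hz1 : z ≠ 1) (hxz : ¬ IsConj x z) :
    ∃ τ ∈ Subgroup.normalizer (S : Set G), ∀ s ∈ S, τ * s * τ⁻¹ = s⁻¹ := by
  have h1 := h.card_normalizer hx hx1
  rw [card_cls] at h1
  have heven : 2 ∣ Nat.card (Subgroup.normalizer (S : Set G)) := by
    rcases card_cls_cases h hx hx1 hz hz1 hxz with h2 | h2 <;> rw [h1, h2] <;> norm_num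
  have : Fact (Nat.Prime 2) := ⟨Nat.prime_two⟩
  obtain ⟨τ, hτ⟩ := exists_prime_orderOf_dvd_card' 2 heven
  have hτ2 : (τ : G) * (τ : G) = 1 := by
    have : τ ^ 2 = 1 := by rw [← hτ]; exact pow_orderOf_eq_one τ
    have h3 := congrArg Subtype.val this
    simpa [pow_two] using h3
  have hτ1 : (τ : G) ≠ 1 := by
    intro h3
    have : τ = 1 := Subtype.ext h3
    rw [this, orderOf_one] at hτ
    omega
  have hτS : (τ : G) ∉ S := by
    intro h3
    have h4 := h.exp _ h3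
    apply hτ1
    calc (τ : G) = (τ : G) ^ 3 * ((τ : G) * (τ : G))⁻¹ := by
          simp only [pow_succ, pow_zero, one_mul]; group
      _ = 1 := by rw [h4, hτ2]; simp
  have hτinv : (τ : G)⁻¹ = (τ : G) := inv_eq_of_mul_eq_one_right hτ2
  refine ⟨τ, τ.2, ?_⟩
  intro s hs
  have hts : (τ : G) * s * (τ : G)⁻¹ ∈ S := normalizer_conj_mem τ.2 hs
  set w := s * ((τ : G) * s * (τ : G)⁻¹) with hw
  have hwS : w ∈ S := S.mul_mem hs hts
  have hcomm : (τ : G) * w = w * (τ : G) := by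
    have h5 : (τ : G) * w * (τ : G)⁻¹ = w := by
      calc (τ : G) * w * (τ : G)⁻¹
          = ((τ : G) * s * (τ : G)⁻¹) * (((τ : G) * (τ : G)) * s * ((τ : G)⁻¹ * (τ : G)⁻¹)) := by
            rw [hw]; group
        _ = ((τ : G) * s * (τ : G)⁻¹) * s := by
            rw [hτ2, hτinv, hτ2]; group
        _ = w := by rw [hw]; exact h.comm _ hts _ hs
    calc (τ : G) * w = ((τ : G) * w * (τ : G)⁻¹) * (τ : G) := by group
      _ = w * (τ : G) := by rw [h5]
  have hw1 : w = 1 := by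
    by_contra hne
    exact hτS ((h.mem_iff hwS hne _).mpr hcomm)
  exact (eq_inv_of_mul_eq_one_right hw1)

theorem real (h : Hyp P S) {x z : G} (hx : x ∈ S) (hx1 : x ≠ 1) (hz : z ∈ S)
    (hz1 : z ≠ 1) (hxz : ¬ IsConj x z) : ∀ s ∈ S, IsConj s s⁻¹ := by
  obtain ⟨τ, _, hτ⟩ := exists_invert h hx hx1 hz hz1 hxz
  intro s hs
  exact isConj_iff.mpr ⟨τ, hτ s hs⟩

omit [IsSimpleGroup G] in
/-- all solutions of `a b = z` with `a`, `b` conjugate to `x` lie in `S` -/
theorem card_pairs (h : Hyp P S) {x z : G} (hx : x ∈ S) (hx1 : x ≠ 1) (hz : z ∈ S)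
    (hz1 : z ≠ 1) (hxz : ¬ IsConj x z) (hreal : IsConj x x⁻¹) :
    Nat.card {p : G × G // IsConj x p.1 ∧ IsConj x p.2 ∧ p.1 * p.2 = z} =
      ({y | y ∈ cls S x ∧ y⁻¹ * z ∈ cls S x} : Set G).ncard := by
  rw [← Nat.card_coe_set_eq]
  have hx3 : orderOf x = 3 := h.order3 hx hx1
  have hz3 : z ^ 3 = 1 := h.exp z hz
  have key : ∀ p : G × G, IsConj x p.1 → IsConj x p.2 → p.1 * p.2 = z → p.1 ∈ S ∧ p.2 ∈ S := by
    intro p h1 h2 h3
    have ha : orderOf p.1 = 3 := by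
      obtain ⟨c, hc⟩ := h1
      rw [← hx3]; exact (SemiconjBy.orderOf_eq _ hc).symm
    have hb : orderOf p.2 = 3 := by
      obtain ⟨c, hc⟩ := h2
      rw [← hx3]; exact (SemiconjBy.orderOf_eq _ hc).symm
    have hb3 : p.2 ^ 3 = 1 := by rw [← hb]; exact pow_orderOf_eq_one _
    rcases h.tri ha hb3 (by rw [h3]; exact hz3) with h4 | h4
    · constructor
      · rw [h.mem_iff hz hz1, ← h3]
        calc p.1 * (p.1 * p.2) = p.1 * (p.2 * p.1) := by rw [h4]
          _ = p.1 * p.2 * p.1 := by group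
      · rw [h.mem_iff hz hz1, ← h3]
        calc p.2 * (p.1 * p.2) = (p.2 * p.1) * p.2 := by group
          _ = p.1 * p.2 * p.2 := by rw [← h4]
    · exfalso
      rw [h3] at h4
      apply hxz
      have h5 : IsConj x⁻¹ p.1⁻¹ := by
        obtain ⟨c, hc⟩ := isConj_iff.mp h1
        exact isConj_iff.mpr ⟨c, by rw [← hc]; group⟩
      exact (hreal.trans h5).trans h4
  let f : {p : G × G // IsConj x p.1 ∧ IsConj x p.2 ∧ p.1 * p.2 = z} →
      ({y | y ∈ cls S x ∧ y⁻¹ * z ∈ cls S x} : Set G) := fun p =>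
    ⟨p.1.1, by
      obtain ⟨h1, h2, h3⟩ := p.2
      obtain ⟨k1, k2⟩ := key p.1 h1 h2 h3
      have e : p.1.1⁻¹ * z = p.1.2 := (eq_inv_mul_of_mul_eq h3).symm
      refine ⟨⟨k1, h1⟩, ?_⟩
      rw [e]
      exact ⟨k2, h2⟩⟩
  have hf : Function.Bijective f := by
    constructor
    · rintro ⟨⟨a, b⟩, h1, h2, h3⟩ ⟨⟨a', b'⟩, h1', h2', h3'⟩ hpp
      have e1 : a = a' := congrArg Subtype.val hpp
      subst e1
      have e2 : b = b' := by
        have : a * b = a * b' := by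
          simp only at h3 h3'
          rw [h3, h3']
        exact mul_left_cancel this
      subst e2
      rfl
    · rintro ⟨y, hy1, hy2⟩
      exact ⟨⟨(y, y⁻¹ * z), hy1.2, hy2.2, by group⟩, rfl⟩
  exact Nat.card_eq_of_bijective f hf

section eval

omit [Finite G] [IsSimpleGroup G]

theorem ne_inv_of_cube {x : G} (hx3 : x ^ 3 = 1) (hx1 : x ≠ 1) : x ≠ x⁻¹ := by
  intro h1
  apply hx1
  have h2 : x * x = 1 := by
    calc x * x = x * x⁻¹ := by rw [← h1]
      _ = 1 := mul_inv_cancel x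
  have h3 := mul_mul_of_cube hx3
  rw [h2, one_mul] at h3
  exact h3

/-- the count in the case of classes of size two -/
theorem count_two (h : Hyp P S) {x z : G} (hx : x ∈ S) (hx1 : x ≠ 1)
    (hz1 : z ≠ 1) (hxz : ¬ IsConj x z) (hreal : IsConj x x⁻¹) (h2 : (cls S x).ncard = 2) :
    ({y | y ∈ cls S x ∧ y⁻¹ * z ∈ cls S x} : Set G).ncard = 0 := by
  have hx3 : x ^ 3 = 1 := h.exp x hx
  have hsub : ({x, x⁻¹} : Set G) ⊆ cls S x := by
    intro u hu
    rcases hu with rfl | rfl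
    · exact self_mem_cls hx
    · exact ⟨S.inv_mem hx, hreal⟩
  have hfin : (cls S x).Finite := Set.finite_of_ncard_pos (by omega)
  have heq : ({x, x⁻¹} : Set G) = cls S x := by
    apply Set.eq_of_subset_of_ncard_le hsub _ hfin
    rw [h2, Set.ncard_pair (ne_inv_of_cube hx3 hx1)]
  have hii := inv_mul_inv_of_cube hx3
  have hxx := (inv_sq_of_cube hx3).symm
  have : ({y | y ∈ cls S x ∧ y⁻¹ * z ∈ cls S x} : Set G) = ∅ := by
    rw [Set.eq_empty_iff_forall_notMem]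
    rintro y ⟨hy1, hy2⟩
    rw [← heq] at hy1 hy2
    simp only [Set.mem_insert_iff, Set.mem_singleton_iff] at hy1 hy2
    rcases hy1 with rfl | rfl <;> rcases hy2 with hy2 | hy2
    · have : z = y⁻¹ := by
        calc z = y * (y⁻¹ * z) := by group
          _ = y * y := by rw [hy2]
          _ = y⁻¹ := hxx
      exact hxz (this ▸ hreal)
    · apply hz1
      exact mul_left_cancel (a := y⁻¹) (by rw [hy2, mul_one])
    · rw [inv_inv] at hy2
      apply hz1
      exact mul_left_cancel (a := x) (by rw [hy2, mul_one])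
    · rw [inv_inv] at hy2
      have : z = x := by
        calc z = x⁻¹ * (x * z) := by group
          _ = x⁻¹ * x⁻¹ := by rw [hy2]
          _ = x := hii
      exact hxz (this ▸ IsConj.refl x)
  rw [this, Set.ncard_empty]

theorem key0 {u v : G} (hu3 : u ^ 3 = 1) (hv3 : v ^ 3 = 1) (hu1 : u ≠ 1) (hv1 : v ≠ 1)
    (hvu : v ≠ u) : u * v ≠ u ∧ u * v ≠ u⁻¹ ∧ u * v ≠ v ∧ u * v ≠ v⁻¹ := by
  refine ⟨fun h1 => ?_, fun h1 => ?_, fun h1 => ?_, fun h1 => ?_⟩
  · exact hv1 (mul_left_cancel (a := u) (h1.trans (mul_one u).symm))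
  · apply hvu
    rw [eq_inv_mul_of_mul_eq h1, inv_mul_inv_of_cube hu3]
  · exact hu1 (mul_right_cancel (b := v) (h1.trans (one_mul v).symm))
  · apply hvu
    rw [eq_mul_inv_of_mul_eq h1, inv_mul_inv_of_cube hv3]

/-- the count in the case of classes of size four -/
theorem count_four (h : Hyp P S) {x y0 : G} (hx : x ∈ S) (hx1 : x ≠ 1)
    (hreal : ∀ s ∈ S, IsConj s s⁻¹) (h4 : (cls S x).ncard = 4) (hy0 : y0 ∈ cls S x)
    (hy0x : y0 ≠ x) (hy0x' : y0 ≠ x⁻¹) :
    x * y0 ∈ S ∧ x * y0 ≠ 1 ∧ ¬ IsConj x (x * y0) ∧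
      ({y | y ∈ cls S x ∧ y⁻¹ * (x * y0) ∈ cls S x} : Set G).ncard = 2 := by
  have hx3 : x ^ 3 = 1 := h.exp x hx
  have hyS : y0 ∈ S := hy0.1
  have hy3 : y0 ^ 3 = 1 := h.exp y0 hyS
  have hxi3 : x⁻¹ ^ 3 = 1 := h.exp _ (S.inv_mem hx)
  have hyi3 : y0⁻¹ ^ 3 = 1 := h.exp _ (S.inv_mem hyS)
  have hy1 : y0 ≠ 1 := by
    rintro rfl
    exact hx1 (isConj_one_left.mp hy0.2)
  have hxi1 : x⁻¹ ≠ 1 := fun h1 => hx1 (inv_eq_one.mp h1)
  have hyi1 : y0⁻¹ ≠ 1 := fun h1 => hy1 (inv_eq_one.mp h1)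
  have hxy : x * y0 = y0 * x := h.comm x hx y0 hyS
  have hxx := (inv_sq_of_cube hx3).symm
  have hyy := (inv_sq_of_cube hy3).symm
  have hsub : ({x, x⁻¹, y0, y0⁻¹} : Set G) ⊆ cls S x := by
    intro u hu
    rcases hu with rfl | rfl | rfl | rfl
    · exact self_mem_cls hx
    · exact ⟨S.inv_mem hx, hreal _ hx⟩
    · exact hy0
    · exact ⟨S.inv_mem hyS, hy0.2.trans (hreal _ hyS)⟩
  have hfin : (cls S x).Finite := Set.finite_of_ncard_pos (by omega)
  have hne1 : x ≠ x⁻¹ := ne_inv_of_cube hx3 hx1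
  have hne2 : y0 ≠ y0⁻¹ := ne_inv_of_cube hy3 hy1
  have hne3 : y0⁻¹ ≠ x := by
    intro h1; apply hy0x'; rw [← h1, inv_inv]
  have hne4 : y0⁻¹ ≠ x⁻¹ := by
    intro h1; exact hy0x (inv_injective h1)
  have hcard : ({x, x⁻¹, y0, y0⁻¹} : Set G).ncard = 4 := by
    rw [Set.ncard_insert_of_notMem, Set.ncard_insert_of_notMem, Set.ncard_pair hne2]
    · simp only [Set.mem_insert_iff, Set.mem_singleton_iff, not_or]
      exact ⟨fun h1 => hy0x' h1.symm, fun h1 => hne4 h1.symm⟩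
    · simp only [Set.mem_insert_iff, Set.mem_singleton_iff, not_or]
      exact ⟨hne1, fun h1 => hy0x h1.symm, fun h1 => hne3 h1.symm⟩
  have heq : ({x, x⁻¹, y0, y0⁻¹} : Set G) = cls S x := by
    apply Set.eq_of_subset_of_ncard_le hsub _ hfin
    rw [h4, hcard]
  -- products of an element of `⟨x⟩` and one of `⟨y0⟩` are not in the class
  have key : ∀ u v : G, (u = x ∨ u = x⁻¹) → (v = y0 ∨ v = y0⁻¹) → u * v ∉ cls S x := by
    intro u v hu hv huv
    rw [← heq] at huv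
    simp only [Set.mem_insert_iff, Set.mem_singleton_iff] at huv
    rcases hu with rfl | rfl <;> rcases hv with rfl | rfl
    · obtain ⟨a, b, c, d⟩ := key0 hx3 hy3 hx1 hy1 hy0x
      rcases huv with h1 | h1 | h1 | h1
      exacts [a h1, b h1, c h1, d h1]
    · obtain ⟨a, b, c, d⟩ := key0 hx3 hyi3 hx1 hyi1 hne3
      rw [inv_inv] at d
      rcases huv with h1 | h1 | h1 | h1
      exacts [a h1, b h1, d h1, c h1]
    · obtain ⟨a, b, c, d⟩ := key0 hxi3 hy3 hxi1 hy1 hy0x'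
      rw [inv_inv] at b
      rcases huv with h1 | h1 | h1 | h1
      exacts [b h1, a h1, c h1, d h1]
    · obtain ⟨a, b, c, d⟩ := key0 hxi3 hyi3 hxi1 hyi1 hne4
      rw [inv_inv] at b d
      rcases huv with h1 | h1 | h1 | h1
      exacts [b h1, a h1, d h1, c h1]
  have hzS : x * y0 ∈ S := S.mul_mem hx hyS
  have hz1 : x * y0 ≠ 1 := by
    intro h1
    apply hy0x'
    exact (eq_inv_of_mul_eq_one_right h1)
  have hzn : ¬ IsConj x (x * y0) := fun hc =>
    key x y0 (Or.inl rfl) (Or.inl rfl) ⟨hzS, hc⟩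
  refine ⟨hzS, hz1, hzn, ?_⟩
  have hset : ({y | y ∈ cls S x ∧ y⁻¹ * (x * y0) ∈ cls S x} : Set G) = {x, y0} := by
    ext y
    simp only [Set.mem_ofPred_eq, Set.mem_insert_iff, Set.mem_singleton_iff]
    constructor
    · rintro ⟨hy1', hy2'⟩
      rw [← heq] at hy1'
      simp only [Set.mem_insert_iff, Set.mem_singleton_iff] at hy1'
      rcases hy1' with rfl | rfl | rfl | rfl
      · left; rfl
      · exfalso
        have e : x⁻¹⁻¹ * (x * y0) = x⁻¹ * y0 := by
          rw [inv_inv, ← mul_assoc, hxx]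
        rw [e] at hy2'
        exact key x⁻¹ y0 (Or.inr rfl) (Or.inl rfl) hy2'
      · right; rfl
      · exfalso
        have e : y0⁻¹⁻¹ * (x * y0) = x * y0⁻¹ := by
          rw [inv_inv, hxy, ← mul_assoc, hyy, h.comm _ (S.inv_mem hyS) _ hx]
        rw [e] at hy2'
        exact key x y0⁻¹ (Or.inl rfl) (Or.inr rfl) hy2'
    · rintro (rfl | rfl)
      · refine ⟨self_mem_cls hx, ?_⟩
        have e : y⁻¹ * (y * y0) = y0 := by group
        rw [e]; exact hy0
      · refine ⟨hy0, ?_⟩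
        have e : y⁻¹ * (x * y) = x := by rw [hxy]; group
        rw [e]; exact self_mem_cls hx
  rw [hset, Set.ncard_pair (fun h1 => hy0x h1.symm)]

end eval

/-- the group-theoretic part of the recognition theorem -/
theorem main_group (h : Hyp P S)
    (hcl : ∃ a b : G, orderOf a = 3 ∧ orderOf b = 3 ∧ ∀ g : G, g * a * g⁻¹ ≠ b) :
    ∃ x z : G, x ∈ S ∧ z ∈ S ∧ x ≠ 1 ∧ z ≠ 1 ∧ ¬ IsConj x z ∧ IsConj x x⁻¹ ∧ IsConj z z⁻¹ ∧
      (Nat.card {p : G × G // IsConj x p.1 ∧ IsConj x p.2 ∧ p.1 * p.2 = z} = 0 ∨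
        (Nat.card {p : G × G // IsConj x p.1 ∧ IsConj x p.2 ∧ p.1 * p.2 = z} = 2 ∧
          Nat.card (Subgroup.normalizer (S : Set G)) = 36 ∧
          (cls S x).ncard = 4 ∧ (cls S z).ncard = 4 ∧
          ∀ s ∈ S, s ≠ 1 → IsConj x s ∨ IsConj z s)) := by
  obtain ⟨a, b, ha, hb, hab⟩ := hcl
  have ha3 : a ^ 3 = 1 := by rw [← ha]; exact pow_orderOf_eq_one a
  have hb3 : b ^ 3 = 1 := by rw [← hb]; exact pow_orderOf_eq_one b
  have ha1 : a ≠ 1 := by
    intro h1; rw [h1, orderOf_one] at ha; omega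
  have hb1 : b ≠ 1 := by
    intro h1; rw [h1, orderOf_one] at hb; omega
  obtain ⟨g₁, hg₁⟩ := h.exists_conj_mem ha3
  obtain ⟨g₂, hg₂⟩ := h.exists_conj_mem hb3
  set x := g₁ * a * g₁⁻¹ with hxdef
  set z0 := g₂ * b * g₂⁻¹ with hzdef
  have hx1 : x ≠ 1 := conj_ne_one ha1
  have hz01 : z0 ≠ 1 := conj_ne_one hb1
  have hxz0 : ¬ IsConj x z0 := by
    intro hc
    have h1 : IsConj a x := isConj_iff.mpr ⟨g₁, rfl⟩
    have h2 : IsConj b z0 := isConj_iff.mpr ⟨g₂, rfl⟩
    obtain ⟨c, hc⟩ := isConj_iff.mp ((h1.trans hc).trans h2.symm)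
    exact hab c hc
  have hreal := real h hg₁ hx1 hg₂ hz01 hxz0
  rcases card_cls_cases h hg₁ hx1 hg₂ hz01 hxz0 with h2 | h4
  · refine ⟨x, z0, hg₁, hg₂, hx1, hz01, hxz0, hreal x hg₁, hreal z0 hg₂, Or.inl ?_⟩
    rw [card_pairs h hg₁ hx1 hg₂ hz01 hxz0 (hreal x hg₁)]
    exact count_two h hg₁ hx1 hz01 hxz0 (hreal x hg₁) h2
  · have hx3 : x ^ 3 = 1 := h.exp x hg₁
    have hlt : ({x, x⁻¹} : Set G).ncard < (cls S x).ncard := by
      rw [h4, Set.ncard_pair (ne_inv_of_cube hx3 hx1)]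
      norm_num
    obtain ⟨y0, hy0, hy0n⟩ := Set.exists_mem_notMem_of_ncard_lt_ncard hlt
    simp only [Set.mem_insert_iff, Set.mem_singleton_iff, not_or] at hy0n
    obtain ⟨hzS, hz1, hzn, hcount⟩ := count_four h hg₁ hx1 hreal h4 hy0 hy0n.1 hy0n.2
    have h4z : (cls S (x * y0)).ncard = 4 := by
      rw [← card_cls_eq h hg₁ hx1 hzS hz1, h4]
    refine ⟨x, x * y0, hg₁, hzS, hx1, hz1, hzn, hreal x hg₁, hreal _ hzS, Or.inr ⟨?_, ?_, h4, h4z, ?_⟩⟩
    · rw [card_pairs h hg₁ hx1 hzS hz1 hzn (hreal x hg₁)]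
      exact hcount
    · rw [h.card_normalizer hg₁ hx1, card_cls, h4]
    · have hsub : cls S x ∪ cls S (x * y0) ⊆ ((S : Set G) \ {1}) :=
        Set.union_subset (cls_subset hx1) (cls_subset hz1)
      have hfin : ((S : Set G) \ {1}).Finite := Set.toFinite _
      have heq : cls S x ∪ cls S (x * y0) = ((S : Set G) \ {1}) := by
        apply Set.eq_of_subset_of_ncard_le hsub _ hfin
        rw [ncard_S_diff h, Set.ncard_union_eq (cls_disjoint hzn) (Set.toFinite _)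
          (Set.toFinite _), h4, h4z]
      intro s hs hs1
      have : s ∈ cls S x ∪ cls S (x * y0) := by
        rw [heq]; exact ⟨hs, hs1⟩
      rcases this with h5 | h5
      · exact Or.inl h5.2
      · exact Or.inr h5.2

end Cfsg.Agent.Lib.Helper19.Syl9C
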