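import Mathlib
import Cfsg.Agent.S0145
import Cfsg.Agent.S0840
import Cfsg.Agent.Lib.Helper25.CharOrth
import Cfsg.Agent.Lib.Helper25.CharLinear
import Cfsg.Agent.Lib.helper2.CharNat
import Cfsg.Agent.Lib.Helper11.TISylCong
import Cfsg.Agent.Lib.Helper19.Syl9C
import Cfsg.Agent.Lib.Helper19.Syl9Arith

set_option autoImplicit false

namespace Cfsg.Agent.Lib.Helper19.Syl9Char

open Cfsg.Agent.Lib.Helper19.Syl9B Cfsg.Agent.Lib.Helper19.Syl9C
  Cfsg.Agent.Lib.Helper25 Cfsg.Agent.Lib.helper2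
open scoped ComplexConjugate

variable {G : Type*} [Group G] [Finite G]

/-- the sum of an irreducible character over a subgroup is a natural multiple of its order -/
theorem avg_nat (χ : Cfsg.IrrCharacter G) (H : Subgroup G) [Fintype H] :
    ∃ m : ℕ, ∑ y : H, (χ : G → ℂ) y = (Nat.card H : ℂ) * m := by
  classical
  obtain ⟨m, hm⟩ := classInner_character_nat
    (isCharacter_restrict (isCharacter_of_irr χ) H) (isCharacter_of_irr (trivIrr H))
  refine ⟨m, ?_⟩
  unfold Cfsg.classInner at hm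
  simp only [trivIrr_apply, map_one, mul_one] at hm
  have hne : (Nat.card H : ℂ) ≠ 0 := by exact_mod_cast Nat.card_pos.ne'
  rw [← hm]
  field_simp

omit [Finite G] in
/-- a sum over a subgroup of a function constant off the identity -/
theorem sum_const_off_one (H : Subgroup G) [Fintype H] (F : G → ℂ) (c : ℂ)
    (hc : ∀ y ∈ H, y ≠ 1 → F y = c) :
    ∑ y : H, F y = F 1 + ((Nat.card H : ℂ) - 1) * c := by
  classical
  rw [← Finset.add_sum_erase Finset.univ _ (Finset.mem_univ (1 : H))]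
  congr 1
  have h4 : ∀ y ∈ Finset.univ.erase (1 : H), F (y : G) = c := by
    intro y hy
    have hy1 : y ≠ 1 := (Finset.mem_erase.mp hy).1
    exact hc _ y.2 (fun h => hy1 (Subtype.ext h))
  rw [Finset.sum_congr rfl h4, Finset.sum_const, Finset.card_erase_of_mem (Finset.mem_univ _),
    Finset.card_univ, nsmul_eq_mul, Nat.card_eq_fintype_card]
  have : 1 ≤ Fintype.card H := Fintype.card_pos
  push_cast [Nat.cast_sub this]
  ring

omit [Finite G] in
/-- elements of the cyclic group generated by an element of order three -/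
theorem mem_zpowers_order3 {x y : G} (hx : x ^ 3 = 1) (hy : y ∈ Subgroup.zpowers x) :
    y = 1 ∨ y = x ∨ y = x⁻¹ := by
  obtain ⟨k, rfl⟩ := Subgroup.mem_zpowers_iff.mp hy
  have h3 : (x ^ (3 : ℤ)) = 1 := by exact_mod_cast hx
  have hk : x ^ k = x ^ (k % 3) := by
    conv_lhs => rw [← Int.mul_ediv_add_emod k 3]
    rw [zpow_add, zpow_mul, h3, one_zpow, one_mul]
  rw [hk]
  have h0 : 0 ≤ k % 3 := Int.emod_nonneg k (by norm_num)
  have h1 : k % 3 < 3 := Int.emod_lt_of_pos k (by norm_num)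
  rcases (by omega : k % 3 = 0 ∨ k % 3 = 1 ∨ k % 3 = 2) with h | h | h
  · left; rw [h, zpow_zero]
  · right; left; rw [h, zpow_one]
  · right; right
    rw [h]
    have : x ^ (2 : ℤ) * x = 1 := by
      have : x ^ (2 : ℤ) * x = x ^ (3 : ℤ) := by
        rw [show (3 : ℤ) = 2 + 1 by norm_num, zpow_add, zpow_one]
      rw [this, h3]
    exact eq_inv_of_mul_eq_one_left this

/-- the value of an irreducible character at a real element of order three is an integer
congruent to the degree modulo three -/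
theorem value_order3 (χ : Cfsg.IrrCharacter G) {x : G} (hx : orderOf x = 3)
    (hreal : IsConj x x⁻¹) :
    ∃ a d : ℤ, (χ : G → ℂ) x = a ∧ (χ : G → ℂ) 1 = d ∧ 1 ≤ d ∧ (3 : ℤ) ∣ d - a := by
  classical
  let _ : Fintype (Subgroup.zpowers x) := Fintype.ofFinite _
  have hx3 : x ^ 3 = 1 := by rw [← hx]; exact pow_orderOf_eq_one x
  have hx1 : x ≠ 1 := by
    intro h1; rw [h1, orderOf_one] at hx; omega
  have hconst : ∀ y ∈ Subgroup.zpowers x, y ≠ 1 → (χ : G → ℂ) y = (χ : G → ℂ) x := by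
    intro y hy hy1
    rcases mem_zpowers_order3 hx3 hy with h | h | h
    · exact absurd h hy1
    · rw [h]
    · rw [h]; exact (irr_isConj_eq χ hreal).symm
  obtain ⟨a, ha⟩ := Cfsg.Agent.Lib.Helper11.TISylCong.value_int (isCharacter_of_irr χ)
    (Subgroup.zpowers x)
    (fun z hz z' hz' hz1 hz'1 => (hconst z hz hz1).trans (hconst z' hz' hz'1).symm)
    (Subgroup.mem_zpowers x) hx1
  obtain ⟨n, hn, hd⟩ := irr_one_eq_finrank χ
  obtain ⟨m, hm⟩ := avg_nat χ (Subgroup.zpowers x)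
  rw [sum_const_off_one (Subgroup.zpowers x) (χ : G → ℂ) _ hconst, Nat.card_zpowers, hx, ha,
    hd] at hm
  refine ⟨a, (n : ℤ), ha, by rw [hd]; push_cast; rfl, by exact_mod_cast hn, ?_⟩
  refine ⟨(m : ℤ) - a, ?_⟩
  have h3 : (((n : ℤ) - a : ℤ) : ℂ) = ((3 * ((m : ℤ) - a) : ℤ) : ℂ) := by
    push_cast
    push_cast at hm
    linear_combination hm
  exact_mod_cast h3


section main

variable {P : Sylow 3 G} {S : Subgroup G}

omit [Finite G] in
/-- the sum of a character over `S` when `S^#` is the union of two classes of size four -/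
theorem sum_S [Fintype S] {x z : G} (hx1 : x ≠ 1) (hz1 : z ≠ 1)
    (hxz : ¬ IsConj x z) (h4x : (cls S x).ncard = 4) (h4z : (cls S z).ncard = 4)
    (hall : ∀ s ∈ S, s ≠ 1 → IsConj x s ∨ IsConj z s) (χ : Cfsg.IrrCharacter G) :
    ∑ s : S, (χ : G → ℂ) s = (χ : G → ℂ) 1 + 4 * (χ : G → ℂ) x + 4 * (χ : G → ℂ) z := by
  classical
  have key : ∀ s : S, (χ : G → ℂ) s = (if (s : G) = 1 then (χ : G → ℂ) 1 else 0)
      + (if IsConj x (s : G) then (χ : G → ℂ) x else 0)
      + (if IsConj z (s : G) then (χ : G → ℂ) z else 0) := by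
    intro s
    by_cases hs1 : (s : G) = 1
    · have h1 : ¬ IsConj x (s : G) := by
        rw [hs1]; intro hc; exact hx1 (isConj_one_left.mp hc)
      have h2 : ¬ IsConj z (s : G) := by
        rw [hs1]; intro hc; exact hz1 (isConj_one_left.mp hc)
      rw [if_pos hs1, if_neg h1, if_neg h2, hs1, add_zero, add_zero]
    · rcases hall s s.2 hs1 with hc | hc
      · have h2 : ¬ IsConj z (s : G) := fun hc2 => hxz (hc.trans hc2.symm)
        rw [if_neg hs1, if_pos hc, if_neg h2, zero_add, add_zero]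
        exact (irr_isConj_eq χ hc).symm
      · have h2 : ¬ IsConj x (s : G) := fun hc2 => hxz (hc2.trans hc.symm)
        rw [if_neg hs1, if_neg h2, if_pos hc, zero_add, zero_add]
        exact (irr_isConj_eq χ hc).symm
  have c1 : (Finset.univ.filter (fun s : S => (s : G) = 1)).card = 1 := by
    have : Finset.univ.filter (fun s : S => (s : G) = 1) = {1} := by
      ext s
      rw [Finset.mem_filter, Finset.mem_singleton]
      constructor
      · intro hs; exact Subtype.ext hs.2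
      · intro hs; exact ⟨Finset.mem_univ _, by rw [hs]; rfl⟩
    rw [this, Finset.card_singleton]
  have c2 : (Finset.univ.filter (fun s : S => IsConj x (s : G))).card = 4 := by
    rw [← Fintype.card_subtype, ← Nat.card_eq_fintype_card,
      Nat.card_congr (Equiv.subtypeSubtypeEquivSubtypeInter (fun y => y ∈ S) (fun y => IsConj x y)),
      card_cls, h4x]
  have c3 : (Finset.univ.filter (fun s : S => IsConj z (s : G))).card = 4 := by
    rw [← Fintype.card_subtype, ← Nat.card_eq_fintype_card,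
      Nat.card_congr (Equiv.subtypeSubtypeEquivSubtypeInter (fun y => y ∈ S) (fun y => IsConj z y)),
      card_cls, h4z]
  rw [Finset.sum_congr rfl (fun s _ => key s), Finset.sum_add_distrib, Finset.sum_add_distrib,
    Finset.sum_ite, Finset.sum_ite, Finset.sum_ite]
  simp only [Finset.sum_const, nsmul_eq_mul, c1, c2, c3]
  push_cast
  ring


/-- the two columns of the character table at non-conjugate real elements of `S`, with the
orthogonality relations and the class multiplication constant -/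
theorem columns [Fintype (Cfsg.IrrCharacter G)] (h : Hyp P S) {x z : G} (hx : x ∈ S) (hz : z ∈ S)
    (hx1 : x ≠ 1) (hz1 : z ≠ 1) (hxz : ¬ IsConj x z) (hrx : IsConj x x⁻¹) (hrz : IsConj z z⁻¹) :
    ∃ α β D : Cfsg.IrrCharacter G → ℤ,
      (∀ χ : Cfsg.IrrCharacter G, (χ : G → ℂ) x = α χ) ∧
      (∀ χ : Cfsg.IrrCharacter G, (χ : G → ℂ) z = β χ) ∧
      (∀ χ : Cfsg.IrrCharacter G, (χ : G → ℂ) 1 = D χ) ∧
      (∀ χ, 1 ≤ D χ) ∧ (∀ χ, (3 : ℤ) ∣ D χ - α χ) ∧ (∀ χ, (3 : ℤ) ∣ D χ - β χ) ∧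
      α (trivIrr G) = 1 ∧ β (trivIrr G) = 1 ∧ D (trivIrr G) = 1 ∧
      ∑ χ, α χ * α χ = 9 ∧ ∑ χ, β χ * β χ = 9 ∧ ∑ χ, α χ * β χ = 0 ∧
      ∑ χ, D χ * α χ = 0 ∧ ∑ χ, D χ * β χ = 0 ∧
      (Nat.card {p : G × G // IsConj x p.1 ∧ IsConj x p.2 ∧ p.1 * p.2 = z} : ℚ) * 81 =
        (Nat.card G : ℚ) * ∑ χ, (α χ : ℚ) * α χ * β χ / D χ := by
  classical
  have hox : orderOf x = 3 := h.order3 hx hx1
  have hoz : orderOf z = 3 := h.order3 hz hz1
  choose α D hα hD hD1 hα3 using fun χ => value_order3 χ hox hrx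
  choose β D' hβ hD' hD1' hβ3' using fun χ => value_order3 χ hoz hrz
  have hDD : ∀ χ, D' χ = D χ := by
    intro χ
    have := (hD' χ).symm.trans (hD χ)
    exact_mod_cast this
  have hβ3 : ∀ χ, (3 : ℤ) ∣ D χ - β χ := fun χ => hDD χ ▸ hβ3' χ
  have hα0 : α (trivIrr G) = 1 := by
    have := hα (trivIrr G)
    rw [trivIrr_apply] at this
    exact_mod_cast this.symm
  have hβ0 : β (trivIrr G) = 1 := by
    have := hβ (trivIrr G)
    rw [trivIrr_apply] at this
    exact_mod_cast this.symm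
  have hD0 : D (trivIrr G) = 1 := by
    have := hD (trivIrr G)
    rw [trivIrr_apply] at this
    exact_mod_cast this.symm
  have hcx : Nat.card (Subgroup.centralizer ({x} : Set G)) = 9 := by
    rw [h.cent x hx hx1, h.card]
  have hcz : Nat.card (Subgroup.centralizer ({z} : Set G)) = 9 := by
    rw [h.cent z hz hz1, h.card]
  have hnc_1x : ¬ IsConj (1 : G) x := fun hc => hx1 (isConj_one_right.mp hc)
  have hnc_1z : ¬ IsConj (1 : G) z := fun hc => hz1 (isConj_one_right.mp hc)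
  have O1 : ∑ χ, α χ * α χ = 9 := by
    have h1 := (Cfsg.Agent.S0145.result x x).1 (IsConj.refl _)
    rw [finsum_eq_sum_of_fintype, hcx] at h1
    simp only [hα, map_intCast] at h1
    exact_mod_cast h1
  have O2 : ∑ χ, β χ * β χ = 9 := by
    have h1 := (Cfsg.Agent.S0145.result z z).1 (IsConj.refl _)
    rw [finsum_eq_sum_of_fintype, hcz] at h1
    simp only [hβ, map_intCast] at h1
    exact_mod_cast h1
  have O3 : ∑ χ, α χ * β χ = 0 := by
    have h1 := (Cfsg.Agent.S0145.result x z).2 hxz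
    rw [finsum_eq_sum_of_fintype] at h1
    simp only [hα, hβ, map_intCast] at h1
    exact_mod_cast h1
  have O4 : ∑ χ, D χ * α χ = 0 := by
    have h1 := (Cfsg.Agent.S0145.result (1 : G) x).2 hnc_1x
    rw [finsum_eq_sum_of_fintype] at h1
    simp only [hD, hα, map_intCast] at h1
    exact_mod_cast h1
  have O5 : ∑ χ, D χ * β χ = 0 := by
    have h1 := (Cfsg.Agent.S0145.result (1 : G) z).2 hnc_1z
    rw [finsum_eq_sum_of_fintype] at h1
    simp only [hD, hβ, map_intCast] at h1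
    exact_mod_cast h1
  refine ⟨α, β, D, hα, hβ, hD, hD1, hα3, hβ3, hα0, hβ0, hD0, O1, O2, O3, O4, O5, ?_⟩
  -- the class multiplication constant
  have hcl := card_conj_mul_card_centralizer x
  rw [hcx] at hcl
  set cl := Nat.card {y : G // IsConj x y} with hcldef
  have hclpos : 0 < cl := by
    by_contra h0
    have : cl = 0 := by omega
    rw [this, zero_mul] at hcl
    exact (Nat.card_pos (α := G)).ne' hcl.symm
  have hclC : (cl : ℂ) ≠ 0 := by exact_mod_cast hclpos.ne'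
  have hNC : (Nat.card G : ℂ) = (cl : ℂ) * 9 := by exact_mod_cast hcl.symm
  have h1 := Cfsg.Agent.S0840.result x x z
  rw [finsum_eq_sum_of_fintype, ← hcldef, hNC] at h1
  simp only [hα, hβ, hD, map_intCast] at h1
  have h3 : (cl : ℂ) * cl / (cl * 9) = cl / 9 := by field_simp
  rw [h3] at h1
  have h4 : (((Nat.card {p : G × G // IsConj x p.1 ∧ IsConj x p.2 ∧ p.1 * p.2 = z} : ℚ) * 81 : ℚ) : ℂ)
      = (((Nat.card G : ℚ) * ∑ χ, (α χ : ℚ) * α χ * β χ / D χ : ℚ) : ℂ) := by
    push_cast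
    rw [hNC, h1]
    ring
  exact_mod_cast h4


/-- the case of classes of size two in `S` is impossible -/
theorem case_two (h : Hyp P S) {x z : G} (hx : x ∈ S) (hz : z ∈ S)
    (hx1 : x ≠ 1) (hz1 : z ≠ 1) (hxz : ¬ IsConj x z) (hrx : IsConj x x⁻¹) (hrz : IsConj z z⁻¹)
    (hperf : commutator G = ⊤)
    (hcount : Nat.card {p : G × G // IsConj x p.1 ∧ IsConj x p.2 ∧ p.1 * p.2 = z} = 0) :
    False := by
  classical
  letI : Fintype (Cfsg.IrrCharacter G) := Fintype.ofFinite _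
  obtain ⟨α, β, D, hα, hβ, hD, hD1, hα3, hβ3, hα0, hβ0, hD0, O1, O2, O3, O4, O5, C⟩ :=
    columns h hx hz hx1 hz1 hxz hrx hrz
  have hd2 : ∀ χ, χ ≠ trivIrr G → 2 ≤ D χ := by
    intro χ hχ
    by_contra hlt
    have h1 : D χ = 1 := by have := hD1 χ; omega
    apply hχ
    have h2 : (χ : G → ℂ) 1 = 1 := by rw [hD χ, h1]; norm_num
    apply Subtype.ext
    funext g
    rw [trivIrr_apply]
    exact irr_linear_commutator χ h2 (by rw [hperf]; trivial)
  rw [hcount] at C
  have hg : (Nat.card G : ℚ) ≠ 0 := by exact_mod_cast Nat.card_pos.ne'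
  have C' : ∑ χ, (α χ : ℚ) * α χ * β χ / D χ = 0 := by
    have : (Nat.card G : ℚ) * ∑ χ, (α χ : ℚ) * α χ * β χ / D χ = 0 := by
      rw [← C]; norm_num
    rcases mul_eq_zero.mp this with h0 | h0
    · exact absurd h0 hg
    · exact h0
  exact Cfsg.Agent.Lib.Helper19.Syl9Arith.arith_two (trivIrr G) α β D hα0 hβ0 hD0 hd2 hα3 hβ3
    O1 O2 O3 O4 O5 C'

/-- the case of classes of size four in `S` bounds the order of the group -/
theorem case_four (h : Hyp P S) {x z : G} (hx : x ∈ S) (hz : z ∈ S)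
    (hx1 : x ≠ 1) (hz1 : z ≠ 1) (hxz : ¬ IsConj x z) (hrx : IsConj x x⁻¹) (hrz : IsConj z z⁻¹)
    (hcount : Nat.card {p : G × G // IsConj x p.1 ∧ IsConj x p.2 ∧ p.1 * p.2 = z} = 2)
    (h4x : (cls S x).ncard = 4) (h4z : (cls S z).ncard = 4)
    (hall : ∀ s ∈ S, s ≠ 1 → IsConj x s ∨ IsConj z s) :
    Nat.card G ≤ 720 := by
  classical
  letI : Fintype (Cfsg.IrrCharacter G) := Fintype.ofFinite _
  letI : Fintype S := Fintype.ofFinite _
  obtain ⟨α, β, D, hα, hβ, hD, hD1, hα3, hβ3, hα0, hβ0, hD0, O1, O2, O3, O4, O5, C⟩ :=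
    columns h hx hz hx1 hz1 hxz hrx hrz
  have h9 : ∀ χ, ∃ m : ℤ, 0 ≤ m ∧ D χ + 4 * α χ + 4 * β χ = 9 * m := by
    intro χ
    obtain ⟨m, hm⟩ := avg_nat χ S
    rw [sum_S hx1 hz1 hxz h4x h4z hall χ, h.card, hα, hβ, hD] at hm
    exact ⟨m, Int.natCast_nonneg m, by exact_mod_cast hm⟩
  have h3 : ∀ χ, (3 : ℤ) ∣ α χ - β χ := by
    intro χ
    have h1 := hα3 χ
    have h2 := hβ3 χ
    omega
  rw [hcount] at C
  have C' : ((Nat.card G : ℤ) : ℚ) * ∑ χ, (α χ : ℚ) * α χ * β χ / D χ = 162 := by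
    push_cast
    rw [← C]; norm_num
  have := Cfsg.Agent.Lib.Helper19.Syl9Arith.arith_four (trivIrr G) α β D (Nat.card G : ℤ)
    hα0 hβ0 hD0 hD1 h3 h9 O1 O2 O3 O4 O5 C'
  exact_mod_cast this

end main

end Cfsg.Agent.Lib.Helper19.Syl9Char
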