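import Mathlib
import Cfsg.Prelude.Def_CaseTheorems
import Cfsg.Agent.Lib.Helper9.Rank

set_option autoImplicit false

/-!
# Lifting Sylow intersections through a quotient by a normal `p'`-subgroup
-/

namespace Cfsg.Agent.Lib.Helper19.SylowLift

open Cfsg.Agent.Lib.Helper9

variable {G : Type*} [Group G] [Finite G] {p : ℕ} [Fact p.Prime]

/-- a `p`-subgroup whose image lies in the image of a Sylow subgroup `T₀` lies in a conjugate of
`T₀` by an element of the kernel -/
theorem exists_conj_le (N : Subgroup G) [N.Normal] (T₀ : Sylow p G) (W : Subgroup G)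
    (hW : IsPGroup p W)
    (hWT : W.map (QuotientGroup.mk' N) ≤ (T₀ : Subgroup G).map (QuotientGroup.mk' N)) :
    ∃ n ∈ N, W ≤ ((n • T₀ : Sylow p G) : Subgroup G) := by
  set π := QuotientGroup.mk' N with hπ
  set M : Subgroup G := ((T₀ : Subgroup G).map π).comap π with hM
  have hT₀M : (T₀ : Subgroup G) ≤ M := Subgroup.le_comap_map π _
  have hWM : W ≤ M := Subgroup.map_le_iff_le_comap.mp hWT
  have hW' : IsPGroup p ↥(W.subgroupOf M) :=
    hW.of_equiv (Subgroup.subgroupOfEquivOfLe hWM).symm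
  obtain ⟨Q, hQ⟩ := hW'.exists_le_sylow
  obtain ⟨m, hm⟩ := MulAction.exists_smul_eq ↥M (T₀.subtype hT₀M) Q
  rw [Sylow.smul_subtype] at hm
  have hWm : W ≤ ((m • T₀ : Sylow p G) : Subgroup G) := by
    intro w hw
    have h1 : (⟨w, hWM hw⟩ : ↥M) ∈ W.subgroupOf M := Subgroup.mem_subgroupOf.mpr hw
    have h2 := hQ h1
    rw [← hm] at h2
    have h3 : (⟨w, hWM hw⟩ : ↥M) ∈ ((m • T₀ : Sylow p G) : Subgroup G).subgroupOf M := by
      rw [← Sylow.coe_subtype]; exact h2
    exact Subgroup.mem_subgroupOf.mp h3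
  -- adjust `m`
  have hmM : π (m : G) ∈ (T₀ : Subgroup G).map π := m.2
  obtain ⟨t₀, ht₀, ht₀m⟩ := hmM
  refine ⟨(m : G) * t₀⁻¹, ?_, ?_⟩
  · have h1 : π ((m : G) * t₀⁻¹) = 1 := by
      rw [map_mul, map_inv, ht₀m, mul_inv_cancel]
    exact (QuotientGroup.eq_one_iff _).mp h1
  · have h2 : t₀ • T₀ = T₀ :=
      Sylow.smul_eq_iff_mem_normalizer.mpr (Subgroup.le_normalizer ht₀)
    have h3 : ((m : G) * t₀⁻¹) • T₀ = (m : G) • T₀ := by
      rw [mul_smul]
      congr 1
      rw [inv_smul_eq_iff, h2]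
    rw [h3]
    exact hWm

omit [Finite G] [Fact (Nat.Prime p)] in
/-- the image of a kernel-conjugate of a Sylow subgroup is the same -/
theorem map_smul_eq (N : Subgroup G) [N.Normal] (T₀ : Sylow p G) (n : G) (hn : n ∈ N) :
    ((n • T₀ : Sylow p G) : Subgroup G).map (QuotientGroup.mk' N) =
      (T₀ : Subgroup G).map (QuotientGroup.mk' N) := by
  have hπn : QuotientGroup.mk' N n = 1 := (QuotientGroup.eq_one_iff _).mpr hn
  ext x
  constructor
  · rintro ⟨y, hy, rfl⟩
    rw [SetLike.mem_coe, Sylow.coe_subgroup_smul, Subgroup.mem_pointwise_smul_iff_inv_smul_mem] at hy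
    refine ⟨_, hy, ?_⟩
    rw [MulAut.smul_def, MulAut.conj_inv_apply, map_mul, map_mul, map_inv, hπn]
    simp
  · rintro ⟨y, hy, rfl⟩
    refine ⟨n * y * n⁻¹, ?_, ?_⟩
    · rw [SetLike.mem_coe, Sylow.coe_subgroup_smul,
        Subgroup.mem_pointwise_smul_iff_inv_smul_mem, MulAut.smul_def, MulAut.conj_inv_apply]
      have : n⁻¹ * (n * y * n⁻¹) * n = y := by group
      rw [this]; exact hy
    · rw [map_mul, map_mul, map_inv, hπn]
      simp

/-- **Transfer of the rank condition on Sylow intersections to the quotient by a normal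
`p'`-subgroup.** -/
theorem rank_inter_quotient (N : Subgroup G) [N.Normal] (hN : (Nat.card N).Coprime p) (k : ℕ)
    (hI : ∀ S T : Sylow p G, S ≠ T → Cfsg.PRankLE p k ↥((S : Subgroup G) ⊓ (T : Subgroup G)))
    (S' T' : Sylow p (G ⧸ N)) (hST : S' ≠ T') :
    Cfsg.PRankLE p k ↥((S' : Subgroup (G ⧸ N)) ⊓ (T' : Subgroup (G ⧸ N))) := by
  set π := QuotientGroup.mk' N with hπ
  have hπs : Function.Surjective π := QuotientGroup.mk'_surjective N
  obtain ⟨S₀, hS₀⟩ := Sylow.mapSurjective_surjective hπs p S'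
  obtain ⟨T₀, hT₀⟩ := Sylow.mapSurjective_surjective hπs p T'
  have hS'map : (S' : Subgroup (G ⧸ N)) = (S₀ : Subgroup G).map π := by
    rw [← hS₀, Sylow.coe_mapSurjective]
  have hT'map : (T' : Subgroup (G ⧸ N)) = (T₀ : Subgroup G).map π := by
    rw [← hT₀, Sylow.coe_mapSurjective]
  set W : Subgroup G := (S₀ : Subgroup G) ⊓ (T' : Subgroup (G ⧸ N)).comap π with hW
  have hWS : W ≤ (S₀ : Subgroup G) := inf_le_left
  have hWp : IsPGroup p W := S₀.isPGroup'.to_le hWS
  have hWT : W.map π ≤ (T₀ : Subgroup G).map π := by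
    rw [← hT'map]
    rintro _ ⟨w, hw, rfl⟩
    exact hw.2
  obtain ⟨n, hn, hWn⟩ := exists_conj_le N T₀ W hWp hWT
  have hne : S₀ ≠ n • T₀ := by
    intro h
    apply hST
    apply Sylow.ext
    rw [hS'map, hT'map, h, map_smul_eq N T₀ n hn]
  have hrankW : Cfsg.PRankLE p k ↥W := pRankLE_of_le (le_inf hWS hWn) (hI S₀ (n • T₀) hne)
  have hinter : (S' : Subgroup (G ⧸ N)) ⊓ (T' : Subgroup (G ⧸ N)) = W.map π := by
    apply le_antisymm
    · rintro x ⟨hxS, hxT⟩
      rw [SetLike.mem_coe, hS'map] at hxS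
      obtain ⟨s, hs, rfl⟩ := hxS
      exact ⟨s, ⟨hs, hxT⟩, rfl⟩
    · rintro _ ⟨w, hw, rfl⟩
      refine ⟨?_, hw.2⟩
      rw [SetLike.mem_coe, hS'map]
      exact ⟨w, hw.1, rfl⟩
  set f : ↥W →* G ⧸ N := π.comp W.subtype with hf
  have hfinj : Function.Injective f := by
    rw [injective_iff_map_eq_one]
    intro w hw
    have h1 : (w : G) ∈ N := (QuotientGroup.eq_one_iff _).mp hw
    obtain ⟨j, hj⟩ := hWp w
    have h2 : orderOf (w : G) ∣ p ^ j := by
      apply orderOf_dvd_of_pow_eq_one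
      have := congrArg Subtype.val hj
      simpa using this
    have h3 : orderOf (w : G) ∣ Nat.card N := by
      have := orderOf_dvd_natCard (⟨(w : G), h1⟩ : ↥N)
      rwa [← Subgroup.orderOf_coe] at this
    have h4 : (orderOf (w : G)).Coprime (orderOf (w : G)) :=
      Nat.Coprime.coprime_dvd_left h3 (Nat.Coprime.coprime_dvd_right h2 (Nat.Coprime.pow_right j hN))
    have h5 : orderOf (w : G) = 1 := (Nat.coprime_self _).mp h4
    exact Subtype.ext (orderOf_eq_one_iff.mp h5)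
  have hmap : (⊤ : Subgroup ↥W).map f = W.map π := by
    ext x
    constructor
    · rintro ⟨w, -, rfl⟩
      exact ⟨w, w.2, rfl⟩
    · rintro ⟨w, hw, rfl⟩
      exact ⟨⟨w, hw⟩, Subgroup.mem_top _, rfl⟩
  rw [hinter, ← hmap]
  apply (pRankLE_map_iff f hfinj ⊤).mpr
  exact pRankLE_of_injective (Subgroup.topEquiv : ↥(⊤ : Subgroup ↥W) ≃* ↥W).toMonoidHom
    (Subgroup.topEquiv : ↥(⊤ : Subgroup ↥W) ≃* ↥W).injective hrankW

end Cfsg.Agent.Lib.Helper19.SylowLift
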