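import Mathlib
import Cfsg.Agent.Lib.helper17.T3.Defs
import Cfsg.Agent.Lib.Helper19.T3A.Defs
import Cfsg.Agent.Lib.Helper19.T3A.Comb
import Cfsg.Agent.Lib.Helper19.T3AB8core

/-!
# Project T3A (sub-designer helper19): the assembly rows B12 `bruhat` and K3 `inj_of_model`, `inj_of_model'` as CORES
on the statements of B11 (`InM_xs_mul`, `InM_xl_mul`), K1 (`ModelOK.nw_not_mem` at `Q.map π`), K0 (`map_nw`, `map_Bor`), K2 (`Bor_ker_trivial`).
-/

set_option autoImplicit false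

namespace Cfsg.Agent.Lib.helper17.T3

open Matrix Cfsg.Agent.Lib.helper15.St2 Cfsg.Agent.Lib.helper7.Ce Cfsg.Agent.Lib.Helper19.T3A

variable {F K : Type*} [Field F] [Field K] [Algebra F K]

namespace SysT

variable {C : Cub F K} {Γ : Type*} [Group Γ] (Q : SysT C Γ)

theorem t3ak3h19_xs_zero (k : ZMod 6) : Q.xs k 0 = 1 := by
  have h := Q.adds k 0 0
  rw [add_zero] at h
  exact mul_eq_left.mp h

theorem t3ak3h19_xl_zero (k : ZMod 6) : Q.xl k 0 = 1 := by
  have h := Q.addl k 0 0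
  rw [add_zero] at h
  exact mul_eq_left.mp h

theorem t3ak3h19_xs_neg (k : ZMod 6) (t : K) : Q.xs k (-t) = (Q.xs k t)⁻¹ := by
  apply eq_inv_of_mul_eq_one_left
  rw [Q.adds, neg_add_cancel, t3ak3h19_xs_zero]

theorem t3ak3h19_xl_neg (k : ZMod 6) (c : F) : Q.xl k (-c) = (Q.xl k c)⁻¹ := by
  apply eq_inv_of_mul_eq_one_left
  rw [Q.addl, neg_add_cancel, t3ak3h19_xl_zero]

/-- B12 core: hypotheses = the statements of B11. -/
theorem t3ak3h19_bruhat (hB11s : ∀ (k : ZMod 6) (t : K) (g : Γ), Q.InM g → Q.InM (Q.xs k t * g))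
    (hB11l : ∀ (k : ZMod 6) (c : F) (g : Γ), Q.InM g → Q.InM (Q.xl k c * g)) (hgen : Q.gen = ⊤) : ∀ g : Γ, Q.InM g := by
  intro g
  have hg : g ∈ Q.gen := by rw [hgen]; exact Subgroup.mem_top g
  unfold SysT.gen at hg
  induction hg using Subgroup.closure_induction_left with
  | one => exact Q.t3ab8h19_one
  | mul_left x hx y _ ih =>
    rcases hx with ⟨k, t, rfl⟩ | ⟨k, c, rfl⟩
    · exact hB11s k t y ih
    · exact hB11l k c y ih
  | inv_mul_cancel x hx y _ ih =>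
    rcases hx with ⟨k, t, rfl⟩ | ⟨k, c, rfl⟩
    · rw [← Q.t3ak3h19_xs_neg]
      exact hB11s k (-t) y ih
    · rw [← Q.t3ak3h19_xl_neg]
      exact hB11l k (-c) y ih

section K

variable {G : Type*} [Group G] (π : Γ →* G)

/-- K3 core: hypotheses = the conclusion of B12 and the statements of K1 (at `Q.map π`), K0 (`map_nw`, `map_Bor`), K2. -/
theorem t3ak3h19_core (hB12 : ∀ g : Γ, Q.InM g)
    (hK1 : ∀ (s : Bool) (n : ℕ), 1 ≤ n → n ≤ 6 → (Q.map π).nw (alt s n) ∉ (Q.map π).Bor)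
    (hK0n : ∀ w : List Bool, (Q.map π).nw w = π (Q.nw w))
    (hK0B : ∀ b : Γ, b ∈ Q.Bor → π b ∈ (Q.map π).Bor)
    (hK2 : ∀ g : Γ, g ∈ Q.Bor → π g = 1 → g = 1) : Function.Injective π := by
  rw [injective_iff_map_eq_one]
  intro g hg
  obtain ⟨s, n, hn, b, hb, b', hb', rfl⟩ := hB12 g
  have hn0 : n = 0 := by
    by_contra hne
    have h1 : 1 ≤ n := Nat.one_le_iff_ne_zero.mpr hne
    apply hK1 s n h1 hn
    rw [hK0n]
    rw [map_mul, map_mul] at hg
    have e : π (Q.nw (alt s n)) = (π b)⁻¹ * (π b')⁻¹ := by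
      have h2 : π (Q.nw (alt s n)) = (π b)⁻¹ * (π b * π (Q.nw (alt s n)) * π b') * (π b')⁻¹ := by group
      rw [h2, hg, mul_one]
    rw [e]
    exact Subgroup.mul_mem _ (Subgroup.inv_mem _ (hK0B b hb)) (Subgroup.inv_mem _ (hK0B b' hb'))
  subst hn0
  have e1 : Q.nw (alt s 0) = 1 := by
    rw [alt_zero]
    exact Q.t3ab8h19_nw_nil
  rw [e1, mul_one] at hg ⊢
  exact hK2 _ (Subgroup.mul_mem _ hb hb') hg

/-- two systems with the same root elements are equal -/
theorem t3ak3h19_ext (S S' : SysT C G) (hs : ∀ k t, S.xs k t = S'.xs k t) (hl : ∀ k c, S.xl k c = S'.xl k c) : S = S' := by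
  cases S
  cases S'
  simp only [SysT.mk.injEq]
  exact ⟨funext fun k => funext fun t => hs k t, funext fun k => funext fun c => hl k c⟩

/-- `Q.map π = S` as soon as `π` maps the root elements of `Q` to those of `S` -/
theorem t3ak3h19_map_eq (S : SysT C G) (hs : ∀ k t, π (Q.xs k t) = S.xs k t) (hl : ∀ k c, π (Q.xl k c) = S.xl k c) : Q.map π = S :=
  t3ak3h19_ext (Q.map π) S (fun k t => hs k t) (fun k c => hl k c)

end K

end SysT

end Cfsg.Agent.Lib.helper17.T3
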