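import Mathlib
import Cfsg.Agent.Lib.helper17.T3.Defs
import Cfsg.Agent.Lib.Helper19.T3A.Defs
import Cfsg.Agent.Lib.Helper19.T3A.Comb
import Cfsg.Agent.Lib.helper23.T3AB1
import Cfsg.Agent.Lib.Helper1.T3AU4
import Cfsg.Agent.Lib.Helper13.T3AT2
import Cfsg.Agent.Lib.Helper10.T3AT6
import Cfsg.Agent.Lib.Helper26.T3AD6
import Cfsg.Agent.Lib.Helper11.T3AK0
import Cfsg.Agent.Lib.Helper11.T3AK1core
import Cfsg.Agent.Lib.Helper11.T3AB11core
import Cfsg.Agent.Lib.helper14.T3AB9core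
import Cfsg.Agent.Lib.Helper20.T3AB2core
import Cfsg.Agent.Lib.Helper19.T3AB8
import Cfsg.Agent.Lib.Helper19.T3AK3core

/-!
# Project T3A (sub-designer helper19): rows B12 `bruhat` and K3 `inj_of_model`, `inj_of_model'`, VERBATIM.

The statements of the rows B9 `InM_nS_inv_mul`, B10 `InM_nw_mul`, B11 `InM_xs_mul` `InM_xl_mul`,
K1 `ModelOK.nw_not_mem`, K2 `Bor_ker_trivial` are proved here under my own names `t3ak3h19_*` from the
cores of their owners (helper14, helper20, helper11) at the landed rows, so that the main theorem does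
not wait for the wrappers; the verbatim names of those rows stay their owners'.
-/

set_option autoImplicit false

namespace Cfsg.Agent.Lib.helper17.T3

open Matrix Cfsg.Agent.Lib.helper15.St2 Cfsg.Agent.Lib.helper7.Ce Cfsg.Agent.Lib.Helper19.T3A

variable {F K : Type*} [Field F] [Field K] [Algebra F K]

namespace SysT

variable {C : Cub F K} {Γ : Type*} [Group Γ] (Q : SysT C Γ)

/-- the statement of B9 `InM_nS_inv_mul` (own name) -/
theorem t3ak3h19_InM_nS_inv_mul [Finite K] (s : Bool) {g : Γ} (hg : Q.InM g) : Q.InM ((Q.nS s)⁻¹ * g) :=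
  Q.t3ab9helper14_InM_nS_inv_mul_core s (Q.nS_sq_mem_Tor s) (fun hg => Q.InM_nS_mul s hg) hg

/-- the statement of B10 `InM_nw_mul` (own name) -/
theorem t3ak3h19_InM_nw_mul [Finite K] (w : List Bool) {g : Γ} (hg : Q.InM g) :
    Q.InM (Q.nw w * g) ∧ Q.InM ((Q.nw w)⁻¹ * g) :=
  Q.t3ab10h20_InM_nw_mul_core (fun s _ hg => Q.InM_nS_mul s hg)
    (fun s _ hg => Q.t3ak3h19_InM_nS_inv_mul s hg) w hg

/-- the statement of B11 `InM_xs_mul` (own name) -/
theorem t3ak3h19_InM_xs_mul [Finite K] (k : ZMod 6) (t : K) {g : Γ} (hg : Q.InM g) : Q.InM (Q.xs k t * g) :=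
  Q.t3ab11h11_core_s Q.isMon_nw (fun hb hg => Q.InM_Bor_mul hb hg)
    (fun w _ hg => Q.t3ak3h19_InM_nw_mul w hg) k t hg

/-- the statement of B11 `InM_xl_mul` (own name) -/
theorem t3ak3h19_InM_xl_mul [Finite K] (k : ZMod 6) (c : F) {g : Γ} (hg : Q.InM g) : Q.InM (Q.xl k c * g) :=
  Q.t3ab11h11_core_l Q.isMon_nw (fun hb hg => Q.InM_Bor_mul hb hg)
    (fun w _ hg => Q.t3ak3h19_InM_nw_mul w hg) k c hg

theorem bruhat [Finite K] (hgen : Q.gen = ⊤) : ∀ g : Γ, Q.InM g :=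
  Q.t3ak3h19_bruhat (fun k t _ hg => Q.t3ak3h19_InM_xs_mul k t hg)
    (fun k c _ hg => Q.t3ak3h19_InM_xl_mul k c hg) hgen

section K

variable {G : Type*} [Group G] (π : Γ →* G)

/-- the statement of K1 `ModelOK.nw_not_mem` (own name) -/
theorem t3ak3h19_nw_not_mem (hM : Q.ModelOK) (s : Bool) {n : ℕ} (h1 : 1 ≤ n) (h6 : n ≤ 6) :
    Q.nw (alt s n) ∉ Q.Bor :=
  Q.t3ak1h11_core Q.isMon_nw hM s h1 h6

/-- the statement of K2 `Bor_ker_trivial` (own name) -/
theorem t3ak3h19_Bor_ker_trivial [Finite K] (hM : (Q.map π).ModelOK) {g : Γ} (hg : g ∈ Q.Bor)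
    (h1 : π g = 1) : g = 1 :=
  Q.t3ak2h11_core π (fun g hg => (Q.mem_Bor_iff g).mp hg) (fun g hg => (Q.mem_Tor_iff g).mp hg)
    Q.U_normal_form hM hg h1

theorem inj_of_model [Finite K] (hgen : Q.gen = ⊤) (hM : (Q.map π).ModelOK) : Function.Injective π :=
  Q.t3ak3h19_core π (Q.bruhat hgen)
    (fun s _ h1 h6 => (Q.map π).t3ak3h19_nw_not_mem hM s h1 h6)
    (fun w => Q.map_nw π w) (fun _ hb => Q.map_Bor π hb)
    (fun _ hg h1 => Q.t3ak3h19_Bor_ker_trivial π hM hg h1)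

/-- the same with a given system `S` downstairs -/
theorem inj_of_model' [Finite K] (hgen : Q.gen = ⊤) (S : SysT C G) (hs : ∀ k t, π (Q.xs k t) = S.xs k t) (hl : ∀ k c, π (Q.xl k c) = S.xl k c)
    (hM : S.ModelOK) : Function.Injective π := by
  have e : Q.map π = S := Q.t3ak3h19_map_eq π S hs hl
  exact Q.inj_of_model π hgen (e ▸ hM)

end K

end SysT

end Cfsg.Agent.Lib.helper17.T3
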