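import Mathlib
import Cfsg.Agent.Lib.helper17.T3.Defs
import Cfsg.Agent.Lib.Helper19.T3A.Defs
import Cfsg.Agent.Lib.Helper19.T3A.Comb
import Cfsg.Agent.Lib.helper14.T3AD1
import Cfsg.Agent.Lib.helper14.T3AD4
import Cfsg.Agent.Lib.helper14.T3AD8
import Cfsg.Agent.Lib.Helper26.T3AD6core
import Cfsg.Agent.Lib.Helper19.T3AT1core

/-!
# Project T3A (sub-designer helper19): rows T3 `isMon_of_mem_Tor` and T7 `Tor_normalizes_UU`, VERBATIM
(on helper14's D1-D5 D9 and helper26's D6 core).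
-/

set_option autoImplicit false

namespace Cfsg.Agent.Lib.helper17.T3

open Matrix Cfsg.Agent.Lib.helper15.St2 Cfsg.Agent.Lib.helper7.Ce Cfsg.Agent.Lib.Helper19.T3A

variable {F K : Type*} [Field F] [Field K] [Algebra F K]

namespace SysT

variable {C : Cub F K} {Γ : Type*} [Group Γ] (Q : SysT C Γ)

/-- (the statement of D6) -/
theorem t3at3h19_isMon_hs (k : ZMod 6) {t : K} (ht : t ≠ 0) : Q.IsMon (Q.hs k t) W.one :=
  Q.t3ad6h26_hs_core (fun h h' => IsMon.mul Q h h') (fun h => IsMon.inv Q h) (fun k _ ht => Q.isMon_ws k ht) k ht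

theorem t3at3h19_isMon_hl (k : ZMod 6) {c : F} (hc : c ≠ 0) : Q.IsMon (Q.hl k c) W.one :=
  Q.t3ad6h26_hl_core (fun h h' => IsMon.mul Q h h') (fun h => IsMon.inv Q h) (fun k _ hc => Q.isMon_wl k hc) k hc

-- ROW T3  [S]  closure induction with D6 D2 D3 D1 (`W_mul_one`, `W_mul_inv`).
theorem isMon_of_mem_Tor {h : Γ} (hh : h ∈ Q.Tor) : Q.IsMon h W.one :=
  Q.t3at3h19_core (fun _ ht => Q.t3at3h19_isMon_hs 0 ht) (fun _ hc => Q.t3at3h19_isMon_hl 2 hc) hh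

-- ROW T7  [S]  T3 and D9 at `W.one`.
theorem Tor_normalizes_UU {Ps Pl : ZMod 6 → Prop} {h : Γ} (hh : h ∈ Q.Tor) : ∀ x ∈ Q.UU Ps Pl, cj h x ∈ Q.UU Ps Pl :=
  IsMon.cj_mem_UU Q (Q.isMon_of_mem_Tor hh) (fun k hk => by rw [actS_one]; exact hk) (fun k hk => by rw [actL_one]; exact hk)

end SysT

end Cfsg.Agent.Lib.helper17.T3
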