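import Mathlib
import Cfsg.Agent.Lib.Helper28.T9.Defs
import Cfsg.Agent.Lib.Helper13.T9B
import Cfsg.Agent.Lib.Helper25.T9LA2

/-!
# Project T9 (S5559), piece C1 : `case_one`

A central element `x ≠ 1` of `P` inverted by `a` forces `|E| ≤ 3`: every `y = a * e` (`e ∈ E`) lies
in `{1, x, x²}`.  Otherwise `x, y, xy, xyy` are four nontrivial elements of `P` inverted by `a` and
commuting with `x`; each of them has no nonzero fixed vector in `V₁ = ker (1 + x + x²)` (by `(*)`),
so `sum_fixed` (projected to `V₁` by `π = x + x²`) gives `V₁ = 0`, i.e. `x` acts trivially.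
-/

set_option autoImplicit false

namespace Cfsg.Agent.Lib.Helper28.T9

universe u v

section abstract

variable {X : Type u} [Group X] {V : Type v} [AddCommGroup V] [DistribMulAction X V] {E : Set X}

/-- `(*)` for a nontrivial element of `P` inverted by `a`: its fixed vectors are fixed by `a`. -/
theorem h19_c1_star (h : Cfg X V E) (a : X) (ha : a ∈ E) (y : X) (hyP : y ∈ prodSub E)
    (hyinv : a * y * a = y⁻¹) (hy1 : y ≠ 1) (u : V) (hyu : y • u = u) : a • u = u := by
  obtain ⟨b, hb, rfl⟩ := (inverted_iff h a ha y).mp ⟨hyP, hyinv⟩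
  have hab : a ≠ b := by
    intro hab
    apply hy1
    rw [← hab]
    exact h.sq a ha
  exact h.star a ha b hb hab u hyu

/-- a nontrivial element of `P` inverted by `a` and commuting with `x` has no nonzero fixed vector
in the kernel of `1 + x + x²`. -/
theorem h19_c1_kill (h : Cfg X V E) (a : X) (ha : a ∈ E) (x : X) (hx3 : x ^ 3 = 1)
    (hinv : a * x * a = x⁻¹) (y : X) (hyP : y ∈ prodSub E)
    (hyinv : a * y * a = y⁻¹) (hy1 : y ≠ 1) (hyx : y * x = x * y) (u : V)
    (hN : u + x • u + (x * x) • u = 0) (hyu : y • u = u) : u = 0 := by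
  have haa := h.sq a ha
  have hau : a • u = u := h19_c1_star h a ha y hyP hyinv hy1 u hyu
  have hyxu : y • (x • u) = x • u := by
    rw [← mul_smul, hyx, mul_smul, hyu]
  have haxu : a • (x • u) = x • u := h19_c1_star h a ha y hyP hyinv hy1 (x • u) hyxu
  have hax : a * x = x⁻¹ * a := by
    calc a * x = a * x * (a * a) := by rw [haa, mul_one]
      _ = (a * x * a) * a := by simp only [mul_assoc]
      _ = x⁻¹ * a := by rw [hinv]
  have h1 : x⁻¹ • u = x • u := by
    rw [← haxu, ← mul_smul, hax, mul_smul, hau]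
  have h2 : (x * x) • u = u := by
    rw [mul_smul, ← h1, smul_inv_smul]
  have h3 : x • u = u := by
    have : x • u = x • ((x * x) • u) := by rw [h2]
    rw [this, ← mul_smul]
    have : x * (x * x) = x ^ 3 := by
      rw [pow_succ, pow_two, mul_assoc]
    rw [this, hx3, one_smul]
  rw [h2, h3, h.two u, zero_add] at hN
  exact hN

/-- PIECE C1 : a central element of `P` inverted by `a` forces `|E| ≤ 3`. -/
theorem case_one [Finite X] (h : Cfg X V E) (hf : Faith X V) (a : X) (ha : a ∈ E) (x : X)
    (hxP : x ∈ prodSub E) (hx1 : x ≠ 1) (hcen : ∀ g ∈ prodSub E, g * x = x * g)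
    (hinv : a * x * a = x⁻¹) : E.ncard ≤ 3 := by
  have haa := h.sq a ha
  have hainv := h13_inv_eq h a ha
  -- `x³ = 1`
  have hx3 : x ^ 3 = 1 := by
    obtain ⟨b, hb, rfl⟩ := (inverted_iff h a ha x).mp ⟨hxP, hinv⟩
    exact h.cube a ha b hb
  have hxxx : x * (x * x) = 1 := by
    rw [← hx3, pow_succ, pow_two, mul_assoc]
  have hxxx' : (x * x) * x = 1 := by
    rw [← hx3, pow_succ, pow_two]
  have htwo := h.two
  -- the projection `π = x + x²`
  -- (a) `π v ∈ V₁`
  have hpiN : ∀ v : V, (x • v + (x * x) • v) + x • (x • v + (x * x) • v)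
      + (x * x) • (x • v + (x * x) • v) = 0 := by
    intro v
    have e1 : x • (x • v + (x * x) • v) = (x * x) • v + v := by
      rw [smul_add, ← mul_smul, ← mul_smul, hxxx, one_smul]
    have e2 : (x * x) • (x • v + (x * x) • v) = v + x • v := by
      rw [smul_add, ← mul_smul, ← mul_smul, hxxx']
      have : x * x * (x * x) = x := by
        calc x * x * (x * x) = (x * x * x) * x := by simp only [mul_assoc]
          _ = x := by rw [hxxx', one_mul]
      rw [this, one_smul]
    rw [e1, e2]
    have t1 := htwo v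
    have t2 := htwo (x • v)
    have t3 := htwo ((x * x) • v)
    calc x • v + (x * x) • v + ((x * x) • v + v) + (v + x • v)
        = (v + v) + (x • v + x • v) + ((x * x) • v + (x * x) • v) := by abel
      _ = 0 := by rw [t1, t2, t3, add_zero, add_zero]
  -- (b) `π` commutes with anything commuting with `x`
  have hpifix : ∀ y : X, y * x = x * y → ∀ v : V, y • v = v →
      y • (x • v + (x * x) • v) = x • v + (x * x) • v := by
    intro y hyx v hyv
    have hyxx : y * (x * x) = (x * x) * y := by
      rw [← mul_assoc, hyx, mul_assoc, hyx, ← mul_assoc]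
    rw [smul_add, ← mul_smul, ← mul_smul, hyx, hyxx, mul_smul, mul_smul, hyv]
  -- (c) `v = N v + π v`
  have hdecomp : ∀ v : V, v = (v + x • v + (x * x) • v) + (x • v + (x * x) • v) := by
    intro v
    have t2 := htwo (x • v)
    have t3 := htwo ((x * x) • v)
    calc v = v + (x • v + x • v) + ((x * x) • v + (x * x) • v) := by
          rw [t2, t3, add_zero, add_zero]
      _ = (v + x • v + (x * x) • v) + (x • v + (x * x) • v) := by abel
  -- main claim
  have hmain' : ∀ y : X, y ∈ prodSub E → a * y * a = y⁻¹ → y ^ 3 = 1 →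
      y = 1 ∨ y = x ∨ y = x * x := by
    intro y hyP hyinv hy3
    by_contra hne
    have hy1 : y ≠ 1 := fun hh => hne (Or.inl hh)
    have hyx' : y ≠ x := fun hh => hne (Or.inr (Or.inl hh))
    have hyxx' : y ≠ x * x := fun hh => hne (Or.inr (Or.inr hh))
    have hyx : y * x = x * y := hcen y hyP
    have hxy : x * y = y * x := hyx.symm
    -- the products
    have hxyP : x * y ∈ prodSub E := Subgroup.mul_mem _ hxP hyP
    have hxyyP : x * y * y ∈ prodSub E := Subgroup.mul_mem _ hxyP hyP
    have hxyinv : a * (x * y) * a = (x * y)⁻¹ := by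
      calc a * (x * y) * a = (a * x * a) * (a * y * a) := by
            have : (a * x * a) * (a * y * a) = a * x * (a * a) * y * a := by simp only [mul_assoc]
            rw [this, haa, mul_one]
            simp only [mul_assoc]
        _ = x⁻¹ * y⁻¹ := by rw [hinv, hyinv]
        _ = (y * x)⁻¹ := by rw [mul_inv_rev]
        _ = (x * y)⁻¹ := by rw [hyx]
    have hxyyinv : a * (x * y * y) * a = (x * y * y)⁻¹ := by
      calc a * (x * y * y) * a = (a * (x * y) * a) * (a * y * a) := by
            have : (a * (x * y) * a) * (a * y * a) = a * (x * y) * (a * a) * y * a := by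
              simp only [mul_assoc]
            rw [this, haa, mul_one]
            simp only [mul_assoc]
        _ = (x * y)⁻¹ * y⁻¹ := by rw [hxyinv, hyinv]
        _ = (y * (x * y))⁻¹ := (mul_inv_rev y (x * y)).symm
        _ = (x * y * y)⁻¹ := by rw [← mul_assoc, hyx]
    have hxy1 : x * y ≠ 1 := by
      intro h1
      -- y = x⁻¹ = x * x
      apply hyxx'
      have : y = x⁻¹ := by
        rw [eq_inv_iff_mul_eq_one, hyx]
        exact h1
      rw [this]
      exact inv_eq_of_mul_eq_one_right hxxx
    have hxyy1 : x * y * y ≠ 1 := by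
      intro h1
      -- y * y = x⁻¹, y = (y*y)*(y*y) = x⁻¹ * x⁻¹ = x
      apply hyx'
      have h2 : y * y = x⁻¹ := by
        rw [eq_inv_iff_mul_eq_one]
        have : y * y * x = x * y * y := by
          rw [mul_assoc, hyx, ← mul_assoc, hyx]
        rw [this]
        exact h1
      have h4 : y = (y * y) * (y * y) := by
        have h5 : (y * y) * (y * y) = y ^ 3 * y := by
          rw [pow_succ, pow_two]
          simp only [mul_assoc]
        rw [h5, hy3, one_mul]
      have hxinv : x⁻¹ = x * x := inv_eq_of_mul_eq_one_right hxxx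
      rw [h4, h2, hxinv]
      calc x * x * (x * x) = (x * x * x) * x := by simp only [mul_assoc]
        _ = x := by rw [hxxx', one_mul]
    have hxyx : (x * y) * x = x * (x * y) := by
      rw [mul_assoc, hyx]
    have hxyyx : (x * y * y) * x = x * (x * y * y) := by
      rw [mul_assoc, hyx, ← mul_assoc, hxyx, mul_assoc x (x * y) y]
    -- `x` acts trivially
    apply hx1
    apply hf
    intro v
    have hpi0 : x • v + (x * x) • v = 0 := by
      obtain ⟨v₁, v₂, v₃, v₄, hv, h1, h2, h3, h4⟩ := sum_fixed h.two x y hx3 hy3 hxy v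
      have k1 := h19_c1_kill h a ha x hx3 hinv x hxP hinv hx1 rfl _ (hpiN v₁)
        (hpifix x rfl v₁ h1)
      have k2 := h19_c1_kill h a ha x hx3 hinv y hyP hyinv hy1 hyx _ (hpiN v₂)
        (hpifix y hyx v₂ h2)
      have k3 := h19_c1_kill h a ha x hx3 hinv (x * y) hxyP hxyinv hxy1 hxyx _ (hpiN v₃)
        (hpifix (x * y) hxyx v₃ h3)
      have k4 := h19_c1_kill h a ha x hx3 hinv (x * y * y) hxyyP hxyyinv hxyy1 hxyyx _ (hpiN v₄)
        (hpifix (x * y * y) hxyyx v₄ h4)
      calc x • v + (x * x) • v
          = (x • v₁ + (x * x) • v₁) + (x • v₂ + (x * x) • v₂) + (x • v₃ + (x * x) • v₃)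
            + (x • v₄ + (x * x) • v₄) := by
            rw [hv]
            simp only [smul_add]
            abel
        _ = 0 := by rw [k1, k2, k3, k4, add_zero, add_zero, add_zero]
    have hv := hdecomp v
    rw [hpi0, add_zero] at hv
    have hfix : x • (v + x • v + (x * x) • v) = v + x • v + (x * x) • v := by
      rw [smul_add, smul_add, ← mul_smul, ← mul_smul, hxxx, one_smul]
      abel
    rw [← hv] at hfix
    exact hfix
  have hmain : ∀ e ∈ E, a * e = 1 ∨ a * e = x ∨ a * e = x * x := by
    intro e he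
    have hyI : a * e ∈ prodSub E ∧ a * (a * e) * a = (a * e)⁻¹ :=
      (inverted_iff h a ha (a * e)).mpr ⟨e, he, rfl⟩
    exact hmain' (a * e) hyI.1 hyI.2 (h.cube a ha e he)
  -- counting
  have hsub : E ⊆ (fun g => a * g) '' ({1, x, x * x} : Set X) := by
    intro e he
    refine ⟨a * e, ?_, ?_⟩
    · rcases hmain e he with h1 | h1 | h1
      · rw [h1]; simp
      · rw [h1]; simp
      · rw [h1]; simp
    · show a * (a * e) = e
      rw [← mul_assoc, haa, one_mul]
  have hfin : ((fun g => a * g) '' ({1, x, x * x} : Set X)).Finite := Set.toFinite _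
  have hc1 : E.ncard ≤ ((fun g => a * g) '' ({1, x, x * x} : Set X)).ncard :=
    Set.ncard_le_ncard hsub hfin
  have hc2 : ((fun g => a * g) '' ({1, x, x * x} : Set X)).ncard ≤ ({1, x, x * x} : Set X).ncard :=
    Set.ncard_image_le (Set.toFinite _)
  have hc3 : ({1, x, x * x} : Set X).ncard ≤ 3 := by
    have e1 := Set.ncard_insert_le (1 : X) ({x, x * x} : Set X)
    have e2 := Set.ncard_insert_le x ({x * x} : Set X)
    rw [Set.ncard_singleton] at e2
    omega
  omega

end abstract

end Cfsg.Agent.Lib.Helper28.T9
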