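import Mathlib
import Cfsg.Agent.Lib.Helper28.T9.Defs
import Cfsg.Agent.Lib.Helper25.T9LA2

/-!
# Project T9 (S5559), piece C2b : `center_unique`
-/

set_option autoImplicit false

namespace Cfsg.Agent.Lib.Helper28.T9

universe u v

section abstract

variable {X : Type u} [Group X] {V : Type v} [AddCommGroup V] [DistribMulAction X V] {E : Set X}

/-- a vector fixed by `u` is fixed by all of `zpowers u` -/
theorem h19_zpowers_fix (u : X) (v : V) (hu : u • v = v) : ∀ m ∈ Subgroup.zpowers u, m • v = v := by
  intro m hm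
  have hle : Subgroup.zpowers u ≤ MulAction.stabilizer X v := by
    rw [Subgroup.zpowers_le]
    exact hu
  exact hle hm

/-- the cyclic group of a central element is normal -/
theorem h19_zpowers_normal (u : X) (hu : u ∈ Subgroup.center X) : (Subgroup.zpowers u).Normal := by
  have hle : Subgroup.zpowers u ≤ Subgroup.center X := by
    rw [Subgroup.zpowers_le]
    exact hu
  constructor
  intro n hn g
  have hc := hle hn
  rw [Subgroup.mem_center_iff] at hc
  have : g * n * g⁻¹ = n := by
    rw [hc g, mul_inv_cancel_right]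
  rw [this]
  exact hn

/-- PIECE C2b : under `(***)` the central elements of order 3 form a group of order 3. -/
theorem center_unique (h : Cfg X V E) (hf : Faith X V)
    (h3 : ∀ M : Subgroup X, M.Normal → M ≠ ⊥ → ∀ v : V, (∀ m ∈ M, m • v = v) → ∀ g : X, g • v = v)
    (z w : X) (hz : z ∈ Subgroup.center X) (hw : w ∈ Subgroup.center X) (hz3 : z ^ 3 = 1)
    (hw3 : w ^ 3 = 1) (hz1 : z ≠ 1) : w ∈ Subgroup.zpowers z := by
  by_contra hwz
  -- a central nontrivial element fixing `v` forces all of `X` to fix `v`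
  have key : ∀ u : X, u ∈ Subgroup.center X → u ≠ 1 → ∀ v : V, u • v = v → ∀ g : X, g • v = v := by
    intro u hu hu1 v huv
    refine h3 (Subgroup.zpowers u) (h19_zpowers_normal u hu) ?_ v (h19_zpowers_fix u v huv)
    intro hbot
    apply hu1
    have : u ∈ Subgroup.zpowers u := Subgroup.mem_zpowers u
    rw [hbot, Subgroup.mem_bot] at this
    exact this
  have hw1 : w ≠ 1 := by
    intro h1
    apply hwz
    rw [h1]
    exact Subgroup.one_mem _
  have hzw1 : z * w ≠ 1 := by
    intro h1
    apply hwz
    have : w = z⁻¹ := by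
      rw [eq_inv_iff_mul_eq_one, ← h1]
      rw [Subgroup.mem_center_iff] at hz
      exact (hz w)
    rw [this]
    exact Subgroup.inv_mem _ (Subgroup.mem_zpowers z)
  have hzww1 : z * w * w ≠ 1 := by
    intro h1
    apply hwz
    -- w = w^4 = (w*w)^2 = (z⁻¹)^2
    have h2 : w * w = z⁻¹ := by
      rw [eq_inv_iff_mul_eq_one]
      rw [Subgroup.mem_center_iff] at hz
      rw [hz (w * w), ← mul_assoc]
      exact h1
    have h4 : w = (w * w) * (w * w) := by
      have h5 : (w * w) * (w * w) = w ^ 3 * w := by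
        rw [pow_succ, pow_two]
        simp only [mul_assoc]
      rw [h5, hw3, one_mul]
    rw [h4, h2]
    exact Subgroup.mul_mem _ (Subgroup.inv_mem _ (Subgroup.mem_zpowers z))
      (Subgroup.inv_mem _ (Subgroup.mem_zpowers z))
  have hzwc : z * w ∈ Subgroup.center X := Subgroup.mul_mem _ hz hw
  have hzwwc : z * w * w ∈ Subgroup.center X := Subgroup.mul_mem _ hzwc hw
  have hcomm : z * w = w * z := by
    rw [Subgroup.mem_center_iff] at hz
    exact (hz w).symm
  apply hz1
  apply hf
  intro v
  obtain ⟨v₁, v₂, v₃, v₄, hv, h1, h2, h3', h4⟩ := sum_fixed h.two z w hz3 hw3 hcomm v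
  rw [hv, smul_add, smul_add, smul_add, key z hz hz1 v₁ h1 z, key w hw hw1 v₂ h2 z,
    key (z * w) hzwc hzw1 v₃ h3' z, key (z * w * w) hzwwc hzww1 v₄ h4 z]

end abstract

end Cfsg.Agent.Lib.Helper28.T9
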