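import Mathlib
import Cfsg.Agent.Lib.Helper28.T9.Defs
import Cfsg.Agent.Lib.Helper13.T9B

/-!
# Project T9 (S5559), piece C2c : `exists_t`

In case 2 there is an element `t` of the second centre of `P`, not central, inverted by `a`.
-/

set_option autoImplicit false

namespace Cfsg.Agent.Lib.Helper28.T9

universe u v

open scoped commutatorElement

/-- if the upper central series stops at step 1, it stops for ever -/
theorem h19_ucs_stable (G : Type*) [Group G]
    (hG : Subgroup.upperCentralSeries G 2 = Subgroup.upperCentralSeries G 1) :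
    ∀ n : ℕ, Subgroup.upperCentralSeries G (n + 1) = Subgroup.upperCentralSeries G 1
  | 0 => rfl
  | n + 1 => by
    ext x
    have e1 : x ∈ Subgroup.upperCentralSeries G (n + 1 + 1) ↔
        ∀ y : G, ⁅x, y⁆ ∈ Subgroup.upperCentralSeries G (n + 1) :=
      Subgroup.mem_upperCentralSeries_succ_iff
    have e2 : x ∈ Subgroup.upperCentralSeries G 2 ↔
        ∀ y : G, ⁅x, y⁆ ∈ Subgroup.upperCentralSeries G 1 :=
      Subgroup.mem_upperCentralSeries_succ_iff
    rw [e1, h19_ucs_stable G hG n, ← e2, hG]

/-- a nilpotent group whose second centre equals its centre is abelian -/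
theorem h19_center_eq_top (G : Type*) [Group G] [Group.IsNilpotent G]
    (hG : Subgroup.upperCentralSeries G 2 = Subgroup.upperCentralSeries G 1) : Subgroup.center G = ⊤ := by
  obtain ⟨n, hn⟩ := Group.IsNilpotent.nilpotent G
  rw [← Subgroup.upperCentralSeries_one]
  cases n with
  | zero =>
    rw [eq_top_iff, ← hn]
    exact Subgroup.upperCentralSeries_mono G (Nat.zero_le 1)
  | succ n =>
    rw [← h19_ucs_stable G hG n, hn]

section abstract

variable {X : Type u} [Group X] {V : Type v} [AddCommGroup V] [DistribMulAction X V] {E : Set X}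

/-- PIECE C2c : in case 2 there is an element `t` of the second centre of `P`, not central,
inverted by `a`. -/
theorem exists_t [Finite X] (h : Cfg X V E) (a : X) (ha : a ∈ E) (hE2 : ∃ b ∈ E, b ≠ a)
    (hcase2 : ∀ x ∈ prodSub E, (∀ g ∈ prodSub E, g * x = x * g) → a * x * a = x⁻¹ → x = 1) :
    ∃ t ∈ prodSub E, a * t * a = t⁻¹ ∧ (∃ g ∈ prodSub E, g * t ≠ t * g) ∧
      ∀ g ∈ prodSub E, ∀ k ∈ prodSub E,
        k * (t⁻¹ * g⁻¹ * t * g) = (t⁻¹ * g⁻¹ * t * g) * k := by
  classical
  have haa := h.sq a ha
  have hainv := h13_inv_eq h a ha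
  have hPn : (prodSub E).Normal := prodSub_normal h
  have : Fact (Nat.Prime 3) := ⟨by norm_num⟩
  have hnil : Group.IsNilpotent ↥(prodSub E) := h.three.isNilpotent
  -- the second centre, as a subgroup of `X`
  set Z2 : Subgroup X := (Subgroup.upperCentralSeries ↥(prodSub E) 2).map (prodSub E).subtype with hZ2
  have hZ2n : Z2.Normal := ConjAct.normal_of_characteristic_of_normal
  have hZ2P : ∀ g ∈ Z2, g ∈ prodSub E := by
    rintro g ⟨g', -, rfl⟩
    exact g'.2
  -- membership in `Z2` : commutators are central in `P`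
  have hZ2c : ∀ t ∈ Z2, ∀ g ∈ prodSub E, ∀ k ∈ prodSub E,
      k * (t * g * t⁻¹ * g⁻¹) = (t * g * t⁻¹ * g⁻¹) * k := by
    rintro t ⟨t', ht', rfl⟩ g hg k hk
    have h1 := (Subgroup.mem_upperCentralSeries_succ_iff (n := 1)).mp ht' ⟨g, hg⟩
    rw [Subgroup.upperCentralSeries_one, Subgroup.mem_center_iff] at h1
    have h2 := h1 ⟨k, hk⟩
    have h3 := congrArg Subtype.val h2
    simpa [commutatorElement_def] using h3
  -- a nontrivial element inverted by `a` is not central in `P`
  have hnc : ∀ x ∈ prodSub E, a * x * a = x⁻¹ → x ≠ 1 → ∃ g ∈ prodSub E, g * x ≠ x * g := by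
    intro x hxP hxinv hx1
    by_contra hcon
    push Not at hcon
    exact hx1 (hcase2 x hxP hcon hxinv)
  -- `P` is not abelian
  have hnab : Subgroup.upperCentralSeries ↥(prodSub E) 2 ≠ Subgroup.upperCentralSeries ↥(prodSub E) 1 := by
    intro heq
    have hct := h19_center_eq_top ↥(prodSub E) heq
    obtain ⟨b, hb, hba⟩ := hE2
    have hI := (inverted_iff h a ha (a * b)).mpr ⟨b, hb, rfl⟩
    have hab1 : a * b ≠ 1 := by
      intro h1
      apply hba
      have : b = a⁻¹ := by
        rw [eq_inv_iff_mul_eq_one]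
        have h2 : b * a = a * (a * b) * a := by
          rw [← mul_assoc, haa, one_mul]
        rw [h2, h1, mul_one, haa]
      rw [this, hainv]
    obtain ⟨g, hg, hgx⟩ := hnc (a * b) hI.1 hI.2 hab1
    apply hgx
    have hmem : (⟨a * b, hI.1⟩ : ↥(prodSub E)) ∈ Subgroup.center ↥(prodSub E) := by
      rw [hct]
      exact Subgroup.mem_top _
    rw [Subgroup.mem_center_iff] at hmem
    have := congrArg Subtype.val (hmem ⟨g, hg⟩)
    simpa using this
  -- some element of `Z2` is moved by `a`
  have hmoved : ∃ g ∈ Z2, a * g * a ≠ g := by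
    by_contra hcon
    push Not at hcon
    -- every member of `E` centralises `Z2`
    have hEc : ∀ e ∈ E, ∀ g ∈ Z2, e * g = g * e := by
      intro e he g hg
      obtain ⟨n, -, rfl⟩ := exists_conj h a e ha he
      have h1 : n * g * n⁻¹ ∈ Z2 := hZ2n.conj_mem g hg n
      have h2 := hcon _ h1
      -- a * (n g n⁻¹) * a = n g n⁻¹
      have h3 : a * (n * g * n⁻¹) = (n * g * n⁻¹) * a := by
        calc a * (n * g * n⁻¹) = a * (n * g * n⁻¹) * (a * a) := by rw [haa, mul_one]
          _ = (a * (n * g * n⁻¹) * a) * a := by simp only [mul_assoc]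
          _ = (n * g * n⁻¹) * a := by rw [h2]
      calc n⁻¹ * a * n * g = n⁻¹ * (a * (n * g * n⁻¹)) * n := by
            simp only [mul_assoc, inv_mul_cancel, mul_one]
        _ = n⁻¹ * ((n * g * n⁻¹) * a) * n := by rw [h3]
        _ = g * (n⁻¹ * a * n) := by
            simp only [inv_mul_cancel_left, mul_assoc]
    have hall : ∀ x : X, ∀ g ∈ Z2, x * g = g * x := by
      intro x
      have hx : x ∈ Subgroup.closure E := by
        rw [h.gen]
        exact Subgroup.mem_top x
      induction hx using Subgroup.closure_induction with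
      | mem e he => exact hEc e he
      | one => intro g _; rw [one_mul, mul_one]
      | mul x y _ _ ihx ihy =>
        intro g hg
        rw [mul_assoc, ihy g hg, ← mul_assoc, ihx g hg, mul_assoc]
      | inv x _ ihx =>
        intro g hg
        have := ihx g hg
        calc x⁻¹ * g = x⁻¹ * (g * x) * x⁻¹ := by
              simp only [mul_assoc, mul_inv_cancel, mul_one]
          _ = x⁻¹ * (x * g) * x⁻¹ := by rw [this]
          _ = g * x⁻¹ := by simp only [inv_mul_cancel_left]
    apply hnab
    apply le_antisymm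
    · intro t' ht'
      rw [Subgroup.upperCentralSeries_one, Subgroup.mem_center_iff]
      intro k
      apply Subtype.ext
      have hmem : (t' : X) ∈ Z2 := ⟨t', ht', rfl⟩
      have := hall (k : X) (t' : X) hmem
      simpa using this
    · exact Subgroup.upperCentralSeries_mono _ (by norm_num)
  obtain ⟨g, hgZ, hgm⟩ := hmoved
  have hagZ : a * g * a ∈ Z2 := by
    have := hZ2n.conj_mem g hgZ a
    rwa [hainv] at this
  have hinvt : a * (g * (a * g * a)⁻¹) * a = (g * (a * g * a)⁻¹)⁻¹ := by
    simp only [mul_inv_rev, inv_inv, mul_assoc, hainv, haa, mul_one]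
  refine ⟨g * (a * g * a)⁻¹, hZ2P _ (Z2.mul_mem hgZ (Z2.inv_mem hagZ)), ?_, ?_, ?_⟩
  · -- inverted by `a`
    exact hinvt
  · -- not central
    apply hnc
    · exact hZ2P _ (Z2.mul_mem hgZ (Z2.inv_mem hagZ))
    · exact hinvt
    · intro h1
      apply hgm
      have := mul_inv_eq_one.mp h1
      exact this.symm
  · -- commutators are central
    intro k hk m hm
    have htZ : (g * (a * g * a)⁻¹)⁻¹ ∈ Z2 := Z2.inv_mem (Z2.mul_mem hgZ (Z2.inv_mem hagZ))
    have := hZ2c _ htZ k⁻¹ ((prodSub E).inv_mem hk) m hm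
    rw [inv_inv, inv_inv] at this
    exact this

end abstract

end Cfsg.Agent.Lib.Helper28.T9
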