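import Mathlib
import Cfsg.Agent.Lib.Helper28.T9.Defs
import Cfsg.Agent.Lib.Helper13.T9B

/-!
# Project T9 (S5559), piece C2f : `sub_config`

The sub-configuration `E₀ = {e ∈ E | a e ∈ C_P(t)}`: closed under conjugation, `|E| = 3 |E₀|`,
`|E₀|` a power of 3, and `⟨E₀⟩ ≠ X`.
-/

set_option autoImplicit false

namespace Cfsg.Agent.Lib.Helper28.T9

universe u v

/-- orbit–stabiliser for the conjugation action of a subgroup (copy of helper1's
`Cfsg.Agent.Lib.helper2.S91.cnt_orbit`, to keep the import closure small) -/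
theorem h19_cnt_orbit {G : Type*} [Group G] (K : Subgroup G) (y : G) :
    Nat.card {g : G // ∃ k ∈ K, g = k * y * k⁻¹} = (K ⊓ Subgroup.centralizer {y}).relIndex K := by
  classical
  rw [Subgroup.relIndex, Subgroup.index]
  symm
  have hwd : ∀ a b : ↥K, QuotientGroup.leftRel ((K ⊓ Subgroup.centralizer {y}).subgroupOf K) a b →
      (⟨(a : G) * y * (a : G)⁻¹, a, a.2, rfl⟩ : {g : G // ∃ k ∈ K, g = k * y * k⁻¹}) =
        ⟨(b : G) * y * (b : G)⁻¹, b, b.2, rfl⟩ := by
    intro a b hab
    rw [QuotientGroup.leftRel_apply, Subgroup.mem_subgroupOf] at hab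
    have hc := (Subgroup.mem_inf.1 hab).2
    rw [Subgroup.mem_centralizer_iff] at hc
    have h1 := hc y (Set.mem_singleton y)
    apply Subtype.ext
    simp only [Subgroup.coe_mul, Subgroup.coe_inv] at h1
    show (a : G) * y * (a : G)⁻¹ = (b : G) * y * (b : G)⁻¹
    have h2 : y = ((a : G)⁻¹ * (b : G)) * y * ((a : G)⁻¹ * (b : G))⁻¹ := by
      rw [← h1]
      group
    calc (a : G) * y * (a : G)⁻¹
        = (a : G) * (((a : G)⁻¹ * (b : G)) * y * ((a : G)⁻¹ * (b : G))⁻¹) * (a : G)⁻¹ := by
          rw [← h2]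
      _ = (b : G) * y * (b : G)⁻¹ := by group
  refine Nat.card_congr (Equiv.ofBijective
    (fun q => Quotient.liftOn' q
      (fun k : ↥K => (⟨(k : G) * y * (k : G)⁻¹, k, k.2, rfl⟩ :
        {g : G // ∃ k ∈ K, g = k * y * k⁻¹})) hwd) ⟨?_, ?_⟩)
  · intro q1 q2
    induction q1 using Quotient.inductionOn' with
    | h a =>
      induction q2 using Quotient.inductionOn' with
      | h b =>
        intro h
        simp only [Quotient.liftOn'_mk''] at h
        have h' : (a : G) * y * (a : G)⁻¹ = (b : G) * y * (b : G)⁻¹ := congrArg Subtype.val h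
        apply Quotient.sound'
        rw [QuotientGroup.leftRel_apply, Subgroup.mem_subgroupOf]
        refine Subgroup.mem_inf.2 ⟨(a⁻¹ * b).2, ?_⟩
        rw [Subgroup.mem_centralizer_iff]
        intro z hz
        rw [Set.mem_singleton_iff] at hz
        subst hz
        simp only [Subgroup.coe_mul, Subgroup.coe_inv]
        have : z = (a : G)⁻¹ * ((b : G) * z * (b : G)⁻¹) * (a : G) := by
          rw [← h']
          group
        calc z * ((a : G)⁻¹ * (b : G))
            = ((a : G)⁻¹ * ((b : G) * z * (b : G)⁻¹) * (a : G)) * ((a : G)⁻¹ * (b : G)) := by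
              rw [← this]
          _ = (a : G)⁻¹ * (b : G) * z := by group
  · rintro ⟨g, k, hk, rfl⟩
    exact ⟨Quotient.mk'' ⟨k, hk⟩, rfl⟩

section abstract

variable {X : Type u} [Group X] {V : Type v} [AddCommGroup V] [DistribMulAction X V] {E : Set X}

/-- `C = C_P(t)` is invariant under conjugation by `a` when `a` inverts `t` -/
theorem h19_c2f_inv (h : Cfg X V E) (a : X) (ha : a ∈ E) (t : X) (hta : a * t * a = t⁻¹)
    (c : X) (hc : c ∈ prodSub E ⊓ Subgroup.centralizer {t}) :
    a * c * a ∈ prodSub E ⊓ Subgroup.centralizer {t} := by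
  have haa := h.sq a ha
  have hainv := h13_inv_eq h a ha
  obtain ⟨hcP, hcc⟩ := Subgroup.mem_inf.1 hc
  refine Subgroup.mem_inf.2 ⟨?_, ?_⟩
  · have := h13_conj_mem_prodSub h a ha c hcP
    rwa [hainv] at this
  · rw [Subgroup.mem_centralizer_iff] at hcc ⊢
    intro z hz
    rw [Set.mem_singleton_iff] at hz
    subst hz
    have h1 : z * c = c * z := hcc z (Set.mem_singleton z)
    -- `c` commutes with `z⁻¹ = a z a`
    have h2 : (a * z * a) * c = c * (a * z * a) := by
      rw [hta]
      calc z⁻¹ * c = z⁻¹ * (c * z) * z⁻¹ := by simp only [mul_assoc, mul_inv_cancel, mul_one]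
        _ = z⁻¹ * (z * c) * z⁻¹ := by rw [h1]
        _ = c * z⁻¹ := by simp only [inv_mul_cancel_left]
    calc z * (a * c * a) = a * ((a * z * a) * c) * a := by
          simp only [mul_assoc]
          rw [← mul_assoc a a, haa, one_mul]
      _ = a * (c * (a * z * a)) * a := by rw [h2]
      _ = a * c * a * z := by
          simp only [mul_assoc]
          rw [haa, mul_one]

/-- PIECE C2f : the sub-configuration `E₀ = {e ∈ E | a e ∈ C_P(t)}`. -/
theorem sub_config [Finite X] (h : Cfg X V E) (a : X) (ha : a ∈ E) (t : X)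
    (htP : t ∈ prodSub E) (hta : a * t * a = t⁻¹)
    (hidx : (prodSub E ⊓ Subgroup.centralizer {t}).relIndex (prodSub E) = 3)
    (hcent : ∀ g ∈ prodSub E, a * g = g * a → g * t = t * g) :
    (∀ e ∈ {e ∈ E | a * e ∈ Subgroup.centralizer {t}},
      ∀ f ∈ {e ∈ E | a * e ∈ Subgroup.centralizer {t}},
      e * f * e ∈ {e ∈ E | a * e ∈ Subgroup.centralizer {t}}) ∧
    E.ncard = 3 * {e ∈ E | a * e ∈ Subgroup.centralizer {t}}.ncard ∧
    (∃ k : ℕ, {e ∈ E | a * e ∈ Subgroup.centralizer {t}}.ncard = 3 ^ k) ∧
    Subgroup.closure {e ∈ E | a * e ∈ Subgroup.centralizer {t}} ≠ ⊤ := by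
  classical
  have haa := h.sq a ha
  have hainv := h13_inv_eq h a ha
  set P : Subgroup X := prodSub E with hP
  set C : Subgroup X := P ⊓ Subgroup.centralizer {t} with hC
  set E₀ : Set X := {e ∈ E | a * e ∈ Subgroup.centralizer {t}} with hE₀
  have hCP : C ≤ P := inf_le_left
  have hCinv : ∀ c ∈ C, a * c * a ∈ C := fun c hc => h19_c2f_inv h a ha t hta c hc
  have hE₀C : ∀ e ∈ E₀, a * e ∈ C := fun e he =>
    Subgroup.mem_inf.2 ⟨h13_mul_mem a e ha he.1, he.2⟩
  -- `E` is the `P`-orbit of `a`
  have hE : E = {g | ∃ k ∈ P, g = k * a * k⁻¹} := by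
    ext e
    constructor
    · intro he
      obtain ⟨g, hg, rfl⟩ := exists_conj h a e ha he
      exact ⟨g⁻¹, P.inv_mem hg, by rw [inv_inv]⟩
    · rintro ⟨k, -, rfl⟩
      have := conj_mem h a ha k⁻¹
      rwa [inv_inv] at this
  -- `E₀` is the `C`-orbit of `a`
  have hE0 : E₀ = {g | ∃ k ∈ C, g = k * a * k⁻¹} := by
    ext e
    constructor
    · intro he
      have h3 := h.cube a ha e he.1
      have hee := h.sq e he.1
      refine ⟨a * e, hE₀C e he, ?_⟩
      have hinv : (a * e)⁻¹ = (a * e) * (a * e) := by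
        apply inv_eq_of_mul_eq_one_right
        rw [← h3, pow_succ, pow_two]
        simp only [mul_assoc]
      rw [hinv]
      symm
      calc a * e * a * (a * e * (a * e)) = a * e * (a * a) * e * (a * e) := by
            simp only [mul_assoc]
        _ = a * (e * e) * (a * e) := by rw [haa, mul_one]; simp only [mul_assoc]
        _ = (a * a) * e := by rw [hee, mul_one, mul_assoc]
        _ = e := by rw [haa, one_mul]
    · rintro ⟨k, hk, rfl⟩
      refine ⟨?_, ?_⟩
      · have := conj_mem h a ha k⁻¹
        rwa [inv_inv] at this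
      · have h1 : a * (k * a * k⁻¹) = (a * k * a) * k⁻¹ := by simp only [mul_assoc]
        rw [h1]
        exact (Subgroup.mem_inf.1 (C.mul_mem (hCinv k hk) (C.inv_mem hk))).2
  -- stabilisers
  have hstab : C ⊓ Subgroup.centralizer {a} = P ⊓ Subgroup.centralizer {a} := by
    apply le_antisymm
    · exact inf_le_inf_right _ hCP
    · intro g hg
      obtain ⟨hgP, hga⟩ := Subgroup.mem_inf.1 hg
      rw [Subgroup.mem_centralizer_iff] at hga
      have h1 : a * g = g * a := hga a (Set.mem_singleton a)
      refine Subgroup.mem_inf.2 ⟨Subgroup.mem_inf.2 ⟨hgP, ?_⟩, ?_⟩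
      · rw [Subgroup.mem_centralizer_iff]
        intro z hz
        rw [Set.mem_singleton_iff] at hz
        subst hz
        exact (hcent g hgP h1).symm
      · rw [Subgroup.mem_centralizer_iff]
        exact hga
  have hcardE : E.ncard = (P ⊓ Subgroup.centralizer {a}).relIndex P := by
    rw [← h19_cnt_orbit P a]
    conv_lhs => rw [hE]
    exact (Nat.card_coe_set_eq _).symm
  have hcardE0 : E₀.ncard = (P ⊓ Subgroup.centralizer {a}).relIndex C := by
    rw [← hstab, ← h19_cnt_orbit C a]
    conv_lhs => rw [hE0]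
    exact (Nat.card_coe_set_eq _).symm
  have hAC : P ⊓ Subgroup.centralizer {a} ≤ C := by
    rw [← hstab]
    exact inf_le_left
  have hmul := Subgroup.relIndex_mul_relIndex (P ⊓ Subgroup.centralizer {a}) C P hAC hCP
  refine ⟨?_, ?_, ?_, ?_⟩
  · -- closed under conjugation
    intro e he f hf
    refine ⟨h.conj e he.1 f hf.1, ?_⟩
    have hff := h.sq f hf.1
    have h1 : a * (e * f * e) = (a * e) * (a * f)⁻¹ * (a * e) := by
      rw [mul_inv_rev, hainv, h13_inv_eq h f hf.1]
      have : a * e * (f * a) * (a * e) = a * e * f * (a * a) * e := by simp only [mul_assoc]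
      rw [this, haa, mul_one]
      simp only [mul_assoc]
    rw [h1]
    exact Subgroup.mul_mem _ (Subgroup.mul_mem _ he.2 (Subgroup.inv_mem _ hf.2)) he.2
  · rw [hcardE, hcardE0, ← hmul, hidx, mul_comm]
  · -- a power of 3
    rw [hcardE0]
    have hdvd : (P ⊓ Subgroup.centralizer {a}).relIndex C ∣ Nat.card C := by
      rw [Subgroup.relIndex]
      exact Subgroup.index_dvd_card _
    have hCp : IsPGroup 3 C := h.three.to_le hCP
    have : Fact (Nat.Prime 3) := ⟨by norm_num⟩
    obtain ⟨m, hm⟩ := (IsPGroup.iff_card.1 hCp)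
    rw [hm] at hdvd
    obtain ⟨k, -, hk⟩ := (Nat.dvd_prime_pow (by norm_num)).1 hdvd
    exact ⟨k, hk⟩
  · -- the closure is proper
    intro htop
    have hD : ∀ g ∈ Subgroup.closure E₀, g ∈ C ∨ a * g ∈ C := by
      intro g hg
      induction hg using Subgroup.closure_induction with
      | mem e he => exact Or.inr (hE₀C e he)
      | one => exact Or.inl C.one_mem
      | mul x y _ _ ihx ihy =>
        rcases ihx with hx | hx <;> rcases ihy with hy | hy
        · exact Or.inl (C.mul_mem hx hy)
        · right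
          have : a * (x * y) = (a * x * a) * (a * y) := by
            have e1 : (a * x * a) * (a * y) = a * x * (a * a) * y := by simp only [mul_assoc]
            rw [e1, haa, mul_one]
            simp only [mul_assoc]
          rw [this]
          exact C.mul_mem (hCinv x hx) hy
        · right
          rw [← mul_assoc]
          exact C.mul_mem hx hy
        · left
          have : x * y = (a * (a * x) * a) * (a * y) := by
            have e1 : (a * (a * x) * a) * (a * y) = (a * a) * x * (a * a) * y := by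
              simp only [mul_assoc]
            rw [e1, haa, one_mul, mul_one]
          rw [this]
          exact C.mul_mem (hCinv _ hx) hy
      | inv x _ ihx =>
        rcases ihx with hx | hx
        · exact Or.inl (C.inv_mem hx)
        · right
          have : a * x⁻¹ = a * (a * x)⁻¹ * a := by
            rw [mul_inv_rev, hainv]
            have e1 : a * (x⁻¹ * a) * a = a * x⁻¹ * (a * a) := by simp only [mul_assoc]
            rw [e1, haa, mul_one]
          rw [this]
          exact hCinv _ (C.inv_mem hx)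
    -- an element of `P` outside `C`
    have hne : ¬ P ≤ C := by
      intro hle
      have : C.relIndex P = 1 := Subgroup.relIndex_eq_one.2 hle
      rw [this] at hidx
      norm_num at hidx
    obtain ⟨p, hpP, hpC⟩ := SetLike.not_le_iff_exists.1 hne
    have hp : p ∈ Subgroup.closure E₀ := by
      rw [htop]
      exact Subgroup.mem_top p
    rcases hD p hp with h1 | h1
    · exact hpC h1
    · apply not_mem_prodSub h a ha
      have h2 : a * p ∈ P := hCP h1
      have h3 : a = (a * p) * p⁻¹ := by rw [mul_inv_cancel_right]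
      rw [h3]
      exact P.mul_mem h2 (P.inv_mem hpP)

end abstract

end Cfsg.Agent.Lib.Helper28.T9
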