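import Mathlib
import Cfsg.Agent.Lib.helper8.TDM.Defs
import Cfsg.Agent.Lib.helper8.ChevCnt1
import Cfsg.Agent.Lib.helper8.ChevFix4
import Cfsg.Agent.Lib.helper8.ChevBNAll
import Cfsg.Agent.Lib.helper8.ChevBNAll2
import Cfsg.Agent.Lib.helper8.ChevOrdAll
import Cfsg.Agent.Lib.helper8.ChevReflAll

/-!
# Project TDM (designer helper8), row I13 `X_eq_X23`, VERBATIM (helper19)
-/

set_option autoImplicit false

namespace Cfsg.Agent.Lib.helper8.TDM

open Cfsg.Lie Cfsg.Lie.ChevalleyDatum Matrix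
open Cfsg.Agent.Lib.helper8 Cfsg.Agent.Lib.helper8.TD4
open Cfsg.Agent.Lib.helper23.TD4V

universe u

section I

variable {K : Type u} [Field K] [Fintype K] (q : ℕ)

omit [Fintype K] in
/-- root elements with non-zero parameters of different roots are different; a root element with non-zero parameter is not `1` -/
theorem tdmi13_inj (r s : ℕ) (hr : r < 24) (hs : s < 24) (a b : K) (ha : a ≠ 0) (h : (X r a : GG K) = X s b) :
    r = s ∧ a = b := by
  have hD : chevD4 ∈ [chevG2, chevB2, chevD4, chevF4, chevE6, chevE7, chevE8] := by simp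
  have hA := h8reflAll chevD4 hD
  have hBN := h8bn_all chevD4 hD
  have hW := h8bn2_all chevD4 hD
  have hO2 := (h8ord_all chevD4 hD).2
  have hb : b ≠ 0 := by
    rintro rfl
    have e0 : (X s (0 : K) : GG K) = X r 0 := by
      unfold X
      rw [h8xU_zero, h8xU_zero]
    rw [e0] at h
    exact ha (h8xU_inj_t chevD4 hB hA hW r hr a 0 h)
  have e := h8x_inj_root chevD4 hB hA hBN hW hO2 r s hr hs a b ha hb h
  subst e
  exact ⟨rfl, h8xU_inj_t chevD4 hB hA hW r hr a b h⟩

/-- **I13** [S-M]. -/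
theorem X_eq_X23 (r : ℕ) (hr : r < 24) (a b : K) (ha : a ≠ 0) (h : (X r a : GG K) = X 23 b) :
    r = 23 :=
  (tdmi13_inj r 23 hr (by decide) a b ha h).1

end I

end Cfsg.Agent.Lib.helper8.TDM
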