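import Mathlib
import Cfsg.Agent.Lib.helper8.TDM.Defs
import Cfsg.Agent.Lib.helper23.TD4VComm0
import Cfsg.Agent.Lib.helper23.TD4VComm1
import Cfsg.Agent.Lib.helper23.TD4VComm2
import Cfsg.Agent.Lib.helper23.TD4VComm3

/-!
# Project TDM (designer helper8), row U2 `X23_central`, VERBATIM (helper19)
-/

set_option autoImplicit false

namespace Cfsg.Agent.Lib.helper8.TDM

open Cfsg.Lie Cfsg.Lie.ChevalleyDatum Matrix
open Cfsg.Agent.Lib.helper8 Cfsg.Agent.Lib.helper8.TD4
open Cfsg.Agent.Lib.helper23.TD4V

universe u

section U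

variable {K : Type u} [Field K] [Fintype K] (q : ℕ)

omit [Fintype K] in
/-- `X 23 c` commutes with every positive root element -/
theorem tdmu2_pos (r : ℕ) (hr : chevD4.IsPosRoot r) (t c : K) : Commute (X r t : GG K) (X 23 c) := by
  have h24 : r < 24 := hr.1
  show X r t * X 23 c = X 23 c * X r t
  interval_cases r
  · exact absurd hr (by decide)
  · exact absurd hr (by decide)
  · exact absurd hr (by decide)
  · exact absurd hr (by decide)
  · exact absurd hr (by decide)
  · exact absurd hr (by decide)
  · exact absurd hr (by decide)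
  · exact absurd hr (by decide)
  · exact absurd hr (by decide)
  · exact absurd hr (by decide)
  · exact absurd hr (by decide)
  · exact absurd hr (by decide)
  · exact (td4vc_c_12_23 t c).symm
  · exact (td4vc_c_13_23 t c).symm
  · exact (td4vc_c_14_23 t c).symm
  · exact (td4vc_c_15_23 t c).symm
  · exact (td4vc_c_16_23 t c).symm
  · exact (td4vc_c_17_23 t c).symm
  · exact (td4vc_c_18_23 t c).symm
  · exact (td4vc_c_19_23 t c).symm
  · exact (td4vc_c_20_23 t c).symm
  · exact (td4vc_c_21_23 t c).symm
  · exact (td4vc_c_22_23 t c).symm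
  · rw [td4vc_add 23 (by decide), td4vc_add 23 (by decide), add_comm]

/-- **U2** [S-M]. -/
theorem X23_central (g : GG K) (hg : g ∈ chevD4.posUnipotent K) (c : K) : Commute g (X 23 c) := by
  unfold ChevalleyDatum.posUnipotent at hg
  induction hg using Subgroup.closure_induction with
  | mem x hx =>
    obtain ⟨r, t, hr, hx⟩ := hx
    have e : x = X r t := Units.ext hx
    rw [e]
    exact tdmu2_pos r hr t c
  | one => exact Commute.one_left _
  | mul x y _ _ hx hy => exact hx.mul_left hy
  | inv x _ hx => exact hx.inv_left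

end U

end Cfsg.Agent.Lib.helper8.TDM
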