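import Mathlib
import Cfsg.Agent.Lib.helper8.TDM.Defs
import Cfsg.Agent.Lib.helper8.TD4VE2a

/-!
# Project TDM (designer helper8), row U3 `B1_dec'`, `B1_mem`, VERBATIM (helper19)
-/

set_option autoImplicit false

namespace Cfsg.Agent.Lib.helper8.TDM

open Cfsg.Lie Cfsg.Lie.ChevalleyDatum Matrix
open Cfsg.Agent.Lib.helper8 Cfsg.Agent.Lib.helper8.TD4
open Cfsg.Agent.Lib.helper23.TD4V

universe u

section U

variable {K : Type u} [Field K] [Fintype K] (q : ℕ)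

/-- **U3** [S-M] (both). -/
theorem B1_dec' (hq : IsPrimePow q) (hK : Fintype.card K = q ^ 3) (b : GG K) (hb : b ∈ B1 K q) :
    ∃ u ∈ U1 K q, ∃ h ∈ T1 K q, b = u * h := by
  unfold B1 at hb
  obtain ⟨hbB, hbG⟩ := Subgroup.mem_inf.1 hb
  obtain ⟨h, hh', u, hu, e⟩ := B1_dec q hq hK b⁻¹ (Subgroup.inv_mem _ hbB) (Subgroup.inv_mem _ hbG)
  refine ⟨u⁻¹, Subgroup.inv_mem _ hu, h⁻¹, Subgroup.inv_mem _ hh', ?_⟩
  rw [← _root_.mul_inv_rev, ← e, inv_inv]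

theorem B1_mem (hq : IsPrimePow q) (hK : Fintype.card K = q ^ 3) :
    U1 K q ≤ B1 K q ∧ T1 K q ≤ B1 K q := by
  unfold U1 T1 B1 ChevalleyDatum.borelSubgroup
  exact ⟨inf_le_inf_right _ le_sup_left, inf_le_inf_right _ le_sup_right⟩

end U

end Cfsg.Agent.Lib.helper8.TDM
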