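import Mathlib
import Cfsg.Agent.Lib.helper8.TDM.Defs
import Cfsg.Agent.Lib.Helper10.TD4VE4b
import Cfsg.Agent.Lib.helper8.ChevCore

/-!
# Project TDM (designer helper8), row U4 `n_T1`, VERBATIM (helper19)
-/

set_option autoImplicit false

namespace Cfsg.Agent.Lib.helper8.TDM

open Cfsg.Lie Cfsg.Lie.ChevalleyDatum Matrix
open Cfsg.Agent.Lib.helper8 Cfsg.Agent.Lib.helper8.TD4
open Cfsg.Agent.Lib.helper23.TD4V

universe u

section U

variable {K : Type u} [Field K] [Fintype K] (q : ℕ)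

omit [Fintype K] in
/-- `nb`, `nJ` normalise the diagonal subgroup -/
theorem tdmu4_norm : (nb : GG K) ∈ Subgroup.normalizer (chevD4.diagonalSubgroup K : Set (GG K)) ∧
    (nJ : GG K) ∈ Subgroup.normalizer (chevD4.diagonalSubgroup K : Set (GG K)) := by
  have hA := h8reflAll chevD4 td4ve4_hD
  refine ⟨?_, ?_⟩
  · rw [td4ve4_nb_eq]
    exact h8nWU_mem_normalizer_H chevD4 hB hA [1] (by decide)
  · exact h8nWU_mem_normalizer_H chevD4 hB hA [0, 2, 3] (by decide)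

omit [Fintype K] in
/-- conjugation by an element of `G` normalising `H` preserves `T¹` -/
theorem tdmu4_conj {n : GG K} (hn : n ∈ Subgroup.normalizer (chevD4.diagonalSubgroup K : Set (GG K)))
    (hnG : n ∈ twistedD4 K q) (h : GG K) (hh' : h ∈ T1 K q) : n * h * n⁻¹ ∈ T1 K q := by
  unfold T1 at hh' ⊢
  obtain ⟨h1, h2⟩ := Subgroup.mem_inf.1 hh'
  exact Subgroup.mem_inf.2 ⟨(Subgroup.mem_normalizer_iff.1 hn h).1 h1,
    Subgroup.mul_mem _ (Subgroup.mul_mem _ hnG h2) (Subgroup.inv_mem _ hnG)⟩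

/-- **U4** [S-M]. -/
theorem n_T1 (hq : IsPrimePow q) (hK : Fintype.card K = q ^ 3) (h : GG K) (hh' : h ∈ T1 K q) :
    nb * h * nb⁻¹ ∈ T1 K q ∧ nJ * h * nJ⁻¹ ∈ T1 K q ∧ nJ⁻¹ * h * nJ ∈ T1 K q := by
  obtain ⟨hb, hJ'⟩ := tdmu4_norm (K := K)
  have hbG := td4ve4_nb_mem (K := K) q hq hK
  have hJG := td4ve4_nJ_mem (K := K) q hq hK
  refine ⟨tdmu4_conj q hb hbG h hh', tdmu4_conj q hJ' hJG h hh', ?_⟩
  have := tdmu4_conj q (Subgroup.inv_mem _ hJ') (Subgroup.inv_mem _ hJG) h hh'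
  rwa [inv_inv] at this

end U

end Cfsg.Agent.Lib.helper8.TDM
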