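import Cfsg.Agent.Lib.helper7.TO.Basic
import Cfsg.Agent.Lib.Helper24.TOND
import Cfsg.Agent.Lib.Helper28.OGenQ

/-!
# Project TO, piece SGT: Siegel elements lie in `Ω`, and generate it
(transport of `Helper28.OGenQ.sgGroupQ_quad` along `Fin a × Fin b ≃ Fin (a * b)`).
-/

set_option autoImplicit false

namespace Cfsg.Agent.Lib.helper7.TO

open Matrix Cfsg.Agent.Lib.helper7.TP Cfsg.Agent.Lib.Helper28.SympAbs
open scoped Kronecker

variable {a b : ℕ} {F : Type*} [Field F]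

/-- the form `f` of the context as a bundled bilinear form. -/
noncomputable def tosgt_B (C : Ctx a b F) : LinearMap.BilinForm F (Fin a × Fin b → F) :=
  LinearMap.mk₂ F C.f C.hf.add_left
    (fun c x v => by rw [C.hf.smul_left, smul_eq_mul])
    C.hf.add_right
    (fun c v x => by rw [C.hf.smul_right, smul_eq_mul])

/-- the form `q` of the context as a bundled quadratic form. -/
noncomputable def tosgt_Q (C : Ctx a b F) : QuadraticForm F (Fin a × Fin b → F) where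
  toFun := C.q
  toFun_smul := fun c x => by rw [C.q_smul, smul_eq_mul]
  exists_companion' := ⟨tosgt_B C, fun x y => C.q_add x y⟩

theorem tosgt_Q_coe (C : Ctx a b F) : ⇑(tosgt_Q C) = C.q := rfl

theorem tosgt_polar (C : Ctx a b F) (x y : Fin a × Fin b → F) :
    QuadraticMap.polar C.q x y = C.f x y := by
  unfold QuadraticMap.polar
  rw [C.q_add]
  ring

theorem tosgt_Q_nondeg (C : Ctx a b F) :
    (QuadraticMap.polarBilin (tosgt_Q C)).Nondegenerate := by
  constructor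
  · intro x hx
    by_contra h0
    obtain ⟨y, hy⟩ := f_nondeg C x h0
    apply hy
    have := hx y
    rw [QuadraticMap.polarBilin_apply_apply, tosgt_Q_coe, tosgt_polar] at this
    exact this
  · intro x hx
    by_contra h0
    obtain ⟨y, hy⟩ := f_nondeg C x h0
    apply hy
    have := hx y
    rw [QuadraticMap.polarBilin_apply_apply, tosgt_Q_coe, tosgt_polar, C.f_symm] at this
    exact this

/-- the reindexing `Fin a × Fin b ≃ Fin (a * b)`. -/
def tosgt_e (a b : ℕ) : Fin a × Fin b ≃ Fin (a * b) := finProdFinEquiv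

/-- the quadratic form on `F^(ab)`. -/
noncomputable def tosgt_Q' (C : Ctx a b F) : QuadraticForm F (Fin (a * b) → F) :=
  Cfsg.Agent.Lib.Lead.RI.qReindex (tosgt_e a b) (tosgt_Q C)

theorem tosgt_Q'_coe (C : Ctx a b F) :
    ⇑(tosgt_Q' C) = fun x : Fin (a * b) → F => C.q (x ∘ tosgt_e a b) := rfl

theorem tosgt_Q'_apply (C : Ctx a b F) (x : Fin (a * b) → F) :
    tosgt_Q' C x = C.q (x ∘ tosgt_e a b) := rfl

theorem tosgt_Q'_nondeg (C : Ctx a b F) :
    (QuadraticMap.polarBilin (tosgt_Q' C)).Nondegenerate :=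
  Cfsg.Agent.Lib.Lead.RI.qReindex_nondeg (tosgt_e a b) (tosgt_Q C) (tosgt_Q_nondeg C)

theorem tosgt_pf (C : Ctx a b F) (x y : Fin (a * b) → F) :
    Cfsg.Agent.S0795.pf (tosgt_Q' C) x y = C.f (x ∘ tosgt_e a b) (y ∘ tosgt_e a b) := by
  show QuadraticMap.polar (⇑(tosgt_Q' C)) x y = _
  rw [← tosgt_polar]
  rfl

theorem tosgt_omega (C : Ctx a b F) :
    (Cfsg.Geo.omegaGL C.q).map
      (Cfsg.Agent.Lib.Lead.RI.glReindex (F := F) (tosgt_e a b)).toMonoidHom =
      Cfsg.Geo.omegaGL (⇑(tosgt_Q' C)) :=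
  Cfsg.Agent.Lib.Helper28.OTrans.map_omegaGL (tosgt_e a b) C.q

/-- the Siegel map commutes with the reindexing. -/
theorem tosgt_Tv (C : Ctx a b F) (p v x : Fin (a * b) → F) (c : F) :
    Cfsg.Agent.Lib.Helper28.OMax.Tv (Cfsg.Agent.S0795.pf (tosgt_Q' C)) p v c x ∘ tosgt_e a b =
      C.sgv (p ∘ tosgt_e a b) (v ∘ tosgt_e a b) c (x ∘ tosgt_e a b) := by
  unfold Cfsg.Agent.Lib.Helper28.OMax.Tv Ctx.sgv
  rw [tosgt_pf, tosgt_pf]
  rfl

theorem tosgt_reindex_mulVec (t : Matrix.GeneralLinearGroup (Fin a × Fin b) F)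
    (x : Fin (a * b) → F) :
    ((Cfsg.Agent.Lib.Lead.RI.glReindex (F := F) (tosgt_e a b) t :
        Matrix.GeneralLinearGroup (Fin (a * b)) F) :
      Matrix (Fin (a * b)) (Fin (a * b)) F) *ᵥ x =
      ((t : Matrix (Fin a × Fin b) (Fin a × Fin b) F) *ᵥ (x ∘ tosgt_e a b)) ∘ (tosgt_e a b).symm := by
  rw [Cfsg.Agent.Lib.Lead.RI.glReindex_coe, Cfsg.Agent.Lib.Lead.RI.reindex_mulVec]

/-- Siegel elements correspond under the reindexing. -/
theorem tosgt_isSg_iff (C : Ctx a b F) (t : Matrix.GeneralLinearGroup (Fin a × Fin b) F)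
    (p v : Fin (a * b) → F) (c : F) :
    Cfsg.Agent.Lib.Helper28.OMax.IsSg (Cfsg.Agent.S0795.pf (tosgt_Q' C))
      (Cfsg.Agent.Lib.Lead.RI.glReindex (F := F) (tosgt_e a b) t) p v c ↔
      C.IsSgV t (p ∘ tosgt_e a b) (v ∘ tosgt_e a b) c := by
  constructor
  · intro h y
    have h1 := h (y ∘ (tosgt_e a b).symm)
    rw [tosgt_reindex_mulVec] at h1
    have e1 : (y ∘ (tosgt_e a b).symm) ∘ tosgt_e a b = y := by
      funext i; simp
    have h2 := congrArg (fun z => z ∘ tosgt_e a b) h1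
    rw [tosgt_Tv, e1] at h2
    rw [← h2]
    funext i
    simp
  · intro h x
    rw [tosgt_reindex_mulVec, h (x ∘ tosgt_e a b), ← tosgt_Tv]
    funext i
    simp

/-- SGT1: Siegel elements lie in `Ω` (transport of `Helper28.OGenQ.sgGroupQ_quad`). -/
theorem sg_mem_omega [Fintype F] (C : Ctx a b F) (hab : 7 ≤ a * b)
    (t : Matrix.GeneralLinearGroup (Fin a × Fin b) F) (p v : Fin a × Fin b → F) (c : F)
    (hp : C.q p = 0) (hv : C.q v = 0) (hpv : C.f p v = 0) (ht : C.IsSgV t p v c) :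
    t ∈ Cfsg.Geo.omegaGL C.q := by
  have S := Cfsg.Agent.Lib.Helper28.OGenQ.sgGroupQ_quad hab (tosgt_Q' C) (tosgt_Q'_nondeg C)
  have e1 : ∀ z : Fin a × Fin b → F, (z ∘ (tosgt_e a b).symm) ∘ tosgt_e a b = z := by
    intro z; funext i; simp
  have h1 : Cfsg.Agent.Lib.Lead.RI.glReindex (F := F) (tosgt_e a b) t ∈
      Cfsg.Geo.omegaGL (⇑(tosgt_Q' C)) := by
    apply S.sg _ (p ∘ (tosgt_e a b).symm) (v ∘ (tosgt_e a b).symm) c
    · rw [tosgt_Q'_apply, e1]; exact hp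
    · rw [tosgt_Q'_apply, e1]; exact hv
    · rw [tosgt_pf, e1, e1]; exact hpv
    · rw [tosgt_isSg_iff, e1, e1]; exact ht
  rw [← tosgt_omega] at h1
  obtain ⟨t0, ht0, h2⟩ := h1
  have : t0 = t := (Cfsg.Agent.Lib.Lead.RI.glReindex (F := F) (tosgt_e a b)).injective h2
  rw [← this]
  exact ht0

/-- SGT2: `Ω` is generated by the Siegel elements. -/
theorem omega_le_of_sgAll [Fintype F] (C : Ctx a b F) (hab : 7 ≤ a * b)
    (M : Subgroup (Matrix.GeneralLinearGroup (Fin a × Fin b) F)) (h : C.SgAll M) :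
    Cfsg.Geo.omegaGL C.q ≤ M := by
  have S := Cfsg.Agent.Lib.Helper28.OGenQ.sgGroupQ_quad hab (tosgt_Q' C) (tosgt_Q'_nondeg C)
  have h1 : Cfsg.Geo.omegaGL (⇑(tosgt_Q' C)) ≤
      M.map (Cfsg.Agent.Lib.Lead.RI.glReindex (F := F) (tosgt_e a b)).toMonoidHom := by
    apply S.gen
    intro t' p v c hp hv hpv ht'
    obtain ⟨t, rfl⟩ := (Cfsg.Agent.Lib.Lead.RI.glReindex (F := F) (tosgt_e a b)).surjective t'
    refine ⟨t, ?_, rfl⟩
    apply h t (p ∘ tosgt_e a b) (v ∘ tosgt_e a b) c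
    · exact hp
    · exact hv
    · rw [← tosgt_pf]; exact hpv
    · exact (tosgt_isSg_iff C t p v c).mp ht'
  rw [← tosgt_omega] at h1
  intro g hg
  obtain ⟨g0, hg0, h2⟩ := h1 (Subgroup.mem_map_of_mem _ hg)
  have : g0 = g := (Cfsg.Agent.Lib.Lead.RI.glReindex (F := F) (tosgt_e a b)).injective h2
  rw [← this]
  exact hg0

end Cfsg.Agent.Lib.helper7.TO
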