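import Cfsg.Agent.Lib.Helper27.TS2.Defs
import Cfsg.Agent.Lib.helper6.TSSIEG
import Cfsg.Agent.Lib.helper8.TS2RLCHAR

/-!
# Project TS2 (S5666, NT world, `a = 2`), piece C1A2B: `c1A_two_B` (helper19)

`a = 2`, `b ≥ 7`: a conjugate (in `M`) of `x_u(c)` is never of `B`-type `1 ⊗ (1 + N)`, `N² = 0`.
-/

set_option autoImplicit false
set_option linter.unusedSectionVars false
set_option linter.unusedVariables false
set_option linter.unusedSimpArgs false

namespace Cfsg.Agent.Lib.Helper21.TS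

open Matrix
open scoped Kronecker
open Cfsg.Agent.Lib.helper7.TP

variable {a b : ℕ} {F : Type*} [Field F]

/-- `1 ⊗ P` acts row by row. -/
theorem ts2c1a2b_one_kron_mulVec (P : Matrix (Fin b) (Fin b) F) (v : Fin a × Fin b → F)
    (i : Fin a) (j : Fin b) :
    (((1 : Matrix (Fin a) (Fin a) F) ⊗ₖ P) *ᵥ v) (i, j) = (P *ᵥ (fun j' => v (i, j'))) j := by
  classical
  simp only [Matrix.mulVec, dotProduct, Matrix.kroneckerMap_apply, Fintype.sum_prod_type]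
  rw [Finset.sum_eq_single i]
  · simp [Matrix.one_apply]
  · intro i' _ hi'
    simp [Matrix.one_apply, Ne.symm hi']
  · intro h; exact absurd (Finset.mem_univ i) h

/-- left cancellation of `1 ⊗ ·` (`a ≥ 1`). -/
theorem ts2c1a2b_one_kron_inj (ha : 0 < a) {P Q : Matrix (Fin b) (Fin b) F}
    (h : (1 : Matrix (Fin a) (Fin a) F) ⊗ₖ P = (1 : Matrix (Fin a) (Fin a) F) ⊗ₖ Q) : P = Q := by
  ext j j'
  have := congrFun (congrFun h (⟨0, ha⟩, j)) (⟨0, ha⟩, j')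
  simpa [Matrix.kroneckerMap_apply] using this

variable {J1 : Matrix (Fin 2) (Fin 2) F} {J2 : Matrix (Fin b) (Fin b) F}
  {M : Subgroup (Matrix.GeneralLinearGroup (Fin 2 × Fin b) F)}

/-- C1A2B [L]. `a = 2`, `b ≥ 7`: a conjugate (in `M`) of `x_u(c)` is never of `B`-type `1 ⊗ (1 + N)`. -/
theorem c1A_two_B (C : Ctx J1 J2) (hb : 7 ≤ b) (hT0 : T0 J1 J2 ≤ M) (hMS : M ≤ SpV J1 J2)
    (hL : LamF J1 M) {u : Fin 2 → F} (hu : u ≠ 0) {c : F} (hc : c ≠ 0)
    (x : Matrix.GeneralLinearGroup (Fin 2 × Fin b) F)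
    (hx : (x : Matrix (Fin 2 × Fin b) (Fin 2 × Fin b) F) = XAm J1 u (c • (1 : Matrix (Fin b) (Fin b) F)))
    (v : Matrix.GeneralLinearGroup (Fin 2 × Fin b) F) (hv : v ∈ M)
    (N : Matrix (Fin b) (Fin b) F) (hN : N * N = 0)
    (ht : ((v * x * v⁻¹ : Matrix.GeneralLinearGroup (Fin 2 × Fin b) F) :
      Matrix (Fin 2 × Fin b) (Fin 2 × Fin b) F) = (1 : Matrix (Fin 2) (Fin 2) F) ⊗ₖ (1 + N)) : False := by
  classical
  have huu : bf J1 u u = 0 := bf_self_alt C.alt C.two u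
  set V : Matrix (Fin 2 × Fin b) (Fin 2 × Fin b) F := (v : Matrix (Fin 2 × Fin b) (Fin 2 × Fin b) F) with hV
  set Vi : Matrix (Fin 2 × Fin b) (Fin 2 × Fin b) F :=
    ((v⁻¹ : Matrix.GeneralLinearGroup (Fin 2 × Fin b) F) : Matrix (Fin 2 × Fin b) (Fin 2 × Fin b) F) with hVi
  have hViV : Vi * V = 1 := by
    rw [hVi, hV, ← Units.val_mul, inv_mul_cancel, Units.val_one]
  have hVVi : V * Vi = 1 := by
    rw [hVi, hV, ← Units.val_mul, mul_inv_cancel, Units.val_one]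
  set X : Matrix (Fin 2 × Fin b) (Fin 2 × Fin b) F := XAm J1 u (c • (1 : Matrix (Fin b) (Fin b) F)) with hX
  set T : Matrix (Fin 2 × Fin b) (Fin 2 × Fin b) F := (1 : Matrix (Fin 2) (Fin 2) F) ⊗ₖ (1 + N) with hT
  have hVXVi : V * X * Vi = T := by
    rw [← ht, Units.val_mul, Units.val_mul, hx]
  have hVX : V * X = T * V := by
    calc V * X = V * X * (Vi * V) := by rw [hViV, Matrix.mul_one]
      _ = (V * X * Vi) * V := by simp only [Matrix.mul_assoc]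
      _ = T * V := by rw [hVXVi]
  -- x ∈ SpV, t ∈ SpV
  have hxS : x ∈ SpV J1 J2 := by
    have h1 : XAG J1 u huu (c • (1 : Matrix (Fin b) (Fin b) F)) ∈ SpV J1 J2 :=
      XAG_mem_SpV C.alt u huu ((selfAdj_one J2).smul c)
    have h2 : x = XAG J1 u huu (c • (1 : Matrix (Fin b) (Fin b) F)) := by
      apply Units.ext
      rw [hx, XAG_coe]
    rw [h2]; exact h1
  have hvS : v ∈ SpV J1 J2 := hMS hv
  have htS : v * x * v⁻¹ ∈ SpV J1 J2 :=
    Subgroup.mul_mem _ (Subgroup.mul_mem _ hvS hxS) (Subgroup.inv_mem _ hvS)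
  have hTiso : ∀ p q, bf (JV J1 J2) (T *ᵥ p) (T *ᵥ q) = bf (JV J1 J2) p q := by
    have := (mem_Iso_iff_bf (JV J1 J2) (v * x * v⁻¹)).mp htS
    rw [ht] at this
    exact this
  -- 1 + N is an isometry of J2
  obtain ⟨u₂, hu₂⟩ := bf_nondeg C.det1 hu
  have hiso : ∀ y y' : Fin b → F, bf J2 ((1 + N) *ᵥ y) ((1 + N) *ᵥ y') = bf J2 y y' := by
    intro y y'
    have h1 := hTiso (ten u y) (ten u₂ y')
    rw [hT, kron_mulVec_ten, kron_mulVec_ten, Matrix.one_mulVec, Matrix.one_mulVec, bf_JV_ten,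
      bf_JV_ten] at h1
    exact mul_left_cancel₀ hu₂ h1
  have hNN : ∀ y : Fin b → F, N *ᵥ (N *ᵥ y) = 0 := by
    intro y
    rw [Matrix.mulVec_mulVec, hN, Matrix.zero_mulVec]
  have hsing : ∀ y y' : Fin b → F, bf J2 (N *ᵥ y) (N *ᵥ y') = 0 := by
    intro y y'
    have h1 := hiso y (N *ᵥ y')
    rw [Matrix.add_mulVec, Matrix.add_mulVec, Matrix.one_mulVec, Matrix.one_mulVec, hNN, add_zero,
      bf_add_left] at h1
    linear_combination h1
  -- rows of v (u ⊗ z) lie in range N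
  have hTmul : ∀ p : Fin 2 × Fin b → F, T *ᵥ p = p + ((1 : Matrix (Fin 2) (Fin 2) F) ⊗ₖ N) *ᵥ p := by
    intro p
    rw [hT, Matrix.kronecker_add, Matrix.one_kronecker_one, Matrix.add_mulVec, Matrix.one_mulVec]
  have hdc : bf J1 u u₂ * c ≠ 0 := mul_ne_zero hu₂ hc
  have hrow : ∀ (z : Fin b → F) (i : Fin 2), ∃ y : Fin b → F,
      (fun j => (V *ᵥ ten u z) (i, j)) = N *ᵥ y := by
    intro z i
    have h1 : V *ᵥ (X *ᵥ ten u₂ z) = T *ᵥ (V *ᵥ ten u₂ z) := by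
      rw [Matrix.mulVec_mulVec, Matrix.mulVec_mulVec, hVX]
    rw [hX, XAm_mulVec_ten, Matrix.smul_mulVec, Matrix.one_mulVec, ten_smul_right, smul_smul,
      Matrix.mulVec_add, Matrix.mulVec_smul, hTmul] at h1
    have h2 : (bf J1 u u₂ * c) • V *ᵥ ten u z =
        ((1 : Matrix (Fin 2) (Fin 2) F) ⊗ₖ N) *ᵥ (V *ᵥ ten u₂ z) := add_left_cancel h1
    refine ⟨(bf J1 u u₂ * c)⁻¹ • (fun j => (V *ᵥ ten u₂ z) (i, j)), ?_⟩
    funext j
    have h3 := congrFun h2 (i, j)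
    rw [ts2c1a2b_one_kron_mulVec, Pi.smul_apply, smul_eq_mul] at h3
    rw [Matrix.mulVec_smul, Pi.smul_apply, smul_eq_mul, ← h3, ← mul_assoc, inv_mul_cancel₀ hdc, one_mul]
  -- dimension count
  let W' : Submodule F (Fin b → F) := LinearMap.range (Matrix.mulVecLin N)
  have hW' : ∀ y : Fin b → F, N *ᵥ y ∈ W' := fun y => ⟨y, rfl⟩
  let Lr : Fin 2 → ((Fin b → F) →ₗ[F] (Fin b → F)) := fun i =>
    { toFun := fun z => fun j => (V *ᵥ ten u z) (i, j)
      map_add' := by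
        intro z z'
        funext j
        rw [ten_add_right, Matrix.mulVec_add]
        rfl
      map_smul' := by
        intro k z
        funext j
        rw [ten_smul_right, Matrix.mulVec_smul]
        rfl }
  have hLr : ∀ i z, Lr i z ∈ W' := by
    intro i z
    obtain ⟨y, hy⟩ := hrow z i
    have : Lr i z = N *ᵥ y := hy
    rw [this]; exact hW' y
  let Φ : (Fin b → F) →ₗ[F] (Fin 2 → W') :=
    LinearMap.pi (fun i => LinearMap.codRestrict W' (Lr i) (hLr i))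
  have hΦinj : Function.Injective Φ := by
    rw [injective_iff_map_eq_zero]
    intro z hz
    have h1 : ∀ i j, (V *ᵥ ten u z) (i, j) = 0 := by
      intro i j
      have := congrArg (fun f => ((f i : W') : Fin b → F) j) hz
      simpa [Φ, Lr] using this
    have h2 : V *ᵥ ten u z = 0 := by
      funext p
      obtain ⟨i, j⟩ := p
      exact h1 i j
    have h3 : ten u z = 0 := by
      have := congrArg (Vi *ᵥ ·) h2
      simpa [Matrix.mulVec_mulVec, hViV] using this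
    obtain ⟨i, hi⟩ : ∃ i, u i ≠ 0 := by
      by_contra hcon
      push Not at hcon
      exact hu (funext hcon)
    funext j
    have := congrFun h3 (i, j)
    simp only [ten, Pi.zero_apply] at this
    rcases mul_eq_zero.mp this with h | h
    · exact (hi h).elim
    · exact h
  have hdim : b ≤ 2 * Module.finrank F W' := by
    have h1 := LinearMap.finrank_le_finrank_of_injective hΦinj
    rw [Module.finrank_fin_fun, Module.finrank_pi_fintype] at h1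
    simpa [two_mul] using h1
  have h3 : 3 ≤ Module.finrank F W' := by omega
  obtain ⟨f, hf⟩ := exists_linearIndependent_of_le_finrank h3
  have hfli : LinearIndependent F (fun k : Fin 3 => ((f k : W') : Fin b → F)) := by
    have := hf.map' W'.subtype (Submodule.ker_subtype W')
    exact this
  rw [Fintype.linearIndependent_iff] at hfli
  -- three independent vectors of range N
  obtain ⟨y₁, hy₁⟩ : ∃ y, N *ᵥ y = ((f 0 : W') : Fin b → F) := (f 0).2
  obtain ⟨y₂, hy₂⟩ : ∃ y, N *ᵥ y = ((f 1 : W') : Fin b → F) := (f 1).2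
  obtain ⟨y₃, hy₃⟩ : ∃ y, N *ᵥ y = ((f 2 : W') : Fin b → F) := (f 2).2
  set w₁ : Fin b → F := ((f 0 : W') : Fin b → F) with hw₁
  set w₂ : Fin b → F := ((f 1 : W') : Fin b → F) with hw₂
  set w₃ : Fin b → F := ((f 2 : W') : Fin b → F) with hw₃
  have hli : ∀ k₁ k₂ k₃ : F, k₁ • w₁ + k₂ • w₂ + k₃ • w₃ = 0 → k₁ = 0 ∧ k₂ = 0 ∧ k₃ = 0 := by
    intro k₁ k₂ k₃ h
    have := hfli ![k₁, k₂, k₃] (by
      rw [Fin.sum_univ_three]
      simpa using h)
    exact ⟨by simpa using this 0, by simpa using this 1, by simpa using this 2⟩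
  have h11 : bf J2 w₁ w₁ = 0 := by rw [← hy₁]; exact hsing y₁ y₁
  have h12 : bf J2 w₁ w₂ = 0 := by rw [← hy₁, ← hy₂]; exact hsing y₁ y₂
  have h22 : bf J2 w₂ w₂ = 0 := by rw [← hy₂]; exact hsing y₂ y₂
  have h1N : ∀ y, bf J2 w₁ (N *ᵥ y) = 0 := by intro y; rw [← hy₁]; exact hsing y₁ y
  have h2N : ∀ y, bf J2 w₂ (N *ᵥ y) = 0 := by intro y; rw [← hy₂]; exact hsing y₂ y
  -- the Siegel element
  set S : Matrix (Fin b) (Fin b) F := sieg J2 w₁ w₂ with hS
  have hSmul : ∀ y : Fin b → F, S *ᵥ y = y + bf J2 w₂ y • w₁ - bf J2 w₁ y • w₂ := by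
    intro y
    rw [hS, sieg_mulVec, h22, zero_div, zero_mul, zero_smul, sub_zero]
  have h12' : bf J2 w₁ (-w₂) = 0 := by rw [bf_neg_right, h12, neg_zero]
  have hSS' : S * sieg J2 w₁ (-w₂) = 1 := by
    rw [hS, sieg_mul C.sym C.two h11 h12 h12', add_neg_cancel, tssieg_zero]
  have hS'S : sieg J2 w₁ (-w₂) * S = 1 := by
    rw [hS, sieg_mul C.sym C.two h11 h12' h12, neg_add_cancel, tssieg_zero]
  let ρ : Matrix.GeneralLinearGroup (Fin b) F := ⟨S, sieg J2 w₁ (-w₂), hSS', hS'S⟩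
  have hρ : ρ ∈ Iso J2 := by
    rw [mem_Iso_iff_bf]
    intro y y'
    exact tssieg_iso C.sym C.two h11 h12 y y'
  let r₁ : Matrix.GeneralLinearGroup (Fin 2 × Fin b) F := kronG 1 ρ
  have hr₁T : r₁ ∈ T0 J1 J2 := kronG_mem_T0 (Subgroup.one_mem _) hρ
  have hr₁M : r₁ ∈ M := hT0 hr₁T
  have hr₁coe : (r₁ : Matrix (Fin 2 × Fin b) (Fin 2 × Fin b) F) =
      (1 : Matrix (Fin 2) (Fin 2) F) ⊗ₖ S := by
    show ((1 : Matrix.GeneralLinearGroup (Fin 2) F) : Matrix (Fin 2) (Fin 2) F) ⊗ₖ S = _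
    rw [Units.val_one]
  -- h := v⁻¹ r₁ v fixes u ⊗ B pointwise
  let h : Matrix.GeneralLinearGroup (Fin 2 × Fin b) F := v⁻¹ * r₁ * v
  have hhM : h ∈ M := Subgroup.mul_mem _ (Subgroup.mul_mem _ (Subgroup.inv_mem _ hv) hr₁M) hv
  have hhcoe : (h : Matrix (Fin 2 × Fin b) (Fin 2 × Fin b) F) =
      Vi * ((1 : Matrix (Fin 2) (Fin 2) F) ⊗ₖ S) * V := by
    show ((v⁻¹ * r₁ * v : Matrix.GeneralLinearGroup (Fin 2 × Fin b) F) :
      Matrix (Fin 2 × Fin b) (Fin 2 × Fin b) F) = _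
    rw [Units.val_mul, Units.val_mul, hr₁coe]
  have hfix : ∀ z : Fin b → F, ((1 : Matrix (Fin 2) (Fin 2) F) ⊗ₖ S) *ᵥ (V *ᵥ ten u z) =
      V *ᵥ ten u z := by
    intro z
    funext p
    obtain ⟨i, j⟩ := p
    rw [ts2c1a2b_one_kron_mulVec]
    obtain ⟨y, hy⟩ := hrow z i
    rw [hy, hSmul, h2N, h1N, zero_smul, zero_smul, add_zero, sub_zero, ← hy]
  have hh1 : ∀ z : Fin b → F,
      (h : Matrix (Fin 2 × Fin b) (Fin 2 × Fin b) F) *ᵥ ten u z = ten u z := by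
    intro z
    rw [hhcoe, ← Matrix.mulVec_mulVec, ← Matrix.mulVec_mulVec, hfix, Matrix.mulVec_mulVec, hViV,
      Matrix.one_mulVec]
  obtain ⟨η, hη⟩ := rl_char_two C hu h (hMS hhM) hh1
  obtain ⟨s, hs⟩ := hL u η hu ⟨h, hhM, hη⟩
  -- 1 ⊗ S = 1 + (s / c) • (1 ⊗ N)
  set O : Matrix (Fin 2 × Fin b) (Fin 2 × Fin b) F :=
    opm J1 u u ⊗ₖ (1 : Matrix (Fin b) (Fin b) F) with hO
  have hXO : X = 1 + c • O := by rw [hX, XAm, Matrix.kronecker_smul]
  have hηO : XAm J1 u η = 1 + s • O := by rw [hs, XAm, Matrix.kronecker_smul]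
  have hVOVi : c • (V * O * Vi) = (1 : Matrix (Fin 2) (Fin 2) F) ⊗ₖ N := by
    have h1 : V * X * Vi = 1 + c • (V * O * Vi) := by
      rw [hXO, Matrix.mul_add, Matrix.add_mul, Matrix.mul_one, hVVi, Matrix.mul_smul, Matrix.smul_mul]
    rw [hVXVi, hT, Matrix.kronecker_add, Matrix.one_kronecker_one] at h1
    exact (add_left_cancel h1).symm
  have hSO : (1 : Matrix (Fin 2) (Fin 2) F) ⊗ₖ S = 1 + s • (V * O * Vi) := by
    have h1 : V * (Vi * ((1 : Matrix (Fin 2) (Fin 2) F) ⊗ₖ S) * V) * Vi =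
        (1 : Matrix (Fin 2) (Fin 2) F) ⊗ₖ S := by
      calc V * (Vi * ((1 : Matrix (Fin 2) (Fin 2) F) ⊗ₖ S) * V) * Vi
          = (V * Vi) * ((1 : Matrix (Fin 2) (Fin 2) F) ⊗ₖ S) * (V * Vi) := by
            simp only [Matrix.mul_assoc]
        _ = _ := by rw [hVVi, Matrix.one_mul, Matrix.mul_one]
    rw [← h1, ← hhcoe, hη, hηO, Matrix.mul_add, Matrix.add_mul, Matrix.mul_one, hVVi, Matrix.mul_smul,
      Matrix.smul_mul]
  have hSN : S = 1 + (s / c) • N := by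
    apply ts2c1a2b_one_kron_inj (a := 2) (by norm_num)
    rw [hSO, Matrix.kronecker_add, Matrix.one_kronecker_one, Matrix.kronecker_smul, ← hVOVi, smul_smul,
      div_mul_cancel₀ s hc]
  -- evaluate at y₃
  have hev : ∀ y : Fin b → F, bf J2 w₂ y • w₁ - bf J2 w₁ y • w₂ = (s / c) • N *ᵥ y := by
    intro y
    have h1 := hSmul y
    rw [hSN, Matrix.add_mulVec, Matrix.one_mulVec, Matrix.smul_mulVec] at h1
    have h2 : (s / c) • N *ᵥ y = bf J2 w₂ y • w₁ - bf J2 w₁ y • w₂ := by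
      have := add_left_cancel (a := y) (b := (s / c) • N *ᵥ y)
        (c := bf J2 w₂ y • w₁ - bf J2 w₁ y • w₂) (by rw [h1]; abel)
      exact this
    exact h2.symm
  have hs0 : s / c = 0 := by
    have h1 := hev y₃
    rw [hy₃] at h1
    have h2 : bf J2 w₂ y₃ • w₁ + (-bf J2 w₁ y₃) • w₂ + (-(s / c)) • w₃ = 0 := by
      rw [neg_smul, neg_smul, ← sub_eq_add_neg, ← sub_eq_add_neg, h1, sub_self]
    have := (hli _ _ _ h2).2.2
    exact neg_eq_zero.mp this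
  have hw₁ne : w₁ ≠ 0 := by
    intro h0
    have h2 : (1 : F) • w₁ + (0 : F) • w₂ + (0 : F) • w₃ = 0 := by
      rw [h0]; simp
    exact one_ne_zero (hli _ _ _ h2).1
  obtain ⟨y, hy⟩ := bf_nondeg C.det2 hw₁ne
  have h1 := hev y
  rw [hs0, zero_smul] at h1
  have h2 : bf J2 w₂ y • w₁ + (-bf J2 w₁ y) • w₂ + (0 : F) • w₃ = 0 := by
    rw [neg_smul, ← sub_eq_add_neg, h1, zero_smul, add_zero]
  exact hy (neg_eq_zero.mp (hli _ _ _ h2).2.1)

end Cfsg.Agent.Lib.Helper21.TS
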