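import Mathlib
import Cfsg.Prelude.Def_ChevStructure
import Cfsg.Prelude.Def_LieTwisted
import Cfsg.Agent.Lib.helper6.TWIE6.Defs
import Cfsg.Agent.Lib.Helper1.INVSTDA

/-!
# Project TWIE6 (S2182), piece STDA : the standard involutions of `²E₆` act on the root subgroups through
the tables (port of Helper1/TWISTDA)
-/

set_option autoImplicit false
set_option linter.unusedVariables false

namespace Cfsg.Agent.Lib.helper6.TWIE6

open Cfsg.Lie Cfsg.Lie.ChevalleyDatum Cfsg.Agent.Lib.helper8 Cfsg.Agent.Lib.helper14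
  Cfsg.Agent.Lib.helper14.INV Cfsg.Agent.Lib.helper14.TWI

universe u

variable {K : Type u} [Field K]

/-- for every root `r` of `te6Std[k]` a pair `(v, j)` with `r = v(p_j)` (breadth first search) -/
def twie6stdaData : List (List (List ℕ × ℕ)) :=
  [[([1, 3, 4, 5, 2, 3, 4, 1, 3, 2], 0)],
   [([4, 5, 3, 4, 1, 3, 2], 0), ([5, 2, 3, 4, 1, 3, 2], 0)],
   [([5, 4, 3, 2], 0), ([1, 3, 4, 5, 2, 3, 4, 1, 3, 2], 0)],
   [([5, 4, 3], 2), ([4, 3, 2], 0), ([1, 3, 4, 5, 2, 3, 4, 1, 3, 2], 0)],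
   [([5, 3, 4, 2, 3], 1), ([3, 4, 1, 3, 2], 0), ([4, 5, 2, 3, 4, 1, 3, 2], 0)],
   [([3, 4, 2, 3], 1), ([4, 5, 3, 4, 1, 3, 2], 0), ([5, 2, 3, 4, 1, 3, 2], 0)],
   [([], 3), ([5, 4, 3], 2), ([4, 3, 2], 0), ([1, 3, 4, 5, 2, 3, 4, 1, 3, 2], 0)],
   [([4], 3), ([3], 2), ([5, 4, 3, 2], 0), ([1, 3, 4, 5, 2, 3, 4, 1, 3, 2], 0)],
   [([4, 3], 2), ([5, 4, 3, 2], 0), ([1, 3, 4, 5, 2, 3, 4, 1, 3, 2], 0)],
   [([3, 4, 2, 3], 1), ([5, 3, 4, 1, 3, 2], 0), ([4, 5, 2, 3, 4, 1, 3, 2], 0)],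
   [([], 3), ([4, 3], 2), ([5, 4, 3, 2], 0), ([1, 3, 4, 5, 2, 3, 4, 1, 3, 2], 0)]]

theorem twie6stda_mem_list :
    chevE6 ∈ [chevG2, chevB2, chevD4, chevF4, chevE6, chevE7, chevE8] := by simp

theorem twie6stda_valid : ∀ k < 11, ∀ vj ∈ twie6stdaData.getD k [],
    (∀ i ∈ vj.1, i < chevE6.rank) ∧ vj.2 < chevE6.rank := by decide +kernel

theorem twie6stda_roots : ∀ k < 11,
    (twie6stdaData.getD k []).map (stdaRoot chevE6) = te6Std.getD k [] := by
  decide +kernel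

set_option maxRecDepth 100000 in
theorem twie6stda_tab : ∀ k < 11, ∀ r < 72,
    h8sW chevE6 ((twie6stdaData.getD k []).flatMap stdaWord) r = (te6Tabs.getD k []).getD r 0 := by
  decide +kernel

/-- STDA : the standard involutions act on the root subgroups through the tables -/
theorem te6_std_act (hB : H8Base.{u} chevE6) (k : ℕ) (hk : k < 11) (r : ℕ) (hr : r < 72) :
    H8Act chevE6 hB (n1 chevE6 hB (te6Std.getD k []) : GL chevE6.Idx K) r
      ((te6Tabs.getD k []).getD r 0) := by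
  have hD := twie6stda_mem_list
  have hA := h8reflAll chevE6 hD
  have hBN := h8bn_all chevE6 hD
  have hW := h8bn2_all chevE6 hD
  obtain ⟨_, hO2⟩ := h8ord_all chevE6 hD
  have h1 := (stda_list_act (F := K) chevE6 hB hA hBN hW hO2 (twie6stdaData.getD k [])
    (twie6stda_valid k hk) r hr).1
  rw [twie6stda_roots k hk, twie6stda_tab k hk r hr] at h1
  exact h1

end Cfsg.Agent.Lib.helper6.TWIE6
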