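import Mathlib
import Cfsg.Prelude.Def_ChevStructure
import Cfsg.Prelude.Def_LieTwisted
import Cfsg.Agent.Lib.helper6.TWIE6.Defs

/-!
# Project TWIE6 (S2182), piece STDM : the standard root sets and their negatives are concatenations of
orbits of the graph automorphism on the roots
-/

set_option autoImplicit false
set_option linter.unusedVariables false

namespace Cfsg.Agent.Lib.helper6.TWIE6

open Cfsg.Lie Cfsg.Lie.ChevalleyDatum Cfsg.Agent.Lib.helper8 Cfsg.Agent.Lib.helper14
  Cfsg.Agent.Lib.helper14.INV Cfsg.Agent.Lib.helper14.TWI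

/-- the splitting of `te6Std[k]` into orbits of `ρ` -/
def twie6stdmPos : List (List (List ℕ)) :=
  [[[71]], [[66, 68]], [[60], [71]], [[45, 59], [71]], [[54, 64], [69]], [[53], [66, 68]],
   [[39], [45, 59], [71]], [[40, 43], [60], [71]], [[44], [60], [71]], [[53], [65], [69]],
   [[39], [44], [60], [71]]]

/-- the splitting of the negatives of `te6Std[k]` into orbits of `ρ` -/
def twie6stdmNeg : List (List (List ℕ)) :=
  [[[0]], [[5, 3]], [[11], [0]], [[26, 12], [0]], [[17, 7], [2]], [[18], [5, 3]],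
   [[32], [26, 12], [0]], [[31, 28], [11], [0]], [[27], [11], [0]], [[18], [6], [2]],
   [[32], [27], [11], [0]]]

set_option maxRecDepth 100000 in
theorem twie6stdm_chk : ∀ k < 11,
    ((∀ R ∈ twie6stdmPos.getD k [], R ∈ te6RhoOrbs) ∧
      te6Std.getD k [] = (twie6stdmPos.getD k []).flatten) ∧
    ((∀ R ∈ twie6stdmNeg.getD k [], R ∈ te6RhoOrbs) ∧
      (te6Std.getD k []).map chevE6.neg = (twie6stdmNeg.getD k []).flatten) := by
  decide +kernel

/-- STDM : the standard root sets and their negatives are concatenations of orbits of the graph automorphism on the roots -/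
theorem te6_std_split (k : ℕ) (hk : k < 11) :
    (∃ Rs : List (List ℕ), (∀ R ∈ Rs, R ∈ te6RhoOrbs) ∧ te6Std.getD k [] = Rs.flatten) ∧
    (∃ Rs : List (List ℕ), (∀ R ∈ Rs, R ∈ te6RhoOrbs) ∧
      (te6Std.getD k []).map chevE6.neg = Rs.flatten) := by
  obtain ⟨h1, h2⟩ := twie6stdm_chk k hk
  exact ⟨⟨_, h1⟩, ⟨_, h2⟩⟩

end Cfsg.Agent.Lib.helper6.TWIE6
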