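import Mathlib
import Cfsg.Prelude.Def_ChevStructure
import Cfsg.Prelude.Def_LieTwisted
import Cfsg.Agent.Lib.helper6.TWIE6.Defs
import Cfsg.Agent.Lib.Helper11.INVSTDN

/-!
# Project TWIE6 (S2182), piece STDN : the standard involutions of `²E₆` lie in `N` and square to `1`
(port of helper23/TWISTDN)
-/

set_option autoImplicit false
set_option linter.unusedVariables false

namespace Cfsg.Agent.Lib.helper6.TWIE6

open Cfsg.Lie Cfsg.Lie.ChevalleyDatum Cfsg.Agent.Lib.helper8 Cfsg.Agent.Lib.helper14
  Cfsg.Agent.Lib.helper14.INV Cfsg.Agent.Lib.helper14.TWI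

universe u

variable {K : Type u} [Field K]

set_option maxRecDepth 100000 in
/-- the Boolean check of STDN for the eleven standard sets -/
theorem twie6stdn_chk : ∀ k < 11, invstdnListChk chevE6 (te6Std.getD k []) = true := by
  decide +kernel

/-- STDN : the standard involutions lie in `N` and square to `1` -/
theorem te6_std_N [CharP K 2] (hB : H8Base.{u} chevE6) (k : ℕ) (hk : k < 11) :
    (n1 chevE6 hB (te6Std.getD k []) : GL chevE6.Idx K) ∈ chevE6.monomialSubgroup K ∧
    (n1 chevE6 hB (te6Std.getD k []) : GL chevE6.Idx K) * n1 chevE6 hB (te6Std.getD k []) = 1 := by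
  have hC := h8commAll.{u} chevE6 (by simp)
  exact invstdn_list chevE6 hB hC _ (twie6stdn_chk k hk)

end Cfsg.Agent.Lib.helper6.TWIE6
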