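import Mathlib
import Cfsg.Prelude.Def_ChevStructure
import Cfsg.Prelude.Def_ChevF4
import Cfsg.Agent.Lib.helper14.TWI.Defs

/-!
# Project TWIF4 (S2184), piece LEN : the length of a word of `F₄` is the number of positive roots it
makes negative (computable form `lenC`)
-/

set_option autoImplicit false
set_option linter.unusedVariables false

namespace Cfsg.Agent.Lib.helper8.TWIF4

open Cfsg.Lie Cfsg.Lie.ChevalleyDatum Cfsg.Agent.Lib.helper8 Cfsg.Agent.Lib.helper14
  Cfsg.Agent.Lib.helper14.INV Cfsg.Agent.Lib.helper14.TWI

universe u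

/-- counting over `Fin n` versus filtering `List.range n` -/
theorem twif4len_card_filter (n : ℕ) (P : ℕ → Prop) [DecidablePred P] :
    (Finset.univ.filter fun r : Fin n => P r.val).card =
      ((List.range n).filter fun r => decide (P r)).length := by
  have h1 : ((Finset.univ.filter fun r : Fin n => P r.val).map Fin.valEmbedding) =
      (Finset.range n).filter P := by
    ext x
    simp only [Finset.mem_map, Finset.mem_filter, Finset.mem_univ, true_and, Finset.mem_range,
      Fin.valEmbedding_apply]
    constructor
    · rintro ⟨r, hr, rfl⟩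
      exact ⟨r.2, hr⟩
    · rintro ⟨hx, hP⟩
      exact ⟨⟨x, hx⟩, hP, rfl⟩
  rw [← Finset.card_map Fin.valEmbedding, h1]
  rfl

/-- generic form of LEN -/
theorem twif4len_gen (D : ChevalleyDatum) (hA : H8ReflAll D) (w : List ℕ) (hw : ValidW D w) :
    len D hA w = ((List.range D.nroots).filter fun r =>
      decide (D.IsPosRoot r) && !decide (D.IsPosRoot (h8sW D w r))).length := by
  unfold len h8Ninv
  have e : (Finset.univ.filter fun r : Fin D.nroots =>
        D.IsPosRoot r.val ∧ ¬ D.IsPosRoot (h8wPerm D hA w r).val) =
      Finset.univ.filter fun r : Fin D.nroots =>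
        D.IsPosRoot r.val ∧ ¬ D.IsPosRoot (h8sW D w r.val) := by
    apply Finset.filter_congr
    intro r _
    rw [h8wPerm_val D hA w hw r]
  rw [e, twif4len_card_filter D.nroots
    (fun r => D.IsPosRoot r ∧ ¬ D.IsPosRoot (h8sW D w r))]
  congr 1
  apply List.filter_congr
  intro r _
  simp only [Bool.decide_and, decide_not]

/-- a computable form of the length -/
def lenC (w : List ℕ) : ℕ :=
  ((List.range 48).filter fun r =>
    decide (chevF4.IsPosRoot r) && !decide (chevF4.IsPosRoot (h8sW chevF4 w r))).length

/-- LEN : the length of a word of `F₄` is the number of positive roots it makes negative -/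
theorem f4_len (hA : H8ReflAll chevF4) (w : List ℕ) (hw : ValidW chevF4 w) :
    len chevF4 hA w = lenC w := by
  rw [twif4len_gen chevF4 hA w hw]
  rfl

end Cfsg.Agent.Lib.helper8.TWIF4
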