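import Mathlib
import Cfsg.Prelude.Def_ChevStructure
import Cfsg.Prelude.Def_ChevF4
import Cfsg.Agent.Lib.helper14.TWI.Defs
import Cfsg.Agent.Lib.helper14.INV.Gen
import Cfsg.Agent.Lib.helper23.INVSAMEPERM

/-!
# Project TWIF4 (S2184), piece REPW : replacing the word `w` by another word with the same action on
the roots
-/

set_option autoImplicit false
set_option linter.unusedVariables false

namespace Cfsg.Agent.Lib.helper8.TWIF4

open Cfsg.Lie Cfsg.Lie.ChevalleyDatum Cfsg.Agent.Lib.helper8 Cfsg.Agent.Lib.helper14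
  Cfsg.Agent.Lib.helper14.INV Cfsg.Agent.Lib.helper14.TWI

universe u

variable {K : Type u} [Field K]

/-- generic form of REPW -/
theorem twif4repw_gen (D : ChevalleyDatum) (hB : H8Base.{u} D) (hA : H8ReflAll D) (hBN : H8BN D)
    (hW : H8BN2 D) (hO2 : H8Ord2 D) (w w' : List ℕ) (hw : ValidW D w)
    (hw' : ValidW D w') (h : ∀ r < D.nroots, h8sW D w r = h8sW D w' r)
    (h0 : GL D.Idx K) (hh : h0 ∈ D.diagonalSubgroup K) :
    ∃ h1 ∈ D.diagonalSubgroup K,
      h0 * (h8nWU D hB w : GL D.Idx K) = h1 * (h8nWU D hB w' : GL D.Idx K) := by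
  have hN : (h8nWU D hB w : GL D.Idx K) ∈ D.monomialSubgroup K := h8nWU_mem_N D hB hA w hw
  have hN' : (h8nWU D hB w' : GL D.Idx K) ∈ D.monomialSubgroup K := h8nWU_mem_N D hB hA w' hw'
  have hd : (h8nWU D hB w' : GL D.Idx K)⁻¹ * (h8nWU D hB w : GL D.Idx K) ∈ D.diagonalSubgroup K := by
    apply N_same_perm D hB hA hBN hW hO2 _ _ hN' hN (fun r => h8sW D w r)
    · intro r hr
      have := h8nWU_act (F := K) D hB hA w' hw' r hr
      rw [← h r hr] at this
      exact this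
    · intro r hr
      exact h8nWU_act (F := K) D hB hA w hw r hr
  have hnorm := h8nWU_mem_normalizer_H (F := K) D hB hA w' hw'
  have hc : (h8nWU D hB w' : GL D.Idx K) *
      ((h8nWU D hB w' : GL D.Idx K)⁻¹ * (h8nWU D hB w : GL D.Idx K)) *
      (h8nWU D hB w' : GL D.Idx K)⁻¹ ∈ D.diagonalSubgroup K :=
    (Subgroup.mem_normalizer_iff.mp hnorm _).mp hd
  refine ⟨h0 * ((h8nWU D hB w' : GL D.Idx K) *
      ((h8nWU D hB w' : GL D.Idx K)⁻¹ * (h8nWU D hB w : GL D.Idx K)) *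
      (h8nWU D hB w' : GL D.Idx K)⁻¹), Subgroup.mul_mem _ hh hc, ?_⟩
  group

/-- REPW : replacing the word `w` by another word with the same action on the roots -/
theorem f4_repw (hB : H8Base.{u} chevF4) (hA : H8ReflAll chevF4) (hBN : H8BN chevF4)
    (hW : H8BN2 chevF4) (hO2 : H8Ord2 chevF4) (w w' : List ℕ) (hw : ValidW chevF4 w)
    (hw' : ValidW chevF4 w') (h : ∀ r < chevF4.nroots, h8sW chevF4 w r = h8sW chevF4 w' r)
    (h0 : GL chevF4.Idx K) (hh : h0 ∈ chevF4.diagonalSubgroup K) :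
    ∃ h1 ∈ chevF4.diagonalSubgroup K,
      h0 * (h8nWU chevF4 hB w : GL chevF4.Idx K) = h1 * (h8nWU chevF4 hB w' : GL chevF4.Idx K) :=
  twif4repw_gen chevF4 hB hA hBN hW hO2 w w' hw hw' h h0 hh

end Cfsg.Agent.Lib.helper8.TWIF4
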