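import Mathlib
import Cfsg.Agent.Lib.Helper19.TransferTwo

set_option autoImplicit false

namespace Cfsg.Agent.Lib.Helper19.TransferParity

open MonoidHom MulAction Subgroup Cfsg.Agent.Lib.Helper19

variable {G : Type*} [Group G]

/-- `g⁻¹ u g` lies in `H` but not in `K`. -/
def BadElt (H K : Subgroup G) (u g : G) : Prop :=
  g⁻¹ * u * g ∈ H ∧ g⁻¹ * u * g ∉ K

/-- the same predicate on cosets, through the chosen representative. -/
def Bad (H K : Subgroup G) (u : G) (c : G ⧸ H) : Prop :=
  BadElt H K u c.out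

theorem normal_of_relIndex_two {H K : Subgroup G} (hK2 : (K.subgroupOf H).index = 2) {h k : G}
    (hh : h ∈ H) (hkH : k ∈ H) : h⁻¹ * k * h ∈ K ↔ k ∈ K := by
  have hn : (K.subgroupOf H).Normal := Subgroup.normal_of_index_eq_two hK2
  have key : ∀ (a b : G), a ∈ H → b ∈ H → b ∈ K → a * b * a⁻¹ ∈ K := by
    intro a b ha hb hbK
    have := hn.conj_mem ⟨b, hb⟩ (by rw [mem_subgroupOf]; exact hbK) ⟨a, ha⟩
    rw [mem_subgroupOf] at this
    simpa using this
  constructor
  · intro hk
    have := key h (h⁻¹ * k * h) hh (H.mul_mem (H.mul_mem (H.inv_mem hh) hkH) hh) hk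
    have e : h * (h⁻¹ * k * h) * h⁻¹ = k := by group
    rwa [e] at this
  · intro hk
    have := key h⁻¹ k (H.inv_mem hh) hkH hk
    simpa using this

theorem badElt_mul_right {H K : Subgroup G} (hK2 : (K.subgroupOf H).index = 2) (u g h : G) (hh : h ∈ H) :
    BadElt H K u (g * h) ↔ BadElt H K u g := by
  unfold BadElt
  have e : (g * h)⁻¹ * u * (g * h) = h⁻¹ * (g⁻¹ * u * g) * h := by group
  rw [e]
  have h1 : h⁻¹ * (g⁻¹ * u * g) * h ∈ H ↔ g⁻¹ * u * g ∈ H := by
    constructor
    · intro hx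
      have := H.mul_mem (H.mul_mem hh hx) (H.inv_mem hh)
      have e2 : h * (h⁻¹ * (g⁻¹ * u * g) * h) * h⁻¹ = g⁻¹ * u * g := by group
      rwa [e2] at this
    · intro hx
      exact H.mul_mem (H.mul_mem (H.inv_mem hh) hx) hh
  constructor
  · rintro ⟨hx, hy⟩
    have hx' := h1.1 hx
    exact ⟨hx', fun hk => hy ((normal_of_relIndex_two hK2 hh hx').2 hk)⟩
  · rintro ⟨hx, hy⟩
    exact ⟨h1.2 hx, fun hk => hy ((normal_of_relIndex_two hK2 hh hx).1 hk)⟩

theorem bad_mk_iff {H K : Subgroup G} (hK2 : (K.subgroupOf H).index = 2) (u g : G) :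
    Bad H K u (g : G ⧸ H) ↔ BadElt H K u g := by
  obtain ⟨h, hh⟩ := QuotientGroup.mk_out_eq_mul H g
  unfold Bad
  rw [hh]
  exact badElt_mul_right hK2 u g h h.2

theorem badElt_mul_left {H K : Subgroup G} (u g x : G) (hx : x * u = u * x) :
    BadElt H K u (x * g) ↔ BadElt H K u g := by
  unfold BadElt
  have e : (x * g)⁻¹ * u * (x * g) = g⁻¹ * u * g := by
    have : x⁻¹ * u * x = u := by rw [mul_assoc, ← hx, inv_mul_cancel_left]
    calc (x * g)⁻¹ * u * (x * g) = g⁻¹ * (x⁻¹ * u * x) * g := by group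
      _ = g⁻¹ * u * g := by rw [this]
  rw [e]

theorem bad_fixed {H K : Subgroup G} {u : G} {c : G ⧸ H} (hc : Bad H K u c) : u • c = c := by
  have h1 : c.out⁻¹ * u * c.out ∈ H := hc.1
  conv_rhs => rw [← QuotientGroup.out_eq' c]
  conv_lhs => rw [← QuotientGroup.out_eq' c]
  rw [MulAction.Quotient.smul_mk, QuotientGroup.eq]
  have e : (u • c.out)⁻¹ * c.out = (c.out⁻¹ * u * c.out)⁻¹ := by
    simp only [smul_eq_mul]; group
  rw [e]
  exact H.inv_mem h1

theorem minimalPeriod_eq_one_of_bad {H K : Subgroup G} {u : G} {c : G ⧸ H} (hc : Bad H K u c) :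
    Function.minimalPeriod (u • ·) c = 1 := by
  rw [Function.minimalPeriod_eq_one_iff_isFixedPt]
  exact bad_fixed hc

theorem term_eq {H K : Subgroup G} (hK2 : (K.subgroupOf H).index = 2) (u : G) (hu : u * u = 1)
    (g : G) (k : ℕ) (hk : g⁻¹ * u ^ k * g ∈ H)
    (hk' : k = 1 ∨ (k = 2 ∧ g⁻¹ * u * g ∉ H)) [Decidable (BadElt H K u g)] :
    signHomOfIndexTwo H (K.subgroupOf H) hK2 ⟨g⁻¹ * u ^ k * g, hk⟩ =
      if BadElt H K u g then -1 else 1 := by
  rcases hk' with rfl | ⟨rfl, hnot⟩
  · by_cases hb : BadElt H K u g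
    · rw [if_pos hb]
      apply signHomOfIndexTwo_apply_of_not_mem
      rw [mem_subgroupOf]
      simpa using hb.2
    · rw [if_neg hb, signHomOfIndexTwo_apply, mem_subgroupOf]
      simp only [pow_one] at hk ⊢
      by_contra hK
      exact hb ⟨hk, hK⟩
  · have hb : ¬ BadElt H K u g := fun hb => hnot hb.1
    rw [if_neg hb, signHomOfIndexTwo_apply, mem_subgroupOf]
    have : g⁻¹ * u ^ 2 * g = 1 := by rw [pow_two, hu]; group
    simp only [this]
    exact K.one_mem

theorem transfer_involution [Finite G] (H K : Subgroup G) (hK2 : (K.subgroupOf H).index = 2)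
    (u : G) (hu : u * u = 1) :
    transfer (signHomOfIndexTwo H (K.subgroupOf H) hK2) u =
      (-1) ^ Nat.card {c : G ⧸ H // Bad H K u c} := by
  classical
  have : H.FiniteIndex := inferInstance
  let _ : Fintype (Quotient (orbitRel (zpowers u) (G ⧸ H))) := Fintype.ofFinite _
  let _ : Fintype (G ⧸ H) := Fintype.ofFinite _
  rw [transfer_eq_prod_quotient_orbitRel_zpowers_quot]
  have hdvd : ∀ c : G ⧸ H, Function.minimalPeriod (u • ·) c ∣ 2 := by
    intro c
    rw [← pow_smul_eq_iff_minimalPeriod_dvd, pow_two, hu, one_smul]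
  have hterm : ∀ q : Quotient (orbitRel (zpowers u) (G ⧸ H)),
      signHomOfIndexTwo H (K.subgroupOf H) hK2
        ⟨q.out.out⁻¹ * u ^ Function.minimalPeriod (u • ·) q.out * q.out.out,
            QuotientGroup.out_conj_pow_minimalPeriod_mem H u q.out⟩ =
        if Bad H K u q.out then -1 else 1 := by
    intro q
    apply term_eq hK2 u hu
    have h2 := hdvd q.out
    have h3 : Function.minimalPeriod (u • ·) q.out = 1 ∨ Function.minimalPeriod (u • ·) q.out = 2 := by
      have := (Nat.dvd_prime Nat.prime_two).1 h2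
      exact this
    rcases h3 with h3 | h3
    · exact Or.inl h3
    · refine Or.inr ⟨h3, ?_⟩
      intro hmem
      have hfix : u • q.out = q.out := by
        conv_rhs => rw [← QuotientGroup.out_eq' q.out]
        conv_lhs => rw [← QuotientGroup.out_eq' q.out]
        rw [MulAction.Quotient.smul_mk, QuotientGroup.eq]
        have e : (u • q.out.out)⁻¹ * q.out.out = (q.out.out⁻¹ * u * q.out.out)⁻¹ := by
          simp only [smul_eq_mul]; group
        rw [e]
        exact H.inv_mem hmem
      have : Function.minimalPeriod (u • ·) q.out = 1 := by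
        rw [Function.minimalPeriod_eq_one_iff_isFixedPt]
        exact hfix
      omega
  rw [Finset.prod_congr rfl (fun q _ => hterm q)]
  rw [Finset.prod_ite, Finset.prod_const_one, mul_one, Finset.prod_const]
  congr 1
  -- bijection between bad orbits and bad cosets
  rw [← Fintype.card_subtype, ← Nat.card_eq_fintype_card]
  apply Nat.card_congr
  refine
    { toFun := fun q => ⟨q.1.out, q.2⟩
      invFun := fun c => ⟨Quotient.mk'' c.1, ?_⟩
      left_inv := ?_
      right_inv := ?_ }
  · have hmem : (Quotient.mk'' c.1 : Quotient (orbitRel (zpowers u) (G ⧸ H))).out ∈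
        orbit (zpowers u) c.1 := by
      have := Quotient.exact (Quotient.out_eq (Quotient.mk'' c.1 : Quotient (orbitRel (zpowers u) (G ⧸ H))))
      exact this
    obtain ⟨⟨x, hx⟩, hxc⟩ := hmem
    obtain ⟨k, rfl⟩ := mem_zpowers_iff.1 hx
    have hfix := bad_fixed c.2
    have : (u ^ k) • c.1 = c.1 := by
      have h1 : ∀ n : ℕ, (u ^ n) • c.1 = c.1 := by
        intro n
        induction n with
        | zero => simp
        | succ n ih => rw [pow_succ, mul_smul, hfix, ih]
      rcases Int.eq_nat_or_neg k with ⟨n, rfl | rfl⟩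
      · rw [zpow_natCast]; exact h1 n
      · rw [zpow_neg, zpow_natCast, inv_smul_eq_iff, h1 n]
    have hxc' : (u ^ k) • c.1 = (Quotient.mk'' c.1 : Quotient (orbitRel (zpowers u) (G ⧸ H))).out := hxc
    rw [← hxc', this]
    exact c.2
  · intro q
    apply Subtype.ext
    exact Quotient.out_eq q.1
  · intro c
    apply Subtype.ext
    have hmem : (Quotient.mk'' c.1 : Quotient (orbitRel (zpowers u) (G ⧸ H))).out ∈
        orbit (zpowers u) c.1 := by
      have := Quotient.exact (Quotient.out_eq (Quotient.mk'' c.1 : Quotient (orbitRel (zpowers u) (G ⧸ H))))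
      exact this
    obtain ⟨⟨x, hx⟩, hxc⟩ := hmem
    obtain ⟨k, rfl⟩ := mem_zpowers_iff.1 hx
    have hfix := bad_fixed c.2
    have : (u ^ k) • c.1 = c.1 := by
      have h1 : ∀ n : ℕ, (u ^ n) • c.1 = c.1 := by
        intro n
        induction n with
        | zero => simp
        | succ n ih => rw [pow_succ, mul_smul, hfix, ih]
      rcases Int.eq_nat_or_neg k with ⟨n, rfl | rfl⟩
      · rw [zpow_natCast]; exact h1 n
      · rw [zpow_neg, zpow_natCast, inv_smul_eq_iff, h1 n]
    have hxc' : (u ^ k) • c.1 = (Quotient.mk'' c.1 : Quotient (orbitRel (zpowers u) (G ⧸ H))).out := hxc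
    show (Quotient.mk'' c.1 : Quotient (orbitRel (zpowers u) (G ⧸ H))).out = c.1
    rw [← hxc', this]

/-- The set of bad cosets as a sub-`X`-set, for `X` centralizing `u`. -/
def badSub (H K : Subgroup G) (hK2 : (K.subgroupOf H).index = 2) (u : G) (X : Subgroup G)
    (hXu : ∀ x ∈ X, x * u = u * x) : SubMulAction X (G ⧸ H) where
  carrier := {c | Bad H K u c}
  smul_mem' := by
    intro x c hc
    have hc' : Bad H K u c := hc
    show Bad H K u (x • c)
    have e : x • c = (((x : G) * c.out : G) : G ⧸ H) := by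
      conv_lhs => rw [← QuotientGroup.out_eq' c]
      rfl
    rw [e, bad_mk_iff hK2, badElt_mul_left u c.out x (hXu x x.2)]
    exact hc'

theorem exists_bad_fixed [Finite G] (H K : Subgroup G) (hK2 : (K.subgroupOf H).index = 2)
    (u : G) (hu : u * u = 1)
    (htr : transfer (signHomOfIndexTwo H (K.subgroupOf H) hK2) u = 1)
    (X : Subgroup G) (hX2 : IsPGroup 2 X) (hXu : ∀ x ∈ X, x * u = u * x) (hXH : X ≤ H)
    (huH : u ∈ H) (huK : u ∉ K) :
    ∃ g : G, g ∉ H ∧ g⁻¹ * u * g ∈ H ∧ g⁻¹ * u * g ∉ K ∧ ∀ x ∈ X, g⁻¹ * x * g ∈ H := by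
  classical
  have : Fact (Nat.Prime 2) := ⟨Nat.prime_two⟩
  rw [transfer_involution H K hK2 u hu] at htr
  have heven : Even (Nat.card {c : G ⧸ H // Bad H K u c}) := by
    by_contra hne
    rw [Nat.not_even_iff_odd] at hne
    rw [Odd.neg_one_pow hne] at htr
    exact absurd htr (by decide)
  set S := badSub H K hK2 u X hXu with hS
  have hcard : Nat.card S = Nat.card {c : G ⧸ H // Bad H K u c} := rfl
  have hmod := hX2.card_modEq_card_fixedPoints (α := S)
  have heven2 : Even (Nat.card (fixedPoints X S)) := by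
    have h1 : Nat.card (fixedPoints X S) % 2 = Nat.card S % 2 := hmod.symm
    rw [hcard] at h1
    rw [Nat.even_iff] at heven ⊢
    omega
  -- the trivial coset is a bad fixed point
  have hbad1 : Bad H K u ((1 : G) : G ⧸ H) := by
    rw [bad_mk_iff hK2]
    unfold BadElt
    simp only [inv_one, one_mul, mul_one]
    exact ⟨huH, huK⟩
  let c1 : S := ⟨((1 : G) : G ⧸ H), hbad1⟩
  have hc1 : c1 ∈ fixedPoints X S := by
    intro x
    apply Subtype.ext
    show (x : G) • ((1 : G) : G ⧸ H) = ((1 : G) : G ⧸ H)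
    rw [MulAction.Quotient.smul_mk, QuotientGroup.eq]
    simp only [smul_eq_mul, mul_one]
    exact H.inv_mem (hXH x.2)
  have hnt : Nontrivial (fixedPoints X S) := by
    rw [← Finite.one_lt_card_iff_nontrivial]
    have hpos : 0 < Nat.card (fixedPoints X S) := by
      apply Nat.card_pos_iff.2
      exact ⟨⟨⟨c1, hc1⟩⟩, inferInstance⟩
    rcases heven2 with ⟨r, hr⟩
    omega
  obtain ⟨⟨c, hc⟩, hne⟩ := exists_ne (⟨c1, hc1⟩ : fixedPoints X S)
  have hcne : c.1 ≠ ((1 : G) : G ⧸ H) := by
    intro h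
    apply hne
    apply Subtype.ext
    apply Subtype.ext
    exact h
  have hcbad : Bad H K u c.1 := c.2
  refine ⟨c.1.out, ?_, hcbad.1, hcbad.2, ?_⟩
  · intro hmem
    apply hcne
    rw [← QuotientGroup.out_eq' c.1, QuotientGroup.eq]
    simpa using H.inv_mem hmem
  · intro x hx
    have hfix : (⟨x, hx⟩ : X) • c = c := hc ⟨x, hx⟩
    have hfix' : (x : G) • c.1 = c.1 := congrArg Subtype.val hfix
    have h2 : ((x * c.1.out : G) : G ⧸ H) = ((c.1.out : G) : G ⧸ H) := by
      have : (x : G) • ((c.1.out : G) : G ⧸ H) = ((c.1.out : G) : G ⧸ H) := by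
        rw [QuotientGroup.out_eq']; exact hfix'
      exact this
    rw [QuotientGroup.eq] at h2
    have e : c.1.out⁻¹ * x * c.1.out = ((x * c.1.out)⁻¹ * c.1.out)⁻¹ := by group
    rw [e]
    exact H.inv_mem h2

end Cfsg.Agent.Lib.Helper19.TransferParity
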