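import Mathlib

set_option autoImplicit false

/-!
The twisted tensor module `V ⊗ V^σ` of `SL₂(F)`, `char F = 3`, realised on `2 × 2` matrices:
`g • X = g * X * (g^σ)ᵀ`, `σ` the Frobenius `x ↦ x³`.
Key fact: if `g • X = ± X` with `X ≠ 0` then `tr g ∈ F₃` (resp. `tr g = 0`).
-/

namespace Cfsg.Agent.Lib.Helper19.TwTensor

open Matrix

section Mat
variable {F : Type*} [Field F]

abbrev M2 (F : Type*) := Matrix (Fin 2) (Fin 2) F

/-- Cayley–Hamilton for `2 × 2` matrices -/
theorem ch2 (A : M2 F) : A * A = A.trace • A - A.det • (1 : M2 F) := by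
  ext i j
  fin_cases i <;> fin_cases j <;>
    simp [Matrix.mul_apply, Fin.sum_univ_two, Matrix.trace, Matrix.det_fin_two] <;> ring

theorem mul_adjugate_of_det_one (A : M2 F) (h : A.det = 1) : A * A.adjugate = 1 := by
  rw [Matrix.mul_adjugate, h, one_smul]

theorem trace_adjugate2 (A : M2 F) : A.adjugate.trace = A.trace := by
  rw [Matrix.adjugate_fin_two]
  simp [Matrix.trace, Fin.sum_univ_two]
  ring

theorem det_adjugate2 (A : M2 F) : A.adjugate.det = A.det := by
  rw [Matrix.adjugate_fin_two]
  simp [Matrix.det_fin_two]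
  ring

/-- the intertwining computation -/
theorem trace_rel (g h X : M2 F) (ε : F) (hε : ε * ε = 1) (hg : g.det = 1) (hh : h.det = 1)
    (hfix : g * X = ε • (X * h)) (hX : X ≠ 0) : ε * g.trace = h.trace := by
  have hg2 := ch2 g
  have hh2 := ch2 h
  rw [hg] at hg2
  rw [hh] at hh2
  -- g * g * X = X * (h * h)
  have h1 : g * g * X = X * (h * h) := by
    calc g * g * X = g * (g * X) := by rw [Matrix.mul_assoc]
      _ = g * (ε • (X * h)) := by rw [hfix]
      _ = ε • (g * X * h) := by rw [Matrix.mul_smul, Matrix.mul_assoc]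
      _ = ε • ((ε • (X * h)) * h) := by rw [hfix]
      _ = (ε * ε) • (X * (h * h)) := by
          rw [Matrix.smul_mul, smul_smul, Matrix.mul_assoc]
      _ = X * (h * h) := by rw [hε, one_smul]
  rw [hg2, hh2] at h1
  -- (t g - 1) X = X (t' h - 1)
  have h2 : g.trace • (g * X) = h.trace • (X * h) := by
    have e1 : (g.trace • g - (1 : F) • (1 : M2 F)) * X = g.trace • (g * X) - X := by
      rw [Matrix.sub_mul, Matrix.smul_mul, one_smul, Matrix.one_mul]
    have e2 : X * (h.trace • h - (1 : F) • (1 : M2 F)) = h.trace • (X * h) - X := by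
      rw [Matrix.mul_sub, Matrix.mul_smul, one_smul, Matrix.mul_one]
    rw [e1, e2] at h1
    exact sub_left_injective h1
  rw [hfix, smul_smul] at h2
  -- (t ε - t') • (X * h) = 0
  have h3 : (g.trace * ε - h.trace) • (X * h) = 0 := by
    rw [sub_smul, h2, sub_self]
  rcases smul_eq_zero.1 h3 with h4 | h4
  · rw [mul_comm]; exact sub_eq_zero.1 h4
  · exfalso
    apply hX
    have : X * h * h.adjugate = 0 := by rw [h4, Matrix.zero_mul]
    rw [Matrix.mul_assoc, mul_adjugate_of_det_one h hh, Matrix.mul_one] at this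
    exact this

end Mat

section Frob
variable {F : Type*} [Field F] [CharP F 3]

instance fact3 : Fact (Nat.Prime 3) := ⟨by norm_num⟩

/-- the twist `g ↦ (g^σ)ᵀ` -/
noncomputable def tw (g : M2 F) : M2 F := ((frobenius F 3).mapMatrix g)ᵀ

theorem tw_mul (g h : M2 F) : tw (g * h) = tw h * tw g := by
  unfold tw
  rw [map_mul, Matrix.transpose_mul]

theorem tw_one : tw (1 : M2 F) = 1 := by
  unfold tw
  rw [map_one, Matrix.transpose_one]

theorem det_tw (g : M2 F) : (tw g).det = g.det ^ 3 := by
  unfold tw
  rw [Matrix.det_transpose, ← RingHom.map_det]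
  rfl

theorem trace_tw (g : M2 F) : (tw g).trace = g.trace ^ 3 := by
  unfold tw
  rw [Matrix.trace_transpose]
  simp [Matrix.trace, Fin.sum_univ_two, frobenius_def, add_pow_char]

/-- the action on matrices -/
noncomputable def act (g X : M2 F) : M2 F := g * X * tw g

theorem act_mul (g h X : M2 F) : act (g * h) X = act g (act h X) := by
  unfold act
  rw [tw_mul]
  simp only [Matrix.mul_assoc]

theorem act_one (X : M2 F) : act 1 X = X := by
  unfold act
  rw [tw_one, Matrix.one_mul, Matrix.mul_one]

theorem act_add (g X Y : M2 F) : act g (X + Y) = act g X + act g Y := by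
  unfold act
  rw [Matrix.mul_add, Matrix.add_mul]

theorem act_neg_one (X : M2 F) : act (-1) X = X := by
  unfold act tw
  rw [map_neg, map_one, Matrix.transpose_neg, Matrix.transpose_one]
  simp

/-- the trace relation for (anti-)fixed points -/
theorem trace_of_fixed (g X : M2 F) (ε : F) (hε : ε * ε = 1) (hg : g.det = 1)
    (hfix : act g X = ε • X) (hX : X ≠ 0) : ε * g.trace = g.trace ^ 3 := by
  have hd : (tw g).det = 1 := by rw [det_tw, hg, one_pow]
  have h1 : g * X = ε • (X * (tw g).adjugate) := by
    have := congrArg (fun Y => Y * (tw g).adjugate) hfix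
    simp only [act] at this
    rw [Matrix.mul_assoc, mul_adjugate_of_det_one _ hd, Matrix.mul_one, Matrix.smul_mul] at this
    exact this
  have := trace_rel g (tw g).adjugate X ε hε hg (by rw [det_adjugate2, hd]) h1 hX
  rw [trace_adjugate2, trace_tw] at this
  exact this

/-- fixed points force `g² = -1`, `g³ = 1` or `g³ = -1` -/
theorem of_fixed (g X : M2 F) (hg : g.det = 1) (hfix : act g X = X) (hX : X ≠ 0) :
    g * g = -1 ∨ g * g * g = 1 ∨ g * g * g = -1 := by
  have ht := trace_of_fixed g X 1 (one_mul 1) hg (by rw [one_smul]; exact hfix) hX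
  rw [one_mul] at ht
  have hch := ch2 g
  rw [hg, one_smul] at hch
  have h3 : (3 : F) = 0 := by
    have := CharP.cast_eq_zero F 3
    exact_mod_cast this
  have hfac : g.trace * (g.trace - 1) * (g.trace + 1) = 0 := by
    have : g.trace * (g.trace - 1) * (g.trace + 1) = g.trace ^ 3 - g.trace := by ring
    rw [this, ← ht, sub_self]
  rcases mul_eq_zero.1 hfac with h | h
  · rcases mul_eq_zero.1 h with h | h
    · left
      rw [hch, h, zero_smul, zero_sub]
    · right; right
      have ht1 : g.trace = 1 := sub_eq_zero.1 h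
      rw [ht1, one_smul] at hch
      calc g * g * g = (g - 1) * g := by rw [hch]
        _ = g * g - g := by rw [Matrix.sub_mul, Matrix.one_mul]
        _ = -1 := by rw [hch]; abel
  · right; left
    have ht1 : g.trace = -1 := eq_neg_of_add_eq_zero_left h
    rw [ht1, neg_one_smul] at hch
    calc g * g * g = (-g - 1) * g := by rw [hch]
      _ = -(g * g) - g := by rw [Matrix.sub_mul, Matrix.neg_mul, Matrix.one_mul]
      _ = 1 := by rw [hch]; abel

/-- anti-fixed points force `g² = -1` when `-1` is not a square -/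
theorem of_antifixed (hns : ∀ x : F, x * x ≠ -1) (g X : M2 F) (hg : g.det = 1)
    (hfix : act g X = -X) (hX : X ≠ 0) : g * g = -1 := by
  have ht := trace_of_fixed g X (-1) (by ring) hg (by rw [neg_one_smul]; exact hfix) hX
  have hch := ch2 g
  rw [hg, one_smul] at hch
  have hfac : g.trace * (g.trace * g.trace + 1) = 0 := by
    have : g.trace * (g.trace * g.trace + 1) = g.trace ^ 3 - (-1) * g.trace := by ring
    rw [this, ← ht, sub_self]
  rcases mul_eq_zero.1 hfac with h | h
  · rw [hch, h, zero_smul, zero_sub]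
  · exfalso
    exact hns g.trace (eq_neg_of_add_eq_zero_left h)

end Frob

end Cfsg.Agent.Lib.Helper19.TwTensor
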