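import Mathlib
import Cfsg.Agent.Lib.Helper19.TwTensor
import Cfsg.Agent.Lib.Helper19.SemiOrd

set_option autoImplicit false

namespace Cfsg.Agent.Lib.Helper19.TwGroup

open Matrix Cfsg.Agent.Lib.Helper19.TwTensor Cfsg.Agent.Lib.Helper19.SemiOrd

section
variable (F : Type*) [Field F] [CharP F 3]

abbrev SL2 := Matrix.SpecialLinearGroup (Fin 2) F
abbrev PSL2 := Matrix.ProjectiveSpecialLinearGroup (Fin 2) F
abbrev NN := Multiplicative (M2 F)

variable {F}

/-- the action of a determinant-one matrix as an additive automorphism -/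
noncomputable def actEquiv (g : SL2 F) : M2 F ≃+ M2 F where
  toFun X := act g.1 X
  invFun X := act (g⁻¹ : SL2 F).1 X
  left_inv X := by
    show act (g⁻¹ : SL2 F).1 (act g.1 X) = X
    rw [← act_mul, ← Matrix.SpecialLinearGroup.coe_mul, inv_mul_cancel,
      Matrix.SpecialLinearGroup.coe_one, act_one]
  right_inv X := by
    show act g.1 (act (g⁻¹ : SL2 F).1 X) = X
    rw [← act_mul, ← Matrix.SpecialLinearGroup.coe_mul, mul_inv_cancel,
      Matrix.SpecialLinearGroup.coe_one, act_one]
  map_add' X Y := act_add g.1 X Y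

/-- the action of `SL₂(F)` on `Multiplicative (M2 F)` -/
noncomputable def phiSL : SL2 F →* MulAut (NN F) where
  toFun g := AddEquiv.toMultiplicative (actEquiv g)
  map_one' := by
    apply MulEquiv.ext
    intro v
    show Multiplicative.ofAdd (act (1 : SL2 F).1 (Multiplicative.toAdd v)) = v
    rw [Matrix.SpecialLinearGroup.coe_one, act_one]
    rfl
  map_mul' a b := by
    apply MulEquiv.ext
    intro v
    show Multiplicative.ofAdd (act (a * b : SL2 F).1 (Multiplicative.toAdd v)) =
      Multiplicative.ofAdd (act a.1 (act b.1 (Multiplicative.toAdd v)))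
    rw [Matrix.SpecialLinearGroup.coe_mul, act_mul]

theorem phiSL_apply (g : SL2 F) (v : NN F) :
    phiSL g v = Multiplicative.ofAdd (act g.1 (Multiplicative.toAdd v)) := rfl

theorem center_le_ker : Subgroup.center (SL2 F) ≤ (phiSL (F := F)).ker := by
  intro A hA
  obtain ⟨r, hr, hA'⟩ := Matrix.SpecialLinearGroup.mem_center_iff.1 hA
  rw [Fintype.card_fin] at hr
  rw [MonoidHom.mem_ker]
  apply MulEquiv.ext
  intro v
  rw [phiSL_apply]
  have hr2 : r = 1 ∨ r = -1 := by
    have : (r - 1) * (r + 1) = 0 := by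
      have : (r - 1) * (r + 1) = r ^ 2 - 1 := by ring
      rw [this, hr, sub_self]
    rcases mul_eq_zero.1 this with h | h
    · left; exact sub_eq_zero.1 h
    · right; exact eq_neg_of_add_eq_zero_left h
  have hA1 : (A : M2 F) = 1 ∨ (A : M2 F) = -1 := by
    rcases hr2 with h | h
    · left; rw [← hA', h]; simp
    · right; rw [← hA', h]; ext i j; fin_cases i <;> fin_cases j <;> simp
  rcases hA1 with h | h
  · rw [h, act_one]; rfl
  · rw [h, act_neg_one]; rfl

/-- the action of `PSL₂(F)` -/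
noncomputable def phiP : PSL2 F →* MulAut (NN F) :=
  QuotientGroup.lift (Subgroup.center (SL2 F)) phiSL center_le_ker

theorem phiP_mk (g : SL2 F) : phiP (QuotientGroup.mk g : PSL2 F) = phiSL g := rfl

/-- the sign action -/
def sgnAct : ℤˣ →* MulAut (NN F) where
  toFun ε :=
    { toFun := fun n => n ^ (ε : ℤ)
      invFun := fun n => n ^ (ε : ℤ)
      left_inv := fun n => by
        show (n ^ (ε : ℤ)) ^ (ε : ℤ) = n
        rw [← _root_.zpow_mul, ← Units.val_mul, Int.units_mul_self, Units.val_one, zpow_one]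
      right_inv := fun n => by
        show (n ^ (ε : ℤ)) ^ (ε : ℤ) = n
        rw [← _root_.zpow_mul, ← Units.val_mul, Int.units_mul_self, Units.val_one, zpow_one]
      map_mul' := fun a b => mul_zpow a b _ }
  map_one' := by
    apply MulEquiv.ext
    intro n
    show n ^ ((1 : ℤˣ) : ℤ) = n
    rw [Units.val_one, zpow_one]
  map_mul' a b := by
    apply MulEquiv.ext
    intro n
    show n ^ ((a * b : ℤˣ) : ℤ) = (n ^ (b : ℤ)) ^ (a : ℤ)
    rw [← _root_.zpow_mul, Units.val_mul, mul_comm]

theorem sgnAct_apply (ε : ℤˣ) (n : NN F) : sgnAct ε n = n ^ (ε : ℤ) := rfl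

/-- the combined action of `C₂ × PSL₂(F)` -/
noncomputable def phiL : ℤˣ × PSL2 F →* MulAut (NN F) :=
  MonoidHom.noncommCoprod sgnAct phiP (by
    intro ε g
    apply MulEquiv.ext
    intro n
    show sgnAct ε (phiP g n) = phiP g (sgnAct ε n)
    rw [sgnAct_apply, sgnAct_apply, map_zpow])

theorem phiL_apply (ε : ℤˣ) (g : PSL2 F) (n : NN F) :
    phiL (ε, g) n = (phiP g n) ^ (ε : ℤ) := rfl

/-- the group `H` -/
abbrev HH (F : Type*) [Field F] [CharP F 3] : Type _ := NN F ⋊[phiL (F := F)] (ℤˣ × PSL2 F)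

end

section Orders
variable {F : Type*} [Field F] [CharP F 3]

theorem neg_one_mem_center (g : SL2 F) (h : (g : M2 F) = -1) : g ∈ Subgroup.center (SL2 F) := by
  rw [Matrix.SpecialLinearGroup.mem_center_iff]
  refine ⟨-1, by simp, ?_⟩
  rw [h]
  ext i j
  fin_cases i <;> fin_cases j <;> simp

theorem mk_pow_two_eq_one (g : SL2 F) (h : (g : M2 F) * g = -1) :
    (QuotientGroup.mk g : PSL2 F) ^ 2 = 1 := by
  rw [← QuotientGroup.mk_pow, QuotientGroup.eq_one_iff]
  apply neg_one_mem_center
  rw [pow_two, Matrix.SpecialLinearGroup.coe_mul, h]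

theorem mk_pow_three_eq_one (g : SL2 F)
    (h : (g : M2 F) * g * g = 1 ∨ (g : M2 F) * g * g = -1) :
    (QuotientGroup.mk g : PSL2 F) ^ 3 = 1 := by
  rw [← QuotientGroup.mk_pow, QuotientGroup.eq_one_iff]
  have e : ((g ^ 3 : SL2 F) : M2 F) = (g : M2 F) * g * g := by
    rw [pow_succ, pow_two, Matrix.SpecialLinearGroup.coe_mul, Matrix.SpecialLinearGroup.coe_mul]
  rcases h with h | h
  · have : g ^ 3 = 1 := by
      apply Subtype.ext
      rw [e, h]; rfl
    rw [this]; exact Subgroup.one_mem _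
  · apply neg_one_mem_center
    rw [e, h]

theorem fix_analysis (hns : ∀ x : F, x * x ≠ -1) (l : ℤˣ × PSL2 F) (w : NN F)
    (hw : phiL l w = w) (hw1 : w ≠ 1) : l ^ 2 = 1 ∨ l ^ 3 = 1 := by
  obtain ⟨ε, gbar⟩ := l
  obtain ⟨g, rfl⟩ := QuotientGroup.mk_surjective gbar
  set X : M2 F := Multiplicative.toAdd w with hX
  have hX0 : X ≠ 0 := by
    intro h
    apply hw1
    exact congrArg Multiplicative.ofAdd h
  rw [phiL_apply, phiP_mk, phiSL_apply] at hw
  rcases Int.units_eq_one_or ε with rfl | rfl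
  · -- ε = 1
    have hfix : act g.1 X = X := by
      have := congrArg Multiplicative.toAdd hw
      simpa using this
    rcases of_fixed g.1 X g.2 hfix hX0 with h | h | h
    · left
      rw [Prod.pow_mk, mk_pow_two_eq_one g h, one_pow]; rfl
    · right
      rw [Prod.pow_mk, mk_pow_three_eq_one g (Or.inl h), one_pow]; rfl
    · right
      rw [Prod.pow_mk, mk_pow_three_eq_one g (Or.inr h), one_pow]; rfl
  · -- ε = -1
    have hfix : act g.1 X = -X := by
      have e1 : ((-1 : ℤˣ) : ℤ) = -1 := rfl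
      rw [e1, _root_.zpow_neg_one] at hw
      have h2 : -(act g.1 X) = X := congrArg Multiplicative.toAdd hw
      exact neg_eq_iff_eq_neg.1 h2
    have h := of_antifixed hns g.1 X g.2 hfix hX0
    left
    rw [Prod.pow_mk, mk_pow_two_eq_one g h]
    rfl

theorem NN_pow_three (n : NN F) : n ^ 3 = 1 := by
  have : (3 : ℕ) • Multiplicative.toAdd n = 0 := by
    rw [nsmul_eq_mul]
    have h3 : ((3 : ℕ) : M2 F) = 0 := by
      have := CharP.cast_eq_zero F 3
      ext i j
      fin_cases i <;> fin_cases j <;> simp [Matrix.natCast_apply] <;> exact_mod_cast this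
    rw [h3, zero_mul]
  exact congrArg Multiplicative.ofAdd this

/-- orders of elements of `H` -/
theorem orderOf_HH [Finite F] (hns : ∀ x : F, x * x ≠ -1) (x : HH F) :
    orderOf x ∈ Set.range (orderOf : ℤˣ × PSL2 F → ℕ) ∨ orderOf x ∣ 6 ∨ orderOf x ∣ 9 := by
  by_cases hfpf : ∀ w : NN F, phiL x.right w = w → w = 1
  · left
    refine ⟨x.right, ?_⟩
    have := orderOf_mk_eq_of_fpf (phiL (F := F)) x.right hfpf x.left
    exact this.symm
  · right
    push Not at hfpf
    obtain ⟨w, hw, hw1⟩ := hfpf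
    have hd := orderOf_dvd_mul (phiL (F := F)) 3 NN_pow_three x
    rcases fix_analysis hns x.right w hw hw1 with h | h
    · left
      have : orderOf x.right ∣ 2 := orderOf_dvd_of_pow_eq_one h
      have h6 : orderOf x.right * 3 ∣ 6 := Nat.mul_dvd_mul_right this 3
      exact hd.trans h6
    · right
      have : orderOf x.right ∣ 3 := orderOf_dvd_of_pow_eq_one h
      have h9 : orderOf x.right * 3 ∣ 9 := Nat.mul_dvd_mul_right this 3
      exact hd.trans h9

end Orders

end Cfsg.Agent.Lib.Helper19.TwGroup
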