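import Mathlib
import Cfsg.Agent.Lib.Helper19.TwGroup
import Cfsg.Agent.S2475

set_option autoImplicit false

/-!
The group `H = M₂(F) ⋊ (C₂ × PSL₂(F))`, `|F| = 3^α`, `α` odd: its maximal element orders are
`6, 9, q - 1, (q + 1) / 2`.
-/

namespace Cfsg.Agent.Lib.Helper19.TwMain

open Matrix Cfsg.Agent.Lib.Helper19.TwTensor Cfsg.Agent.Lib.Helper19.SemiOrd
  Cfsg.Agent.Lib.Helper19.TwGroup

theorem maximal_eq {S T : Set ℕ} (h1 : T ⊆ S) (h2 : ∀ n ∈ S, ∃ t ∈ T, n ∣ t)
    (h3 : ∀ t ∈ T, ∀ t' ∈ T, t ∣ t' → t' = t) :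
    {n | n ∈ S ∧ ∀ m ∈ S, n ∣ m → m = n} = T := by
  ext n
  constructor
  · rintro ⟨hn, hmax⟩
    obtain ⟨t, ht, hnt⟩ := h2 n hn
    have := hmax t (h1 ht) hnt
    rw [← this]; exact ht
  · intro hn
    refine ⟨h1 hn, fun m hm hnm => ?_⟩
    obtain ⟨t', ht', hmt'⟩ := h2 m hm
    have := h3 n hn t' ht' (hnm.trans hmt')
    rw [this] at hmt'
    exact Nat.dvd_antisymm hmt' hnm

theorem q_mod4 (α : ℕ) (hodd : Odd α) : 3 ^ α % 4 = 3 := by
  obtain ⟨k, rfl⟩ := hodd
  rw [pow_succ, pow_mul]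
  have : (3 ^ 2) ^ k % 4 = 1 := by
    rw [Nat.pow_mod]; norm_num
  omega

theorem q_ge (α : ℕ) (hα : 3 ≤ α) : 27 ≤ 3 ^ α := by
  calc 27 = 3 ^ 3 := by norm_num
    _ ≤ 3 ^ α := Nat.pow_le_pow_right (by norm_num) hα

theorem q_mod3 (α : ℕ) (hα : 3 ≤ α) : 3 ^ α % 3 = 0 := by
  apply Nat.mod_eq_zero_of_dvd
  exact dvd_pow_self 3 (by omega)

theorem orderOf_neg_one_units : orderOf (-1 : ℤˣ) = 2 := by
  apply orderOf_eq_prime
  · decide
  · decide

theorem orderOf_units_dvd (ε : ℤˣ) : orderOf ε ∣ 2 := by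
  apply orderOf_dvd_of_pow_eq_one
  rcases Int.units_eq_one_or ε with rfl | rfl <;> decide

section
variable {F : Type*} [Field F] [CharP F 3]

omit [CharP F 3] in
theorem hns_of_card [Fintype F] (h : Fintype.card F % 4 = 3) : ∀ x : F, x * x ≠ -1 := by
  intro x hx
  have : IsSquare (-1 : F) := ⟨x, hx.symm⟩
  rw [FiniteField.isSquare_neg_one_iff] at this
  exact this h

instance finite_HH [Finite F] : Finite (HH F) :=
  Finite.of_equiv _ (SemidirectProduct.equivProd (φ := phiL (F := F))).symm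

theorem orderOf_inr (l : ℤˣ × PSL2 F) : orderOf (SemidirectProduct.inr l : HH F) = orderOf l :=
  orderOf_injective (SemidirectProduct.inr : (ℤˣ × PSL2 F) →* HH F)
    SemidirectProduct.inr_injective l

/-- the unipotent element -/
def uMat : M2 F := !![1, 1; 0, 1]

omit [CharP F 3] in
theorem det_uMat : (uMat : M2 F).det = 1 := by simp [uMat, Matrix.det_fin_two]

def uSL : SL2 F := ⟨uMat, det_uMat⟩

theorem three_eq_zero : (3 : F) = 0 := by
  have := CharP.cast_eq_zero F 3
  exact_mod_cast this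

theorem uMat_cube : (uMat : M2 F) * uMat * uMat = 1 := by
  have h3 := three_eq_zero (F := F)
  ext i j
  fin_cases i <;> fin_cases j <;> simp [uMat, Matrix.mul_apply, Fin.sum_univ_two]
  rw [← h3]; ring

theorem tw_uMat : tw (uMat : M2 F) = !![1, 0; 1, 1] := by
  ext i j
  fin_cases i <;> fin_cases j <;> simp [tw, uMat, frobenius_def]

theorem tw_uMat2 : tw ((uMat : M2 F) * uMat) = !![1, 0; 2, 1] := by
  rw [tw_mul, tw_uMat]
  ext i j
  fin_cases i <;> fin_cases j <;> simp [Matrix.mul_apply, Fin.sum_univ_two]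
  ring

def X0 : M2 F := !![0, 0; 0, 1]

theorem sum_act : (X0 : M2 F) + act uMat X0 + act (uMat * uMat) X0 = !![2, 0; 0, 0] := by
  have h3 := three_eq_zero (F := F)
  unfold act
  rw [tw_uMat, tw_uMat2]
  ext i j
  fin_cases i <;> fin_cases j <;> simp [uMat, X0]
  all_goals linear_combination h3

theorem phiL_one_mk (g : SL2 F) (X : M2 F) :
    phiL ((1 : ℤˣ), (QuotientGroup.mk g : PSL2 F)) (Multiplicative.ofAdd X) =
      Multiplicative.ofAdd (act g.1 X) := by
  rw [phiL_apply, phiP_mk, phiSL_apply, Units.val_one, zpow_one]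
  rfl

/-- an element of order `9` -/
noncomputable def h9 : HH F := ⟨Multiplicative.ofAdd X0, ((1 : ℤˣ), QuotientGroup.mk uSL)⟩

theorem h9_cube_left :
    ((h9 : HH F) ^ 3).left = Multiplicative.ofAdd (!![2, 0; 0, 0] : M2 F) := by
  rw [pow_succ, pow_two]
  rw [SemidirectProduct.mul_left, SemidirectProduct.mul_left, SemidirectProduct.mul_right]
  show Multiplicative.ofAdd X0 *
      phiL ((1 : ℤˣ), (QuotientGroup.mk uSL : PSL2 F)) (Multiplicative.ofAdd X0) *
      phiL (((1 : ℤˣ), (QuotientGroup.mk uSL : PSL2 F)) * ((1 : ℤˣ), QuotientGroup.mk uSL))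
        (Multiplicative.ofAdd X0) = _
  have e : ((1 : ℤˣ), (QuotientGroup.mk uSL : PSL2 F)) * ((1 : ℤˣ), QuotientGroup.mk uSL) =
      ((1 : ℤˣ), (QuotientGroup.mk (uSL * uSL) : PSL2 F)) := by
    rw [Prod.mk_mul_mk, one_mul]
    rfl
  rw [e, phiL_one_mk, phiL_one_mk, ← ofAdd_add, ← ofAdd_add]
  congr 1
  exact sum_act

theorem two_ne_zero' : (2 : F) ≠ 0 := by
  intro h
  have h3 := three_eq_zero (F := F)
  have : (1 : F) = 0 := by linear_combination h3 - h
  exact one_ne_zero this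

theorem orderOf_h9 : orderOf (h9 : HH F) = 9 := by
  have : orderOf (h9 : HH F) = 3 ^ (1 + 1) := by
    apply orderOf_eq_prime_pow
    · intro h
      rw [pow_one] at h
      have hl := h9_cube_left (F := F)
      rw [h] at hl
      have h2 : (0 : M2 F) = !![2, 0; 0, 0] := hl
      have := congrFun (congrFun h2 0) 0
      simp at this
      exact two_ne_zero' this.symm
    · have hd := orderOf_dvd_mul (phiL (F := F)) 3 NN_pow_three (h9 : HH F)
      have hr : orderOf (h9 : HH F).right ∣ 3 := by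
        apply orderOf_dvd_of_pow_eq_one
        show (((1 : ℤˣ), (QuotientGroup.mk uSL : PSL2 F))) ^ 3 = 1
        rw [Prod.pow_mk, mk_pow_three_eq_one uSL (Or.inl uMat_cube), one_pow]
        rfl
      have h9' : orderOf (h9 : HH F) ∣ 3 ^ (1 + 1) := hd.trans (Nat.mul_dvd_mul_right hr 3)
      exact orderOf_dvd_iff_pow_eq_one.1 h9'
  rw [this]
  norm_num

theorem exists_P : ∃ P : Subgroup (HH F), P.Normal ∧ P ≠ ⊥ ∧ IsPGroup 3 ↥P := by
  refine ⟨(SemidirectProduct.inl : NN F →* HH F).range, ?_, ?_, ?_⟩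
  · rw [SemidirectProduct.range_inl_eq_ker_rightHom]
    exact MonoidHom.normal_ker _
  · intro h
    have hmem : (SemidirectProduct.inl (Multiplicative.ofAdd X0) : HH F) ∈
        (SemidirectProduct.inl : NN F →* HH F).range := ⟨_, rfl⟩
    rw [h, Subgroup.mem_bot] at hmem
    have h1 : Multiplicative.ofAdd (X0 : M2 F) = 1 :=
      SemidirectProduct.inl_injective (by rw [hmem, map_one])
    have h2 : (X0 : M2 F) = 0 := h1
    have := congrFun (congrFun h2 1) 1
    simp [X0] at this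
  · rintro ⟨g, hg⟩
    obtain ⟨n, rfl⟩ := hg
    refine ⟨1, ?_⟩
    apply Subtype.ext
    simp only [pow_one, Subgroup.coe_pow, Subgroup.coe_one]
    rw [← map_pow, NN_pow_three, map_one]

end

section Main
variable {F : Type*} [Field F] [Fintype F] [CharP F 3]

theorem main_orders (hq4 : Fintype.card F % 4 = 3) (hq3 : Fintype.card F % 3 = 0)
    (hq27 : 27 ≤ Fintype.card F) :
    {n : ℕ | n ∈ Set.range (orderOf : HH F → ℕ) ∧
      ∀ m ∈ Set.range (orderOf : HH F → ℕ), n ∣ m → m = n} =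
      ({6, 9, Fintype.card F - 1, (Fintype.card F + 1) / 2} : Set ℕ) := by
  have hns := hns_of_card (F := F) hq4
  have hP := Cfsg.Agent.S2475.result (F := F) 3 (by omega)
  generalize Fintype.card F = q at *
  have hg : Nat.gcd 2 (q - 1) = 2 := Nat.gcd_eq_left (by omega)
  rw [hg] at hP
  apply maximal_eq
  · -- T ⊆ S
    intro t ht
    simp only [Set.mem_insert_iff, Set.mem_singleton_iff] at ht
    rcases ht with rfl | rfl | rfl | rfl
    · have h3 : (3 : ℕ) ∈ Set.range (orderOf : PSL2 F → ℕ) := by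
        rw [hP]; left; exact dvd_rfl
      obtain ⟨g, hg3⟩ := h3
      refine ⟨SemidirectProduct.inr (-1, g), ?_⟩
      rw [orderOf_inr, Prod.orderOf, orderOf_neg_one_units, hg3]
      rfl
    · exact ⟨h9, orderOf_h9⟩
    · have ha : ((q - 1) / 2) ∈ Set.range (orderOf : PSL2 F → ℕ) := by
        rw [hP]; right; left; exact dvd_rfl
      obtain ⟨g, hga⟩ := ha
      refine ⟨SemidirectProduct.inr (-1, g), ?_⟩
      rw [orderOf_inr, Prod.orderOf, orderOf_neg_one_units, hga]
      have hcop : Nat.Coprime 2 ((q - 1) / 2) := by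
        rw [Nat.coprime_two_left, Nat.odd_iff]; omega
      show Nat.lcm 2 ((q - 1) / 2) = q - 1
      rw [hcop.lcm_eq_mul]; omega
    · have hb : ((q + 1) / 2) ∈ Set.range (orderOf : PSL2 F → ℕ) := by
        rw [hP]; right; right; exact dvd_rfl
      obtain ⟨g, hgb⟩ := hb
      refine ⟨SemidirectProduct.inr (1, g), ?_⟩
      rw [orderOf_inr, Prod.orderOf, orderOf_one, hgb]
      exact Nat.lcm_one_left _
  · -- every order divides a member of T
    rintro n ⟨x, rfl⟩
    rcases orderOf_HH hns x with h | h | h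
    · obtain ⟨⟨ε, g⟩, hl⟩ := h
      rw [← hl, Prod.orderOf]
      have hε := orderOf_units_dvd ε
      have hg' : orderOf g ∈ Set.range (orderOf : PSL2 F → ℕ) := ⟨g, rfl⟩
      rw [hP] at hg'
      rcases hg' with hg' | hg' | hg'
      · exact ⟨6, by simp, Nat.lcm_dvd (hε.trans (by norm_num)) (hg'.trans (by norm_num))⟩
      · refine ⟨q - 1, by simp, Nat.lcm_dvd (hε.trans ?_) (hg'.trans ?_)⟩
        · omega
        · exact Nat.div_dvd_of_dvd (by omega)
      · refine ⟨(q + 1) / 2, by simp, Nat.lcm_dvd (hε.trans ?_) hg'⟩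
        omega
    · exact ⟨6, by simp, h⟩
    · exact ⟨9, by simp, h⟩
  · -- antichain
    intro t ht t' ht' hd
    simp only [Set.mem_insert_iff, Set.mem_singleton_iff] at ht ht'
    have hbq : (q + 1) / 2 ∣ q - 1 → False := by
      intro hd
      have h1 : (q + 1) / 2 ∣ 2 * ((q + 1) / 2) := dvd_mul_left _ 2
      have h2 := Nat.dvd_sub h1 hd
      have e : 2 * ((q + 1) / 2) - (q - 1) = 2 := by omega
      rw [e] at h2
      have := Nat.le_of_dvd (by norm_num) h2
      omega
    rcases ht with rfl | rfl | rfl | rfl <;> rcases ht' with rfl | rfl | rfl | rfl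
    all_goals first
      | rfl
      | (exfalso; exact hbq hd)
      | (exfalso; obtain ⟨c, hc⟩ := hd; omega)
      | (exfalso; have := Nat.le_of_dvd (by omega) hd; omega)

end Main

end Cfsg.Agent.Lib.Helper19.TwMain
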