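import Mathlib

set_option autoImplicit false

namespace Cfsg.Agent.Lib.Helper19.TwoFrob

section Semidirect

open SemidirectProduct

variable {N G : Type*} [Group N] [Group G] (φ : G →* MulAut N)

theorem orderOf_mk_eq [Finite N] (g : G) (hfpf : ∀ w : N, φ g w = w → w = 1) (m : N) :
    orderOf (⟨m, g⟩ : N ⋊[φ] G) = orderOf g := by
  have hinj : Function.Injective (fun w : N => w * (φ g w)⁻¹) := by
    intro w w' h
    have h' : w * (φ g w)⁻¹ = w' * (φ g w')⁻¹ := h
    have h1 : φ g (w'⁻¹ * w) = w'⁻¹ * w := by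
      rw [map_mul, map_inv]
      calc (φ g w')⁻¹ * φ g w = w'⁻¹ * (w' * (φ g w')⁻¹) * φ g w := by group
        _ = w'⁻¹ * (w * (φ g w)⁻¹) * φ g w := by rw [h']
        _ = w'⁻¹ * w := by group
    have h3 := hfpf _ h1
    exact (inv_mul_eq_one.mp h3).symm
  have hsurj := Finite.injective_iff_surjective.mp hinj
  obtain ⟨w, hw⟩ := hsurj m
  have hw' : w * (φ g w)⁻¹ = m := hw
  have hconj : (⟨m, g⟩ : N ⋊[φ] G) = MulAut.conj (inl w) (inr g) := by
    rw [MulAut.conj_apply]
    ext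
    · simp [← hw']
    · simp
  rw [hconj, MulEquiv.orderOf_eq, orderOf_injective inr inr_injective]

theorem isSolvable_semidirect [Group.IsSolvable N] [Group.IsSolvable G] :
    Group.IsSolvable (N ⋊[φ] G) :=
  Group.isSolvable_of_ker_le_range (inl : N →* N ⋊[φ] G) rightHom
    (le_of_eq range_inl_eq_ker_rightHom.symm)

end Semidirect

section Field

variable {K : Type} [Field K] [CharP K 3]

/-- iterated Frobenius `x ↦ x ^ 3 ^ n` -/
noncomputable def fr (n : ℕ) : K →+* K := iterateFrobenius K 3 n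

theorem fr_apply (n : ℕ) (x : K) : fr n x = x ^ 3 ^ n := iterateFrobenius_def 3 n x

@[ext]
structure A7 (K : Type) where
  (w1 w2 p1 p2 r1 r2 z : K)

noncomputable def A7.mul (x y : A7 K) : A7 K :=
  ⟨x.w1 + y.w1, x.w2 + y.w2,
   x.p1 + y.p1 + fr 3 y.w1 * x.w1, x.p2 + y.p2 + fr 3 y.w1 * x.w2,
   x.r1 + y.r1 + fr 3 x.w1 * fr 2 y.w2, x.r2 + y.r2 - fr 3 x.w1 * fr 2 y.w1,
   x.z + y.z + (x.w1 * y.r1 + x.w2 * y.r2) + (x.p1 * fr 2 y.w2 - x.p2 * fr 2 y.w1)⟩

def A7.one : A7 K := ⟨0, 0, 0, 0, 0, 0, 0⟩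

noncomputable def A7.inv (x : A7 K) : A7 K :=
  ⟨-x.w1, -x.w2,
   -x.p1 + fr 3 x.w1 * x.w1, -x.p2 + fr 3 x.w1 * x.w2,
   -x.r1 + fr 3 x.w1 * fr 2 x.w2, -x.r2 - fr 3 x.w1 * fr 2 x.w1,
   -x.z + (x.w1 * x.r1 + x.w2 * x.r2) - fr 3 x.w1 * (x.w1 * fr 2 x.w2 - x.w2 * fr 2 x.w1)
     + (x.p1 * fr 2 x.w2 - x.p2 * fr 2 x.w1)⟩

noncomputable instance A7.instGroup : Group (A7 K) where
  mul := A7.mul
  one := A7.one
  inv := A7.inv
  mul_assoc x y z := by
    show A7.mul (A7.mul x y) z = A7.mul x (A7.mul y z)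
    ext <;> simp only [A7.mul, map_add] <;> ring
  one_mul x := by
    show A7.mul A7.one x = x
    ext <;> simp [A7.mul, A7.one]
  mul_one x := by
    show A7.mul x A7.one = x
    ext <;> simp [A7.mul, A7.one]
  inv_mul_cancel x := by
    show A7.mul (A7.inv x) x = A7.one
    ext <;> simp only [A7.mul, A7.inv, A7.one, map_neg] <;> ring

theorem A7.mul_w1 (x y : A7 K) : (x * y).w1 = x.w1 + y.w1 := rfl
theorem A7.mul_w2 (x y : A7 K) : (x * y).w2 = x.w2 + y.w2 := rfl
theorem A7.one_def : (1 : A7 K) = ⟨0, 0, 0, 0, 0, 0, 0⟩ := rfl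
theorem A7.mul_def (x y : A7 K) : x * y = A7.mul x y := rfl

theorem three_eq_zero : (3 : K) = 0 := by exact_mod_cast CharP.cast_eq_zero K 3

theorem A7.cube (x : A7 K) :
    x ^ 3 = ⟨0, 0, 0, 0, 0, 0, fr 3 x.w1 * (x.w1 * fr 2 x.w2 - x.w2 * fr 2 x.w1)⟩ := by
  have h3 : (3 : K) = 0 := three_eq_zero
  rw [pow_succ, pow_two]
  show A7.mul (A7.mul x x) x = _
  ext <;> simp only [A7.mul, map_add]
  · linear_combination x.w1 * h3
  · linear_combination x.w2 * h3
  · linear_combination (x.p1 + fr 3 x.w1 * x.w1) * h3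
  · linear_combination (x.p2 + fr 3 x.w1 * x.w2) * h3
  · linear_combination (x.r1 + fr 3 x.w1 * fr 2 x.w2) * h3
  · linear_combination (x.r2 - fr 3 x.w1 * fr 2 x.w1) * h3
  · linear_combination (x.z + (x.w1 * x.r1 + x.w2 * x.r2) +
      (x.p1 * fr 2 x.w2 - x.p2 * fr 2 x.w1)) * h3

theorem A7.pow_nine (x : A7 K) : x ^ 9 = 1 := by
  have : x ^ 9 = (x ^ 3) ^ 3 := by rw [← pow_mul]
  rw [this, A7.cube, A7.cube, A7.one_def]
  simp

theorem A7.cube_eq_one_iff (x : A7 K) :
    x ^ 3 = 1 ↔ fr 3 x.w1 * (x.w1 * fr 2 x.w2 - x.w2 * fr 2 x.w1) = 0 := by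
  rw [A7.cube, A7.one_def]
  constructor
  · intro h
    exact congrArg A7.z h
  · intro h
    rw [h]

/-- the central element with last coordinate `k` -/
def zc (k : K) : A7 K := ⟨0, 0, 0, 0, 0, 0, k⟩

theorem zc_cube (k : K) : zc k ^ 3 = 1 := by
  rw [A7.cube_eq_one_iff]
  simp [zc]

theorem zc_ne_one {k : K} (hk : k ≠ 0) : zc k ≠ 1 := by
  intro h
  exact hk (congrArg A7.z h)

instance A7.instFinite [Finite K] : Finite (A7 K) :=
  Finite.of_injective (fun x : A7 K => (x.w1, x.w2, x.p1, x.p2, x.r1, x.r2, x.z)) (by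
    intro x y h
    simp only [Prod.mk.injEq] at h
    obtain ⟨h1, h2, h3, h4, h5, h6, h7⟩ := h
    exact A7.ext h1 h2 h3 h4 h5 h6 h7)

/-- the field has 81 elements (in the form needed) -/
class F81 (K : Type) [Field K] : Prop where
  pow81 : ∀ x : K, x ^ 81 = x

theorem fr_zero (x : K) : fr 0 x = x := by
  rw [fr_apply, pow_zero, pow_one]

theorem fr_add (a b : ℕ) (x : K) : fr (a + b) x = fr a (fr b x) := by
  rw [fr_apply, fr_apply, fr_apply, ← pow_mul, ← pow_add, add_comm]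

theorem fr_comm (a b : ℕ) (x : K) : fr a (fr b x) = fr b (fr a x) := by
  rw [← fr_add, ← fr_add, add_comm]

theorem fr_four [F81 K] (x : K) : fr 4 x = x := by
  rw [fr_apply]
  norm_num
  exact F81.pow81 x

theorem fr_four_mul [F81 K] (q : ℕ) (x : K) : fr (4 * q) x = x := by
  induction q with
  | zero => rw [mul_zero, fr_zero]
  | succ q ih => rw [Nat.mul_succ, fr_add, fr_four, ih]

theorem fr_mod [F81 K] (n : ℕ) (x : K) : fr (n % 4) x = fr n x := by
  conv_rhs => rw [← Nat.div_add_mod n 4]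
  rw [fr_add, fr_four_mul]

/-- Frobenius power indexed by `ZMod 4` -/
noncomputable def fj (j : ZMod 4) : K →+* K := fr j.val

theorem fj_zero (x : K) : fj 0 x = x := by
  show fr (0 : ZMod 4).val x = x
  rw [ZMod.val_zero, fr_zero]

theorem fj_add [F81 K] (j j' : ZMod 4) (x : K) : fj (j + j') x = fj j (fj j' x) := by
  show fr (j + j').val x = fr j.val (fr j'.val x)
  rw [ZMod.val_add, fr_mod, fr_add]

theorem fj_neg_cancel [F81 K] (j : ZMod 4) (x : K) : fj (-j) (fj j x) = x := by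
  rw [← fj_add, neg_add_cancel, fj_zero]

theorem fr_fj_comm (n : ℕ) (j : ZMod 4) (x : K) : fr n (fj j x) = fj j (fr n x) :=
  fr_comm n j.val x

@[ext]
structure H20 (K : Type) [Field K] where
  u : K
  j : ZMod 4
  hu : u ^ 5 = 1

theorem H20.u_ne_zero (h : H20 K) : h.u ≠ 0 := by
  intro h0
  have := h.hu
  rw [h0] at this
  norm_num at this

noncomputable instance H20.instGroup [F81 K] : Group (H20 K) where
  mul h k := ⟨h.u * fj h.j k.u, h.j + k.j, by rw [mul_pow, ← map_pow, h.hu, k.hu, map_one, mul_one]⟩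
  one := ⟨1, 0, one_pow 5⟩
  inv h := ⟨fj (-h.j) h.u⁻¹, -h.j, by rw [← map_pow, inv_pow, h.hu, inv_one, map_one]⟩
  mul_assoc h k l := by
    apply H20.ext
    · show h.u * fj h.j k.u * fj (h.j + k.j) l.u = h.u * fj h.j (k.u * fj k.j l.u)
      rw [map_mul, fj_add, mul_assoc]
    · show h.j + k.j + l.j = h.j + (k.j + l.j)
      rw [add_assoc]
  one_mul h := by
    apply H20.ext
    · show 1 * fj 0 h.u = h.u
      rw [fj_zero, one_mul]
    · show 0 + h.j = h.j
      rw [zero_add]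
  mul_one h := by
    apply H20.ext
    · show h.u * fj h.j 1 = h.u
      rw [map_one, mul_one]
    · show h.j + 0 = h.j
      rw [add_zero]
  inv_mul_cancel h := by
    apply H20.ext
    · show fj (-h.j) h.u⁻¹ * fj (-h.j) h.u = 1
      rw [← map_mul, inv_mul_cancel₀ h.u_ne_zero, map_one]
    · show -h.j + h.j = 0
      rw [neg_add_cancel]

theorem H20.mul_u [F81 K] (h k : H20 K) : (h * k).u = h.u * fj h.j k.u := rfl
theorem H20.mul_j [F81 K] (h k : H20 K) : (h * k).j = h.j + k.j := rfl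
theorem H20.one_u [F81 K] : (1 : H20 K).u = 1 := rfl
theorem H20.one_j [F81 K] : (1 : H20 K).j = 0 := rfl

theorem H20.fr3_u (h : H20 K) : fr 3 h.u = h.u ^ 2 := by
  rw [fr_apply]
  norm_num
  have : h.u ^ 27 = (h.u ^ 5) ^ 5 * h.u ^ 2 := by ring
  rw [this, h.hu, one_pow, one_mul]

theorem H20.fr2_u (h : H20 K) : fr 2 h.u = h.u ^ 4 := by
  rw [fr_apply]
  norm_num
  have : h.u ^ 9 = h.u ^ 5 * h.u ^ 4 := by ring
  rw [this, h.hu, one_mul]

/-- the action of `H20` on `A7` -/
noncomputable def act (h : H20 K) (x : A7 K) : A7 K :=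
  ⟨h.u * fj h.j x.w1, h.u * fj h.j x.w2, h.u ^ 3 * fj h.j x.p1, h.u ^ 3 * fj h.j x.p2,
   h.u * fj h.j x.r1, h.u * fj h.j x.r2, h.u ^ 2 * fj h.j x.z⟩

theorem act_mul (h : H20 K) (x y : A7 K) : act h (x * y) = act h x * act h y := by
  have hU := h.hu
  rw [A7.mul_def, A7.mul_def]
  ext <;> simp only [act, A7.mul, map_add, map_mul, map_sub, fr_fj_comm, H20.fr3_u, H20.fr2_u]
  · ring
  · ring
  · ring
  · ring
  · linear_combination (-(h.u * (fj h.j (fr 3 x.w1) * fj h.j (fr 2 y.w2)))) * hU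
  · linear_combination (h.u * (fj h.j (fr 3 x.w1) * fj h.j (fr 2 y.w1))) * hU
  · linear_combination (-(h.u ^ 2 * (fj h.j x.p1 * fj h.j (fr 2 y.w2) -
      fj h.j x.p2 * fj h.j (fr 2 y.w1)))) * hU

theorem act_one_elt (h : H20 K) : act h (1 : A7 K) = 1 := by
  rw [A7.one_def]
  ext <;> simp [act]

theorem one_act [F81 K] (x : A7 K) : act (1 : H20 K) x = x := by
  ext <;> simp [act, H20.one_u, H20.one_j, fj_zero]

theorem mul_act [F81 K] (h k : H20 K) (x : A7 K) : act (h * k) x = act h (act k x) := by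
  ext <;> simp only [act, H20.mul_u, H20.mul_j, fj_add, map_mul, map_pow] <;> ring

noncomputable instance instMDMA [F81 K] : MulDistribMulAction (H20 K) (A7 K) where
  smul := act
  one_smul := one_act
  mul_smul := mul_act
  smul_mul := act_mul
  smul_one := act_one_elt

theorem smul_def [F81 K] (h : H20 K) (x : A7 K) : h • x = act h x := rfl

theorem zmod4_cases (j : ZMod 4) : j = 0 ∨ j = 1 ∨ j = 2 ∨ j = 3 := by revert j; decide

theorem fj_one_apply (x : K) : fj 1 x = fr 1 x := rfl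
theorem fj_two_apply (x : K) : fj 2 x = fr 2 x := rfl
theorem fj_three_apply (x : K) : fj 3 x = fr 3 x := rfl

theorem H20.pow_of_j0 [F81 K] (h : H20 K) (hj : h.j = 0) (n : ℕ) :
    (h ^ n).u = h.u ^ n ∧ (h ^ n).j = 0 := by
  induction n with
  | zero => exact ⟨by rw [pow_zero, pow_zero]; rfl, by rw [pow_zero]; rfl⟩
  | succ n ih =>
    rw [pow_succ, H20.mul_u, H20.mul_j, ih.1, ih.2, hj, fj_zero, zero_add, pow_succ]
    exact ⟨rfl, rfl⟩

theorem H20.pow_five_of_j0 [F81 K] (h : H20 K) (hj : h.j = 0) : h ^ 5 = 1 := by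
  obtain ⟨h1, h2⟩ := H20.pow_of_j0 h hj 5
  apply H20.ext
  · rw [h1, h.hu]; rfl
  · rw [h2]; rfl

theorem H20.ne_one_of_j [F81 K] (h : H20 K) (hj : h.j ≠ 0) : h ≠ 1 := by
  intro h1
  apply hj
  rw [h1]
  rfl

theorem H20.sq_of_j2 [F81 K] (h : H20 K) (hj : h.j = 2) : h * h = 1 := by
  apply H20.ext
  · rw [H20.mul_u, hj, fj_two_apply, H20.fr2_u, H20.one_u]
    have : h.u * h.u ^ 4 = h.u ^ 5 := by ring
    rw [this, h.hu]
  · rw [H20.mul_j, hj, H20.one_j]
    decide

theorem H20.orderOf_of_j0 [F81 K] (h : H20 K) (hj : h.j = 0) (hu : h.u ≠ 1) : orderOf h = 5 := by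
  have : Fact (Nat.Prime 5) := ⟨by norm_num⟩
  apply orderOf_eq_prime (H20.pow_five_of_j0 h hj)
  intro h1
  apply hu
  rw [h1]
  rfl

theorem H20.orderOf_of_j2 [F81 K] (h : H20 K) (hj : h.j = 2) : orderOf h = 2 := by
  have : Fact (Nat.Prime 2) := ⟨by norm_num⟩
  apply orderOf_eq_prime
  · rw [pow_two]; exact H20.sq_of_j2 h hj
  · apply H20.ne_one_of_j
    rw [hj]; decide

theorem H20.orderOf_of_j13 [F81 K] (h : H20 K) (hj : h.j = 1 ∨ h.j = 3) : orderOf h = 4 := by
  have : Fact (Nat.Prime 2) := ⟨by norm_num⟩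
  have hj2 : (h * h).j = 2 := by
    rw [H20.mul_j]
    rcases hj with hj | hj <;> rw [hj] <;> decide
  have h4 : (4 : ℕ) = 2 ^ (1 + 1) := by norm_num
  rw [h4]
  apply orderOf_eq_prime_pow
  · rw [pow_one, pow_two]
    apply H20.ne_one_of_j
    rw [hj2]; decide
  · have : h ^ 2 ^ (1 + 1) = (h * h) * (h * h) := by
      norm_num
      rw [pow_succ, pow_succ, pow_succ, pow_one, mul_assoc]
    rw [this]
    exact H20.sq_of_j2 _ hj2

/-- fixed-point-freeness of the elements of order 5 -/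
theorem act_fpf (h : H20 K) (hj : h.j = 0) (hu : h.u ≠ 1) (x : A7 K) (hx : act h x = x) :
    x = 1 := by
  have hU := h.hu
  have h1 : h.u - 1 ≠ 0 := sub_ne_zero.mpr hu
  have h2 : h.u ^ 2 - 1 ≠ 0 := by
    intro h2
    apply hu
    have e2 : h.u ^ 2 = 1 := sub_eq_zero.mp h2
    have : h.u = h.u ^ 5 := by
      have : h.u ^ 5 = (h.u ^ 2) ^ 2 * h.u := by ring
      rw [this, e2, one_pow, one_mul]
    rw [this, hU]
  have h3 : h.u ^ 3 - 1 ≠ 0 := by
    intro h3
    apply hu
    have e3 : h.u ^ 3 = 1 := sub_eq_zero.mp h3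
    have : h.u = (h.u ^ 3) ^ 2 := by
      have : (h.u ^ 3) ^ 2 = h.u ^ 5 * h.u := by ring
      rw [this, hU, one_mul]
    rw [this, e3, one_pow]
  have e := fun (f : A7 K → K) => congrArg f hx
  have e1 := e A7.w1
  have e2 := e A7.w2
  have e3 := e A7.p1
  have e4 := e A7.p2
  have e5 := e A7.r1
  have e6 := e A7.r2
  have e7 := e A7.z
  simp only [act, hj, fj_zero] at e1 e2 e3 e4 e5 e6 e7
  rw [A7.one_def]
  ext
  · exact (mul_eq_zero.mp (by linear_combination e1 : (h.u - 1) * x.w1 = 0)).resolve_left h1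
  · exact (mul_eq_zero.mp (by linear_combination e2 : (h.u - 1) * x.w2 = 0)).resolve_left h1
  · exact (mul_eq_zero.mp (by linear_combination e3 : (h.u ^ 3 - 1) * x.p1 = 0)).resolve_left h3
  · exact (mul_eq_zero.mp (by linear_combination e4 : (h.u ^ 3 - 1) * x.p2 = 0)).resolve_left h3
  · exact (mul_eq_zero.mp (by linear_combination e5 : (h.u - 1) * x.r1 = 0)).resolve_left h1
  · exact (mul_eq_zero.mp (by linear_combination e6 : (h.u - 1) * x.r2 = 0)).resolve_left h1
  · exact (mul_eq_zero.mp (by linear_combination e7 : (h.u ^ 2 - 1) * x.z = 0)).resolve_left h2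

/-- vectors fixed by a semilinear map with nontrivial Frobenius part have vanishing `κ` -/
theorem kappa_zero [F81 K] (h : H20 K) (hj : h.j ≠ 0) (s1 s2 : K)
    (h1 : h.u * fj h.j s1 = s1) (h2 : h.u * fj h.j s2 = s2) :
    fr 3 s1 * (s1 * fr 2 s2 - s2 * fr 2 s1) = 0 := by
  have hu0 := h.u_ne_zero
  have key : ∃ μ : K, fr 2 s1 = μ * s1 ∧ fr 2 s2 = μ * s2 := by
    rcases zmod4_cases h.j with hj0 | hj1 | hj2 | hj3
    · exact absurd hj0 hj
    · rw [hj1, fj_one_apply] at h1 h2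
      have f1 : ∀ s : K, h.u * fr 1 s = s → fr 1 s = h.u⁻¹ * s := by
        intro s hs
        rw [← hs, ← mul_assoc, inv_mul_cancel₀ hu0, one_mul, hs]
      refine ⟨fr 1 h.u⁻¹ * h.u⁻¹, ?_, ?_⟩
      · have : fr 2 s1 = fr 1 (fr 1 s1) := fr_add 1 1 s1
        rw [this, f1 s1 h1, map_mul, f1 s1 h1, mul_assoc]
      · have : fr 2 s2 = fr 1 (fr 1 s2) := fr_add 1 1 s2
        rw [this, f1 s2 h2, map_mul, f1 s2 h2, mul_assoc]
    · rw [hj2, fj_two_apply] at h1 h2
      refine ⟨h.u⁻¹, ?_, ?_⟩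
      · rw [← h1, ← mul_assoc, inv_mul_cancel₀ hu0, one_mul, h1]
      · rw [← h2, ← mul_assoc, inv_mul_cancel₀ hu0, one_mul, h2]
    · rw [hj3, fj_three_apply] at h1 h2
      have f3 : ∀ s : K, h.u * fr 3 s = s → fr 3 s = h.u⁻¹ * s := by
        intro s hs
        rw [← hs, ← mul_assoc, inv_mul_cancel₀ hu0, one_mul, hs]
      have f6 : ∀ s : K, fr 2 s = fr 3 (fr 3 s) := by
        intro s
        have e1 : fr 3 (fr 3 s) = fr (4 + 2) s := (fr_add 3 3 s).symm
        rw [e1, fr_add, fr_four]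
      refine ⟨fr 3 h.u⁻¹ * h.u⁻¹, ?_, ?_⟩
      · rw [f6, f3 s1 h1, map_mul, f3 s1 h1, mul_assoc]
      · rw [f6, f3 s2 h2, map_mul, f3 s2 h2, mul_assoc]
  obtain ⟨μ, k1, k2⟩ := key
  rw [k1, k2]
  ring

open SemidirectProduct

/-- the action as a homomorphism into `MulAut` -/
noncomputable abbrev rho (K : Type) [Field K] [CharP K 3] [F81 K] : H20 K →* MulAut (A7 K) :=
  MulDistribMulAction.toMulAut (H20 K) (A7 K)

theorem rho_apply [F81 K] (h : H20 K) (x : A7 K) : rho K h x = act h x := rfl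

/-- the solvable group of order `3^28 * 20` -/
abbrev G2F (K : Type) [Field K] [CharP K 3] [F81 K] := A7 K ⋊[rho K] H20 K

theorem A7.orderOf_mem (a : A7 K) : orderOf a = 1 ∨ orderOf a = 3 ∨ orderOf a = 9 := by
  have h1 : orderOf a ∈ Nat.divisors 9 :=
    Nat.mem_divisors.mpr ⟨orderOf_dvd_of_pow_eq_one (A7.pow_nine a), by norm_num⟩
  have h2 : Nat.divisors 9 = {1, 3, 9} := by decide
  rw [h2] at h1
  simpa only [Finset.mem_insert, Finset.mem_singleton] using h1

theorem orderOf_of_cube {a : A7 K} (h : a ^ 3 = 1) : orderOf a = 1 ∨ orderOf a = 3 := by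
  have h1 : orderOf a ∣ 3 := orderOf_dvd_of_pow_eq_one h
  exact (Nat.dvd_prime (by norm_num : Nat.Prime 3)).mp h1

/-- the key computation: elements over a nontrivial Frobenius part -/
theorem orderOf_of_j_ne [F81 K] [Finite K] (g : G2F K) (hj : g.right.j ≠ 0) :
    orderOf g = orderOf g.right ∨ orderOf g = orderOf g.right * 3 := by
  set n := orderOf g.right with hn
  have hn0 : n ≠ 0 := by
    rcases zmod4_cases g.right.j with h0 | h1 | h2 | h3
    · exact absurd h0 hj
    · rw [hn, H20.orderOf_of_j13 _ (Or.inl h1)]; norm_num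
    · rw [hn, H20.orderOf_of_j2 _ h2]; norm_num
    · rw [hn, H20.orderOf_of_j13 _ (Or.inr h3)]; norm_num
  have hker : g ^ n ∈ (rightHom : G2F K →* H20 K).ker := by
    rw [MonoidHom.mem_ker, map_pow, rightHom_eq_right, hn, pow_orderOf_eq_one]
  rw [← range_inl_eq_ker_rightHom] at hker
  obtain ⟨N, hN⟩ := hker
  have hcomm : g * inl N = inl N * g := by
    rw [hN, ← pow_succ', ← pow_succ]
  have hleft := congrArg SemidirectProduct.left hcomm
  rw [mul_left, mul_left, left_inl, right_inl, map_one, MulAut.one_apply, rho_apply] at hleft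
  have e1 := congrArg A7.w1 hleft
  have e2 := congrArg A7.w2 hleft
  rw [A7.mul_w1, A7.mul_w1] at e1
  rw [A7.mul_w2, A7.mul_w2] at e2
  have f1 : g.right.u * fj g.right.j N.w1 = N.w1 := by
    have : (act g.right N).w1 = g.right.u * fj g.right.j N.w1 := rfl
    rw [← this]
    linear_combination e1
  have f2 : g.right.u * fj g.right.j N.w2 = N.w2 := by
    have : (act g.right N).w2 = g.right.u * fj g.right.j N.w2 := rfl
    rw [← this]
    linear_combination e2
  have hN3 : N ^ 3 = 1 := (A7.cube_eq_one_iff N).mpr (kappa_zero g.right hj N.w1 N.w2 f1 f2)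
  have hdvd : n ∣ orderOf g := by
    have := orderOf_map_dvd (rightHom : G2F K →* H20 K) g
    rwa [rightHom_eq_right] at this
  have hpow : orderOf (g ^ n) = orderOf g / n := orderOf_pow_of_dvd hn0 hdvd
  rw [← hN, orderOf_injective inl inl_injective] at hpow
  have hg : orderOf g = n * orderOf N := by
    rw [hpow, Nat.mul_div_cancel' hdvd]
  rcases orderOf_of_cube hN3 with h | h
  · left; rw [hg, h, mul_one]
  · right; rw [hg, h]

theorem orderOf_mem [F81 K] [Finite K] (g : G2F K) :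
    orderOf g ∈ ({1, 2, 3, 4, 5, 6, 9, 12} : Set ℕ) := by
  simp only [Set.mem_insert_iff, Set.mem_singleton_iff]
  rcases zmod4_cases g.right.j with h0 | h1 | h2 | h3
  · by_cases hu : g.right.u = 1
    · have hr : g.right = 1 := H20.ext hu h0
      have hg : g = inl g.left := by
        apply SemidirectProduct.ext
        · rfl
        · rw [right_inl]; exact hr
      rw [hg, orderOf_injective inl inl_injective]
      rcases A7.orderOf_mem g.left with h | h | h <;> rw [h] <;> norm_num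
    · have hg : g = ⟨g.left, g.right⟩ := rfl
      rw [hg, orderOf_mk_eq (rho K) g.right (fun w hw => act_fpf g.right h0 hu w hw) g.left,
        H20.orderOf_of_j0 _ h0 hu]
      norm_num
  · have hj : g.right.j ≠ 0 := by rw [h1]; decide
    rcases orderOf_of_j_ne g hj with h | h <;>
      rw [h, H20.orderOf_of_j13 _ (Or.inl h1)] <;> norm_num
  · have hj : g.right.j ≠ 0 := by rw [h2]; decide
    rcases orderOf_of_j_ne g hj with h | h <;>
      rw [h, H20.orderOf_of_j2 _ h2] <;> norm_num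
  · have hj : g.right.j ≠ 0 := by rw [h3]; decide
    rcases orderOf_of_j_ne g hj with h | h <;>
      rw [h, H20.orderOf_of_j13 _ (Or.inr h3)] <;> norm_num

instance H20.instFinite [Finite K] : Finite (H20 K) :=
  Finite.of_injective (fun h : H20 K => (h.u, h.j)) (by
    intro h k hk
    simp only [Prod.mk.injEq] at hk
    exact H20.ext hk.1 hk.2)

instance G2F.instFinite [F81 K] [Finite K] : Finite (G2F K) :=
  Finite.of_equiv _ (SemidirectProduct.equivProd (φ := rho K)).symm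

theorem A7.isSolvable [Finite K] : Group.IsSolvable (A7 K) := by
  have : Fact (Nat.Prime 3) := ⟨by norm_num⟩
  have hp : IsPGroup 3 (A7 K) := fun g => ⟨2, by norm_num; exact A7.pow_nine g⟩
  have := hp.isNilpotent
  infer_instance

/-- projection of `H20` onto its Frobenius part -/
noncomputable def H20.proj [F81 K] : H20 K →* Multiplicative (ZMod 4) where
  toFun h := Multiplicative.ofAdd h.j
  map_one' := rfl
  map_mul' _ _ := rfl

theorem H20.isSolvable [F81 K] : Group.IsSolvable (H20 K) := by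
  have hk : Group.IsSolvable (H20.proj (K := K)).ker := by
    apply Group.isSolvable_of_comm
    intro a b
    have ha : a.1.j = 0 := by
      have := a.2
      rw [MonoidHom.mem_ker] at this
      exact this
    have hb : b.1.j = 0 := by
      have := b.2
      rw [MonoidHom.mem_ker] at this
      exact this
    apply Subtype.ext
    apply H20.ext
    · show a.1.u * fj a.1.j b.1.u = b.1.u * fj b.1.j a.1.u
      rw [ha, hb, fj_zero, fj_zero, mul_comm]
    · show a.1.j + b.1.j = b.1.j + a.1.j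
      rw [add_comm]
  exact Group.isSolvable_of_ker_le_range (H20.proj (K := K)).ker.subtype (H20.proj (K := K))
    (by rw [Subgroup.range_subtype])

theorem G2F.isSolvable [F81 K] [Finite K] : Group.IsSolvable (G2F K) := by
  have := A7.isSolvable (K := K)
  have := H20.isSolvable (K := K)
  exact isSolvable_semidirect (rho K)

theorem zeta_pow_nine_ne {ζ : K} (h5 : ζ ^ 5 = 1) (h1 : ζ ≠ 1) : ζ ^ 9 ≠ ζ := by
  intro h9
  apply h1
  have e4 : ζ ^ 4 = ζ := by
    have : ζ ^ 9 = ζ ^ 5 * ζ ^ 4 := by ring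
    rw [this, h5, one_mul] at h9
    exact h9
  have e2 : ζ ^ 2 = 1 := by
    have : ζ ^ 5 = ζ ^ 4 * ζ := by ring
    rw [this, e4, ← pow_two] at h5
    exact h5
  have : ζ ^ 5 = (ζ ^ 2) ^ 2 * ζ := by ring
  rw [this, e2, one_pow, one_mul] at h5
  exact h5

theorem commute_inl_inr [F81 K] (z : A7 K) (h : H20 K) (hz : act h z = z) :
    Commute (inl z : G2F K) (inr h) := by
  have := inl_aut (φ := rho K) h z
  rw [rho_apply, hz] at this
  show inl z * inr h = inr h * inl z
  calc (inl z : G2F K) * inr h = (inr h * inl z * inr h⁻¹) * inr h := by rw [← this]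
    _ = inr h * inl z := by rw [map_inv, inv_mul_cancel_right]

theorem exists_orderOf [F81 K] [Finite K] (ζ : K) (h5 : ζ ^ 5 = 1) (h1 : ζ ≠ 1) (k : ℕ)
    (hk : k ∈ ({1, 2, 3, 4, 5, 6, 9, 12} : Set ℕ)) : ∃ g : G2F K, orderOf g = k := by
  have p2 : Fact (Nat.Prime 2) := ⟨by norm_num⟩
  have p3 : Fact (Nat.Prime 3) := ⟨by norm_num⟩
  have hz3 : orderOf (zc (1 : K)) = 3 := orderOf_eq_prime (zc_cube 1) (zc_ne_one one_ne_zero)
  let a2 : H20 K := ⟨1, 2, one_pow 5⟩
  let a4 : H20 K := ⟨1, 1, one_pow 5⟩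
  let a5 : H20 K := ⟨ζ, 0, h5⟩
  have ho2 : orderOf a2 = 2 := H20.orderOf_of_j2 a2 rfl
  have ho4 : orderOf a4 = 4 := H20.orderOf_of_j13 a4 (Or.inl rfl)
  have ho5 : orderOf a5 = 5 := H20.orderOf_of_j0 a5 rfl h1
  have hfix2 : act a2 (zc (1 : K)) = zc 1 := by
    ext <;> simp [act, zc, a2]
  have hfix4 : act a4 (zc (1 : K)) = zc 1 := by
    ext <;> simp [act, zc, a4]
  simp only [Set.mem_insert_iff, Set.mem_singleton_iff] at hk
  rcases hk with rfl | rfl | rfl | rfl | rfl | rfl | rfl | rfl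
  · exact ⟨1, orderOf_one⟩
  · exact ⟨inr a2, by rw [orderOf_injective inr inr_injective, ho2]⟩
  · exact ⟨inl (zc 1), by rw [orderOf_injective inl inl_injective, hz3]⟩
  · exact ⟨inr a4, by rw [orderOf_injective inr inr_injective, ho4]⟩
  · exact ⟨inr a5, by rw [orderOf_injective inr inr_injective, ho5]⟩
  · refine ⟨inl (zc 1) * inr a2, ?_⟩
    rw [(commute_inl_inr (zc 1) a2 hfix2).orderOf_mul_eq_mul_orderOf_of_coprime,
      orderOf_injective inl inl_injective, orderOf_injective inr inr_injective, hz3, ho2]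
    rw [orderOf_injective inl inl_injective, orderOf_injective inr inr_injective, hz3, ho2]
    norm_num
  · let a9 : A7 K := ⟨1, ζ, 0, 0, 0, 0, 0⟩
    refine ⟨inl a9, ?_⟩
    rw [orderOf_injective inl inl_injective]
    have h9 : (9 : ℕ) = 3 ^ (1 + 1) := by norm_num
    rw [h9]
    apply orderOf_eq_prime_pow
    · rw [pow_one, A7.cube_eq_one_iff]
      show ¬ (fr 3 (1 : K) * (1 * fr 2 ζ - ζ * fr 2 1) = 0)
      rw [map_one, map_one, one_mul, one_mul, mul_one, fr_apply, sub_eq_zero]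
      norm_num
      exact zeta_pow_nine_ne h5 h1
    · norm_num
      exact A7.pow_nine a9
  · refine ⟨inl (zc 1) * inr a4, ?_⟩
    rw [(commute_inl_inr (zc 1) a4 hfix4).orderOf_mul_eq_mul_orderOf_of_coprime,
      orderOf_injective inl inl_injective, orderOf_injective inr inr_injective, hz3, ho4]
    rw [orderOf_injective inl inl_injective, orderOf_injective inr inr_injective, hz3, ho4]
    norm_num

theorem range_orderOf [F81 K] [Finite K] (ζ : K) (h5 : ζ ^ 5 = 1) (h1 : ζ ≠ 1) :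
    Set.range (orderOf : G2F K → ℕ) = {1, 2, 3, 4, 5, 6, 9, 12} := by
  ext k
  constructor
  · rintro ⟨g, rfl⟩
    exact orderOf_mem g
  · intro hk
    exact exists_orderOf ζ h5 h1 k hk

end Field

section Galois

noncomputable instance instFintypeGF : Fintype (GaloisField 3 4) := Fintype.ofFinite _

theorem card_GF : Fintype.card (GaloisField 3 4) = 81 := by
  rw [← Nat.card_eq_fintype_card, GaloisField.card 3 4 (by norm_num)]
  norm_num

instance instF81GF : F81 (GaloisField 3 4) where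
  pow81 x := by
    have := FiniteField.pow_card x
    rwa [card_GF] at this

theorem exists_zeta : ∃ ζ : GaloisField 3 4, ζ ^ 5 = 1 ∧ ζ ≠ 1 := by
  classical
  have p5 : Fact (Nat.Prime 5) := ⟨by norm_num⟩
  have hcard : Fintype.card (GaloisField 3 4)ˣ = 80 := by
    rw [Fintype.card_units, card_GF]
  obtain ⟨x, hx⟩ := exists_prime_orderOf_dvd_card (G := (GaloisField 3 4)ˣ) 5
    (by rw [hcard]; norm_num)
  refine ⟨(x : GaloisField 3 4), ?_, ?_⟩
  · have := pow_orderOf_eq_one x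
    rw [hx] at this
    have h2 := congrArg Units.val this
    rwa [Units.val_pow_eq_pow_val, Units.val_one] at h2
  · intro h1
    have : x = 1 := Units.ext h1
    rw [this, orderOf_one] at hx
    norm_num at hx

/-- a finite solvable group with spectrum `{1, 2, 3, 4, 5, 6, 9, 12}` -/
theorem exists_solvable_spectrum :
    ∃ (H : Type) (_ : Group H) (_ : Fintype H), Group.IsSolvable H ∧
      Set.range (orderOf : H → ℕ) = {1, 2, 3, 4, 5, 6, 9, 12} := by
  obtain ⟨ζ, h5, h1⟩ := exists_zeta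
  exact ⟨G2F (GaloisField 3 4), inferInstance, Fintype.ofFinite _, G2F.isSolvable,
    range_orderOf ζ h5 h1⟩

end Galois

end Cfsg.Agent.Lib.Helper19.TwoFrob
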