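import Mathlib

set_option autoImplicit false

/-!
Sylow-type helper lemmas phrased for subgroups of a fixed ambient group `G`
(used for Aschbacher's theorem on 2-transitive groups of degree `2 mod 4`).
-/

namespace Cfsg.Agent.Lib.Helper19.TwoMod4

open MulAction

variable {G : Type*} [Group G] [Finite G]

/-- Sylow existence inside a subgroup `H`, containing a given `p`-subgroup, phrased in `G`. -/
theorem exists_sylow_ge (p : ℕ) [Fact p.Prime] (H P₀ : Subgroup G) (h₀ : P₀ ≤ H)
    (hp₀ : IsPGroup p P₀) :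
    ∃ P : Subgroup G, P₀ ≤ P ∧ P ≤ H ∧ IsPGroup p P ∧
      Nat.card P = p ^ (Nat.card H).factorization p := by
  have h1 : IsPGroup p (P₀.subgroupOf H) := hp₀.comap_subtype
  obtain ⟨Q, hQ⟩ := h1.exists_le_sylow
  refine ⟨(Q : Subgroup H).map H.subtype, ?_, ?_, ?_, ?_⟩
  · intro x hx
    exact ⟨⟨x, h₀ hx⟩, hQ (by simpa [Subgroup.mem_subgroupOf] using hx), rfl⟩
  · rintro _ ⟨y, -, rfl⟩
    exact y.2
  · exact Q.2.map _
  · rw [← Q.card_eq_multiplicity]
    exact Nat.card_congr
      ((Q : Subgroup H).equivMapOfInjective H.subtype H.subtype_injective).symm.toEquiv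

/-- Sylow existence inside a subgroup `H`, phrased in `G`. -/
theorem exists_sylow_in (p : ℕ) [Fact p.Prime] (H : Subgroup G) :
    ∃ P : Subgroup G, P ≤ H ∧ IsPGroup p P ∧
      Nat.card P = p ^ (Nat.card H).factorization p := by
  obtain ⟨P, -, h2, h3, h4⟩ := exists_sylow_ge p H ⊥ bot_le IsPGroup.of_bot
  exact ⟨P, h2, h3, h4⟩

/-- Two `p`-subgroups of `H` of maximal possible order are conjugate in `H`. -/
theorem conj_of_max (p : ℕ) [Fact p.Prime] (H P Q : Subgroup G) (hP : P ≤ H) (hQ : Q ≤ H)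
    (hPp : IsPGroup p P) (hQp : IsPGroup p Q) (hcard : Nat.card Q = Nat.card P)
    (hmax : ∀ R : Subgroup G, R ≤ H → IsPGroup p R → Nat.card R ≤ Nat.card P) :
    ∃ h ∈ H, ∀ x, x ∈ Q ↔ h⁻¹ * x * h ∈ P := by
  obtain ⟨P', hP'⟩ := (hPp.comap_subtype (K := H)).exists_le_sylow
  obtain ⟨Q', hQ'⟩ := (hQp.comap_subtype (K := H)).exists_le_sylow
  -- the images of P', Q' in G equal P, Q
  have key : ∀ (R : Subgroup G) (R' : Sylow p H), R ≤ H → Nat.card R = Nat.card P →
      R.subgroupOf H ≤ R' → ∀ y : H, y ∈ R' ↔ (y : G) ∈ R := by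
    intro R R' hRH hRc hRR'
    have hle : R ≤ (R' : Subgroup H).map H.subtype := by
      intro x hx
      exact ⟨⟨x, hRH hx⟩, hRR' (by simpa [Subgroup.mem_subgroupOf] using hx), rfl⟩
    have hc : Nat.card ((R' : Subgroup H).map H.subtype) ≤ Nat.card R := by
      rw [hRc]
      apply hmax
      · rintro _ ⟨y, -, rfl⟩
        exact y.2
      · exact R'.2.map _
    have heq : R = (R' : Subgroup H).map H.subtype := by
      apply Subgroup.eq_of_le_of_card_ge hle hc
    intro y
    constructor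
    · intro hy
      rw [heq]
      exact ⟨y, hy, rfl⟩
    · intro hy
      rw [heq] at hy
      obtain ⟨z, hz, hzy⟩ := hy
      have : z = y := Subtype.ext hzy
      rwa [← this]
  have kP := key P P' hP rfl hP'
  have kQ := key Q Q' hQ hcard hQ'
  obtain ⟨h, hh⟩ := MulAction.exists_smul_eq H P' Q'
  have hmem : ∀ y : H, y ∈ Q' ↔ h⁻¹ * y * h ∈ P' := by
    intro y
    rw [← hh, ← SetLike.mem_coe, Sylow.coe_smul, Set.mem_smul_set_iff_inv_smul_mem,
      MulAut.smul_def, MulAut.conj_inv_apply]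
    rfl
  refine ⟨h, h.2, ?_⟩
  intro x
  constructor
  · intro hx
    have hx' : (⟨x, hQ hx⟩ : H) ∈ Q' := (kQ ⟨x, hQ hx⟩).2 hx
    rw [hmem] at hx'
    have := (kP _).1 hx'
    simpa using this
  · intro hx
    have hxH : x ∈ H := by
      have h3 : (h : G)⁻¹ * x * h ∈ H := hP hx
      have : x = (h : G) * ((h : G)⁻¹ * x * h) * (h : G)⁻¹ := by group
      rw [this]
      exact H.mul_mem (H.mul_mem h.2 h3) (H.inv_mem h.2)
    have h1 : (⟨x, hxH⟩ : H) ∈ Q' := by
      rw [hmem]
      apply (kP _).2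
      simpa using hx
    exact (kQ _).1 h1

omit [Finite G] in
/-- Orbit-stabilizer for a subgroup, with the stabilizer expressed in `G`. -/
theorem card_orbit_mul_card_inf_stab {Ω : Type*} [MulAction G Ω] (L : Subgroup G) (a : Ω) :
    Nat.card (MulAction.orbit L a) * Nat.card ↥(L ⊓ MulAction.stabilizer G a) = Nat.card L := by
  have h1 := (MulAction.stabilizer L a).card_mul_index
  rw [MulAction.index_stabilizer, ← Nat.card_coe_set_eq] at h1
  have h2 : Nat.card (MulAction.stabilizer L a) = Nat.card ↥(L ⊓ MulAction.stabilizer G a) := by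
    apply Nat.card_congr
    refine ⟨fun x => ⟨x.1.1, x.1.2, ?_⟩, fun x => ⟨⟨x.1, x.2.1⟩, ?_⟩, ?_, ?_⟩
    · have := x.2
      rw [MulAction.mem_stabilizer_iff] at this
      exact (MulAction.mem_stabilizer_iff (G := G)).2 this
    · have := x.2.2
      have h3 : (x : G) • a = a := (MulAction.mem_stabilizer_iff (G := G)).1 this
      exact (MulAction.mem_stabilizer_iff (G := L)).2 h3
    · intro x; rfl
    · intro x; rfl
  rw [← h2, mul_comm]
  exact h1

theorem factorization_two_pow_mul_odd (e m : ℕ) (hm : Odd m) :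
    (2 ^ e * m).factorization 2 = e := by
  have hm0 : m ≠ 0 := by rintro rfl; simp at hm
  rw [Nat.factorization_mul (by positivity) hm0]
  simp only [Finsupp.coe_add, Pi.add_apply]
  rw [Nat.Prime.factorization_pow Nat.prime_two]
  have : m.factorization 2 = 0 := by
    apply Nat.factorization_eq_zero_of_not_dvd
    intro h
    exact (Nat.not_even_iff_odd.2 hm) (even_iff_two_dvd.2 h)
  simp [this]

end Cfsg.Agent.Lib.Helper19.TwoMod4
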