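import Mathlib
import Cfsg.Agent.Lib.Helper19.TwoMod4Sylow

set_option autoImplicit false

namespace Cfsg.Agent.Lib.Helper19.TwoMod4

open MulAction

variable {G : Type*} [Group G] [Finite G]

/-- Witt-type conjugation lemma: if `S₀` is a `p`-subgroup of maximal order of `H` and
`g S₀ g⁻¹ ≤ H`, then some `h ∈ H` has `h⁻¹ g ∈ N_G(S₀)`. -/
theorem witt_conj (p : ℕ) [Fact p.Prime] (H S₀ : Subgroup G) (g : G) (hS₀H : S₀ ≤ H)
    (hp : IsPGroup p S₀) (hg : ∀ x ∈ S₀, g * x * g⁻¹ ∈ H)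
    (hmax : ∀ R : Subgroup G, R ≤ H → IsPGroup p R → Nat.card R ≤ Nat.card S₀) :
    ∃ h ∈ H, h⁻¹ * g ∈ Subgroup.normalizer (S₀ : Set G) := by
  set Q : Subgroup G := S₀.map (MulAut.conj g).toMonoidHom with hQ
  have hQmem : ∀ x, g * x * g⁻¹ ∈ Q ↔ x ∈ S₀ := by
    intro x
    rw [hQ, Subgroup.mem_map]
    constructor
    · rintro ⟨y, hy, hyx⟩
      have : y = x := by
        have h1 : g * y * g⁻¹ = g * x * g⁻¹ := by simpa using hyx
        have h2 := mul_right_cancel h1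
        exact mul_left_cancel h2
      rwa [← this]
    · intro hx
      exact ⟨x, hx, by simp⟩
  have hQH : Q ≤ H := by
    rintro _ ⟨y, hy, rfl⟩
    simpa using hg y hy
  have hQp : IsPGroup p Q := hp.map _
  have hQc : Nat.card Q = Nat.card S₀ :=
    Nat.card_congr (S₀.equivMapOfInjective _ (MulAut.conj g).injective).symm.toEquiv
  obtain ⟨h, hh, hconj⟩ := conj_of_max p H S₀ Q hS₀H hQH hp hQp hQc hmax
  refine ⟨h, hh, ?_⟩
  rw [Subgroup.mem_normalizer_iff]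
  intro x
  rw [← hQmem x, hconj (g * x * g⁻¹)]
  have : h⁻¹ * g * x * (h⁻¹ * g)⁻¹ = h⁻¹ * (g * x * g⁻¹) * h := by group
  rw [this]

/-- arithmetic: the orbit of a group of order `2^(e+1)·odd` with stabilizer of order `2^e·odd`
has `2 mod 4` points. -/
theorem arith_delta (e D cL cLa m m' : ℕ) (hm : Odd m) (hm' : Odd m') (h1 : D * cLa = cL)
    (h2 : 2 ^ (e + 1) ∣ cL) (h3 : cL ∣ 2 ^ (e + 1) * m) (h4 : 2 ^ e ∣ cLa)
    (h5 : cLa ∣ 2 ^ e * m') : D % 4 = 2 := by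
  obtain ⟨a, rfl⟩ := h2
  obtain ⟨b, rfl⟩ := h4
  have ha : a ∣ m := (Nat.mul_dvd_mul_iff_left (by positivity)).1 h3
  have hb : b ∣ m' := (Nat.mul_dvd_mul_iff_left (by positivity)).1 h5
  have hao : Odd a := hm.of_dvd_nat ha
  have hbo : Odd b := hm'.of_dvd_nat hb
  have h6 : D * b = 2 * a := by
    have h7 : 2 ^ e * (D * b) = 2 ^ e * (2 * a) := by
      rw [pow_succ] at h1
      linarith [h1]
    exact Nat.eq_of_mul_eq_mul_left (by positivity) h7
  obtain ⟨a', rfl⟩ := hao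
  obtain ⟨b', rfl⟩ := hbo
  rcases Nat.even_or_odd D with hD | hD
  · obtain ⟨D', rfl⟩ := hD
    rcases Nat.even_or_odd D' with hD' | hD'
    · obtain ⟨D'', rfl⟩ := hD'
      exfalso
      have : (D'' + D'' + (D'' + D'')) * (2 * b' + 1) = 2 * (2 * a' + 1) := h6
      have h8 : 2 * (D'' * (2 * b' + 1)) = 2 * a' + 1 := by nlinarith [this]
      omega
    · obtain ⟨D'', rfl⟩ := hD'
      omega
  · exfalso
    obtain ⟨D', rfl⟩ := hD
    have : (2 * D' + 1) * (2 * b' + 1) = 2 * (2 * a' + 1) := h6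
    have h8 : 2 * (2 * D' * b' + D' + b') + 1 = 2 * (2 * a' + 1) := by nlinarith [this]
    omega

end Cfsg.Agent.Lib.Helper19.TwoMod4
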