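import Mathlib
import Cfsg.Agent.Lib.Helper19.TwoMod4Sylow
import Cfsg.Agent.Lib.Helper19.TwoMod4Witt

set_option autoImplicit false

namespace Cfsg.Agent.Lib.Helper19.TwoMod4

open MulAction

/-- The configuration: a 2-transitive `G`, a transitive normal subgroup `N`, a Sylow
2-subgroup `S₀` of `N_α` of index 2 in a Sylow 2-subgroup `S` of `N`, and `u ∈ S \ S₀`. -/
structure Cfg (G : Type*) (Ω : Type*) [Group G] [MulAction G Ω] where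
  N : Subgroup G
  normal : N.Normal
  S₀ : Subgroup G
  S : Subgroup G
  u : G
  α : Ω
  e : ℕ
  two : ∀ {a b c d : Ω}, a ≠ b → c ≠ d → ∃ g : G, g • a = c ∧ g • b = d
  trans : ∀ a b : Ω, ∃ g ∈ N, g • a = b
  stab_card : ∀ γ : Ω, ∃ m, Odd m ∧ Nat.card ↥(N ⊓ stabilizer G γ) = 2 ^ e * m
  N_card : ∃ m, Odd m ∧ Nat.card N = 2 ^ (e + 1) * m
  S₀_le : S₀ ≤ N ⊓ stabilizer G α
  S₀_p : IsPGroup 2 S₀
  S₀_card : Nat.card S₀ = 2 ^ e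
  S₀_S : S₀ ≤ S
  S_N : S ≤ N
  S_p : IsPGroup 2 S
  S_card : Nat.card S = 2 ^ (e + 1)
  u_S : u ∈ S
  u_not : u ∉ S₀
  uu : u * u ∈ S₀
  cos : ∀ x ∈ S, x ∈ S₀ ∨ u⁻¹ * x ∈ S₀
  u_norm : ∀ x, x ∈ S₀ ↔ u * x * u⁻¹ ∈ S₀

namespace Cfg

variable {G : Type*} {Ω : Type*} [Group G] [MulAction G Ω] (D : Cfg G Ω)

/-- `γ` is fixed by `S₀`. -/
def Fix (γ : Ω) : Prop := ∀ x ∈ D.S₀, x • γ = γ

/-- the normalizer of `S₀`. -/
def A : Subgroup G := Subgroup.normalizer (D.S₀ : Set G)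

theorem mem_A_iff {a : G} : a ∈ D.A ↔ ∀ x, x ∈ D.S₀ ↔ a * x * a⁻¹ ∈ D.S₀ :=
  Subgroup.mem_normalizer_iff

theorem S₀_le_A : D.S₀ ≤ D.A := Subgroup.le_normalizer

theorem u_mem_A : D.u ∈ D.A := D.mem_A_iff.2 D.u_norm

theorem u_mem_N : D.u ∈ D.N := D.S_N D.u_S

theorem S₀_le_N : D.S₀ ≤ D.N := D.S₀_le.trans inf_le_left

theorem fix_α : D.Fix D.α := fun x hx => (D.S₀_le hx).2

theorem fix_smul {a : G} (ha : a ∈ D.A) {γ : Ω} (hγ : D.Fix γ) : D.Fix (a • γ) := by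
  intro x hx
  have h1 : a⁻¹ * x * a ∈ D.S₀ := by
    rw [D.mem_A_iff.1 ha]
    simpa [mul_assoc] using hx
  have h2 := hγ _ h1
  calc x • a • γ = a • (a⁻¹ * x * a) • γ := by simp [mul_smul]
    _ = a • γ := by rw [h2]

theorem S_le_A : D.S ≤ D.A := by
  intro x hx
  rcases D.cos x hx with h | h
  · exact D.S₀_le_A h
  · have : x = D.u * (D.u⁻¹ * x) := by group
    rw [this]
    exact D.A.mul_mem D.u_mem_A (D.S₀_le_A h)

variable [Finite G]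

theorem max_card (γ : Ω) (R : Subgroup G) (hR : R ≤ D.N ⊓ stabilizer G γ) (hRp : IsPGroup 2 R) :
    Nat.card R ≤ Nat.card D.S₀ := by
  obtain ⟨m, hm, hc⟩ := D.stab_card γ
  obtain ⟨j, hj⟩ := IsPGroup.iff_card.1 hRp
  have h1 : Nat.card R ∣ 2 ^ D.e * m := hc ▸ Subgroup.card_dvd_of_le hR
  rw [hj] at h1 ⊢
  rw [D.S₀_card]
  have hcop : Nat.Coprime (2 ^ j) m := Nat.Coprime.pow_left j (Nat.coprime_two_left.2 hm)
  have h2 : 2 ^ j ∣ 2 ^ D.e := hcop.dvd_of_dvd_mul_right h1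
  exact Nat.le_of_dvd (by positivity) h2

theorem u_free {γ : Ω} (hγ : D.Fix γ) : D.u • γ ≠ γ := by
  intro hu
  have hS : D.S ≤ D.N ⊓ stabilizer G γ := by
    intro x hx
    refine Subgroup.mem_inf.2 ⟨D.S_N hx, mem_stabilizer_iff.2 ?_⟩
    rcases D.cos x hx with h | h
    · exact hγ x h
    · have h1 := hγ _ h
      have : x • γ = D.u • (D.u⁻¹ * x) • γ := by simp [mul_smul]
      rw [this, h1, hu]
  have := D.max_card γ D.S hS D.S_p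
  rw [D.S_card, D.S₀_card] at this
  have : 2 ^ D.e < 2 ^ (D.e + 1) := Nat.pow_lt_pow_right (by norm_num) (by omega)
  omega

omit [Finite G] in
theorem fix_uα : D.Fix (D.u • D.α) := D.fix_smul D.u_mem_A D.fix_α

theorem α_ne_uα : D.α ≠ D.u • D.α := fun h => D.u_free D.fix_α h.symm

/-- `N_G(S₀)` is 2-transitive on the fixed points of `S₀`. -/
theorem A_two {γ δ γ' δ' : Ω} (hγ' : D.Fix γ') (hδ' : D.Fix δ')
    (h : γ ≠ δ) (h' : γ' ≠ δ') (hγ : D.Fix γ) (hδ : D.Fix δ) :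
    ∃ a ∈ D.A, a • γ = γ' ∧ a • δ = δ' := by
  have : Fact (Nat.Prime 2) := ⟨Nat.prime_two⟩
  obtain ⟨g, hg1, hg2⟩ := D.two h h'
  have hgi1 : g⁻¹ • γ' = γ := by rw [← hg1, inv_smul_smul]
  have hgi2 : g⁻¹ • δ' = δ := by rw [← hg2, inv_smul_smul]
  set H : Subgroup G := D.N ⊓ stabilizer G γ' ⊓ stabilizer G δ' with hH
  have hS₀H : D.S₀ ≤ H := by
    intro x hx
    exact Subgroup.mem_inf.2 ⟨Subgroup.mem_inf.2 ⟨D.S₀_le_N hx, mem_stabilizer_iff.2 (hγ' x hx)⟩,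
      mem_stabilizer_iff.2 (hδ' x hx)⟩
  have hgH : ∀ x ∈ D.S₀, g * x * g⁻¹ ∈ H := by
    intro x hx
    refine Subgroup.mem_inf.2 ⟨Subgroup.mem_inf.2 ⟨D.normal.conj_mem x (D.S₀_le_N hx) g,
      mem_stabilizer_iff.2 ?_⟩, mem_stabilizer_iff.2 ?_⟩
    · rw [mul_smul, mul_smul, hgi1, hγ x hx, hg1]
    · rw [mul_smul, mul_smul, hgi2, hδ x hx, hg2]
  have hmax : ∀ R : Subgroup G, R ≤ H → IsPGroup 2 R → Nat.card R ≤ Nat.card D.S₀ := by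
    intro R hR hRp
    exact D.max_card γ' R (hR.trans inf_le_left) hRp
  obtain ⟨k, hk, hkA⟩ := witt_conj 2 H D.S₀ g hS₀H D.S₀_p hgH hmax
  refine ⟨k⁻¹ * g, hkA, ?_, ?_⟩
  · have h1 : k • γ' = γ' := mem_stabilizer_iff.1 hk.1.2
    rw [mul_smul, hg1, inv_smul_eq_iff, h1]
  · have h1 : k • δ' = δ' := mem_stabilizer_iff.1 hk.2
    rw [mul_smul, hg2, inv_smul_eq_iff, h1]

/-- `N_N(S₀)` is transitive on the fixed points of `S₀`. -/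
theorem L_trans {γ γ' : Ω} (hγ : D.Fix γ) (hγ' : D.Fix γ') :
    ∃ a ∈ D.A, a ∈ D.N ∧ a • γ = γ' := by
  have : Fact (Nat.Prime 2) := ⟨Nat.prime_two⟩
  obtain ⟨g, hgN, hg1⟩ := D.trans γ γ'
  have hgi1 : g⁻¹ • γ' = γ := by rw [← hg1, inv_smul_smul]
  set H : Subgroup G := D.N ⊓ stabilizer G γ' with hH
  have hS₀H : D.S₀ ≤ H := by
    intro x hx
    exact Subgroup.mem_inf.2 ⟨D.S₀_le_N hx, mem_stabilizer_iff.2 (hγ' x hx)⟩
  have hgH : ∀ x ∈ D.S₀, g * x * g⁻¹ ∈ H := by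
    intro x hx
    refine Subgroup.mem_inf.2 ⟨D.normal.conj_mem x (D.S₀_le_N hx) g, mem_stabilizer_iff.2 ?_⟩
    rw [mul_smul, mul_smul, hgi1, hγ x hx, hg1]
  have hmax : ∀ R : Subgroup G, R ≤ H → IsPGroup 2 R → Nat.card R ≤ Nat.card D.S₀ := by
    intro R hR hRp
    exact D.max_card γ' R hR hRp
  obtain ⟨k, hk, hkA⟩ := witt_conj 2 H D.S₀ g hS₀H D.S₀_p hgH hmax
  refine ⟨k⁻¹ * g, hkA, D.N.mul_mem (D.N.inv_mem hk.1) hgN, ?_⟩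
  have h1 : k • γ' = γ' := mem_stabilizer_iff.1 hk.2
  rw [mul_smul, hg1, inv_smul_eq_iff, h1]

end Cfg

end Cfsg.Agent.Lib.Helper19.TwoMod4
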