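import Mathlib
import Cfsg.Agent.Lib.Helper19.TwoMod4Sylow

set_option autoImplicit false

namespace Cfsg.Agent.Lib.Helper19.TwoMod4

open MulAction

variable {G : Type*} [Group G] [Finite G] {Ω : Type*} [Fintype Ω] [MulAction G Ω]

/-- For a transitive subgroup `N`, `|Ω| * |N_γ| = |N|`. -/
theorem card_mul_card_stab (N : Subgroup G) (hN : IsPretransitive N Ω) (γ : Ω) :
    Fintype.card Ω * Nat.card ↥(N ⊓ stabilizer G γ) = Nat.card N := by
  have h := card_orbit_mul_card_inf_stab N γ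
  rw [MulAction.orbit_eq_univ, Nat.card_coe_set_eq, Set.ncard_univ, Nat.card_eq_fintype_card] at h
  exact h

/-- The Sylow data attached to a transitive normal subgroup in degree `2 mod 4`. -/
theorem sylow_data (hn : Fintype.card Ω % 4 = 2) (N : Subgroup G) (hN : IsPretransitive N Ω)
    (α : Ω) :
    ∃ (e : ℕ) (S₀ S : Subgroup G) (u : G),
      (∀ γ : Ω, ∃ m, Odd m ∧ Nat.card ↥(N ⊓ stabilizer G γ) = 2 ^ e * m) ∧
      (∃ m, Odd m ∧ Nat.card N = 2 ^ (e + 1) * m) ∧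
      S₀ ≤ N ⊓ stabilizer G α ∧ IsPGroup 2 S₀ ∧ Nat.card S₀ = 2 ^ e ∧
      S₀ ≤ S ∧ S ≤ N ∧ IsPGroup 2 S ∧ Nat.card S = 2 ^ (e + 1) ∧
      u ∈ S ∧ u ∉ S₀ ∧ u * u ∈ S₀ ∧ (∀ x ∈ S, x ∈ S₀ ∨ u⁻¹ * x ∈ S₀) ∧
      (∀ x, x ∈ S₀ ↔ u * x * u⁻¹ ∈ S₀) := by
  haveI : Fact (Nat.Prime 2) := ⟨Nat.prime_two⟩
  obtain ⟨k, hk⟩ : ∃ k, Fintype.card Ω = 2 * k ∧ Odd k := by
    refine ⟨Fintype.card Ω / 2, by omega, ?_⟩
    rw [Nat.odd_iff]
    omega
  obtain ⟨hk1, hk2⟩ := hk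
  have hc0 : Nat.card ↥(N ⊓ stabilizer G α) ≠ 0 := Nat.card_pos.ne'
  obtain ⟨e, m, hm, hcm⟩ := Nat.exists_eq_two_pow_mul_odd hc0
  have hstab : ∀ γ : Ω, Nat.card ↥(N ⊓ stabilizer G γ) = 2 ^ e * m := by
    intro γ
    have h1 := card_mul_card_stab N hN γ
    have h2 := card_mul_card_stab N hN α
    rw [← hcm]
    have h3 : Fintype.card Ω * Nat.card ↥(N ⊓ stabilizer G γ)
        = Fintype.card Ω * Nat.card ↥(N ⊓ stabilizer G α) := by rw [h1, h2]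
    have hpos : 0 < Fintype.card Ω := by omega
    exact Nat.eq_of_mul_eq_mul_left hpos h3
  have hNcard : Nat.card N = 2 ^ (e + 1) * (k * m) := by
    rw [← card_mul_card_stab N hN α, hcm, hk1]
    ring
  obtain ⟨S₀, hS₀le, hS₀p, hS₀c⟩ := exists_sylow_in 2 (N ⊓ stabilizer G α)
  rw [hcm, factorization_two_pow_mul_odd e m hm] at hS₀c
  obtain ⟨S, hS₀S, hSN, hSp, hSc⟩ := exists_sylow_ge 2 N S₀ (hS₀le.trans inf_le_left) hS₀p
  rw [hNcard, factorization_two_pow_mul_odd (e + 1) (k * m) (hk2.mul hm)] at hSc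
  -- index two
  have hidx : (S₀.subgroupOf S).index = 2 := by
    have h1 := (S₀.subgroupOf S).card_mul_index
    have h2 : Nat.card (S₀.subgroupOf S) = Nat.card S₀ :=
      Nat.card_congr (Subgroup.subgroupOfEquivOfLe hS₀S).toEquiv
    rw [h2, hS₀c, hSc, pow_succ] at h1
    exact Nat.eq_of_mul_eq_mul_left (by positivity) h1
  have hlt : S₀ < S := by
    refine lt_of_le_of_ne hS₀S ?_
    intro h
    rw [h, hSc] at hS₀c
    have : 2 ^ e < 2 ^ (e + 1) := Nat.pow_lt_pow_right (by norm_num) (by omega)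
    omega
  obtain ⟨u, huS, huS₀⟩ := SetLike.exists_of_lt hlt
  have hnorm : (S₀.subgroupOf S).Normal := Subgroup.normal_of_index_eq_two hidx
  have hconj : ∀ v ∈ S, ∀ x ∈ S₀, v * x * v⁻¹ ∈ S₀ := by
    intro v hv x hx
    have := hnorm.conj_mem ⟨x, hS₀S hx⟩ (by simpa [Subgroup.mem_subgroupOf] using hx) ⟨v, hv⟩
    simpa [Subgroup.mem_subgroupOf] using this
  refine ⟨e, S₀, S, u, fun γ => ⟨m, hm, hstab γ⟩, ⟨k * m, hk2.mul hm, hNcard⟩, hS₀le, hS₀p,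
    hS₀c, hS₀S, hSN, hSp, hSc, huS, huS₀, ?_, ?_, ?_⟩
  · have := Subgroup.mul_self_mem_of_index_two hidx (⟨u, huS⟩ : S)
    simpa [Subgroup.mem_subgroupOf] using this
  · intro x hx
    by_cases hx0 : x ∈ S₀
    · exact Or.inl hx0
    · right
      have h1 := Subgroup.mul_mem_iff_of_index_two hidx (a := (⟨u, huS⟩ : S)⁻¹) (b := ⟨x, hx⟩)
      have h2 : ((⟨u, huS⟩ : S)⁻¹ ∈ S₀.subgroupOf S ↔ (⟨x, hx⟩ : S) ∈ S₀.subgroupOf S) := by
        simp only [Subgroup.mem_subgroupOf, InvMemClass.coe_inv, inv_mem_iff]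
        exact ⟨fun h => absurd h huS₀, fun h => absurd h hx0⟩
      have h3 := h1.2 h2
      simpa [Subgroup.mem_subgroupOf] using h3
  · intro x
    constructor
    · intro hx
      exact hconj u huS x hx
    · intro hx
      have := hconj u⁻¹ (S.inv_mem huS) _ hx
      simpa [mul_assoc] using this

end Cfsg.Agent.Lib.Helper19.TwoMod4
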