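import Mathlib

set_option autoImplicit false

namespace Cfsg.Agent.Lib.Helper19.TwoMod4

/-- A fixed-point-free involution on a set of `2 mod 4` points is an odd permutation. -/
theorem sign_of_free_involution {X : Type*} [Fintype X] [DecidableEq X] (σ : Equiv.Perm X)
    (h2 : σ * σ = 1) (hfree : ∀ x, σ x ≠ x) (hcard : Fintype.card X % 4 = 2) :
    Equiv.Perm.sign σ = -1 := by
  have hne : Nonempty X := by
    rw [← Fintype.card_pos_iff]
    omega
  obtain ⟨x₀⟩ := hne
  have hσ1 : σ ≠ 1 := by
    intro h
    apply hfree x₀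
    rw [h]
    rfl
  have hord : orderOf σ = 2 := by
    apply orderOf_eq_prime
    · rw [pow_two]
      exact h2
    · exact hσ1
  have hprime : (orderOf σ).Prime := by
    rw [hord]
    exact Nat.prime_two
  obtain ⟨n, hn⟩ := Equiv.Perm.cycleType_prime_order hprime
  rw [hord] at hn
  have hsupp : σ.support = Finset.univ := by
    ext x
    simp [Equiv.Perm.mem_support, hfree x]
  have hsum : σ.cycleType.sum = Fintype.card X := by
    rw [Equiv.Perm.sum_cycleType, hsupp, Finset.card_univ]
  rw [hn, Multiset.sum_replicate, smul_eq_mul] at hsum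
  rw [Equiv.Perm.sign_of_cycleType, hn, Multiset.sum_replicate, Multiset.card_replicate,
    smul_eq_mul]
  have hodd : Odd ((n + 1) * 2 + (n + 1)) := by
    have : n % 2 = 0 := by omega
    rw [Nat.odd_iff]
    omega
  exact hodd.neg_one_pow

end Cfsg.Agent.Lib.Helper19.TwoMod4
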