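import Mathlib
import Cfsg.Agent.Lib.Helper19.TwoMod4Sylow
import Cfsg.Agent.Lib.Helper19.TwoMod4Witt
import Cfsg.Agent.Lib.Helper19.TwoMod4Sign
import Cfsg.Agent.Lib.Helper19.TwoMod4Cfg

set_option autoImplicit false
set_option linter.unusedSectionVars false

namespace Cfsg.Agent.Lib.Helper19.TwoMod4

open MulAction

namespace Cfg

variable {G : Type*} {Ω : Type*} [Group G] [MulAction G Ω] (D : Cfg G Ω)

/-- The fixed points of `S₀` as a sub-action of `N_G(S₀)`. -/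
def ΔA : SubMulAction D.A Ω where
  carrier := {γ | D.Fix γ}
  smul_mem' := fun a _ hγ => D.fix_smul a.2 hγ

theorem mem_ΔA {γ : Ω} : γ ∈ D.ΔA ↔ D.Fix γ := Iff.rfl

variable [Finite Ω]

noncomputable instance instFintypeΔA : Fintype D.ΔA := Fintype.ofFinite _

noncomputable instance instDecidableEqΔA : DecidableEq D.ΔA := Classical.decEq _

/-- sign of the action of `N_G(S₀)` on the fixed points of `S₀`. -/
noncomputable def sgn : D.A →* ℤˣ :=
  Equiv.Perm.sign.comp (MulAction.toPermHom D.A D.ΔA)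

theorem toPerm_S₀ {x : G} (hx : x ∈ D.S₀) :
    MulAction.toPermHom D.A D.ΔA ⟨x, D.S₀_le_A hx⟩ = 1 := by
  refine Equiv.ext fun d => Subtype.ext ?_
  exact d.2 x hx

theorem sgn_S₀ {x : G} (hx : x ∈ D.S₀) : D.sgn ⟨x, D.S₀_le_A hx⟩ = 1 := by
  unfold sgn
  rw [MonoidHom.comp_apply, D.toPerm_S₀ hx, map_one]

theorem sgn_sq (a : D.A) : D.sgn a * D.sgn a = 1 := Int.units_mul_self _

theorem sgn_conj (a x : D.A) : D.sgn (a * x * a⁻¹) = D.sgn x := by
  rw [map_mul, map_mul, map_inv, mul_comm (D.sgn a), mul_assoc, mul_inv_cancel, mul_one]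

variable [Finite G]

omit [Finite Ω] in
/-- the set of fixed points is the orbit of `α` under `N_N(S₀)`. -/
theorem mem_orbit_iff (γ : Ω) : γ ∈ D.ΔA ↔ γ ∈ MulAction.orbit ↥(D.A ⊓ D.N) D.α := by
  constructor
  · intro hγ
    obtain ⟨a, haA, haN, ha⟩ := D.L_trans D.fix_α hγ
    exact ⟨⟨a, Subgroup.mem_inf.2 ⟨haA, haN⟩⟩, ha⟩
  · rintro ⟨l, rfl⟩
    exact D.fix_smul (Subgroup.mem_inf.1 l.2).1 D.fix_α

theorem card_ΔA : Nat.card D.ΔA % 4 = 2 := by
  have h0 : Nat.card D.ΔA = Nat.card (MulAction.orbit ↥(D.A ⊓ D.N) D.α) :=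
    Nat.card_congr (Equiv.subtypeEquivRight D.mem_orbit_iff)
  rw [h0]
  obtain ⟨m, hm, hNc⟩ := D.N_card
  obtain ⟨m', hm', hsc⟩ := D.stab_card D.α
  refine arith_delta D.e _ (Nat.card ↥(D.A ⊓ D.N))
    (Nat.card ↥((D.A ⊓ D.N) ⊓ MulAction.stabilizer G D.α)) m m' hm hm'
    (card_orbit_mul_card_inf_stab _ _) ?_ ?_ ?_ ?_
  · rw [← D.S_card]
    exact Subgroup.card_dvd_of_le (le_inf D.S_le_A D.S_N)
  · rw [← hNc]
    exact Subgroup.card_dvd_of_le inf_le_right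
  · rw [← D.S₀_card]
    apply Subgroup.card_dvd_of_le
    exact le_inf (le_inf D.S₀_le_A D.S₀_le_N) (D.S₀_le.trans inf_le_right)
  · rw [← hsc]
    apply Subgroup.card_dvd_of_le
    exact le_inf (inf_le_left.trans inf_le_right) inf_le_right

theorem sgn_u : D.sgn ⟨D.u, D.u_mem_A⟩ = -1 := by
  unfold sgn
  rw [MonoidHom.comp_apply]
  apply sign_of_free_involution
  · rw [← map_mul]
    have : (⟨D.u, D.u_mem_A⟩ : D.A) * ⟨D.u, D.u_mem_A⟩ = ⟨D.u * D.u, D.S₀_le_A D.uu⟩ := rfl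
    rw [this, D.toPerm_S₀ D.uu]
  · intro d hd
    rw [MulAction.toPermHom_apply, MulAction.toPerm_apply] at hd
    have h1 : D.u • (d : Ω) = d := congrArg Subtype.val hd
    exact D.u_free d.2 h1
  · rw [← Nat.card_eq_fintype_card]
    exact D.card_ΔA

/-- elements of `N_{N_α}(S₀)` act as even permutations on the fixed points. -/
theorem sgn_stab {y : G} (hyA : y ∈ D.A) (hyN : y ∈ D.N) (hyα : y • D.α = D.α) :
    D.sgn ⟨y, hyA⟩ = 1 := by
  have h2 : Fact (Nat.Prime 2) := ⟨Nat.prime_two⟩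
  obtain ⟨j, k, hk, hjk⟩ := Nat.exists_eq_two_pow_mul_odd (orderOf_pos y).ne'
  -- z = y ^ k is a 2-element
  have hz : (y ^ k) ^ (2 ^ j) = 1 := by
    rw [← pow_mul, mul_comm, ← hjk, pow_orderOf_eq_one]
  have hzp : IsPGroup 2 (Subgroup.zpowers (y ^ k)) := by
    obtain ⟨i, -, hi⟩ := (Nat.dvd_prime_pow Nat.prime_two).1 (orderOf_dvd_of_pow_eq_one hz)
    apply IsPGroup.of_card (n := i)
    rw [Nat.card_zpowers, hi]
  have hzA : Subgroup.zpowers (y ^ k) ≤ Subgroup.normalizer (D.S₀ : Set G) := by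
    rw [Subgroup.zpowers_le]
    exact D.A.pow_mem hyA k
  have hRp : IsPGroup 2 (Subgroup.zpowers (y ^ k) ⊔ D.S₀ : Subgroup G) :=
    hzp.to_sup_of_normal_right' D.S₀_p hzA
  have hR : (Subgroup.zpowers (y ^ k) ⊔ D.S₀ : Subgroup G) ≤ D.N ⊓ stabilizer G D.α := by
    apply sup_le
    · rw [Subgroup.zpowers_le]
      apply Subgroup.pow_mem
      exact Subgroup.mem_inf.2 ⟨hyN, mem_stabilizer_iff.2 hyα⟩
    · exact D.S₀_le
  have hcard := D.max_card D.α _ hR hRp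
  have heq : D.S₀ = Subgroup.zpowers (y ^ k) ⊔ D.S₀ :=
    Subgroup.eq_of_le_of_card_ge le_sup_right hcard
  have hzS₀ : y ^ k ∈ D.S₀ := by
    rw [heq]
    exact (le_sup_left : Subgroup.zpowers (y ^ k) ≤ _) (Subgroup.mem_zpowers _)
  have h3 : D.sgn ⟨y, hyA⟩ ^ k = 1 := by
    rw [← map_pow]
    have : (⟨y, hyA⟩ : D.A) ^ k = ⟨y ^ k, D.S₀_le_A hzS₀⟩ := rfl
    rw [this, D.sgn_S₀ hzS₀]
  rcases Int.units_eq_one_or (D.sgn ⟨y, hyA⟩) with h | h
  · exact h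
  · rw [h, hk.neg_one_pow] at h3
    exact absurd h3 (by decide)

end Cfg

end Cfsg.Agent.Lib.Helper19.TwoMod4
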