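import Mathlib
import Cfsg.Agent.Lib.Helper19.TwoMod4Data
import Cfsg.Agent.Lib.Helper19.TwoMod4Cfg
import Cfsg.Agent.Lib.Helper19.TwoMod4SignCfg

set_option autoImplicit false
set_option linter.unusedSectionVars false

namespace Cfsg.Agent.Lib.Helper19.TwoMod4

open MulAction

namespace Cfg

variable {G : Type*} {Ω : Type*} [Group G] [MulAction G Ω] (D : Cfg G Ω) [Finite Ω] [Finite G]

/-- elements of `N_N(S₀)` with even action on the fixed points act trivially there. -/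
theorem fix_of_sgn {x : G} (hxA : x ∈ D.A) (hxN : x ∈ D.N) (hs : D.sgn ⟨x, hxA⟩ = 1)
    {γ : Ω} (hγ : D.Fix γ) : x • γ = γ := by
  by_contra hne
  have hδ : D.Fix (x • γ) := D.fix_smul hxA hγ
  obtain ⟨a, haA, ha1, ha2⟩ := D.A_two D.fix_α D.fix_uα (Ne.symm hne) D.α_ne_uα hγ hδ
  -- x' = a x a⁻¹
  have hx'A : a * x * a⁻¹ ∈ D.A := D.A.mul_mem (D.A.mul_mem haA hxA) (D.A.inv_mem haA)
  have hx'N : a * x * a⁻¹ ∈ D.N := D.normal.conj_mem x hxN a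
  have hs' : D.sgn ⟨a * x * a⁻¹, hx'A⟩ = 1 := by
    have : (⟨a * x * a⁻¹, hx'A⟩ : D.A) = ⟨a, haA⟩ * ⟨x, hxA⟩ * ⟨a, haA⟩⁻¹ := rfl
    rw [this, D.sgn_conj, hs]
  have hai : a⁻¹ • D.α = γ := by rw [← ha1, inv_smul_smul]
  have hx'α : (a * x * a⁻¹) • D.α = D.u • D.α := by
    rw [mul_smul, mul_smul, hai, ha2]
  have hyA : D.u⁻¹ * (a * x * a⁻¹) ∈ D.A := D.A.mul_mem (D.A.inv_mem D.u_mem_A) hx'A
  have hyN : D.u⁻¹ * (a * x * a⁻¹) ∈ D.N := D.N.mul_mem (D.N.inv_mem D.u_mem_N) hx'N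
  have hyα : (D.u⁻¹ * (a * x * a⁻¹)) • D.α = D.α := by
    rw [mul_smul, hx'α, inv_smul_smul]
  have h1 := D.sgn_stab hyA hyN hyα
  have h2 : (⟨D.u⁻¹ * (a * x * a⁻¹), hyA⟩ : D.A)
      = ⟨D.u, D.u_mem_A⟩⁻¹ * ⟨a * x * a⁻¹, hx'A⟩ := rfl
  rw [h2, map_mul, map_inv, D.sgn_u, hs'] at h1
  exact absurd h1 (by decide)

/-- `S₀` fixes exactly two points. -/
theorem fix_eq {γ : Ω} (hγ : D.Fix γ) : γ = D.α ∨ γ = D.u • D.α := by
  obtain ⟨x, hxA, hxN, hx⟩ := D.L_trans D.fix_α hγ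
  rcases Int.units_eq_one_or (D.sgn ⟨x, hxA⟩) with h | h
  · left
    rw [← hx]
    exact D.fix_of_sgn hxA hxN h D.fix_α
  · right
    have hyA : D.u⁻¹ * x ∈ D.A := D.A.mul_mem (D.A.inv_mem D.u_mem_A) hxA
    have hyN : D.u⁻¹ * x ∈ D.N := D.N.mul_mem (D.N.inv_mem D.u_mem_N) hxN
    have hs : D.sgn ⟨D.u⁻¹ * x, hyA⟩ = 1 := by
      have h2 : (⟨D.u⁻¹ * x, hyA⟩ : D.A) = ⟨D.u, D.u_mem_A⟩⁻¹ * ⟨x, hxA⟩ := rfl
      rw [h2, map_mul, map_inv, D.sgn_u, h]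
      decide
    have h3 := D.fix_of_sgn hyA hyN hs D.fix_α
    rw [mul_smul, hx, inv_smul_eq_iff] at h3
    exact h3

/-- `N_α` is transitive on the points other than `α`. -/
theorem stab_trans {δ : Ω} (hδ : δ ≠ D.α) :
    ∃ h ∈ D.N ⊓ stabilizer G D.α, h • (D.u • D.α) = δ := by
  have : Fact (Nat.Prime 2) := ⟨Nat.prime_two⟩
  obtain ⟨g, hg1, hg2⟩ := D.two D.α_ne_uα (Ne.symm hδ)
  have hgi : g⁻¹ • D.α = D.α := by rw [inv_smul_eq_iff, hg1]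
  have hgH : ∀ x ∈ D.S₀, g * x * g⁻¹ ∈ D.N ⊓ stabilizer G D.α := by
    intro x hx
    refine Subgroup.mem_inf.2 ⟨D.normal.conj_mem x (D.S₀_le_N hx) g, mem_stabilizer_iff.2 ?_⟩
    rw [mul_smul, mul_smul, hgi, D.fix_α x hx, hg1]
  obtain ⟨k, hk, hkA⟩ := witt_conj 2 (D.N ⊓ stabilizer G D.α) D.S₀ g D.S₀_le D.S₀_p hgH
    (fun R hR hRp => D.max_card D.α R hR hRp)
  have hkα : k • D.α = D.α := mem_stabilizer_iff.1 (Subgroup.mem_inf.1 hk).2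
  have haα : (k⁻¹ * g) • D.α = D.α := by
    rw [mul_smul, hg1, inv_smul_eq_iff, hkα]
  have hfix : D.Fix ((k⁻¹ * g) • (D.u • D.α)) := D.fix_smul hkA D.fix_uα
  refine ⟨k, hk, ?_⟩
  rcases D.fix_eq hfix with h | h
  · exfalso
    have := smul_left_cancel _ (h.trans haα.symm)
    exact D.α_ne_uα this.symm
  · rw [mul_smul, hg2, inv_smul_eq_iff] at h
    exact h.symm

end Cfg

variable {G : Type*} [Group G] [Finite G] {Ω : Type*} [Fintype Ω] [MulAction G Ω]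

/-- **Key lemma.** In a 2-transitive group of degree `2 mod 4`, every transitive normal subgroup
is 2-transitive. -/
theorem normal_two_pretransitive (h2 : IsMultiplyPretransitive G Ω 2)
    (hn : Fintype.card Ω % 4 = 2) (N : Subgroup G) [hNn : N.Normal]
    (hN : IsPretransitive N Ω) : IsMultiplyPretransitive N Ω 2 := by
  have hne : Nonempty Ω := by
    rw [← Fintype.card_pos_iff]
    omega
  obtain ⟨α⟩ := hne
  obtain ⟨e, S₀, S, u, h1, h2', h3, h4, h5, h6, h7, h8, h9, h10, h11, h12, h13, h14⟩ :=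
    sylow_data hn N hN α
  have htwo : ∀ {a b c d : Ω}, a ≠ b → c ≠ d → ∃ g : G, g • a = c ∧ g • b = d :=
    fun {a b c d} hab hcd => is_two_pretransitive_iff.1 h2 hab hcd
  let D : Cfg G Ω :=
    { N := N, normal := hNn, S₀ := S₀, S := S, u := u, α := α, e := e
      two := fun hab hcd => htwo hab hcd
      trans := fun a b => by
        obtain ⟨g, hg⟩ := hN.exists_smul_eq a b
        exact ⟨g.1, g.2, hg⟩
      stab_card := h1, N_card := h2', S₀_le := h3, S₀_p := h4, S₀_card := h5, S₀_S := h6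
      S_N := h7, S_p := h8, S_card := h9, u_S := h10, u_not := h11, uu := h12, cos := h13
      u_norm := h14 }
  rw [is_two_pretransitive_iff]
  intro a b c d hab hcd
  obtain ⟨x, hxN, hx⟩ := D.trans a α
  obtain ⟨y, hyN, hy⟩ := D.trans c α
  have hxb : x • b ≠ α := by
    rw [← hx]
    intro h
    exact hab (smul_left_cancel _ h).symm
  have hyd : y • d ≠ α := by
    rw [← hy]
    intro h
    exact hcd (smul_left_cancel _ h).symm
  obtain ⟨k₁, hk₁, hk₁'⟩ := D.stab_trans hxb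
  obtain ⟨k₂, hk₂, hk₂'⟩ := D.stab_trans hyd
  have hk₁N : k₁ ∈ N := (Subgroup.mem_inf.1 hk₁).1
  have hk₂N : k₂ ∈ N := (Subgroup.mem_inf.1 hk₂).1
  have hk₁α : k₁ • α = α := mem_stabilizer_iff.1 (Subgroup.mem_inf.1 hk₁).2
  have hk₂α : k₂ • α = α := mem_stabilizer_iff.1 (Subgroup.mem_inf.1 hk₂).2
  refine ⟨⟨y⁻¹ * k₂ * k₁⁻¹ * x, N.mul_mem (N.mul_mem (N.mul_mem (N.inv_mem hyN) hk₂N)
    (N.inv_mem hk₁N)) hxN⟩, ?_, ?_⟩
  · change (y⁻¹ * k₂ * k₁⁻¹ * x) • a = c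
    rw [mul_smul, hx, mul_smul, inv_smul_eq_iff.2 hk₁α.symm, mul_smul, hk₂α, inv_smul_eq_iff, hy]
  · change (y⁻¹ * k₂ * k₁⁻¹ * x) • b = d
    rw [mul_smul, ← hk₁', mul_smul, inv_smul_smul, mul_smul, hk₂', inv_smul_smul]

end Cfsg.Agent.Lib.Helper19.TwoMod4
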