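import Mathlib
import Cfsg.Agent.Lib.Helper19.TwoMod4Main

set_option autoImplicit false
set_option linter.unusedSectionVars false

namespace Cfsg.Agent.Lib.Helper19.TwoMod4

open MulAction

/-- A subgroup that is 2-transitive cannot commute elementwise with a transitive subgroup
(when there are at least three points). -/
theorem false_of_commuting_transitive {G Ω : Type*} [Group G] [MulAction G Ω]
    (T C : Subgroup G)
    (hT : ∀ {a b c d : Ω}, a ≠ b → c ≠ d → ∃ t ∈ T, t • a = c ∧ t • b = d)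
    (hC : ∀ a b : Ω, ∃ c ∈ C, c • a = b) (hcomm : ∀ t ∈ T, ∀ c ∈ C, t * c = c * t)
    {α β γ : Ω} (h1 : α ≠ β) (h2 : α ≠ γ) (h3 : β ≠ γ) : False := by
  obtain ⟨t, ht, ht1, ht2⟩ := hT h1 h2
  obtain ⟨c, hc, hcβ⟩ := hC α β
  have : t • β = β := by
    rw [← hcβ, ← mul_smul, hcomm t ht c hc, mul_smul, ht1]
  rw [this] at ht2
  exact h3 ht2

/-- predicate form of 2-transitivity of a subgroup -/
theorem two_pred {G Ω : Type*} [Group G] [MulAction G Ω] (T : Subgroup G)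
    (hT : IsMultiplyPretransitive T Ω 2) :
    ∀ {a b c d : Ω}, a ≠ b → c ≠ d → ∃ t ∈ T, t • a = c ∧ t • b = d := by
  intro a b c d hab hcd
  obtain ⟨t, h1, h2⟩ := is_two_pretransitive_iff.1 hT hab hcd
  exact ⟨t.1, t.2, h1, h2⟩

/-- In a 2-transitive group, a normal subgroup acting nontrivially is transitive. -/
theorem normal_transitive {G Ω : Type*} [Group G] [MulAction G Ω]
    (h2 : IsMultiplyPretransitive G Ω 2) (N : Subgroup G) [N.Normal]
    (hN : ∃ n ∈ N, ∃ a : Ω, n • a ≠ a) : IsPretransitive N Ω := by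
  have hprim : IsPreprimitive G Ω := isPreprimitive_of_is_two_pretransitive h2
  apply IsQuasiPreprimitive.isPretransitive_of_normal
  intro h
  obtain ⟨n, hn, a, ha⟩ := hN
  have : a ∈ fixedPoints N Ω := by rw [h]; trivial
  exact ha (this ⟨n, hn⟩)

theorem exists_moved {G Ω : Type*} [Group G] [MulAction G Ω] [FaithfulSMul G Ω]
    (N : Subgroup G) (hN : N ≠ ⊥) : ∃ n ∈ N, ∃ a : Ω, n • a ≠ a := by
  obtain ⟨n, hn, hn1⟩ := (Subgroup.ne_bot_iff_exists_ne_one.1 hN |> fun ⟨x, hx⟩ =>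
    (⟨x.1, x.2, fun h => hx (Subtype.ext h)⟩ : ∃ n ∈ N, n ≠ 1))
  refine ⟨n, hn, ?_⟩
  by_contra hcon
  push Not at hcon
  apply hn1
  apply FaithfulSMul.eq_of_smul_eq_smul (α := Ω)
  intro a
  rw [hcon a, one_smul]


/-- conjugate of a subgroup -/
def cj {G : Type*} [Group G] (g : G) (T : Subgroup G) : Subgroup G :=
  T.map (MulAut.conj g).toMonoidHom

theorem mem_cj {G : Type*} [Group G] (g : G) (T : Subgroup G) (x : G) :
    x ∈ cj g T ↔ g⁻¹ * x * g ∈ T := by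
  unfold cj
  rw [Subgroup.mem_map]
  constructor
  · rintro ⟨y, hy, rfl⟩
    simpa [mul_assoc] using hy
  · intro h
    exact ⟨g⁻¹ * x * g, h, by simp [mul_assoc]⟩

theorem card_cj {G : Type*} [Group G] (g : G) (T : Subgroup G) :
    Nat.card (cj g T) = Nat.card T :=
  Nat.card_congr (T.equivMapOfInjective _ (MulAut.conj g).injective).symm.toEquiv

variable {G : Type*} [Group G] [Finite G] {Ω : Type*} [Fintype Ω] [MulAction G Ω]
  [FaithfulSMul G Ω]

/-- A minimal `M`-invariant subgroup of the minimal normal subgroup `M` is `M` itself. -/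
theorem minimal_eq (hn : Fintype.card Ω % 4 = 2)
    (hn2 : 2 < Fintype.card Ω) (M : Subgroup G) [hMn : M.Normal]
    (hM2 : IsMultiplyPretransitive M Ω 2)
    (hMmin : ∀ K : Subgroup G, K.Normal → K ≠ ⊥ → Nat.card M ≤ Nat.card K)
    (T₁ : Subgroup G) (hT₁M : T₁ ≤ M) (hT₁n : ∀ m ∈ M, ∀ x ∈ T₁, m * x * m⁻¹ ∈ T₁)
    (hT₁ne : T₁ ≠ ⊥)
    (hT₁min : ∀ K : Subgroup G, K ≤ M → (∀ m ∈ M, ∀ x ∈ K, m * x * m⁻¹ ∈ K) → K ≠ ⊥ →
      Nat.card T₁ ≤ Nat.card K) : T₁ = M := by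
  obtain ⟨α, β, γ, hαβ, hαγ, hβγ⟩ := Fintype.two_lt_card_iff.1 hn2
  by_cases hall : ∀ g : G, cj g T₁ = T₁
  · -- T₁ is normal in G
    have hnorm : T₁.Normal := by
      refine ⟨fun x hx g => ?_⟩
      have h1 : g * x * g⁻¹ ∈ cj g T₁ := by
        rw [mem_cj]
        simpa [mul_assoc] using hx
      rwa [hall g] at h1
    exact Subgroup.eq_of_le_of_card_ge hT₁M (hMmin T₁ hnorm hT₁ne)
  · exfalso
    push Not at hall
    obtain ⟨g, hg⟩ := hall
    -- the conjugate is M-invariant and inside M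
    have hcjM : cj g T₁ ≤ M := by
      intro x hx
      rw [mem_cj] at hx
      have h1 : g⁻¹ * x * g ∈ M := hT₁M hx
      have h2 := hMn.conj_mem _ h1 g
      simpa [mul_assoc] using h2
    have hcjn : ∀ m ∈ M, ∀ x ∈ cj g T₁, m * x * m⁻¹ ∈ cj g T₁ := by
      intro m hm x hx
      rw [mem_cj] at hx ⊢
      have hm' : g⁻¹ * m * g ∈ M := by
        have := hMn.conj_mem m hm g⁻¹
        simpa using this
      have := hT₁n _ hm' _ hx
      have h3 : g⁻¹ * (m * x * m⁻¹) * g = g⁻¹ * m * g * (g⁻¹ * x * g) * (g⁻¹ * m * g)⁻¹ := by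
        group
      rw [h3]
      exact this
    -- the intersection is trivial
    have hinf : T₁ ⊓ cj g T₁ = ⊥ := by
      by_contra hne
      have hK : Nat.card T₁ ≤ Nat.card ↥(T₁ ⊓ cj g T₁) := by
        apply hT₁min _ (inf_le_left.trans hT₁M) _ hne
        intro m hm x hx
        exact Subgroup.mem_inf.2 ⟨hT₁n m hm x (Subgroup.mem_inf.1 hx).1,
          hcjn m hm x (Subgroup.mem_inf.1 hx).2⟩
      have h1 : T₁ ⊓ cj g T₁ = T₁ := Subgroup.eq_of_le_of_card_ge inf_le_left hK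
      have h2 : T₁ ≤ cj g T₁ := by
        intro x hx
        rw [← h1] at hx
        exact (Subgroup.mem_inf.1 hx).2
      have h3 : T₁ = cj g T₁ := Subgroup.eq_of_le_of_card_ge h2 (card_cj g T₁).le
      exact hg h3.symm
    -- T₁ and its conjugate commute
    have hcomm : ∀ t ∈ T₁, ∀ c ∈ cj g T₁, t * c = c * t := by
      intro t ht c hc
      have h1 : t * c * t⁻¹ * c⁻¹ ∈ T₁ ⊓ cj g T₁ := by
        refine Subgroup.mem_inf.2 ⟨?_, ?_⟩
        · have h4 : c * t⁻¹ * c⁻¹ ∈ T₁ := hT₁n c (hcjM hc) _ (T₁.inv_mem ht)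
          have : t * c * t⁻¹ * c⁻¹ = t * (c * t⁻¹ * c⁻¹) := by group
          rw [this]
          exact T₁.mul_mem ht h4
        · have h4 : t * c * t⁻¹ ∈ cj g T₁ := hcjn t (hT₁M ht) c hc
          exact (cj g T₁).mul_mem h4 ((cj g T₁).inv_mem hc)
      rw [hinf, Subgroup.mem_bot] at h1
      have : t * c = (t * c * t⁻¹ * c⁻¹) * (c * t) := by group
      rw [this, h1, one_mul]
    -- T₁ is transitive on Ω, hence 2-transitive
    have hTn : (T₁.subgroupOf M).Normal := by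
      refine ⟨fun x hx m => ?_⟩
      rw [Subgroup.mem_subgroupOf] at hx ⊢
      exact hT₁n m.1 m.2 x.1 hx
    have hmoved : ∃ n ∈ T₁.subgroupOf M, ∃ a : Ω, n • a ≠ a := by
      obtain ⟨n, hn, a, ha⟩ := exists_moved (Ω := Ω) T₁ hT₁ne
      exact ⟨⟨n, hT₁M hn⟩, by simpa [Subgroup.mem_subgroupOf] using hn, a, ha⟩
    have hTt : IsPretransitive (T₁.subgroupOf M) Ω :=
      normal_transitive hM2 (T₁.subgroupOf M) hmoved
    have hT2 : IsMultiplyPretransitive (T₁.subgroupOf M) Ω 2 :=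
      normal_two_pretransitive hM2 hn (T₁.subgroupOf M) hTt
    have hT2' : ∀ {a b c d : Ω}, a ≠ b → c ≠ d → ∃ t ∈ T₁, t • a = c ∧ t • b = d := by
      intro a b c d hab hcd
      obtain ⟨t, h1, h2⟩ := is_two_pretransitive_iff.1 hT2 hab hcd
      exact ⟨t.1.1, Subgroup.mem_subgroupOf.1 t.2, h1, h2⟩
    have hCt : ∀ a b : Ω, ∃ c ∈ cj g T₁, c • a = b := by
      intro a b
      obtain ⟨t, h1⟩ := hTt.exists_smul_eq (g⁻¹ • a) (g⁻¹ • b)
      refine ⟨g * t.1.1 * g⁻¹, ?_, ?_⟩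
      · rw [mem_cj]
        have : g⁻¹ * (g * t.1.1 * g⁻¹) * g = t.1.1 := by group
        rw [this]
        exact Subgroup.mem_subgroupOf.1 t.2
      · have h1' : (t.1.1 : G) • g⁻¹ • a = g⁻¹ • b := h1
        rw [mul_smul, mul_smul, h1', smul_inv_smul]
    exact false_of_commuting_transitive T₁ (cj g T₁) hT2' hCt hcomm hαβ hαγ hβγ


/-- **Aschbacher's theorem** on 2-transitive groups of degree `n ≡ 2 mod 4`, `n > 2`. -/
theorem main_theorem (h2 : IsMultiplyPretransitive G Ω 2) (hn : Fintype.card Ω % 4 = 2)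
    (hn2 : 2 < Fintype.card Ω) :
    ∃ M : Subgroup G, M.Normal ∧ M ≠ ⊥ ∧ (∀ N : Subgroup G, N.Normal → N ≠ ⊥ → M ≤ N) ∧
      IsSimpleGroup ↥M ∧ IsMultiplyPretransitive ↥M Ω 2 ∧
      Subgroup.centralizer (M : Set G) = ⊥ := by
  obtain ⟨α, β, γ, hαβ, hαγ, hβγ⟩ := Fintype.two_lt_card_iff.1 hn2
  have htwo : ∀ {a b c d : Ω}, a ≠ b → c ≠ d → ∃ g : G, g • a = c ∧ g • b = d :=
    fun {a b c d} hab hcd => is_two_pretransitive_iff.1 h2 hab hcd
  have hGnt : (⊤ : Subgroup G) ≠ ⊥ := by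
    intro h
    obtain ⟨g, -, hg⟩ := htwo hαβ hαγ
    have h1 : g ∈ (⊥ : Subgroup G) := h ▸ Subgroup.mem_top g
    rw [Subgroup.mem_bot] at h1
    rw [h1, one_smul] at hg
    exact hβγ hg
  -- a minimal normal subgroup
  obtain ⟨M, hMP, hMmin0⟩ := WellFounded.has_min
    (measure (fun K : Subgroup G => Nat.card K)).wf {K | K.Normal ∧ K ≠ ⊥}
    ⟨⊤, inferInstance, hGnt⟩
  obtain ⟨hMn, hMne⟩ := hMP
  have hMmin : ∀ K : Subgroup G, K.Normal → K ≠ ⊥ → Nat.card M ≤ Nat.card K := by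
    intro K hK hKne
    have := hMmin0 K ⟨hK, hKne⟩
    exact not_lt.1 this
  -- nontrivial normal subgroups are transitive
  have hNtr : ∀ N : Subgroup G, N.Normal → N ≠ ⊥ → IsPretransitive N Ω := by
    intro N hN hNne
    exact normal_transitive h2 N (exists_moved N hNne)
  have hNtr' : ∀ N : Subgroup G, N.Normal → N ≠ ⊥ → ∀ a b : Ω, ∃ c ∈ N, c • a = b := by
    intro N hN hNne a b
    obtain ⟨c, hc⟩ := (hNtr N hN hNne).exists_smul_eq a b
    exact ⟨c.1, c.2, hc⟩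
  have hMt : IsPretransitive M Ω := hNtr M hMn hMne
  have hM2 : IsMultiplyPretransitive M Ω 2 := normal_two_pretransitive h2 hn M hMt
  have hM2' : ∀ {a b c d : Ω}, a ≠ b → c ≠ d → ∃ t ∈ M, t • a = c ∧ t • b = d :=
    fun {a b c d} hab hcd => two_pred M hM2 hab hcd
  -- trivial centralizer
  have hC : Subgroup.centralizer (M : Set G) = ⊥ := by
    by_contra hne
    have hCn : (Subgroup.centralizer (M : Set G)).Normal := Subgroup.normal_centralizer
    refine false_of_commuting_transitive M (Subgroup.centralizer (M : Set G)) hM2'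
      (hNtr' _ hCn hne) ?_ hαβ hαγ hβγ
    intro t ht c hc
    exact Subgroup.mem_centralizer_iff.1 hc t ht
  refine ⟨M, hMn, hMne, ?_, ?_, hM2, hC⟩
  · -- contained in every nontrivial normal subgroup
    intro N hNn hNne
    by_cases h : N ⊓ M = ⊥
    · exfalso
      refine false_of_commuting_transitive M N hM2' (hNtr' N hNn hNne) ?_ hαβ hαγ hβγ
      intro t ht c hc
      have h1 : t * c * t⁻¹ * c⁻¹ ∈ N ⊓ M := by
        refine Subgroup.mem_inf.2 ⟨?_, ?_⟩
        · exact N.mul_mem (hNn.conj_mem c hc t) (N.inv_mem hc)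
        · have h4 : c * t⁻¹ * c⁻¹ ∈ M := hMn.conj_mem _ (M.inv_mem ht) c
          have : t * c * t⁻¹ * c⁻¹ = t * (c * t⁻¹ * c⁻¹) := by group
          rw [this]
          exact M.mul_mem ht h4
      rw [h, Subgroup.mem_bot] at h1
      have : t * c = (t * c * t⁻¹ * c⁻¹) * (c * t) := by group
      rw [this, h1, one_mul]
    · have hK : Nat.card M ≤ Nat.card ↥(N ⊓ M) := hMmin _ (Subgroup.normal_inf_normal N M) h
      have h1 : N ⊓ M = M := Subgroup.eq_of_le_of_card_ge inf_le_right hK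
      intro x hx
      rw [← h1] at hx
      exact (Subgroup.mem_inf.1 hx).1
  · -- simple
    obtain ⟨T₁, hT₁P, hT₁min0⟩ := WellFounded.has_min
      (measure (fun K : Subgroup G => Nat.card K)).wf
      {K | K ≤ M ∧ (∀ m ∈ M, ∀ x ∈ K, m * x * m⁻¹ ∈ K) ∧ K ≠ ⊥}
      ⟨M, le_rfl, fun m hm x hx => M.mul_mem (M.mul_mem hm hx) (M.inv_mem hm), hMne⟩
    obtain ⟨hT₁M, hT₁n, hT₁ne⟩ := hT₁P
    have hT₁min : ∀ K : Subgroup G, K ≤ M → (∀ m ∈ M, ∀ x ∈ K, m * x * m⁻¹ ∈ K) → K ≠ ⊥ →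
        Nat.card T₁ ≤ Nat.card K := by
      intro K h1 h2 h3
      exact not_lt.1 (hT₁min0 K ⟨h1, h2, h3⟩)
    have hT₁eq : T₁ = M :=
      minimal_eq hn hn2 M hM2 hMmin T₁ hT₁M hT₁n hT₁ne hT₁min
    have hnt : Nontrivial ↥M := (Subgroup.nontrivial_iff_ne_bot M).2 hMne
    refine { exists_pair_ne := hnt.exists_pair_ne, eq_bot_or_eq_top_of_normal := ?_ }
    intro T hTn
    by_cases hT : T = ⊥
    · exact Or.inl hT
    · right
      apply Subgroup.eq_top_of_le_card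
      have h1 : Nat.card T₁ ≤ Nat.card ↥(T.map M.subtype) := by
        apply hT₁min
        · rintro _ ⟨y, -, rfl⟩
          exact y.2
        · rintro m hm _ ⟨y, hy, rfl⟩
          exact ⟨⟨m, hm⟩ * y * ⟨m, hm⟩⁻¹, hTn.conj_mem y hy ⟨m, hm⟩, rfl⟩
        · rw [Ne, Subgroup.map_eq_bot_iff_of_injective _ M.subtype_injective]
          exact hT
      rw [hT₁eq, Subgroup.card_map_of_injective M.subtype_injective] at h1
      exact h1

end Cfsg.Agent.Lib.Helper19.TwoMod4
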