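import Cfsg.Agent.Lib.Helper19.UDK1Q2FOURcore
import Cfsg.Agent.Lib.Lead.UDK1Q2FLD
import Cfsg.Agent.Lib.helper4.UDK1Q2PAT
import Cfsg.Agent.Lib.Helper24.UDK1Q2TRANS

set_option autoImplicit false
set_option linter.unusedSectionVars false

/-!
# UDK1Q2 row FOUR (helper19): `q2_four`, verbatim vs `Lead/UDK1Q2/Skel`
-/

namespace Cfsg.Agent.Lib.Lead.UDK1Q2

open Matrix Cfsg.Agent.Lib.Helper29.ExtrL Cfsg.Agent.Lib.Helper28.UMax

variable {n : ℕ} {F : Type*} [Field F] [Fintype F] [DecidableEq F]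

theorem q2_four (C : Ctx n F) (hn : 7 ≤ n) {y : Fin n → F} (hy : y ∈ C.X) (he : Even (wt y))
    (h4 : 4 ≤ wt y) : ∀ z : Fin n → F, wt z = 4 → z ∈ C.X := by
  obtain ⟨w, hw0, hw1, hw⟩ := q2_omega C.hF
  exact q2four_core C hn (q2_two C.hF) w hw0 hw1 hw
    (fun d hd hdet _ hy hsum => q2_pattern C d hd hdet hy hsum)
    (fun hy hw hlt => q2_trans C hy hw hlt) hy he h4

end Cfsg.Agent.Lib.Lead.UDK1Q2
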