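import Cfsg.Agent.Lib.Lead.UDK1Q2.Defs

set_option autoImplicit false
set_option linter.unusedSectionVars false

/-!
# UDK1Q2 row FOUR (helper19), core: `q2four_core` = `q2_four` with the statements of `q2_two`, `q2_omega`,
`q2_pattern`, `q2_trans` as hypotheses (see `Lead/UDK1Q2/PLAN.md`).
-/

namespace Cfsg.Agent.Lib.Lead.UDK1Q2

open Matrix Cfsg.Agent.Lib.Helper29.ExtrL Cfsg.Agent.Lib.Helper28.UMax

variable {n : ℕ} {F : Type*} [Field F] [Fintype F] [DecidableEq F]

/-- the support of a vector -/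
def q2four_supp (y : Fin n → F) : Finset (Fin n) := Finset.univ.filter fun i => y i ≠ 0

theorem q2four_wt (y : Fin n → F) : wt y = (q2four_supp y).card := rfl

theorem q2four_cast_even (h2 : (2 : F) = 0) {k : ℕ} (hk : Even k) : ((k : ℕ) : F) = 0 := by
  obtain ⟨m, rfl⟩ := hk
  push_cast
  linear_combination (m : F) * h2

theorem q2four_w3 {w : F} (hw : w ^ 2 + w + 1 = 0) : w ^ 3 = 1 := by
  linear_combination (w - 1) * hw

theorem q2four_w9 {w : F} (hw : w ^ 2 + w + 1 = 0) : w ^ 9 = 1 := by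
  have h3 := q2four_w3 hw
  calc w ^ 9 = (w ^ 3) ^ 3 := by ring
    _ = 1 := by rw [h3, one_pow]

/-- one application of `q2_pattern` with `d = w` on `T₁`, `w²` on `T₂`, `1` elsewhere -/
theorem q2four_step (C : Ctx n F) (h2 : (2 : F) = 0) (w : F) (hw0 : w ≠ 0) (hw1 : w ≠ 1)
    (hw : w ^ 2 + w + 1 = 0)
    (hpat : ∀ (d : Fin n → F), (∀ i, d i ≠ 0) → ∏ i, d i = 1 → ∀ {y : Fin n → F}, y ∈ C.X →
      ∑ i, (if y i = 0 then 0 else (d i) ^ 2) = 1 → (fun i => y i * (1 + d i)) ∈ C.X)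
    {y : Fin n → F} (hy : y ∈ C.X) (T₁ T₂ : Finset (Fin n)) (hdisj : Disjoint T₁ T₂)
    (hprod : w ^ (T₁.card + 2 * T₂.card) = 1)
    (hsum : (((q2four_supp y).card : ℕ) : F) + (((q2four_supp y ∩ T₁).card : ℕ) : F) * w
      + (((q2four_supp y ∩ T₂).card : ℕ) : F) * w ^ 2 = 1) :
    ∃ y' ∈ C.X, wt y' = (q2four_supp y ∩ T₁).card + (q2four_supp y ∩ T₂).card := by
  have hw2 : w ^ 2 = 1 + w := by linear_combination hw - (w + 1) * h2
  have hw3 := q2four_w3 hw
  have hw4 : w ^ 4 = 1 + w ^ 2 := by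
    have : w ^ 4 = w ^ 3 * w := by ring
    rw [this, hw3, one_mul]
    linear_combination -hw + w * h2
  have hw21 : w ^ 2 ≠ 1 := by
    intro h
    apply hw1
    have : (w - 1) * (w - 1) = 0 := by linear_combination h + (1 - w) * h2
    have := mul_self_eq_zero.mp this
    linear_combination this
  have hw20 : w ^ 2 ≠ 0 := pow_ne_zero 2 hw0
  obtain ⟨d, hddef⟩ : ∃ d : Fin n → F, d = fun i => (if i ∈ T₁ then w else 1) * (if i ∈ T₂ then w ^ 2 else 1) :=
    ⟨_, rfl⟩
  have hdi : ∀ i, d i = (if i ∈ T₁ then w else 1) * (if i ∈ T₂ then w ^ 2 else 1) := fun i => by rw [hddef]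
  have hnot : ∀ i, i ∈ T₁ → i ∉ T₂ := fun i h1 h2' => Finset.disjoint_left.mp hdisj h1 h2'
  have hd0 : ∀ i, d i ≠ 0 := by
    intro i
    rw [hdi]
    apply mul_ne_zero <;> split_ifs <;> simp [hw0]
  have hdprod : ∏ i, d i = 1 := by
    simp_rw [hdi]
    rw [Finset.prod_mul_distrib, Finset.prod_ite_mem, Finset.prod_ite_mem, Finset.univ_inter,
      Finset.univ_inter, Finset.prod_const, Finset.prod_const, ← pow_mul, ← pow_add]
    exact hprod
  have hd2 : ∀ i, (if y i = 0 then 0 else (d i) ^ 2) =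
      (if y i ≠ 0 then (1 : F) else 0) + (if i ∈ q2four_supp y ∩ T₁ then w else 0)
        + (if i ∈ q2four_supp y ∩ T₂ then w ^ 2 else 0) := by
    intro i
    by_cases hyi : y i = 0
    · have h1 : i ∉ q2four_supp y ∩ T₁ := by
        simp [q2four_supp, hyi]
      have h2' : i ∉ q2four_supp y ∩ T₂ := by
        simp [q2four_supp, hyi]
      simp [hyi, h1, h2']
    · have hS : i ∈ q2four_supp y := by simp [q2four_supp, hyi]
      by_cases h1 : i ∈ T₁
      · have h2' := hnot i h1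
        simp only [hyi, hdi, h1, h2', if_true, if_false, ne_eq, not_false_eq_true, Finset.mem_inter, hS,
          and_self, and_false, mul_one, add_zero]
        exact hw2
      · by_cases h2' : i ∈ T₂
        · simp only [hyi, hdi, h1, h2', if_true, if_false, ne_eq, not_false_eq_true, Finset.mem_inter, hS,
            and_self, and_false, one_mul, add_zero]
          rw [← pow_mul]
          exact hw4
        · simp [hyi, hdi, h1, h2', hS]
  have hdsum : ∑ i, (if y i = 0 then 0 else (d i) ^ 2) = 1 := by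
    simp_rw [hd2]
    rw [Finset.sum_add_distrib, Finset.sum_add_distrib, Finset.sum_ite_mem, Finset.sum_ite_mem,
      Finset.univ_inter, Finset.univ_inter, Finset.sum_const, Finset.sum_const, Finset.sum_boole,
      nsmul_eq_mul, nsmul_eq_mul]
    exact hsum
  refine ⟨_, hpat d hd0 hdprod hy hdsum, ?_⟩
  rw [q2four_wt, ← Finset.card_union_of_disjoint
    (Finset.disjoint_of_subset_left Finset.inter_subset_right
      (Finset.disjoint_of_subset_right Finset.inter_subset_right hdisj))]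
  congr 1
  ext i
  simp only [q2four_supp, Finset.mem_filter, Finset.mem_univ, true_and, Finset.mem_union, Finset.mem_inter,
    ne_eq, mul_eq_zero, not_or]
  constructor
  · rintro ⟨hyi, hdi'⟩
    by_cases h1 : i ∈ T₁
    · exact Or.inl ⟨hyi, h1⟩
    · by_cases h2' : i ∈ T₂
      · exact Or.inr ⟨hyi, h2'⟩
      · exfalso
        apply hdi'
        rw [hdi]
        simp only [h1, h2', if_false, mul_one]
        linear_combination h2
  · rintro (⟨hyi, h1⟩ | ⟨hyi, h2'⟩)
    · refine ⟨hyi, ?_⟩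
      rw [hdi]
      have h2' := hnot i h1
      simp only [h1, h2', if_true, if_false, mul_one]
      intro h
      apply hw20
      rw [hw2]; exact h
    · refine ⟨hyi, ?_⟩
      have h1 : i ∉ T₁ := fun h => hnot i h h2'
      rw [hdi]
      simp only [h1, h2', if_true, if_false, one_mul]
      intro h
      apply hw0
      have : w = 1 + w ^ 2 := by linear_combination -hw + w * h2
      rw [this]; exact h

/-- case `wt y < n` of `q2_four` -/
theorem q2four_small (C : Ctx n F) (h2 : (2 : F) = 0) (w : F) (hw0 : w ≠ 0) (hw1 : w ≠ 1)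
    (hw : w ^ 2 + w + 1 = 0)
    (hpat : ∀ (d : Fin n → F), (∀ i, d i ≠ 0) → ∏ i, d i = 1 → ∀ {y : Fin n → F}, y ∈ C.X →
      ∑ i, (if y i = 0 then 0 else (d i) ^ 2) = 1 → (fun i => y i * (1 + d i)) ∈ C.X)
    (htrans : ∀ {y y' : Fin n → F}, y ∈ C.X → wt y' = wt y → wt y < n → y' ∈ C.X)
    {y : Fin n → F} (hy : y ∈ C.X) (he : Even (wt y)) (h4 : 4 ≤ wt y) (hlt : wt y < n) :
    ∀ z : Fin n → F, wt z = 4 → z ∈ C.X := by
  have hS : (q2four_supp y).card = wt y := rfl
  obtain ⟨T, hTS, hT4⟩ := Finset.exists_subset_card_eq (show 4 ≤ (q2four_supp y).card from h4)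
  obtain ⟨T₁, hT₁T, hT₁1⟩ := Finset.exists_subset_card_eq (show 1 ≤ T.card by omega)
  obtain ⟨s₀, hs₀⟩ : ∃ s₀, s₀ ∉ q2four_supp y := by
    by_contra hcon
    push Not at hcon
    have : q2four_supp y = Finset.univ := Finset.eq_univ_iff_forall.mpr hcon
    rw [this, Finset.card_univ, Fintype.card_fin] at hS
    omega
  have hs₀T : s₀ ∉ T \ T₁ := fun h => hs₀ (hTS (Finset.mem_sdiff.mp h).1)
  have hdisj : Disjoint T₁ (insert s₀ (T \ T₁)) := by
    rw [Finset.disjoint_left]
    intro i hi hi'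
    rcases Finset.mem_insert.mp hi' with h | h
    · exact hs₀ (h ▸ hTS (hT₁T hi))
    · exact (Finset.mem_sdiff.mp h).2 hi
  have hc2 : (insert s₀ (T \ T₁)).card = 4 := by
    rw [Finset.card_insert_of_notMem hs₀T, Finset.card_sdiff_of_subset hT₁T, hT4, hT₁1]
  have hi1 : q2four_supp y ∩ T₁ = T₁ := Finset.inter_eq_right.mpr (hT₁T.trans hTS)
  have hi2 : q2four_supp y ∩ insert s₀ (T \ T₁) = T \ T₁ := by
    ext i
    simp only [Finset.mem_inter, Finset.mem_insert, Finset.mem_sdiff]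
    constructor
    · rintro ⟨hiS, h | h⟩
      · exact absurd (h ▸ hiS) hs₀
      · exact h
    · intro h
      exact ⟨hTS h.1, Or.inr h⟩
  have hc3 : (T \ T₁).card = 3 := by
    rw [Finset.card_sdiff_of_subset hT₁T, hT4, hT₁1]
  have h3 : (3 : F) = 1 := by linear_combination h2
  obtain ⟨y', hy', hwy'⟩ := q2four_step C h2 w hw0 hw1 hw hpat hy T₁ (insert s₀ (T \ T₁)) hdisj
    (by rw [hT₁1, hc2]; exact q2four_w9 hw)
    (by
      rw [hi1, hi2, hT₁1, hc3, hS, q2four_cast_even h2 he]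
      push_cast
      linear_combination hw + (w ^ 2 - 1) * h2)
  rw [hi1, hi2, hT₁1, hc3] at hwy'
  intro z hz
  exact htrans hy' (by rw [hz, hwy']) (by rw [hwy']; omega)

/-- FOUR, with the statements of `q2_two`, `q2_omega`, `q2_pattern`, `q2_trans` as hypotheses -/
theorem q2four_core (C : Ctx n F) (hn : 7 ≤ n) (h2 : (2 : F) = 0) (w : F) (hw0 : w ≠ 0) (hw1 : w ≠ 1)
    (hw : w ^ 2 + w + 1 = 0)
    (hpat : ∀ (d : Fin n → F), (∀ i, d i ≠ 0) → ∏ i, d i = 1 → ∀ {y : Fin n → F}, y ∈ C.X →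
      ∑ i, (if y i = 0 then 0 else (d i) ^ 2) = 1 → (fun i => y i * (1 + d i)) ∈ C.X)
    (htrans : ∀ {y y' : Fin n → F}, y ∈ C.X → wt y' = wt y → wt y < n → y' ∈ C.X)
    {y : Fin n → F} (hy : y ∈ C.X) (he : Even (wt y)) (h4 : 4 ≤ wt y) :
    ∀ z : Fin n → F, wt z = 4 → z ∈ C.X := by
  by_cases hlt : wt y < n
  · exact q2four_small C h2 w hw0 hw1 hw hpat htrans hy he h4 hlt
  have hle : wt y ≤ n := by
    rw [q2four_wt]
    calc (q2four_supp y).card ≤ (Finset.univ : Finset (Fin n)).card := Finset.card_le_univ _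
      _ = n := by rw [Finset.card_univ, Fintype.card_fin]
  have hwn : wt y = n := by omega
  have hSu : q2four_supp y = Finset.univ := by
    apply Finset.eq_univ_of_card
    rw [Fintype.card_fin]
    exact hwn
  obtain ⟨T, -, hT6⟩ := Finset.exists_subset_card_eq (show 6 ≤ (q2four_supp y).card by
    rw [← q2four_wt, hwn]; omega)
  obtain ⟨T₁, hT₁T, hT₁3⟩ := Finset.exists_subset_card_eq (show 3 ≤ T.card by omega)
  have hc3 : (T \ T₁).card = 3 := by
    rw [Finset.card_sdiff_of_subset hT₁T, hT6, hT₁3]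
  have h3 : (3 : F) = 1 := by linear_combination h2
  obtain ⟨y', hy', hwy'⟩ := q2four_step C h2 w hw0 hw1 hw hpat hy T₁ (T \ T₁) Finset.disjoint_sdiff
    (by rw [hT₁3, hc3]; exact q2four_w9 hw)
    (by
      rw [hSu, Finset.univ_inter, Finset.univ_inter, hT₁3, hc3, Finset.card_univ, Fintype.card_fin,
        q2four_cast_even h2 (hwn ▸ he)]
      push_cast
      linear_combination 3 * hw + (-2) * h2)
  rw [hSu, Finset.univ_inter, Finset.univ_inter, hT₁3, hc3] at hwy'
  exact q2four_small C h2 w hw0 hw1 hw hpat htrans hy' (by rw [hwy']; decide) (by omega) (by omega)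

end Cfsg.Agent.Lib.Lead.UDK1Q2
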