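import Cfsg.Agent.Lib.helper15.UD.Defs

set_option autoImplicit false
set_option linter.unusedVariables false
set_option linter.unusedSectionVars false

/-!
# UD row ZETA (helper19): `exists_zeta`, verbatim vs `helper15/UD/Skel`
-/

namespace Cfsg.Agent.Lib.helper15.UD

open Matrix Cfsg.Agent.Lib.Helper28 Cfsg.Agent.Lib.Helper29.ExtrL

variable {n q : ℕ} {F : Type*} [Field F] [Fintype F] {σ : F ≃+* F}

/-- for `q ≥ 3` there is a `σ`-fixed element different from `0` and `1` (`g ^ (q + 1)`, `g` a generator of `Fˣ`) -/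
theorem udzeta_fixed (hc : Ctx n q F σ) (hq : 3 ≤ q) : ∃ ζ : F, ζ ≠ 0 ∧ ζ ≠ 1 ∧ σ ζ = ζ := by
  classical
  obtain ⟨g, hg⟩ := IsCyclic.exists_generator (α := Fˣ)
  have hord : orderOf g = q ^ 2 - 1 := by
    rw [orderOf_eq_card_of_forall_mem_zpowers hg, Nat.card_eq_fintype_card, Fintype.card_units, hc.card]
  refine ⟨((g ^ (q + 1) : Fˣ) : F), Units.ne_zero _, ?_, ?_⟩
  · intro h
    have h1 : g ^ (q + 1) = 1 := Units.ext (by rw [h, Units.val_one])
    have hdvd := orderOf_dvd_of_pow_eq_one h1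
    rw [hord] at hdvd
    have hle := Nat.le_of_dvd (by omega) hdvd
    have hsq : q ^ 2 = q * q := by ring
    have h3q : 3 * q ≤ q * q := Nat.mul_le_mul_right q hq
    omega
  · rw [hc.frob, Units.val_pow_eq_pow_val, ← pow_mul]
    have hcard : (g : F) ^ (q ^ 2) = (g : F) := by
      rw [← hc.card]
      exact FiniteField.pow_card _
    calc (g : F) ^ ((q + 1) * q) = (g : F) ^ (q ^ 2) * (g : F) ^ q := by ring
      _ = (g : F) * (g : F) ^ q := by rw [hcard]
      _ = (g : F) ^ (q + 1) := by ring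

theorem exists_zeta (hc : Ctx n q F σ) (k : ℕ) (hex : ¬ (k = 2 ∧ q = 2)) (ν : F) (hν : σ ν = ν) :
    ∃ ζ : F, ζ ≠ 0 ∧ σ ζ = -ζ ∧ (k = 2 → ζ - ν ≠ 0) := by
  by_cases h2 : (2 : F) = 0
  · have hneg : ∀ x : F, -x = x := fun x => by linear_combination (-x) * h2
    by_cases hk : k = 2
    · have hq2 : q ≠ 2 := fun h => hex ⟨hk, h⟩
      have hq : 3 ≤ q := by
        have := UHerm.two_le_q hc.card
        omega
      by_cases hν1 : ν = 1
      · obtain ⟨ζ, hζ0, hζ1, hζσ⟩ := udzeta_fixed hc hq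
        refine ⟨ζ, hζ0, by rw [hζσ, hneg], fun _ => ?_⟩
        rw [hν1]
        exact sub_ne_zero.mpr hζ1
      · refine ⟨1, one_ne_zero, by rw [map_one, hneg], fun _ => ?_⟩
        exact sub_ne_zero.mpr (Ne.symm hν1)
    · exact ⟨1, one_ne_zero, by rw [map_one, hneg], fun h => absurd h hk⟩
  · obtain ⟨ζ, hζ0, hζσ⟩ := UForm.exists_K0 hc.form
    refine ⟨ζ, hζ0, hζσ, fun _ h => ?_⟩
    have hζν : ζ = ν := sub_eq_zero.mp h
    have h1 : σ ζ = ζ := by rw [hζν]; exact hν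
    rw [hζσ] at h1
    have h3 : (2 : F) * ζ = 0 := by linear_combination -h1
    rcases mul_eq_zero.mp h3 with h | h
    · exact h2 h
    · exact hζ0 h

end Cfsg.Agent.Lib.helper15.UD
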