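import Cfsg.Agent.Lib.Helper9.UT.Defs

/-!
# UT row CL6 (helper19): core of `cl6` (induction on the weight), with the statements of
`cl3`, `cl4`, `cl5` as hypotheses
-/

set_option autoImplicit false
set_option linter.unusedVariables false
set_option linter.unusedSectionVars false
set_option linter.style.haveILetI false

open Cfsg

namespace Cfsg.Agent.Lib.Helper9.UT

open Matrix Cfsg.Agent.Lib.Helper29.ExtrL Cfsg.Agent.Lib.Helper28.UMax

variable {n q : ℕ} {F : Type*} [Field F] [Fintype F] {σ : F ≃+* F}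
  {M : Subgroup (Matrix.GeneralLinearGroup (Fin n) F)}

open Classical in
/-- the support of a vector -/
noncomputable def utcl6_supp (v : Fin n → F) : Finset (Fin n) :=
  Finset.univ.filter (fun m => v m ≠ 0)

theorem utcl6_mem_supp (v : Fin n → F) (m : Fin n) : m ∈ utcl6_supp v ↔ v m ≠ 0 := by
  unfold utcl6_supp
  simp

theorem utcl6_norm_ne (x : F) (hx : x ≠ 0) : x * σ x ≠ 0 :=
  mul_ne_zero hx (by rwa [Ne, EmbeddingLike.map_eq_zero_iff])

/-- vectors supported on two coordinates -/
theorem utcl6_two (S : UF n q σ) (v : Fin n → F) (a b : Fin n) (hab : a ≠ b)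
    (hv : ∀ m, m ≠ a → m ≠ b → v m = 0) :
    v = v a • Pi.single a (1 : F) + v b • Pi.single b (1 : F) ∧
      Cfsg.hermForm n F q v v = v a * σ (v a) + v b * σ (v b) := by
  constructor
  · funext m
    by_cases hma : m = a
    · subst hma
      simp [Pi.single_eq_of_ne hab]
    · by_cases hmb : m = b
      · subst hmb
        simp [Pi.single_eq_of_ne hma]
      · simp [Pi.single_eq_of_ne hma, Pi.single_eq_of_ne hmb, hv m hma hmb]
  · rw [herm_apply S]
    apply Finset.sum_eq_add a b hab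
    · intro c _ hc
      rw [hv c hc.1 hc.2, zero_mul]
    · intro h
      exact absurd (Finset.mem_univ _) h
    · intro h
      exact absurd (Finset.mem_univ _) h

/-- base of the induction -/
theorem utcl6_base (S : UF n q σ) (hn : 3 ≤ n)
    (hall2 : ∀ (a b : Fin n) (α β : F), a ≠ b → α * σ α + β * σ β = 0 →
      α • Pi.single a (1 : F) + β • Pi.single b (1 : F) ∈ XS (Cfsg.hermForm n F q) σ M)
    (v : Fin n → F) (hw : (utcl6_supp v).card ≤ 2) (hv : Cfsg.hermForm n F q v v = 0) :
    v ∈ XS (Cfsg.hermForm n F q) σ M := by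
  obtain ⟨t, hst, ht⟩ := Finset.exists_superset_card_eq hw (by
    rw [Fintype.card_fin]
    omega)
  obtain ⟨a, b, hab, rfl⟩ := Finset.card_eq_two.mp ht
  have hoff : ∀ m, m ≠ a → m ≠ b → v m = 0 := by
    intro m hma hmb
    by_contra h
    have := hst ((utcl6_mem_supp v m).mpr h)
    simp [hma, hmb] at this
  obtain ⟨h1, h2⟩ := utcl6_two S v a b hab hoff
  rw [h1]
  apply hall2 a b _ _ hab
  rw [← h2, hv]

/-- the reduction step: an anisotropic pair of coordinates -/
theorem utcl6_stepA (S : UTS n q σ M) (k : ℕ)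
    (IH : ∀ v : Fin n → F, (utcl6_supp v).card ≤ k → Cfsg.hermForm n F q v v = 0 →
      v ∈ XS (Cfsg.hermForm n F q) σ M)
    (hcl3 : ∀ {i j : Fin n} (hij : i ≠ j) (g : Matrix.GeneralLinearGroup (Fin n) F)
      (hg : g ∈ SUg n F q) (hfix : ∀ m, m ≠ i → m ≠ j →
        (g : Matrix (Fin n) (Fin n) F) *ᵥ Pi.single m (1 : F) = Pi.single m (1 : F)), g ∈ M)
    (hcl4 : ∀ {i j : Fin n} (hij : i ≠ j) (α β : F) (hαβ : α * σ α + β * σ β ≠ 0),
      ∃ g : Matrix.GeneralLinearGroup (Fin n) F, g ∈ SUg n F q ∧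
      (∀ m, m ≠ i → m ≠ j →
        (g : Matrix (Fin n) (Fin n) F) *ᵥ Pi.single m (1 : F) = Pi.single m (1 : F)) ∧
      ∀ v : Fin n → F, v i = α → v j = β → ((g : Matrix (Fin n) (Fin n) F) *ᵥ v) j = 0 ∧
        ∀ m, m ≠ i → m ≠ j → ((g : Matrix (Fin n) (Fin n) F) *ᵥ v) m = v m)
    (v : Fin n → F) (hw : (utcl6_supp v).card ≤ k + 1) (hv : Cfsg.hermForm n F q v v = 0)
    {a b : Fin n} (hab : a ≠ b) (hva : v a ≠ 0) (hvb : v b ≠ 0)
    (hN : v a * σ (v a) + v b * σ (v b) ≠ 0) : v ∈ XS (Cfsg.hermForm n F q) σ M := by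
  obtain ⟨g, hgS, hgfix, hgv⟩ := hcl4 hab (v a) (v b) hN
  have hgM : g ∈ M := hcl3 hab g hgS hgfix
  obtain ⟨hgb, hgm⟩ := hgv v rfl rfl
  have hsub : utcl6_supp ((g : Matrix (Fin n) (Fin n) F) *ᵥ v) ⊆ (utcl6_supp v).erase b := by
    intro m hm
    rw [utcl6_mem_supp] at hm
    rw [Finset.mem_erase, utcl6_mem_supp]
    have hmb : m ≠ b := by
      rintro rfl
      exact hm hgb
    refine ⟨hmb, ?_⟩
    by_cases hma : m = a
    · rw [hma]
      exact hva
    · rw [← hgm m hma hmb]
      exact hm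
  have hcard : (utcl6_supp ((g : Matrix (Fin n) (Fin n) F) *ᵥ v)).card ≤ k := by
    have h1 := Finset.card_le_card hsub
    rw [Finset.card_erase_of_mem ((utcl6_mem_supp v b).mpr hvb)] at h1
    omega
  have hgv0 : Cfsg.hermForm n F q ((g : Matrix (Fin n) (Fin n) F) *ᵥ v)
      ((g : Matrix (Fin n) (Fin n) F) *ᵥ v) = 0 := by
    rw [iso_of_mem S hgM, hv]
  have hXS := IH _ hcard hgv0
  have := XS_conj M (M.inv_mem hgM) (iso_of_mem S (M.inv_mem hgM)) hXS
  rwa [Cfsg.Agent.S5643.inv_mv] at this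

/-- `2 = 0` and `3 ≤ q` force `4 ≤ q` -/
theorem utcl6_q4 (S : UF n q σ) (hq : 3 ≤ q) (h2 : (2 : F) = 0) : 4 ≤ q := by
  haveI : CharP F 2 := CharTwo.of_one_ne_zero_of_two_eq_zero one_ne_zero h2
  obtain ⟨k, _, hk⟩ := FiniteField.card F 2
  have hdvd : 2 ∣ q ^ 2 := by
    rw [← S.hF, hk]
    exact dvd_pow_self 2 k.ne_zero
  have h2q : 2 ∣ q := Nat.Prime.dvd_of_dvd_pow Nat.prime_two hdvd
  omega

theorem utcl6_core (S : UTS n q σ M) (hq : 3 ≤ q) (hn : 3 ≤ n)
    (hall2 : ∀ (a b : Fin n) (α β : F), a ≠ b → α * σ α + β * σ β = 0 →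
      α • Pi.single a (1 : F) + β • Pi.single b (1 : F) ∈ XS (Cfsg.hermForm n F q) σ M)
    (hcl3 : ∀ {i j : Fin n} (hij : i ≠ j) (g : Matrix.GeneralLinearGroup (Fin n) F)
      (hg : g ∈ SUg n F q) (hfix : ∀ m, m ≠ i → m ≠ j →
        (g : Matrix (Fin n) (Fin n) F) *ᵥ Pi.single m (1 : F) = Pi.single m (1 : F)), g ∈ M)
    (hcl4 : ∀ {i j : Fin n} (hij : i ≠ j) (α β : F) (hαβ : α * σ α + β * σ β ≠ 0),
      ∃ g : Matrix.GeneralLinearGroup (Fin n) F, g ∈ SUg n F q ∧
      (∀ m, m ≠ i → m ≠ j →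
        (g : Matrix (Fin n) (Fin n) F) *ᵥ Pi.single m (1 : F) = Pi.single m (1 : F)) ∧
      ∀ v : Fin n → F, v i = α → v j = β → ((g : Matrix (Fin n) (Fin n) F) *ᵥ v) j = 0 ∧
        ∀ m, m ≠ i → m ≠ j → ((g : Matrix (Fin n) (Fin n) F) *ᵥ v) m = v m)
    (hcl5 : 4 ≤ q → (2 : F) = 0 → ∀ (v : Fin n → F) {i j : Fin n} (hij : i ≠ j) (hvi : v i ≠ 0)
      (hvj : v j ≠ 0) (heq : v i * σ (v i) = v j * σ (v j)),
      ∃ t ∈ M, (∀ m, m ≠ i → m ≠ j → ((t : Matrix (Fin n) (Fin n) F) *ᵥ v) m = v m) ∧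
        ((t : Matrix (Fin n) (Fin n) F) *ᵥ v) i * σ (((t : Matrix (Fin n) (Fin n) F) *ᵥ v) i) ≠
          v i * σ (v i)) :
    ∀ v : Fin n → F, Cfsg.hermForm n F q v v = 0 → v ∈ XS (Cfsg.hermForm n F q) σ M := by
  have key : ∀ k : ℕ, ∀ v : Fin n → F, (utcl6_supp v).card ≤ k → Cfsg.hermForm n F q v v = 0 →
      v ∈ XS (Cfsg.hermForm n F q) σ M := by
    intro k
    induction k with
    | zero =>
      intro v hw hv
      exact utcl6_base S.toUF hn hall2 v (by omega) hv
    | succ k IH =>
      intro v hw hv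
      by_cases hk : (utcl6_supp v).card ≤ 2
      · exact utcl6_base S.toUF hn hall2 v hk hv
      · -- three distinct non-zero coordinates
        have h3 : 2 < (utcl6_supp v).card := by omega
        obtain ⟨i, i', i'', hi, hi', hi'', h12, h13, h23⟩ := Finset.two_lt_card_iff.mp h3
        rw [utcl6_mem_supp] at hi hi' hi''
        by_cases hA : ∃ a b : Fin n, a ≠ b ∧ v a ≠ 0 ∧ v b ≠ 0 ∧
            v a * σ (v a) + v b * σ (v b) ≠ 0
        · obtain ⟨a, b, hab, hva, hvb, hN⟩ := hA
          exact utcl6_stepA S k IH hcl3 hcl4 v hw hv hab hva hvb hN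
        · push Not at hA
          have e1 := hA i i' h12 hi hi'
          have e2 := hA i i'' h13 hi hi''
          have e3 := hA i' i'' h23 hi' hi''
          have hNi : v i * σ (v i) ≠ 0 := utcl6_norm_ne (v i) hi
          have h2 : (2 : F) = 0 := by
            have : (2 : F) * (v i * σ (v i)) = 0 := by linear_combination e1 + e2 - e3
            rcases mul_eq_zero.mp this with h | h
            · exact h
            · exact absurd h hNi
          have hq4 : 4 ≤ q := utcl6_q4 S.toUF hq h2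
          have heq : v i * σ (v i) = v i' * σ (v i') := by
            linear_combination e1 - (v i' * σ (v i')) * h2
          obtain ⟨t, htM, htm, htN⟩ := hcl5 hq4 h2 v h12 hi hi' heq
          set v' := (t : Matrix (Fin n) (Fin n) F) *ᵥ v with hv'
          have hv'0 : Cfsg.hermForm n F q v' v' = 0 := by
            rw [hv', iso_of_mem S htM, hv]
          have hsub : utcl6_supp v' ⊆ utcl6_supp v := by
            intro m hm
            rw [utcl6_mem_supp] at hm ⊢
            by_cases hmi : m = i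
            · rw [hmi]; exact hi
            · by_cases hmi' : m = i'
              · rw [hmi']; exact hi'
              · rw [← htm m hmi hmi']
                exact hm
          have hw' : (utcl6_supp v').card ≤ k + 1 := le_trans (Finset.card_le_card hsub) hw
          have hv'i'' : v' i'' = v i'' := htm i'' (Ne.symm h13) (Ne.symm h23)
          have hXS' : v' ∈ XS (Cfsg.hermForm n F q) σ M := by
            by_cases hv'i : v' i = 0
            · -- the weight dropped
              apply IH v' _ hv'0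
              have hsub2 : utcl6_supp v' ⊆ (utcl6_supp v).erase i := by
                intro m hm
                rw [Finset.mem_erase]
                refine ⟨?_, hsub hm⟩
                rintro rfl
                rw [utcl6_mem_supp] at hm
                exact hm hv'i
              have h1 := Finset.card_le_card hsub2
              rw [Finset.card_erase_of_mem ((utcl6_mem_supp v i).mpr hi)] at h1
              omega
            · apply utcl6_stepA S k IH hcl3 hcl4 v' hw' hv'0 h13 hv'i (by rw [hv'i'']; exact hi'')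
              rw [hv'i'']
              intro h
              apply htN
              linear_combination h - e2
          have := XS_conj M (M.inv_mem htM) (iso_of_mem S (M.inv_mem htM)) hXS'
          rwa [hv', Cfsg.Agent.S5643.inv_mv] at this
  intro v hv
  exact key _ v le_rfl hv

end Cfsg.Agent.Lib.Helper9.UT
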