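import Cfsg.Agent.Lib.helper6.UTP.Defs
import Cfsg.Agent.Lib.helper7.TP.MeetA

/-!
# UTP row NS (helper19): core of `ns_u`, with the statements of `btv_mem` (BTV), `stab_u` (STAB) and
`sqzero_kron_gen` (C1G) as hypotheses
-/

set_option autoImplicit false
set_option linter.unusedVariables false
set_option linter.unusedSectionVars false

namespace Cfsg.Agent.Lib.helper6.UTP

open Matrix
open scoped Kronecker
open Cfsg.Agent.Lib.helper7.TP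

variable {F : Type*} [Field F] {a b : ℕ}

theorem utpns_ctr_smul_left (c : F) (ψ : Fin b → F) (v : Fin a × Fin b → F) :
    ctr (c • ψ) v = c • ctr ψ v := by
  funext i
  simp only [ctr, Pi.smul_apply, smul_eq_mul]
  rw [Finset.mul_sum]
  refine Finset.sum_congr rfl fun j _ => ?_
  ring

/-- `ELm (c • 1) w ψ = ELm 1 w (c • ψ)`. -/
theorem utpns_ELm_smul (c : F) (w ψ : Fin b → F) :
    ELm (c • (1 : Matrix (Fin a) (Fin a) F)) w ψ = ELm (1 : Matrix (Fin a) (Fin a) F) w (c • ψ) := by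
  rw [Matrix.ext_iff_mulVec]
  intro v
  rw [ELm_mulVec, ELm_mulVec, Matrix.smul_mulVec, Matrix.one_mulVec, Matrix.one_mulVec,
    utpns_ctr_smul_left]

/-- a non-zero skew scalar. -/
theorem utpns_skew (σ : F ≃+* F) (hσ : Inv2 σ) : ∃ c : F, c ≠ 0 ∧ σ c = -c := by
  obtain ⟨x, hx⟩ := hσ.moved
  refine ⟨x - σ x, fun h => hx (sub_eq_zero.mp h).symm, ?_⟩
  rw [map_sub, hσ.invol]
  ring

theorem utpns_core [Fintype F] (σ : F ≃+* F) (hσ : Inv2 σ) (ha : 1 ≤ a) (hb : 3 ≤ b) (hdiv : ¬ b ∣ a)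
    (M : Subgroup (Matrix.GeneralLinearGroup (Fin a × Fin b) F)) (hTM : T0u σ a b ≤ M)
    (hMS : M ≤ SUm σ (Fin a × Fin b)) (hNT : NTu σ M)
    (hbtv : ∀ (c : F), σ c = -c → ∀ (w : Fin b → F) (h : cj σ w ⬝ᵥ w = 0),
      EL (c • (1 : Matrix (Fin a) (Fin a) F)) w (cj σ w) h ∈ T0u σ a b)
    (hstab : ∀ (w w' : Fin b → F), w ≠ 0 → w' ≠ 0 → cj σ w ⬝ᵥ w = 0 →
      ∀ g : Matrix.GeneralLinearGroup (Fin a × Fin b) F, g ∈ M →
      (∀ u : Fin a → F, ∃ u' : Fin a → F,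
        (g : Matrix (Fin a × Fin b) (Fin a × Fin b) F) *ᵥ ten u w = ten u' w') → g ∈ K0 a b F)
    (hc1g : ∀ t : Matrix.GeneralLinearGroup (Fin a × Fin b) F, t ∈ K0 a b F →
      ((t : Matrix (Fin a × Fin b) (Fin a × Fin b) F) - 1) *
        ((t : Matrix (Fin a × Fin b) (Fin a × Fin b) F) - 1) = 0 →
      ((t : Matrix (Fin a × Fin b) (Fin a × Fin b) F) - 1).rank = a →
      ∃ w' : Fin b → F, w' ≠ 0 ∧ ∀ v : Fin a × Fin b → F,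
        (∃ v' : Fin a × Fin b → F,
          v = ((t : Matrix (Fin a × Fin b) (Fin a × Fin b) F) - 1) *ᵥ v') ↔ v ∈ Bline (a := a) w')
    (g : Matrix.GeneralLinearGroup (Fin a × Fin b) F) (hg : g ∈ M)
    (w₀ w : Fin b → F) (hw₀ : w₀ ≠ 0) (hw : w ≠ 0) (h₀ : cj σ w₀ ⬝ᵥ w₀ = 0) (h : cj σ w ⬝ᵥ w = 0)
    (hp : ∀ u : Fin a → F,
      ctr (cj σ w) ((g : Matrix (Fin a × Fin b) (Fin a × Fin b) F) *ᵥ ten u w₀) = 0) :
    ∃ w₁ : Fin b → F, w₁ ≠ 0 ∧ ∀ u : Fin a → F, ∃ u' : Fin a → F,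
      (g : Matrix (Fin a × Fin b) (Fin a × Fin b) F) *ᵥ ten u w₀ = ten u' w₁ := by
  classical
  obtain ⟨c₀, hc₀, hc₀σ⟩ := utpns_skew σ hσ
  obtain ⟨G, hG⟩ : ∃ G : Matrix (Fin a × Fin b) (Fin a × Fin b) F,
      (g : Matrix (Fin a × Fin b) (Fin a × Fin b) F) = G := ⟨_, rfl⟩
  obtain ⟨Gi, hGi⟩ : ∃ Gi : Matrix (Fin a × Fin b) (Fin a × Fin b) F,
      ((g⁻¹ : Matrix.GeneralLinearGroup (Fin a × Fin b) F) :
        Matrix (Fin a × Fin b) (Fin a × Fin b) F) = Gi := ⟨_, rfl⟩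
  rw [hG] at hp ⊢
  have hGGi : ∀ v : Fin a × Fin b → F, G *ᵥ (Gi *ᵥ v) = v := by
    intro v
    rw [Matrix.mulVec_mulVec, ← hG, ← hGi, ← Units.val_mul, mul_inv_cancel, Units.val_one,
      Matrix.one_mulVec]
  have hGiG : ∀ v : Fin a × Fin b → F, Gi *ᵥ (G *ᵥ v) = v := by
    intro v
    rw [Matrix.mulVec_mulVec, ← hG, ← hGi, ← Units.val_mul, inv_mul_cancel, Units.val_one,
      Matrix.one_mulVec]
  have hiso : ∀ x y : Fin a × Fin b → F, hf σ (G *ᵥ x) (G *ᵥ y) = hf σ x y := by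
    intro x y
    rw [← hG]
    exact (mem_GUm σ g).1 (hMS hg).1 x y
  -- the covector of the root element at `w₀`
  obtain ⟨ψ₀, hψ₀⟩ : ∃ ψ₀ : Fin b → F, ψ₀ = c₀ • cj σ w₀ := ⟨_, rfl⟩
  have hψ₀0 : ψ₀ ≠ 0 := by
    rw [hψ₀]
    intro h0
    rcases smul_eq_zero.1 h0 with h1 | h1
    · exact hc₀ h1
    · exact hw₀ ((cj_eq_zero σ).1 h1)
  have hψ₀w₀ : ψ₀ ⬝ᵥ w₀ = 0 := by rw [hψ₀, smul_dotProduct, h₀, smul_zero]
  -- the root element `x₀` and its conjugate `y`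
  obtain ⟨x₀, hx₀⟩ : ∃ x₀ : Matrix.GeneralLinearGroup (Fin a × Fin b) F,
      x₀ = EL (c₀ • (1 : Matrix (Fin a) (Fin a) F)) w₀ (cj σ w₀) h₀ := ⟨_, rfl⟩
  have hx₀M : x₀ ∈ M := by rw [hx₀]; exact hTM (hbtv c₀ hc₀σ w₀ h₀)
  have hx₀m : (x₀ : Matrix (Fin a × Fin b) (Fin a × Fin b) F) =
      ELm (1 : Matrix (Fin a) (Fin a) F) w₀ ψ₀ := by
    rw [hx₀, EL_coe, utpns_ELm_smul, hψ₀]
  obtain ⟨y, hy⟩ : ∃ y : Matrix.GeneralLinearGroup (Fin a × Fin b) F, y = g * x₀ * g⁻¹ := ⟨_, rfl⟩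
  have hyM : y ∈ M := by
    rw [hy]
    exact M.mul_mem (M.mul_mem hg hx₀M) (M.inv_mem hg)
  have hy1 : (y : Matrix (Fin a × Fin b) (Fin a × Fin b) F) - 1 =
      G * (ELm (1 : Matrix (Fin a) (Fin a) F) w₀ ψ₀ - 1) * Gi := by
    rw [hy, tpmeet_conj_sub_one, hG, hGi, hx₀m]
  have hyv : ∀ v : Fin a × Fin b → F,
      ((y : Matrix (Fin a × Fin b) (Fin a × Fin b) F) - 1) *ᵥ v =
        G *ᵥ ten (ctr ψ₀ (Gi *ᵥ v)) w₀ := by
    intro v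
    rw [hy1, ← Matrix.mulVec_mulVec, ← Matrix.mulVec_mulVec, tpmeet_ELm_sub_one_mulVec]
  -- `g⁻¹ (A ⊗ w)` is perpendicular to `A ⊗ w₀`
  have hA : ∀ u : Fin a → F, ctr (cj σ w₀) (Gi *ᵥ ten u w) = 0 := by
    intro u
    apply hf_nondeg' σ hσ
    intro u'
    rw [← hf_ten_right, ← hiso, hGGi, hf_ten_left σ hσ, hp, hf_zero_right]
  have hA' : ∀ u : Fin a → F, ctr ψ₀ (Gi *ᵥ ten u w) = 0 := by
    intro u
    rw [hψ₀, utpns_ctr_smul_left, hA, smul_zero]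
  -- `y` fixes the line `A ⊗ w` pointwise
  have hyfix : ∀ u : Fin a → F,
      (y : Matrix (Fin a × Fin b) (Fin a × Fin b) F) *ᵥ ten u w = ten u w := by
    intro u
    have h1 := hyv (ten u w)
    rw [hA', tpmeet_ten_zero, Matrix.mulVec_zero, Matrix.sub_mulVec, Matrix.one_mulVec,
      sub_eq_zero] at h1
    exact h1
  have hyK : y ∈ K0 a b F := hstab w w hw hw h y hyM (fun u => ⟨u, hyfix u⟩)
  have hsq : ((y : Matrix (Fin a × Fin b) (Fin a × Fin b) F) - 1) *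
      ((y : Matrix (Fin a × Fin b) (Fin a × Fin b) F) - 1) = 0 := by
    rw [hy]
    apply tpmeet_conj_sq_zero
    rw [hx₀m]
    exact tpmeet_ELm_sub_one_sq w₀ ψ₀ hψ₀w₀
  have hrk : ((y : Matrix (Fin a × Fin b) (Fin a × Fin b) F) - 1).rank = a := by
    rw [hy, tpmeet_conj_rank, hx₀m]
    exact tpmeet_rank_ELm_sub_one w₀ ψ₀ hw₀ hψ₀0
  obtain ⟨w₁, hw₁, hw₁v⟩ := hc1g y hyK hsq hrk
  refine ⟨w₁, hw₁, fun u => ?_⟩
  obtain ⟨v'', hv''⟩ := tpmeet_ctr_surj (a := a) ψ₀ hψ₀0 u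
  have hmem : G *ᵥ ten u w₀ ∈ Bline (a := a) w₁ := by
    rw [← hw₁v]
    refine ⟨G *ᵥ v'', ?_⟩
    rw [hyv, hGiG, hv'']
  exact (mem_Bline w₁ _).1 hmem

end Cfsg.Agent.Lib.helper6.UTP
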