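import Cfsg.Agent.Lib.Helper18.UTPUNIPQ
import Cfsg.Agent.Lib.Helper27.UTPTRANS
import Cfsg.Agent.Lib.helper4.TPNS
import Cfsg.Agent.Lib.helper6.UTPSIEGEL
import Cfsg.Agent.Lib.Helper24.UTPISOANYcore

/-!
# UTP row STAB (helper19, second writer): front end
-/

set_option autoImplicit false
set_option linter.unusedVariables false
set_option linter.unusedSectionVars false

namespace Cfsg.Agent.Lib.helper6.UTP

open Matrix
open scoped Kronecker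
open Cfsg.Agent.Lib.helper7.TP

variable {F : Type*} [Field F] {a b : ℕ}

/-- the conjugate transpose -/
def utpstab_H (σ : F ≃+* F) {ι : Type} (μ : Matrix ι ι F) : Matrix ι ι F := (μ.map σ)ᵀ

theorem utpstab_adj (σ : F ≃+* F) {ι : Type} [Fintype ι] (μ : Matrix ι ι F) (x u : ι → F) :
    hf σ x (μ *ᵥ u) = hf σ (utpstab_H σ μ *ᵥ x) u := by
  rw [hf, hf, utpkron_cj_mulVec, Matrix.dotProduct_mulVec, utpstab_H, Matrix.mulVec_transpose]

theorem utpstab_adj' (σ : F ≃+* F) (hσ : Inv2 σ) {ι : Type} [Fintype ι] (μ : Matrix ι ι F)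
    (x u : ι → F) : hf σ (μ *ᵥ u) x = hf σ u (utpstab_H σ μ *ᵥ x) := by
  rw [hf_herm σ hσ, utpstab_adj, ← hf_herm σ hσ]

/-- the first steps: `μ`, the adjoint relation, and `μ μ^H` scalar -/
theorem utpstab_mu [Fintype F] (σ : F ≃+* F) (hσ : Inv2 σ) (ha : 1 ≤ a) (hb : 3 ≤ b)
    (M : Subgroup (Matrix.GeneralLinearGroup (Fin a × Fin b) F)) (hTM : T0u σ a b ≤ M)
    (hMS : M ≤ SUm σ (Fin a × Fin b)) (hNT : NTu σ M)
    (w : Fin b → F) (hw : w ≠ 0) (h : cj σ w ⬝ᵥ w = 0)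
    (g : Matrix.GeneralLinearGroup (Fin a × Fin b) F) (hg : g ∈ M)
    (hl : ∀ u : Fin a → F, ∃ u' : Fin a → F,
      (g : Matrix (Fin a × Fin b) (Fin a × Fin b) F) *ᵥ ten u w = ten u' w) :
    ∃ (μ : Matrix (Fin a) (Fin a) F) (lam : F), IsUnit μ.det ∧ lam ≠ 0 ∧ σ lam = lam ∧
      (∀ u : Fin a → F,
        (g : Matrix (Fin a × Fin b) (Fin a × Fin b) F) *ᵥ ten u w = ten (μ *ᵥ u) w) ∧
      (∀ v : Fin a × Fin b → F, utpstab_H σ μ *ᵥ
        ctr (cj σ w) ((g : Matrix (Fin a × Fin b) (Fin a × Fin b) F) *ᵥ v) = ctr (cj σ w) v) ∧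
      μ * utpstab_H σ μ = lam • (1 : Matrix (Fin a) (Fin a) F) := by
  classical
  obtain ⟨G, hG⟩ : ∃ G : Matrix (Fin a × Fin b) (Fin a × Fin b) F,
      (g : Matrix (Fin a × Fin b) (Fin a × Fin b) F) = G := ⟨_, rfl⟩
  obtain ⟨Gi, hGi⟩ : ∃ Gi : Matrix (Fin a × Fin b) (Fin a × Fin b) F,
      ((g⁻¹ : Matrix.GeneralLinearGroup (Fin a × Fin b) F) :
        Matrix (Fin a × Fin b) (Fin a × Fin b) F) = Gi := ⟨_, rfl⟩
  rw [hG] at hl ⊢
  have hGGi : ∀ v : Fin a × Fin b → F, G *ᵥ (Gi *ᵥ v) = v := by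
    intro v
    rw [Matrix.mulVec_mulVec, ← hG, ← hGi, ← Units.val_mul, mul_inv_cancel, Units.val_one,
      Matrix.one_mulVec]
  have hGiG : ∀ v : Fin a × Fin b → F, Gi *ᵥ (G *ᵥ v) = v := by
    intro v
    rw [Matrix.mulVec_mulVec, ← hG, ← hGi, ← Units.val_mul, inv_mul_cancel, Units.val_one,
      Matrix.one_mulVec]
  have hiso : ∀ x y : Fin a × Fin b → F, hf σ (G *ᵥ x) (G *ᵥ y) = hf σ x y := by
    intro x y
    rw [← hG]
    exact (mem_GUm σ g).1 (hMS hg).1 x y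
  -- (S1) the matrix `μ`
  obtain ⟨j₁, hj₁⟩ := tpns_exists_ne hw
  obtain ⟨μ, hμdef⟩ : ∃ μ : Matrix (Fin a) (Fin a) F,
      μ = (w j₁)⁻¹ • tpns_mat G (Pi.single j₁ 1) w := ⟨_, rfl⟩
  have hμ : ∀ u : Fin a → F, G *ᵥ ten u w = ten (μ *ᵥ u) w := by
    intro u
    obtain ⟨u', hu'⟩ := hl u
    rw [hu', hμdef, Matrix.smul_mulVec, tpns_mat_mulVec, hu', ctr_ten, single_one_dotProduct,
      smul_smul, inv_mul_cancel₀ hj₁, one_smul]
  have hμinj : ∀ u : Fin a → F, μ *ᵥ u = 0 → u = 0 := by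
    intro u hu
    have h1 := hμ u
    rw [hu, tpns_ten_zero_left] at h1
    have h2 := hGiG (ten u w)
    rw [h1, Matrix.mulVec_zero] at h2
    exact tpns_ten_eq_zero h2.symm hw
  have hμunit : IsUnit μ := by
    rw [← Matrix.mulVec_injective_iff_isUnit]
    intro u u' huu
    have h1 : μ *ᵥ (u - u') = 0 := by
      rw [Matrix.mulVec_sub]
      exact sub_eq_zero.2 huu
    exact sub_eq_zero.1 (hμinj _ h1)
  have hμdet : IsUnit μ.det := (Matrix.isUnit_iff_isUnit_det μ).1 hμunit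
  -- (S2) the adjoint relation
  have hadj : ∀ v : Fin a × Fin b → F,
      utpstab_H σ μ *ᵥ ctr (cj σ w) (G *ᵥ v) = ctr (cj σ w) v := by
    intro v
    rw [← sub_eq_zero]
    apply hf_nondeg' σ hσ
    intro u
    rw [hf_sub_left, ← utpstab_adj, ← hf_ten_right, ← hf_ten_right, ← hμ, hiso, sub_self]
  have hadj' : ∀ v : Fin a × Fin b → F,
      ctr (cj σ w) (Gi *ᵥ v) = utpstab_H σ μ *ᵥ ctr (cj σ w) v := by
    intro v
    have := hadj (Gi *ᵥ v)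
    rw [hGGi] at this
    exact this.symm
  -- (S3) `μ μ^H` is a scalar
  obtain ⟨c₀, hc₀, hc₀σ⟩ := utpsg_skew_exists σ hσ
  obtain ⟨z, hz⟩ : ∃ z : Matrix.GeneralLinearGroup (Fin a × Fin b) F,
      z = EL (c₀ • (1 : Matrix (Fin a) (Fin a) F)) w (cj σ w) h := ⟨_, rfl⟩
  have hzM : z ∈ M := by rw [hz]; exact hTM (btv_mem σ hσ c₀ hc₀σ w h)
  obtain ⟨t, ht⟩ : ∃ t : Matrix.GeneralLinearGroup (Fin a × Fin b) F, t = g * z * g⁻¹ := ⟨_, rfl⟩
  have htM : t ∈ M := by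
    rw [ht]
    exact M.mul_mem (M.mul_mem hg hzM) (M.inv_mem hg)
  have htm : (t : Matrix (Fin a × Fin b) (Fin a × Fin b) F) =
      ELm (c₀ • (μ * utpstab_H σ μ)) w (cj σ w) := by
    rw [Matrix.ext_iff_mulVec]
    intro v
    rw [ht, Units.val_mul, Units.val_mul, hG, hGi, hz, EL_coe, ← Matrix.mulVec_mulVec,
      ← Matrix.mulVec_mulVec, ELm_mulVec, ELm_mulVec, Matrix.mulVec_add, hGGi, hμ, hadj',
      Matrix.smul_mulVec, Matrix.smul_mulVec, Matrix.one_mulVec, ← Matrix.mulVec_mulVec,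
      Matrix.mulVec_smul]
  obtain ⟨c, hc⟩ := hNT (c₀ • (μ * utpstab_H σ μ)) ⟨w, t, hw, h, htm, htM⟩
  obtain ⟨lam, hlamdef⟩ : ∃ lam : F, lam = c₀⁻¹ * c := ⟨_, rfl⟩
  have hlam : μ * utpstab_H σ μ = lam • (1 : Matrix (Fin a) (Fin a) F) := by
    have h1 := congrArg (fun X => c₀⁻¹ • X) hc
    simp only [smul_smul, inv_mul_cancel₀ hc₀, one_smul] at h1
    rw [h1, hlamdef]
  -- `ctr w*` is onto
  have hcj0 : cj σ w ≠ 0 := fun h0 => hw ((cj_eq_zero σ).1 h0)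
  obtain ⟨i₀, hi₀⟩ : ∃ i₀ : Fin a, i₀ = ⟨0, by omega⟩ := ⟨_, rfl⟩
  have hlam0 : lam ≠ 0 := by
    intro h0
    rw [h0, zero_smul] at hlam
    have hH : utpstab_H σ μ = 0 := by
      have h1 : μ⁻¹ * (μ * utpstab_H σ μ) = 0 := by rw [hlam, Matrix.mul_zero]
      rwa [← Matrix.mul_assoc, Matrix.nonsing_inv_mul μ hμdet, Matrix.one_mul] at h1
    obtain ⟨v, hv⟩ := tpmeet_ctr_surj (a := a) (cj σ w) hcj0 (Pi.single i₀ 1)
    have h2 := hadj v
    rw [hH, Matrix.zero_mulVec, hv] at h2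
    have h3 := congrFun h2 i₀
    rw [Pi.zero_apply, Pi.single_eq_same] at h3
    exact zero_ne_one h3
  have hlamσ : σ lam = lam := by
    -- `hf (μ^H x) (μ^H x) = σ lam * hf x x` is fixed by `σ`
    have h1 : hf σ (utpstab_H σ μ *ᵥ Pi.single i₀ 1) (utpstab_H σ μ *ᵥ Pi.single i₀ 1) =
        σ lam := by
      rw [← utpstab_adj, Matrix.mulVec_mulVec, hlam, Matrix.smul_mulVec, Matrix.one_mulVec,
        hf_smul_right, hf, single_dotProduct, one_mul, cj_apply, Pi.single_eq_same, map_one,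
        mul_one]
    have h2 := utpsg_self_fixed σ hσ (utpstab_H σ μ *ᵥ (Pi.single i₀ (1 : F) : Fin a → F))
    rw [h1, hσ.invol] at h2
    exact h2.symm
  exact ⟨μ, lam, hμdet, hlam0, hlamσ, hμ, hadj, hlam⟩

end Cfsg.Agent.Lib.helper6.UTP
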