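import Cfsg.Agent.Lib.Helper19.UTPSTABa
import Cfsg.Agent.Lib.helper4.TPSTAB

set_option autoImplicit false
set_option linter.unusedVariables false
set_option linter.unusedSectionVars false

namespace Cfsg.Agent.Lib.helper6.UTP

open Matrix
open scoped Kronecker
open Cfsg.Agent.Lib.helper7.TP

variable {F : Type*} [Field F] {a b : ℕ}

theorem utpstab_cj_perp (σ : F ≃+* F) (ψ w : Fin b → F) :
    hf σ (cj σ ψ) w = σ (ψ ⬝ᵥ w) := by
  simp only [hf, cj, dotProduct, map_sum, map_mul]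

/-- the contractions of `g (u ⊗ y)`, `y ⊥ w`, with the covectors of `w^⊥` are multiples of `μ u` -/
theorem utpstab_phi [Fintype F] (σ : F ≃+* F) (hσ : Inv2 σ) (ha : 1 ≤ a) (hb : 3 ≤ b)
    (M : Subgroup (Matrix.GeneralLinearGroup (Fin a × Fin b) F)) (hTM : T0u σ a b ≤ M)
    (hMS : M ≤ SUm σ (Fin a × Fin b)) (hNT : NTu σ M)
    (w : Fin b → F) (hw : w ≠ 0) (h : cj σ w ⬝ᵥ w = 0)
    (g : Matrix.GeneralLinearGroup (Fin a × Fin b) F) (hg : g ∈ M)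
    (μ μi : Matrix (Fin a) (Fin a) F) (hμμi : μ * μi = 1)
    (hμ : ∀ u : Fin a → F,
      (g : Matrix (Fin a × Fin b) (Fin a × Fin b) F) *ᵥ ten u w = ten (μ *ᵥ u) w)
    (hperp : ∀ v : Fin a × Fin b → F, ctr (cj σ w) v = 0 →
      ctr (cj σ w) ((g : Matrix (Fin a × Fin b) (Fin a × Fin b) F) *ᵥ v) = 0)
    (n y : Fin b → F) (hn : hf σ n w = 0) (hy : hf σ y w = 0) :
    ∃ φ : F, ∀ u : Fin a → F,
      ctr (cj σ n) ((g : Matrix (Fin a × Fin b) (Fin a × Fin b) F) *ᵥ ten u y) = φ • (μ *ᵥ u) := by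
  classical
  have hww : hf σ w w = 0 := (iso_iff σ w).1 h
  have hwn : hf σ w n = 0 := by rw [hf_herm σ hσ, hn, map_zero]
  have hμiμ : μi * μ = 1 := mul_eq_one_comm.1 hμμi
  obtain ⟨G, hG⟩ : ∃ G : Matrix (Fin a × Fin b) (Fin a × Fin b) F,
      (g : Matrix (Fin a × Fin b) (Fin a × Fin b) F) = G := ⟨_, rfl⟩
  obtain ⟨Gi, hGi⟩ : ∃ Gi : Matrix (Fin a × Fin b) (Fin a × Fin b) F,
      ((g⁻¹ : Matrix.GeneralLinearGroup (Fin a × Fin b) F) :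
        Matrix (Fin a × Fin b) (Fin a × Fin b) F) = Gi := ⟨_, rfl⟩
  rw [hG] at hμ hperp ⊢
  have hGGi : ∀ v : Fin a × Fin b → F, G *ᵥ (Gi *ᵥ v) = v := by
    intro v
    rw [Matrix.mulVec_mulVec, ← hG, ← hGi, ← Units.val_mul, mul_inv_cancel, Units.val_one,
      Matrix.one_mulVec]
  have hGiG : ∀ v : Fin a × Fin b → F, Gi *ᵥ (G *ᵥ v) = v := by
    intro v
    rw [Matrix.mulVec_mulVec, ← hG, ← hGi, ← Units.val_mul, inv_mul_cancel, Units.val_one,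
      Matrix.one_mulVec]
  have hGiw : ∀ u : Fin a → F, Gi *ᵥ ten u w = ten (μi *ᵥ u) w := by
    intro u
    have h1 := hμ (μi *ᵥ u)
    rw [Matrix.mulVec_mulVec, hμμi, Matrix.one_mulVec] at h1
    rw [← h1, hGiG]
  -- the Siegel element
  obtain ⟨s, S, κ, hsU, hsd, hSm, hSv⟩ := utpunipq_ksiegel (a := a) σ hσ w n hww hn
  have hST : S ∈ T0u σ a b := kron_mem σ hσ 1 s (Subgroup.one_mem _) hsU
    (by rw [hsd, Units.val_one, Matrix.det_one, one_pow, one_pow, one_mul]) S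
    (by rw [hSm, Units.val_one])
  have hSM : S ∈ M := hTM hST
  obtain ⟨t, ht⟩ : ∃ t : Matrix.GeneralLinearGroup (Fin a × Fin b) F, t = g⁻¹ * S * g := ⟨_, rfl⟩
  have htM : t ∈ M := by
    rw [ht]
    exact M.mul_mem (M.mul_mem (M.inv_mem hg) hSM) hg
  have htv : ∀ v : Fin a × Fin b → F, (t : Matrix (Fin a × Fin b) (Fin a × Fin b) F) *ᵥ v =
      Gi *ᵥ ((S : Matrix (Fin a × Fin b) (Fin a × Fin b) F) *ᵥ (G *ᵥ v)) := by
    intro v
    rw [ht, Units.val_mul, Units.val_mul, hG, hGi, ← Matrix.mulVec_mulVec, ← Matrix.mulVec_mulVec]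
  -- the two hypotheses of `unipq`
  have h1 : ∀ u : Fin a → F,
      (t : Matrix (Fin a × Fin b) (Fin a × Fin b) F) *ᵥ ten u w = ten u w := by
    intro u
    rw [htv, hμ, hSv, ctr_cj_ten, ctr_cj_ten, hww, hwn, zero_smul, tpns_ten_zero_left,
      tpns_ten_zero_left, smul_zero, add_zero, sub_zero, add_zero, ← hμ, hGiG]
  have hkey : ∀ (u : Fin a → F) (y' : Fin b → F), hf σ y' w = 0 →
      (t : Matrix (Fin a × Fin b) (Fin a × Fin b) F) *ᵥ ten u y' =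
        ten u y' - ten (μi *ᵥ ctr (cj σ n) (G *ᵥ ten u y')) w := by
    intro u y' hy'
    have hc0 : ctr (cj σ w) (G *ᵥ ten u y') = 0 := by
      apply hperp
      rw [ctr_cj_ten, hy', zero_smul]
    rw [htv, hSv, hc0, tpns_ten_zero_left, tpns_ten_zero_left, smul_zero, add_zero, add_zero,
      Matrix.mulVec_sub, hGiG, hGiw]
  have h2 : ∀ (u : Fin a → F) (y' : Fin b → F), hf σ y' w = 0 →
      (t : Matrix (Fin a × Fin b) (Fin a × Fin b) F) *ᵥ ten u y' - ten u y' ∈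
        Bline (a := a) w := by
    intro u y' hy'
    rw [hkey u y' hy', sub_sub_cancel_left, ← tpns_ten_neg_left]
    exact (mem_Bline w _).2 ⟨_, rfl⟩
  have htK : t ∈ K0 a b F := unipq σ hσ ha hb M hTM hMS hNT w hw h t htM h1 h2
  obtain ⟨α, β, hαβ⟩ := (mem_K0 t).1 htK
  -- extraction
  obtain ⟨j₁, hj₁⟩ := tpns_exists_ne hw
  obtain ⟨i₀, hi₀⟩ : ∃ i₀ : Fin a, i₀ = ⟨0, by omega⟩ := ⟨_, rfl⟩
  have hE2 : ∀ u : Fin a → F, ten ((α : Matrix (Fin a) (Fin a) F) *ᵥ u)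
      ((β : Matrix (Fin b) (Fin b) F) *ᵥ w) = ten u w := by
    intro u
    rw [← kron_mulVec_ten, ← hαβ, h1]
  obtain ⟨d, hd⟩ : ∃ d : F, d = ((β : Matrix (Fin b) (Fin b) F) *ᵥ w) j₁ := ⟨_, rfl⟩
  have hd0 : d ≠ 0 := by
    intro h0
    have h3 := congrFun (hE2 (Pi.single i₀ 1)) (i₀, j₁)
    simp only [ten] at h3
    rw [← hd, h0, mul_zero, Pi.single_eq_same, one_mul] at h3
    exact hj₁ h3.symm
  have hαc : ∀ u : Fin a → F, (α : Matrix (Fin a) (Fin a) F) *ᵥ u = (w j₁ * d⁻¹) • u := by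
    intro u
    funext i
    have h3 := congrFun (hE2 u) (i, j₁)
    simp only [ten] at h3
    rw [← hd] at h3
    rw [Pi.smul_apply, smul_eq_mul]
    field_simp
    linear_combination h3
  obtain ⟨ψ, hψ⟩ : ∃ ψ : Fin b → F, ψ = (w j₁)⁻¹ • Pi.single j₁ (1 : F) := ⟨_, rfl⟩
  have hψw : ψ ⬝ᵥ w = 1 := by
    rw [hψ, smul_dotProduct, single_one_dotProduct, smul_eq_mul, inv_mul_cancel₀ hj₁]
  refine ⟨ψ ⬝ᵥ y - (w j₁ * d⁻¹) * (ψ ⬝ᵥ ((β : Matrix (Fin b) (Fin b) F) *ᵥ y)), fun u => ?_⟩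
  have hE1 := hkey u y hy
  rw [hαβ, kron_mulVec_ten, hαc] at hE1
  have h4 := congrArg (ctr ψ) hE1
  rw [ctr_ten, tpns_ctr_sub, ctr_ten, ctr_ten, hψw, one_smul] at h4
  -- `μi (ctr n* (G (u ⊗ y))) = (ψ·y) u - (ψ·βy) c u`
  have h5 : μi *ᵥ ctr (cj σ n) (G *ᵥ ten u y) =
      (ψ ⬝ᵥ y - (w j₁ * d⁻¹) * (ψ ⬝ᵥ ((β : Matrix (Fin b) (Fin b) F) *ᵥ y))) • u := by
    rw [sub_smul, mul_smul, smul_comm (w j₁ * d⁻¹)]
    have h6 : μi *ᵥ ctr (cj σ n) (G *ᵥ ten u y) = (ψ ⬝ᵥ y) • u -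
        (ψ ⬝ᵥ ((β : Matrix (Fin b) (Fin b) F) *ᵥ y)) • (w j₁ * d⁻¹) • u := by
      rw [h4]
      abel
    exact h6
  have h7 := congrArg (fun x => μ *ᵥ x) h5
  simp only [Matrix.mulVec_mulVec, hμμi, Matrix.one_mulVec, Matrix.mulVec_smul] at h7
  exact h7

end Cfsg.Agent.Lib.helper6.UTP
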