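import Cfsg.Agent.Lib.Helper19.UTPSTABb

set_option autoImplicit false
set_option linter.unusedVariables false
set_option linter.unusedSectionVars false

namespace Cfsg.Agent.Lib.helper6.UTP

open Matrix
open scoped Kronecker
open Cfsg.Agent.Lib.helper7.TP

variable {F : Type*} [Field F] {a b : ℕ}

/-- the `B`-part `Γ` of `g` on `w^⊥` -/
theorem utpstab_gamma [Fintype F] (σ : F ≃+* F) (hσ : Inv2 σ) (ha : 1 ≤ a) (hb : 3 ≤ b)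
    (M : Subgroup (Matrix.GeneralLinearGroup (Fin a × Fin b) F)) (hTM : T0u σ a b ≤ M)
    (hMS : M ≤ SUm σ (Fin a × Fin b)) (hNT : NTu σ M)
    (w : Fin b → F) (hw : w ≠ 0) (h : cj σ w ⬝ᵥ w = 0)
    (g : Matrix.GeneralLinearGroup (Fin a × Fin b) F) (hg : g ∈ M)
    (μ : Matrix (Fin a) (Fin a) F) (lam : F) (hlam0 : lam ≠ 0) (hlamσ : σ lam = lam)
    (hμ : ∀ u : Fin a → F,
      (g : Matrix (Fin a × Fin b) (Fin a × Fin b) F) *ᵥ ten u w = ten (μ *ᵥ u) w)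
    (hadj : ∀ v : Fin a × Fin b → F, utpstab_H σ μ *ᵥ
      ctr (cj σ w) ((g : Matrix (Fin a × Fin b) (Fin a × Fin b) F) *ᵥ v) = ctr (cj σ w) v)
    (hlam : μ * utpstab_H σ μ = lam • (1 : Matrix (Fin a) (Fin a) F)) :
    ∃ Γ : Matrix (Fin b) (Fin b) F, Γ *ᵥ w = w ∧
      (∀ y, hf σ y w = 0 → hf σ (Γ *ᵥ y) w = 0) ∧
      (∀ z z', hf σ z w = 0 → hf σ z' w = 0 → lam * hf σ (Γ *ᵥ z) (Γ *ᵥ z') = hf σ z z') ∧
      (∀ y, hf σ y w = 0 → ∀ u : Fin a → F, ∃ m : Fin a → F,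
        (g : Matrix (Fin a × Fin b) (Fin a × Fin b) F) *ᵥ ten u y =
          ten (μ *ᵥ u) (Γ *ᵥ y) + ten m w) := by
  classical
  have hww : hf σ w w = 0 := (iso_iff σ w).1 h
  obtain ⟨μi, hμidef⟩ : ∃ μi : Matrix (Fin a) (Fin a) F, μi = lam⁻¹ • utpstab_H σ μ := ⟨_, rfl⟩
  have hμμi : μ * μi = 1 := by
    rw [hμidef, Matrix.mul_smul, hlam, smul_smul, inv_mul_cancel₀ hlam0, one_smul]
  have hHinj : ∀ x : Fin a → F, utpstab_H σ μ *ᵥ x = 0 → x = 0 := by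
    intro x hx
    have h1 : (μ * utpstab_H σ μ) *ᵥ x = 0 := by
      rw [← Matrix.mulVec_mulVec, hx, Matrix.mulVec_zero]
    rw [hlam, Matrix.smul_mulVec, Matrix.one_mulVec] at h1
    rcases smul_eq_zero.1 h1 with h2 | h2
    · exact absurd h2 hlam0
    · exact h2
  have hperp : ∀ v : Fin a × Fin b → F, ctr (cj σ w) v = 0 →
      ctr (cj σ w) ((g : Matrix (Fin a × Fin b) (Fin a × Fin b) F) *ᵥ v) = 0 := by
    intro v hv
    apply hHinj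
    rw [hadj, hv]
  have hiso : ∀ x y : Fin a × Fin b → F,
      hf σ ((g : Matrix (Fin a × Fin b) (Fin a × Fin b) F) *ᵥ x)
        ((g : Matrix (Fin a × Fin b) (Fin a × Fin b) F) *ᵥ y) = hf σ x y :=
    fun x y => (mem_GUm σ g).1 (hMS hg).1 x y
  have hphi := fun n y hn hy =>
    utpstab_phi σ hσ ha hb M hTM hMS hNT w hw h g hg μ μi hμμi hμ hperp n y hn hy
  obtain ⟨G, hG⟩ : ∃ G : Matrix (Fin a × Fin b) (Fin a × Fin b) F,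
      (g : Matrix (Fin a × Fin b) (Fin a × Fin b) F) = G := ⟨_, rfl⟩
  rw [hG] at hμ hperp hiso hphi ⊢
  -- the vector `m₀ = μ⁻¹ e₀`
  obtain ⟨i₀, hi₀⟩ : ∃ i₀ : Fin a, i₀ = ⟨0, by omega⟩ := ⟨_, rfl⟩
  obtain ⟨e₀, he₀⟩ : ∃ e₀ : Fin a → F, e₀ = Pi.single i₀ 1 := ⟨_, rfl⟩
  have he₀i : e₀ i₀ = 1 := by rw [he₀, Pi.single_eq_same]
  have he₀e₀ : hf σ e₀ e₀ = 1 := by
    rw [he₀, hf, single_dotProduct, one_mul, cj_apply, Pi.single_eq_same, map_one]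
  obtain ⟨m₀, hm₀⟩ : ∃ m₀ : Fin a → F, m₀ = μi *ᵥ e₀ := ⟨_, rfl⟩
  have hμm₀ : μ *ᵥ m₀ = e₀ := by rw [hm₀, Matrix.mulVec_mulVec, hμμi, Matrix.one_mulVec]
  have hm₀m₀ : lam * hf σ m₀ m₀ = 1 := by
    rw [hm₀, hμidef, Matrix.smul_mulVec, hf_smul_left, hf_smul_right, ← utpstab_adj,
      Matrix.mulVec_mulVec, hlam, Matrix.smul_mulVec, Matrix.one_mulVec, hf_smul_right, he₀e₀,
      map_inv₀, hlamσ]
    field_simp
  -- the matrix `Γ`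
  obtain ⟨Γ, hΓdef⟩ : ∃ Γ : Matrix (Fin b) (Fin b) F, Γ = LinearMap.toMatrix'
      ((tpstab_rowL i₀).comp ((Matrix.toLin' G).comp (tpstab_tenR m₀))) := ⟨_, rfl⟩
  have hΓ : ∀ y : Fin b → F, Γ *ᵥ y = fun k => (G *ᵥ ten m₀ y) (i₀, k) := by
    intro y
    rw [hΓdef, LinearMap.toMatrix'_mulVec]
    rfl
  have hΓw : Γ *ᵥ w = w := by
    rw [hΓ, hμ, hμm₀]
    funext k
    simp only [ten]
    rw [he₀i, one_mul]
  -- the decomposition on `w^⊥`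
  have hdec : ∀ y, hf σ y w = 0 → ∀ u : Fin a → F, ∃ m : Fin a → F,
      G *ᵥ ten u y = ten (μ *ᵥ u) (Γ *ᵥ y) + ten m w := by
    intro y hy u
    obtain ⟨u₁, hu₁⟩ := tpns_mem_Bline_of_ctr hw (G *ᵥ ten u y - ten (μ *ᵥ u) (Γ *ᵥ y)) (by
      intro ψ₀ hψ₀
      have hn : hf σ (cj σ ψ₀) w = 0 := by rw [utpstab_cj_perp, hψ₀, map_zero]
      obtain ⟨φ, hφ⟩ := hphi (cj σ ψ₀) y hn hy
      rw [cj_cj σ hσ] at hφ
      have h1 : ψ₀ ⬝ᵥ (Γ *ᵥ y) = φ := by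
        have h2 := congrFun (hφ m₀) i₀
        rw [hμm₀, Pi.smul_apply, he₀i, smul_eq_mul, mul_one] at h2
        rw [← h2, hΓ]
        simp only [ctr, dotProduct]
        refine Finset.sum_congr rfl fun l _ => ?_
        ring
      rw [tpns_ctr_sub, hφ u, ctr_ten, h1, sub_self])
    exact ⟨u₁, by rw [← hu₁]; abel⟩
  have hΓperp : ∀ y, hf σ y w = 0 → hf σ (Γ *ᵥ y) w = 0 := by
    intro y hy
    obtain ⟨m, hm⟩ := hdec y hy m₀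
    have h1 : ctr (cj σ w) (G *ᵥ ten m₀ y) = 0 := by
      apply hperp
      rw [ctr_cj_ten, hy, zero_smul]
    rw [hm, ctr_add, ctr_cj_ten, ctr_cj_ten, hww, zero_smul, add_zero, hμm₀] at h1
    have h2 := congrFun h1 i₀
    rw [Pi.smul_apply, he₀i, smul_eq_mul, mul_one, Pi.zero_apply] at h2
    exact h2
  refine ⟨Γ, hΓw, hΓperp, ?_, hdec⟩
  intro z z' hz hz'
  obtain ⟨m, hm⟩ := hdec z hz m₀
  obtain ⟨m', hm'⟩ := hdec z' hz' m₀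
  have h1 := hiso (ten m₀ z) (ten m₀ z')
  have hwΓ : hf σ w (Γ *ᵥ z') = 0 := by rw [hf_herm σ hσ, hΓperp z' hz', map_zero]
  rw [hm, hm', hμm₀, hf_add_left, hf_add_right, hf_add_right, hf_ten, hf_ten, hf_ten, hf_ten,
    hf_ten, he₀e₀, hΓperp z hz, hwΓ, hww] at h1
  have h2 : hf σ (Γ *ᵥ z) (Γ *ᵥ z') = hf σ m₀ m₀ * hf σ z z' := by
    linear_combination h1
  rw [h2, ← mul_assoc, hm₀m₀, one_mul]

end Cfsg.Agent.Lib.helper6.UTP
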