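import Cfsg.Agent.Lib.Helper19.UTPSTABc

/-!
# UTP row STAB (helper19): the assembly, given `μ`, `Γ`, `ν`, `β`
-/

set_option autoImplicit false
set_option linter.unusedVariables false
set_option linter.unusedSectionVars false

namespace Cfsg.Agent.Lib.helper6.UTP

open Matrix
open scoped Kronecker
open Cfsg.Agent.Lib.helper7.TP

variable {F : Type*} [Field F] {a b : ℕ}

/-- `det (1 + N) = 1` for a nilpotent matrix `N` -/
theorem utpstab_det_unip {ι : Type*} [Fintype ι] [DecidableEq ι] (N : Matrix ι ι F)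
    (hN : IsNilpotent N) : (1 + N).det = 1 := by
  have h1 : IsNilpotent (-N) := hN.neg
  have h2 := Matrix.isNilpotent_charpoly_sub_pow_of_isNilpotent h1
  have h3 : (-N).charpoly = Polynomial.X ^ Fintype.card ι := sub_eq_zero.mp h2.eq_zero
  have h4 := Matrix.eval_charpoly (-N) 1
  rw [h3, Polynomial.eval_pow, Polynomial.eval_X, one_pow] at h4
  rw [h4]
  congr 1
  rw [sub_neg_eq_add, map_one]

theorem utpstab_asm [Fintype F] (σ : F ≃+* F) (hσ : Inv2 σ) (ha : 1 ≤ a) (hb : 3 ≤ b)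
    (M : Subgroup (Matrix.GeneralLinearGroup (Fin a × Fin b) F)) (hTM : T0u σ a b ≤ M)
    (hMS : M ≤ SUm σ (Fin a × Fin b)) (hNT : NTu σ M)
    (w w₂ : Fin b → F) (hw : w ≠ 0) (h : cj σ w ⬝ᵥ w = 0) (hw2 : hf σ w₂ w = 1)
    (g : Matrix.GeneralLinearGroup (Fin a × Fin b) F) (hg : g ∈ M)
    (μ : Matrix (Fin a) (Fin a) F) (lam : F) (hlam0 : lam ≠ 0) (hlamσ : σ lam = lam)
    (hμ : ∀ u : Fin a → F,
      (g : Matrix (Fin a × Fin b) (Fin a × Fin b) F) *ᵥ ten u w = ten (μ *ᵥ u) w)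
    (hlam : μ * utpstab_H σ μ = lam • (1 : Matrix (Fin a) (Fin a) F))
    (Γ : Matrix (Fin b) (Fin b) F)
    (hdec : ∀ y, hf σ y w = 0 → ∀ u : Fin a → F, ∃ m : Fin a → F,
      (g : Matrix (Fin a × Fin b) (Fin a × Fin b) F) *ᵥ ten u y =
        ten (μ *ᵥ u) (Γ *ᵥ y) + ten m w)
    (ν : F) (hν : ν * σ ν * lam = 1)
    (β : Matrix.GeneralLinearGroup (Fin b) F) (hβU : β ∈ GUm σ (Fin b))
    (hβw : (β : Matrix (Fin b) (Fin b) F) *ᵥ w = ν⁻¹ • w)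
    (hβy : ∀ y, hf σ y w = 0 → ∃ c : F,
      (β : Matrix (Fin b) (Fin b) F) *ᵥ y = ν⁻¹ • (Γ *ᵥ y) + c • w) :
    g ∈ K0 a b F := by
  classical
  have hν0 : ν ≠ 0 := by
    rintro rfl
    rw [zero_mul, zero_mul] at hν
    exact zero_ne_one hν
  obtain ⟨μi, hμidef⟩ : ∃ μi : Matrix (Fin a) (Fin a) F, μi = lam⁻¹ • utpstab_H σ μ := ⟨_, rfl⟩
  have hμμi : μ * μi = 1 := by
    rw [hμidef, Matrix.mul_smul, hlam, smul_smul, inv_mul_cancel₀ hlam0, one_smul]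
  have hμiμ : μi * μ = 1 := mul_eq_one_comm.1 hμμi
  have hHμ : utpstab_H σ μ * μ = lam • (1 : Matrix (Fin a) (Fin a) F) := by
    have h1 : utpstab_H σ μ = lam • μi := by
      rw [hμidef, smul_smul, mul_inv_cancel₀ hlam0, one_smul]
    rw [h1, Matrix.smul_mul, hμiμ]
  have hμdet : μ.det ≠ 0 := by
    intro h0
    have h1 := congrArg Matrix.det hμμi
    rw [Matrix.det_mul, h0, zero_mul, Matrix.det_one] at h1
    exact zero_ne_one h1
  -- `α = ν μ` is an isometry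
  have hαdet : (ν • μ).det ≠ 0 := by
    rw [Matrix.det_smul]
    exact mul_ne_zero (pow_ne_zero _ hν0) hμdet
  obtain ⟨α, hα⟩ : ∃ α : Matrix.GeneralLinearGroup (Fin a) F,
      (α : Matrix (Fin a) (Fin a) F) = ν • μ :=
    ⟨Matrix.GeneralLinearGroup.mkOfDetNeZero (ν • μ) hαdet, rfl⟩
  have hαU : α ∈ GUm σ (Fin a) := by
    rw [mem_GUm]
    intro x y
    rw [hα, Matrix.smul_mulVec, Matrix.smul_mulVec, hf_smul_left, hf_smul_right, utpstab_adj' σ hσ,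
      Matrix.mulVec_mulVec, hHμ, Matrix.smul_mulVec, Matrix.one_mulVec, hf_smul_right, hlamσ]
    linear_combination (hf σ x y) * hν
  -- the element `k = α ⊗ β`
  have hkdet : ((α : Matrix (Fin a) (Fin a) F) ⊗ₖ (β : Matrix (Fin b) (Fin b) F)).det ≠ 0 := by
    rw [Matrix.det_kronecker]
    have h1 : (α : Matrix (Fin a) (Fin a) F).det ≠ 0 := by rw [hα]; exact hαdet
    have h2 : (β : Matrix (Fin b) (Fin b) F).det ≠ 0 := by
      have := β.isUnit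
      exact ((Matrix.isUnit_iff_isUnit_det _).1 ⟨β, rfl⟩).ne_zero
    exact mul_ne_zero (pow_ne_zero _ h1) (pow_ne_zero _ h2)
  obtain ⟨k, hk⟩ : ∃ k : Matrix.GeneralLinearGroup (Fin a × Fin b) F,
      (k : Matrix (Fin a × Fin b) (Fin a × Fin b) F) =
        (α : Matrix (Fin a) (Fin a) F) ⊗ₖ (β : Matrix (Fin b) (Fin b) F) :=
    ⟨Matrix.GeneralLinearGroup.mkOfDetNeZero _ hkdet, rfl⟩
  have hkU : k ∈ GUm σ (Fin a × Fin b) := utpkron_mem_GUm σ α β hαU hβU k hk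
  have hkK : k ∈ K0 a b F := (mem_K0 k).2 ⟨α, β, hk⟩
  obtain ⟨G, hG⟩ : ∃ G : Matrix (Fin a × Fin b) (Fin a × Fin b) F,
      (g : Matrix (Fin a × Fin b) (Fin a × Fin b) F) = G := ⟨_, rfl⟩
  obtain ⟨Ki, hKi⟩ : ∃ Ki : Matrix (Fin a × Fin b) (Fin a × Fin b) F,
      ((k⁻¹ : Matrix.GeneralLinearGroup (Fin a × Fin b) F) :
        Matrix (Fin a × Fin b) (Fin a × Fin b) F) = Ki := ⟨_, rfl⟩
  rw [hG] at hμ hdec
  have hKiK : ∀ v : Fin a × Fin b → F,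
      Ki *ᵥ ((k : Matrix (Fin a × Fin b) (Fin a × Fin b) F) *ᵥ v) = v := by
    intro v
    rw [Matrix.mulVec_mulVec, ← hKi, ← Units.val_mul, inv_mul_cancel, Units.val_one,
      Matrix.one_mulVec]
  -- `k` on the line
  have hkw : ∀ u : Fin a → F,
      (k : Matrix (Fin a × Fin b) (Fin a × Fin b) F) *ᵥ ten u w = ten (μ *ᵥ u) w := by
    intro u
    rw [hk, kron_mulVec_ten, hα, hβw, Matrix.smul_mulVec, ten_smul_left, ten_smul_right, smul_smul,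
      mul_inv_cancel₀ hν0, one_smul]
  have hKiw : ∀ u : Fin a → F, Ki *ᵥ ten u w = ten (μi *ᵥ u) w := by
    intro u
    have h1 := hkw (μi *ᵥ u)
    rw [Matrix.mulVec_mulVec, hμμi, Matrix.one_mulVec] at h1
    rw [← h1, hKiK]
  -- the element `U = k⁻¹ g`
  obtain ⟨U, hU⟩ : ∃ U : Matrix.GeneralLinearGroup (Fin a × Fin b) F, U = k⁻¹ * g := ⟨_, rfl⟩
  have hUv : ∀ v : Fin a × Fin b → F,
      (U : Matrix (Fin a × Fin b) (Fin a × Fin b) F) *ᵥ v = Ki *ᵥ (G *ᵥ v) := by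
    intro v
    rw [hU, Units.val_mul, hKi, hG, Matrix.mulVec_mulVec]
  have hUU : U ∈ GUm σ (Fin a × Fin b) := by
    rw [hU]
    exact (GUm σ (Fin a × Fin b)).mul_mem ((GUm σ (Fin a × Fin b)).inv_mem hkU) (hMS hg).1
  have hU1 : ∀ u : Fin a → F,
      (U : Matrix (Fin a × Fin b) (Fin a × Fin b) F) *ᵥ ten u w = ten u w := by
    intro u
    rw [hUv, hμ, ← hkw, hKiK]
  have hU2 : ∀ (u : Fin a → F) (y : Fin b → F), hf σ y w = 0 →
      (U : Matrix (Fin a × Fin b) (Fin a × Fin b) F) *ᵥ ten u y - ten u y ∈ Bline (a := a) w := by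
    intro u y hy
    obtain ⟨m, hm⟩ := hdec y hy u
    obtain ⟨c, hc⟩ := hβy y hy
    have h1 : (k : Matrix (Fin a × Fin b) (Fin a × Fin b) F) *ᵥ ten u y =
        ten (μ *ᵥ u) (Γ *ᵥ y) + ten ((c * ν) • (μ *ᵥ u)) w := by
      rw [hk, kron_mulVec_ten, hα, hc, Matrix.smul_mulVec, ten_add_right, ten_smul_left,
        ten_smul_right, smul_smul, mul_inv_cancel₀ hν0, one_smul, ten_smul_left, ten_smul_right,
        ten_smul_left, smul_smul, mul_comm ν c]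
    have h2 : G *ᵥ ten u y = (k : Matrix (Fin a × Fin b) (Fin a × Fin b) F) *ᵥ ten u y +
        ten (m - (c * ν) • (μ *ᵥ u)) w := by
      rw [hm, h1, tpns_ten_sub_left]
      abel
    rw [hUv, h2, Matrix.mulVec_add, hKiK, hKiw, add_sub_cancel_left]
    exact (mem_Bline w _).2 ⟨_, rfl⟩
  -- `det U = 1`
  obtain ⟨N, hN⟩ : ∃ N : Matrix (Fin a × Fin b) (Fin a × Fin b) F,
      N = (U : Matrix (Fin a × Fin b) (Fin a × Fin b) F) - 1 := ⟨_, rfl⟩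
  have hNv : ∀ v : Fin a × Fin b → F,
      N *ᵥ v = (U : Matrix (Fin a × Fin b) (Fin a × Fin b) F) *ᵥ v - v := by
    intro v
    rw [hN, Matrix.sub_mulVec, Matrix.one_mulVec]
  have hN1 : ∀ u : Fin a → F, N *ᵥ ten u w = 0 := by
    intro u
    rw [hNv, hU1, sub_self]
  have hN2 : ∀ v : Fin a × Fin b → F, ctr (cj σ w) v = 0 → N *ᵥ v ∈ Bline (a := a) w := by
    intro v hv
    have := utpunipq_ind0 σ w w₂ hw2 ((Bline (a := a) w).comap N.mulVecLin) (by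
      intro u y hy
      rw [Submodule.mem_comap, Matrix.mulVecLin_apply, hNv]
      exact hU2 u y hy) v hv
    rwa [Submodule.mem_comap, Matrix.mulVecLin_apply] at this
  have hN3 : ∀ v : Fin a × Fin b → F, ctr (cj σ w) (N *ᵥ v) = 0 := by
    intro v
    rw [hNv, tpns_ctr_sub, utpunipq_perp σ hσ w _ ((mem_GUm σ U).1 hUU) hU1, sub_self]
  have hNnil : IsNilpotent N := by
    refine ⟨3, ?_⟩
    rw [pow_three, Matrix.ext_iff_mulVec]
    intro v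
    rw [← Matrix.mulVec_mulVec, ← Matrix.mulVec_mulVec, Matrix.zero_mulVec]
    obtain ⟨u₁, hu₁⟩ := (mem_Bline w _).1 (hN2 (N *ᵥ v) (hN3 v))
    rw [hu₁, hN1]
  have hUdet : (U : Matrix (Fin a × Fin b) (Fin a × Fin b) F).det = 1 := by
    have h1 : (U : Matrix (Fin a × Fin b) (Fin a × Fin b) F) = 1 + N := by rw [hN]; abel
    rw [h1]
    exact utpstab_det_unip N hNnil
  have hGdet : G.det = 1 := by
    rw [← hG]
    exact utpunipq_det_of_SL g (hMS hg).2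
  have hkdet1 : (k : Matrix (Fin a × Fin b) (Fin a × Fin b) F).det = 1 := by
    have h1 : (U : Matrix (Fin a × Fin b) (Fin a × Fin b) F) = Ki * G := by
      rw [hU, Units.val_mul, hKi, hG]
    have h2 : Ki.det = 1 := by
      have := hUdet
      rw [h1, Matrix.det_mul, hGdet, mul_one] at this
      exact this
    have h3 : Ki * (k : Matrix (Fin a × Fin b) (Fin a × Fin b) F) = 1 := by
      rw [← hKi, ← Units.val_mul, inv_mul_cancel, Units.val_one]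
    have h4 := congrArg Matrix.det h3
    rw [Matrix.det_mul, h2, one_mul, Matrix.det_one] at h4
    exact h4
  have hkT : k ∈ T0u σ a b := kron_mem σ hσ α β hαU hβU (by
    have := hkdet1
    rw [hk, Matrix.det_kronecker, Fintype.card_fin, Fintype.card_fin] at this
    exact this) k hk
  have hkM : k ∈ M := hTM hkT
  have hUM : U ∈ M := by
    rw [hU]
    exact M.mul_mem (M.inv_mem hkM) hg
  have hUK : U ∈ K0 a b F := unipq σ hσ ha hb M hTM hMS hNT w hw h U hUM hU1 hU2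
  have hfin : g = k * U := by rw [hU]; group
  rw [hfin]
  exact (K0 a b F).mul_mem hkK hUK

/-- the case `w' = w`, with the statement of the `β`-lemma (`utpstab11_beta`) as a hypothesis -/
theorem utpstab_same [Fintype F] (σ : F ≃+* F) (hσ : Inv2 σ) (ha : 1 ≤ a) (hb : 3 ≤ b)
    (M : Subgroup (Matrix.GeneralLinearGroup (Fin a × Fin b) F)) (hTM : T0u σ a b ≤ M)
    (hMS : M ≤ SUm σ (Fin a × Fin b)) (hNT : NTu σ M)
    (hbeta : ∀ (w w₂ : Fin b → F), hf σ w w = 0 → hf σ w₂ w₂ = 0 → hf σ w₂ w = 1 →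
      ∀ Γ : Matrix (Fin b) (Fin b) F, Γ *ᵥ w = w →
      (∀ y, hf σ y w = 0 → hf σ (Γ *ᵥ y) w = 0) → ∀ lam ν : F,
      (∀ z z', hf σ z w = 0 → hf σ z' w = 0 → lam * hf σ (Γ *ᵥ z) (Γ *ᵥ z') = hf σ z z') →
      ν * σ ν * lam = 1 →
      ∃ β : Matrix.GeneralLinearGroup (Fin b) F, β ∈ GUm σ (Fin b) ∧
        (β : Matrix (Fin b) (Fin b) F) *ᵥ w = ν⁻¹ • w ∧
        ∀ y, hf σ y w = 0 → ∃ c : F,
          (β : Matrix (Fin b) (Fin b) F) *ᵥ y = ν⁻¹ • (Γ *ᵥ y) + c • w)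
    (w : Fin b → F) (hw : w ≠ 0) (h : cj σ w ⬝ᵥ w = 0)
    (g : Matrix.GeneralLinearGroup (Fin a × Fin b) F) (hg : g ∈ M)
    (hl : ∀ u : Fin a → F, ∃ u' : Fin a → F,
      (g : Matrix (Fin a × Fin b) (Fin a × Fin b) F) *ᵥ ten u w = ten u' w) :
    g ∈ K0 a b F := by
  have hww : hf σ w w = 0 := (iso_iff σ w).1 h
  obtain ⟨μ, lam, hμdet, hlam0, hlamσ, hμ, hadj, hlam⟩ :=
    utpstab_mu σ hσ ha hb M hTM hMS hNT w hw h g hg hl
  obtain ⟨Γ, hΓw, hΓperp, hΓsim, hdec⟩ :=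
    utpstab_gamma σ hσ ha hb M hTM hMS hNT w hw h g hg μ lam hlam0 hlamσ hμ hadj hlam
  obtain ⟨w₂, hw₂iso, hww₂⟩ := utpisoany_partner σ hσ w hw hww
  have hw2 : hf σ w₂ w = 1 := by rw [hf_herm σ hσ, hww₂, map_one]
  obtain ⟨ν, hν⟩ := utpsg_norm_surj σ hσ lam⁻¹ (by rw [map_inv₀, hlamσ])
  have hν' : ν * σ ν * lam = 1 := by rw [hν, inv_mul_cancel₀ hlam0]
  obtain ⟨β, hβU, hβw, hβy⟩ := hbeta w w₂ hww hw₂iso hw2 Γ hΓw hΓperp lam ν hΓsim hν'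
  exact utpstab_asm σ hσ ha hb M hTM hMS hNT w w₂ hw h hw2 g hg μ lam hlam0 hlamσ hμ hlam Γ hdec
    ν hν' β hβU hβw hβy

/-- `stab_u` with the statement of the `β`-lemma as a hypothesis -/
theorem utpstab_core [Fintype F] (σ : F ≃+* F) (hσ : Inv2 σ) (ha : 1 ≤ a) (hb : 3 ≤ b)
    (M : Subgroup (Matrix.GeneralLinearGroup (Fin a × Fin b) F)) (hTM : T0u σ a b ≤ M)
    (hMS : M ≤ SUm σ (Fin a × Fin b)) (hNT : NTu σ M)
    (hbeta : ∀ (w w₂ : Fin b → F), hf σ w w = 0 → hf σ w₂ w₂ = 0 → hf σ w₂ w = 1 →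
      ∀ Γ : Matrix (Fin b) (Fin b) F, Γ *ᵥ w = w →
      (∀ y, hf σ y w = 0 → hf σ (Γ *ᵥ y) w = 0) → ∀ lam ν : F,
      (∀ z z', hf σ z w = 0 → hf σ z' w = 0 → lam * hf σ (Γ *ᵥ z) (Γ *ᵥ z') = hf σ z z') →
      ν * σ ν * lam = 1 →
      ∃ β : Matrix.GeneralLinearGroup (Fin b) F, β ∈ GUm σ (Fin b) ∧
        (β : Matrix (Fin b) (Fin b) F) *ᵥ w = ν⁻¹ • w ∧
        ∀ y, hf σ y w = 0 → ∃ c : F,
          (β : Matrix (Fin b) (Fin b) F) *ᵥ y = ν⁻¹ • (Γ *ᵥ y) + c • w)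
    (w w' : Fin b → F) (hw : w ≠ 0) (hw' : w' ≠ 0) (h : cj σ w ⬝ᵥ w = 0)
    (g : Matrix.GeneralLinearGroup (Fin a × Fin b) F) (hg : g ∈ M)
    (hl : ∀ u : Fin a → F, ∃ u' : Fin a → F,
      (g : Matrix (Fin a × Fin b) (Fin a × Fin b) F) *ᵥ ten u w = ten u' w') :
    g ∈ K0 a b F := by
  classical
  have hww : hf σ w w = 0 := (iso_iff σ w).1 h
  obtain ⟨G, hG⟩ : ∃ G : Matrix (Fin a × Fin b) (Fin a × Fin b) F,
      (g : Matrix (Fin a × Fin b) (Fin a × Fin b) F) = G := ⟨_, rfl⟩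
  obtain ⟨Gi, hGi⟩ : ∃ Gi : Matrix (Fin a × Fin b) (Fin a × Fin b) F,
      ((g⁻¹ : Matrix.GeneralLinearGroup (Fin a × Fin b) F) :
        Matrix (Fin a × Fin b) (Fin a × Fin b) F) = Gi := ⟨_, rfl⟩
  have hGiG : ∀ v : Fin a × Fin b → F, Gi *ᵥ (G *ᵥ v) = v := by
    intro v
    rw [Matrix.mulVec_mulVec, ← hG, ← hGi, ← Units.val_mul, inv_mul_cancel, Units.val_one,
      Matrix.one_mulVec]
  have hiso : ∀ x y : Fin a × Fin b → F, hf σ (G *ᵥ x) (G *ᵥ y) = hf σ x y := by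
    intro x y
    rw [← hG]
    exact (mem_GUm σ g).1 (hMS hg).1 x y
  have hl' : ∀ u : Fin a → F, ∃ u' : Fin a → F, G *ᵥ ten u w = ten u' w' := by
    intro u
    rw [← hG]
    exact hl u
  -- the matrix `μ'` with `g (u ⊗ w) = μ' u ⊗ w'`
  obtain ⟨j₁, hj₁⟩ := tpns_exists_ne hw'
  obtain ⟨μ, hμdef⟩ : ∃ μ : Matrix (Fin a) (Fin a) F,
      μ = (w' j₁)⁻¹ • tpns_mat G (Pi.single j₁ 1) w := ⟨_, rfl⟩
  have hμ : ∀ u : Fin a → F, G *ᵥ ten u w = ten (μ *ᵥ u) w' := by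
    intro u
    obtain ⟨u', hu'⟩ := hl' u
    rw [hu', hμdef, Matrix.smul_mulVec, tpns_mat_mulVec, hu', ctr_ten, single_one_dotProduct,
      smul_smul, inv_mul_cancel₀ hj₁, one_smul]
  have hμinj : ∀ u : Fin a → F, μ *ᵥ u = 0 → u = 0 := by
    intro u hu
    have h1 := hμ u
    rw [hu, tpns_ten_zero_left] at h1
    have h2 := hGiG (ten u w)
    rw [h1, Matrix.mulVec_zero] at h2
    exact tpns_ten_eq_zero h2.symm hw
  have hμunit : IsUnit μ := by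
    rw [← Matrix.mulVec_injective_iff_isUnit]
    intro u u' huu
    have h1 : μ *ᵥ (u - u') = 0 := by
      rw [Matrix.mulVec_sub]
      exact sub_eq_zero.2 huu
    exact sub_eq_zero.1 (hμinj _ h1)
  have hμdet : IsUnit μ.det := (Matrix.isUnit_iff_isUnit_det μ).1 hμunit
  -- `w'` is isotropic
  obtain ⟨i₀, hi₀⟩ : ∃ i₀ : Fin a, i₀ = ⟨0, by omega⟩ := ⟨_, rfl⟩
  obtain ⟨e₀, he₀⟩ : ∃ e₀ : Fin a → F, e₀ = Pi.single i₀ 1 := ⟨_, rfl⟩
  have he₀e₀ : hf σ e₀ e₀ = 1 := by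
    rw [he₀, hf, single_dotProduct, one_mul, cj_apply, Pi.single_eq_same, map_one]
  have hw'w' : hf σ w' w' = 0 := by
    have h1 := hiso (ten (μ⁻¹ *ᵥ e₀) w) (ten (μ⁻¹ *ᵥ e₀) w)
    rw [hμ, Matrix.mulVec_mulVec, Matrix.mul_nonsing_inv μ hμdet, Matrix.one_mulVec, hf_ten, hf_ten,
      he₀e₀, hww, mul_zero, one_mul] at h1
    exact h1
  have h' : cj σ w' ⬝ᵥ w' = 0 := (iso_iff σ w').2 hw'w'
  -- move `w'` to `w`
  obtain ⟨β₀, hβ₀U, hβ₀d, hβ₀w⟩ := su_trans_iso σ hσ hb w' w hw' hw h' h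
  obtain ⟨k₀, hk₀T, hk₀⟩ := utpisoany_one_kron_mem (a := a) σ hσ β₀ hβ₀U hβ₀d
  have hk₀M : k₀ ∈ M := hTM hk₀T
  have hg'M : k₀ * g ∈ M := M.mul_mem hk₀M hg
  have hg'K : k₀ * g ∈ K0 a b F := by
    apply utpstab_same σ hσ ha hb M hTM hMS hNT hbeta w hw h (k₀ * g) hg'M
    intro u
    refine ⟨μ *ᵥ u, ?_⟩
    rw [Units.val_mul, ← Matrix.mulVec_mulVec, hG, hμ, hk₀, kron_mulVec_ten, Matrix.one_mulVec,
      hβ₀w]
  have hfin : g = k₀⁻¹ * (k₀ * g) := by group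
  rw [hfin]
  exact (K0 a b F).mul_mem ((K0 a b F).inv_mem hk₀T.1) hg'K

end Cfsg.Agent.Lib.helper6.UTP
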