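import Cfsg.Agent.Lib.Helper27.WSP.Defs
import Cfsg.Agent.Lib.Helper10.WSPL1
import Cfsg.Agent.Lib.Helper10.WSPL2
import Cfsg.Agent.S0051

set_option autoImplicit false
set_option linter.unusedSectionVars false
set_option linter.unusedVariables false

namespace Cfsg.Agent.Lib.Helper27.WSP

open Matrix

section L

variable {V : Type*} [AddCommGroup V] [Fintype V] {W : Type*} [AddCommGroup W] [Module ℂ W]
  [FiniteDimensional ℂ W] {c : V → V → ℂ} {π : V → Module.End ℂ W}
  {G : Type*} [Group G]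

/-- L3 : Gaschuetz : an honest representation normalising the Weyl system, given one on a
`p`-subgroup of index prime to `p` when `dim W` is a power of `p` -/
theorem exists_lift [Finite G] (h : IsWeyl c π) (a : G →* AddMonoid.End V)
    (ha : ∀ g v w, c (a g v) (a g w) = c v w)
    (p : ℕ) [Fact p.Prime] (hd : ∃ e, Module.finrank ℂ W = p ^ e)
    (P : Subgroup G) (hP : IsPGroup p ↥P) (hidx : ¬ p ∣ P.index)
    (s : ↥P →* (Module.End ℂ W)ˣ)
    (hs : ∀ (g : ↥P) (v : V),
      (s g : Module.End ℂ W) * π v = π (a (g : G) v) * (s g : Module.End ℂ W)) :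
    ∃ ω : G →* (Module.End ℂ W)ˣ, ∀ (g : G) (v : V),
      (ω g : Module.End ℂ W) * π v = π (a g v) * (ω g : Module.End ℂ W) := by
  classical
  have hpp : p.Prime := Fact.out
  obtain ⟨e, he⟩ := hd
  -- N = |P| is a power of p
  obtain ⟨k, hk⟩ := IsPGroup.iff_card.mp hP
  set N := Nat.card ↥P with hN
  have hNpos : 0 < N := Nat.card_pos
  -- the lift group
  set Ghat : Subgroup (G × (Module.End ℂ W)ˣ) := liftGroup π a N with hGhat
  have : Finite ↥Ghat := liftGroup_finite h a N hNpos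
  let pr : ↥Ghat →* G := (MonoidHom.fst G (Module.End ℂ W)ˣ).comp Ghat.subtype
  have hpr : ∀ x : ↥Ghat, pr x = (x : G × (Module.End ℂ W)ˣ).1 := fun x => rfl
  have hprsurj : Function.Surjective pr := by
    intro g
    obtain ⟨M, hM⟩ := liftGroup_surj h a ha N g
    exact ⟨⟨(g, M), hM⟩, rfl⟩
  set K : Subgroup ↥Ghat := pr.ker with hK
  -- elements of K are scalars
  have hKscal : ∀ x : ↥Ghat, x ∈ K → ∃ z : ℂ, z ^ (Module.finrank ℂ W * N) = 1 ∧
      (((x : G × (Module.End ℂ W)ˣ).2 : (Module.End ℂ W)ˣ) : Module.End ℂ W) =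
        z • (1 : Module.End ℂ W) := by
    intro x hx
    exact liftGroup_ker h a N (x : G × (Module.End ℂ W)ˣ) x.2 (MonoidHom.mem_ker.mp hx)
  -- equality in Ghat
  have hext : ∀ x y : ↥Ghat, (x : G × (Module.End ℂ W)ˣ).1 = (y : G × (Module.End ℂ W)ˣ).1 →
      (((x : G × (Module.End ℂ W)ˣ).2 : (Module.End ℂ W)ˣ) : Module.End ℂ W) =
        (((y : G × (Module.End ℂ W)ˣ).2 : (Module.End ℂ W)ˣ) : Module.End ℂ W) → x = y := by
    intro x y h1 h2
    apply Subtype.ext
    exact Prod.ext h1 (Units.ext h2)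
  have hKcomm : IsMulCommutative ↥K := by
    refine ⟨⟨?_⟩⟩
    rintro ⟨x, hx⟩ ⟨y, hy⟩
    apply Subtype.ext
    show x * y = y * x
    obtain ⟨z, -, hz⟩ := hKscal x hx
    obtain ⟨z', -, hz'⟩ := hKscal y hy
    have hx1 : (x : G × (Module.End ℂ W)ˣ).1 = 1 := MonoidHom.mem_ker.mp hx
    have hy1 : (y : G × (Module.End ℂ W)ˣ).1 = 1 := MonoidHom.mem_ker.mp hy
    apply hext
    · show (x : G × (Module.End ℂ W)ˣ).1 * (y : G × (Module.End ℂ W)ˣ).1 =
        (y : G × (Module.End ℂ W)ˣ).1 * (x : G × (Module.End ℂ W)ˣ).1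
      rw [hx1, hy1]
    · show (((x : G × (Module.End ℂ W)ˣ).2 * (y : G × (Module.End ℂ W)ˣ).2 : (Module.End ℂ W)ˣ) :
          Module.End ℂ W) =
        (((y : G × (Module.End ℂ W)ˣ).2 * (x : G × (Module.End ℂ W)ˣ).2 : (Module.End ℂ W)ˣ) :
          Module.End ℂ W)
      rw [Units.val_mul, Units.val_mul, hz, hz']
      rw [smul_mul_smul_comm, smul_mul_smul_comm, mul_comm z z']
  -- K is a p-group
  have hdN : Module.finrank ℂ W * N = p ^ (e + k) := by
    rw [he, hk, pow_add]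
  have hKp : IsPGroup p ↥K := by
    rintro ⟨x, hx⟩
    refine ⟨e + k, ?_⟩
    apply Subtype.ext
    show x ^ p ^ (e + k) = 1
    obtain ⟨z, hz1, hz⟩ := hKscal x hx
    have hx1 : (x : G × (Module.End ℂ W)ˣ).1 = 1 := MonoidHom.mem_ker.mp hx
    apply hext
    · show ((x ^ p ^ (e + k) : ↥Ghat) : G × (Module.End ℂ W)ˣ).1 = 1
      rw [SubgroupClass.coe_pow, Prod.pow_fst, hx1, one_pow]
    · show ((((x ^ p ^ (e + k) : ↥Ghat) : G × (Module.End ℂ W)ˣ).2 : (Module.End ℂ W)ˣ) :
          Module.End ℂ W) = ((1 : (Module.End ℂ W)ˣ) : Module.End ℂ W)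
      rw [SubgroupClass.coe_pow, Prod.pow_snd, Units.val_pow_eq_pow_val, hz, smul_pow, one_pow,
        ← hdN, hz1, one_smul, Units.val_one]
  obtain ⟨m, hm⟩ := IsPGroup.iff_card.mp hKp
  -- U and A
  set U : Subgroup ↥Ghat := P.comap pr with hU
  have hKU : K ≤ U := MonoidHom.ker_le_comap pr P
  have hUidx : U.index = P.index := Subgroup.index_comap_of_surjective P hprsurj
  have hcop : (Nat.card ↥K).Coprime U.index := by
    rw [hm, hUidx]
    exact Nat.Coprime.pow_left _ ((Nat.Prime.coprime_iff_not_dvd hpp).mpr hidx)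
  have hsmem : ∀ g : ↥P, ((g : G), s g) ∈ Ghat := by
    intro g
    refine ⟨fun v => hs g v, ?_⟩
    show LinearMap.det ((s g : (Module.End ℂ W)ˣ) : Module.End ℂ W) ^ N = 1
    rw [← map_pow, ← Units.val_pow_eq_pow_val, ← map_pow, hN, pow_card_eq_one', map_one,
      Units.val_one, map_one]
  let φ : ↥P →* ↥Ghat :=
    { toFun := fun g => ⟨((g : G), s g), hsmem g⟩
      map_one' := by
        apply Subtype.ext
        show (((1 : ↥P) : G), s 1) = 1
        rw [map_one]
        rfl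
      map_mul' := fun g g' => by
        apply Subtype.ext
        show (((g * g' : ↥P) : G), s (g * g')) = ((g : G), s g) * ((g' : G), s g')
        rw [map_mul]
        rfl }
  have hprφ : ∀ g : ↥P, pr (φ g) = (g : G) := fun g => rfl
  set A : Subgroup ↥Ghat := φ.range with hA
  have hAU : A ≤ U := by
    rintro x ⟨g, rfl⟩
    show pr (φ g) ∈ P
    rw [hprφ]
    exact g.2
  have hAK : A ⊓ K = ⊥ := by
    rw [eq_bot_iff]
    rintro x ⟨⟨g, rfl⟩, hxK⟩
    have h1 : pr (φ g) = 1 := MonoidHom.mem_ker.mp hxK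
    rw [hprφ] at h1
    have hg : g = 1 := Subtype.ext h1
    rw [hg, map_one]
    exact Subgroup.mem_bot.mpr rfl
  have hKA : K ⊔ A = U := by
    apply le_antisymm
    · exact sup_le hKU hAU
    · intro x hx
      have hxP : pr x ∈ P := hx
      set g : ↥P := ⟨pr x, hxP⟩ with hg
      have h1 : x * (φ g)⁻¹ ∈ K := by
        apply MonoidHom.mem_ker.mpr
        rw [map_mul, map_inv, hprφ]
        exact mul_inv_cancel _
      have h2 : x = (x * (φ g)⁻¹) * φ g := by group
      rw [h2]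
      exact Subgroup.mul_mem _ (Subgroup.mem_sup_left h1) (Subgroup.mem_sup_right ⟨g, rfl⟩)
  obtain ⟨H, hH⟩ := Cfsg.Agent.S0051.result K U hKU hcop A hAU hAK hKA
  -- the projection restricted to H is bijective
  let prH : ↥H →* G := pr.comp H.subtype
  have hinj : Function.Injective prH := by
    rw [injective_iff_map_eq_one]
    intro x hx
    have hxK : (x : ↥Ghat) ∈ K := MonoidHom.mem_ker.mpr hx
    have hdisj := hH.disjoint
    have : (x : ↥Ghat) ∈ K ⊓ H := ⟨hxK, x.2⟩
    rw [hdisj.eq_bot] at this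
    exact Subtype.ext (Subgroup.mem_bot.mp this)
  have hsurj : Function.Surjective prH := by
    intro g
    obtain ⟨x, hx⟩ := hprsurj g
    obtain ⟨⟨k', y⟩, hky⟩ := hH.2 x
    have hky' : (k' : ↥Ghat) * (y : ↥Ghat) = x := hky
    refine ⟨y, ?_⟩
    show pr (y : ↥Ghat) = g
    rw [← hx, ← hky', map_mul, MonoidHom.mem_ker.mp k'.2, one_mul]
  let eH : ↥H ≃* G := MulEquiv.ofBijective prH ⟨hinj, hsurj⟩
  let ω : G →* (Module.End ℂ W)ˣ :=
    (((MonoidHom.snd G (Module.End ℂ W)ˣ).comp Ghat.subtype).comp H.subtype).comp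
      eH.symm.toMonoidHom
  refine ⟨ω, fun g v => ?_⟩
  set x : ↥H := eH.symm g with hx
  have hx1 : ((x : ↥Ghat) : G × (Module.End ℂ W)ˣ).1 = g := by
    have : eH x = g := eH.apply_symm_apply g
    exact this
  have hxmem := ((x : ↥Ghat) : G × (Module.End ℂ W)ˣ) |> fun y => (x : ↥Ghat).2
  have hω : ω g = ((x : ↥Ghat) : G × (Module.End ℂ W)ˣ).2 := rfl
  rw [hω]
  have := hxmem.1 v
  rw [hx1] at this
  exact this

end L

end Cfsg.Agent.Lib.Helper27.WSP
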