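import Mathlib
import Cfsg.Agent.Lib.helper6.SL2Gen

set_option autoImplicit false

/-!
# The Weil representation of `SL₂(p)` on functions on an anisotropic plane, in characteristic 2

`V = 𝔽_p × 𝔽_p`, `Q(x) = x₁² - n x₂²`.  For a ring `R` of characteristic `2` and an additive character
`ψ : 𝔽_p → R` we define operators `M g` on `V → R` and show `M (g h) = M g ∘ M h`.
-/

namespace Cfsg.Agent.Lib.Helper19.Weil

open Matrix Cfsg.Agent.Lib.helper6.SL2Conc
open scoped MatrixGroups

variable {p : ℕ} [Fact p.Prime]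

/-- the quadratic form -/
def Q (n : ZMod p) (x : ZMod p × ZMod p) : ZMod p := x.1 ^ 2 - n * x.2 ^ 2

/-- its polar form -/
def B (n : ZMod p) (x y : ZMod p × ZMod p) : ZMod p := 2 * (x.1 * y.1 - n * (x.2 * y.2))

section forms

variable (n : ZMod p)

theorem Q_zero : Q n 0 = 0 := by simp [Q]

theorem Q_neg (x : ZMod p × ZMod p) : Q n (-x) = Q n x := by simp [Q]

theorem Q_smul (a : ZMod p) (x : ZMod p × ZMod p) : Q n (a • x) = a ^ 2 * Q n x := by
  simp only [Q, Prod.smul_fst, Prod.smul_snd, smul_eq_mul]; ring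

theorem Q_add (x y : ZMod p × ZMod p) : Q n (x + y) = Q n x + Q n y + B n x y := by
  simp only [Q, B, Prod.fst_add, Prod.snd_add]; ring

theorem Q_sub (x y : ZMod p × ZMod p) : Q n (x - y) = Q n x + Q n y - B n x y := by
  simp only [Q, B, Prod.fst_sub, Prod.snd_sub]; ring

theorem B_comm (x y : ZMod p × ZMod p) : B n x y = B n y x := by
  simp only [B]; ring

theorem B_neg_right (x y : ZMod p × ZMod p) : B n x (-y) = - B n x y := by
  simp only [B, Prod.fst_neg, Prod.snd_neg]; ring

theorem B_neg_left (x y : ZMod p × ZMod p) : B n (-x) y = - B n x y := by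
  simp only [B, Prod.fst_neg, Prod.snd_neg]; ring

theorem B_smul_left (a : ZMod p) (x y : ZMod p × ZMod p) : B n (a • x) y = a * B n x y := by
  simp only [B, Prod.smul_fst, Prod.smul_snd, smul_eq_mul]; ring

theorem B_smul_right (a : ZMod p) (x y : ZMod p × ZMod p) : B n x (a • y) = a * B n x y := by
  simp only [B, Prod.smul_fst, Prod.smul_snd, smul_eq_mul]; ring

theorem B_add_left (x x' y : ZMod p × ZMod p) : B n (x + x') y = B n x y + B n x' y := by
  simp only [B, Prod.fst_add, Prod.snd_add]; ring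

theorem B_add_right (x y y' : ZMod p × ZMod p) : B n x (y + y') = B n x y + B n x y' := by
  simp only [B, Prod.fst_add, Prod.snd_add]; ring

theorem B_sub_right (x y y' : ZMod p × ZMod p) : B n x (y - y') = B n x y - B n x y' := by
  simp only [B, Prod.fst_sub, Prod.snd_sub]; ring

theorem B_zero_right (x : ZMod p × ZMod p) : B n x 0 = 0 := by simp [B]

theorem B_zero_left (x : ZMod p × ZMod p) : B n 0 x = 0 := by simp [B]

theorem B_self (x : ZMod p × ZMod p) : B n x x = 2 * Q n x := by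
  simp only [B, Q]; ring

/-- anisotropy -/
theorem Q_eq_zero {n : ZMod p} (hn : ¬ IsSquare n) {x : ZMod p × ZMod p} (h : Q n x = 0) : x = 0 := by
  have h2 : x.2 = 0 := by
    by_contra h2
    apply hn
    refine ⟨x.1 / x.2, ?_⟩
    simp only [Q] at h
    field_simp
    linear_combination -h
  have h1 : x.1 = 0 := by
    simp only [Q, h2] at h
    simpa using h
  exact Prod.ext h1 h2

end forms

theorem two_ne_zero' (hp : p ≠ 2) : (2 : ZMod p) ≠ 0 := by
  intro h
  have h3 : ((2 : ℕ) : ZMod p) = 0 := by exact_mod_cast h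
  rw [ZMod.natCast_eq_zero_iff] at h3
  have := Nat.le_of_dvd (by norm_num) h3
  have := (Fact.out : p.Prime).two_le
  omega

theorem neg_ne_self (hp : p ≠ 2) {y : ZMod p × ZMod p} (hy : y ≠ 0) : -y ≠ y := by
  intro h
  apply hy
  have h2 := two_ne_zero' hp
  have e1 : (2 : ZMod p) * y.1 = 0 := by
    have := congrArg Prod.fst h
    simp only [Prod.fst_neg] at this
    linear_combination -this
  have e2 : (2 : ZMod p) * y.2 = 0 := by
    have := congrArg Prod.snd h
    simp only [Prod.snd_neg] at this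
    linear_combination -this
  exact Prod.ext ((mul_eq_zero.mp e1).resolve_left h2) ((mul_eq_zero.mp e2).resolve_left h2)

section sums

variable {R : Type*} [CommRing R] [CharP R 2]

/-- in characteristic 2 the sum of an even function on `V` is its value at `0` -/
theorem sum_even (hp : p ≠ 2) (F : ZMod p × ZMod p → R) (hF : ∀ y, F (-y) = F y) :
    ∑ y, F y = F 0 := by
  classical
  rw [← Finset.add_sum_erase Finset.univ F (Finset.mem_univ 0)]
  have : ∑ y ∈ Finset.univ.erase (0 : ZMod p × ZMod p), F y = 0 := by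
    refine Finset.sum_involution (fun y _ => -y) ?_ ?_ ?_ ?_
    · intro y _
      rw [hF y]; exact CharTwo.add_self_eq_zero _
    · intro y hy _
      exact neg_ne_self hp (Finset.ne_of_mem_erase hy)
    · intro y hy
      rw [Finset.mem_erase] at hy ⊢
      exact ⟨neg_ne_zero.mpr hy.1, Finset.mem_univ _⟩
    · intro y _
      exact neg_neg y
  rw [this, add_zero]

variable (ψ : AddChar (ZMod p) R) (n : ZMod p)

theorem sum_gauss (hp : p ≠ 2) (α : ZMod p) : ∑ y, ψ (α * Q n y) = 1 := by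
  rw [sum_even hp (fun y => ψ (α * Q n y)) (fun y => by rw [Q_neg])]
  simp [Q_zero]

theorem sum_gauss_shift (hp : p ≠ 2) (α : ZMod p) (hα : α ≠ 0) (β : ZMod p × ZMod p) :
    ∑ y, ψ (α * Q n y - B n y β) = ψ (- Q n β / α) := by
  have h1 : ∀ y, ψ (α * Q n y - B n y β) = ψ (α * Q n (y - α⁻¹ • β)) * ψ (- Q n β / α) := by
    intro y
    rw [← AddChar.map_add_eq_mul]
    congr 1
    rw [Q_sub, Q_smul, B_smul_right]
    field_simp
    ring
  simp_rw [h1]
  rw [← Finset.sum_mul]
  have h2 : ∑ y, ψ (α * Q n (y - α⁻¹ • β)) = ∑ y, ψ (α * Q n y) :=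
    Fintype.sum_equiv (Equiv.subRight (α⁻¹ • β)) _ _ (fun y => rfl)
  rw [h2, sum_gauss ψ n hp, one_mul]

theorem sum_nondeg [IsDomain R] (hp : p ≠ 2) (hn : ¬ IsSquare n) (hψ : ∀ t, ψ t = 1 → t = 0)
    (β : ZMod p × ZMod p) : ∑ y, ψ (B n y β) = if β = 0 then 1 else 0 := by
  split_ifs with h
  · subst h
    rw [sum_even hp (fun y => ψ (B n y 0)) (fun y => by rw [B_zero_right, B_zero_right])]
    simp [B_zero_right]
  · let χ : AddChar (ZMod p × ZMod p) R := ψ.compAddMonoidHom
      { toFun := fun y => B n y β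
        map_zero' := B_zero_left n β
        map_add' := fun x y => B_add_left n x y β }
    have hχ : χ ≠ 1 := by
      intro h1
      have h2 : χ β = 1 := by rw [h1]; rfl
      have h3 : ψ (B n β β) = 1 := h2
      have h4 := hψ _ h3
      rw [B_self] at h4
      rcases mul_eq_zero.mp h4 with h5 | h5
      · exact two_ne_zero' hp h5
      · exact h (Q_eq_zero hn h5)
    exact AddChar.sum_eq_zero_of_ne_one hχ

end sums

section operators

variable {R : Type*} [CommRing R] (ψ : AddChar (ZMod p) R) (n : ZMod p)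

/-- the Weil operators -/
noncomputable def Mfun (g : SL(2, ZMod p)) (f : ZMod p × ZMod p → R) : ZMod p × ZMod p → R := fun x =>
  if g 1 0 = 0 then ψ (g 0 0 * g 0 1 * Q n x) * f (g 0 0 • x)
  else ∑ y, ψ ((g 0 0 * Q n x - B n x y + g 1 1 * Q n y) / g 1 0) * f y

theorem Mfun_of_eq (g : SL(2, ZMod p)) (h : g 1 0 = 0) (f : ZMod p × ZMod p → R) (x : ZMod p × ZMod p) :
    Mfun ψ n g f x = ψ (g 0 0 * g 0 1 * Q n x) * f (g 0 0 • x) := by
  rw [Mfun, if_pos h]

theorem Mfun_of_ne (g : SL(2, ZMod p)) (h : g 1 0 ≠ 0) (f : ZMod p × ZMod p → R) (x : ZMod p × ZMod p) :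
    Mfun ψ n g f x = ∑ y, ψ ((g 0 0 * Q n x - B n x y + g 1 1 * Q n y) / g 1 0) * f y := by
  rw [Mfun, if_neg h]

theorem Mfun_add (g : SL(2, ZMod p)) (f f' : ZMod p × ZMod p → R) :
    Mfun ψ n g (f + f') = Mfun ψ n g f + Mfun ψ n g f' := by
  funext x
  by_cases h : g 1 0 = 0
  · simp only [Pi.add_apply, Mfun_of_eq ψ n g h, mul_add]
  · simp only [Pi.add_apply, Mfun_of_ne ψ n g h, mul_add, Finset.sum_add_distrib]

theorem Mfun_smul (g : SL(2, ZMod p)) (r : R) (f : ZMod p × ZMod p → R) :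
    Mfun ψ n g (r • f) = r • Mfun ψ n g f := by
  funext x
  by_cases h : g 1 0 = 0
  · simp only [Pi.smul_apply, Mfun_of_eq ψ n g h, smul_eq_mul]; ring
  · simp only [Pi.smul_apply, Mfun_of_ne ψ n g h, smul_eq_mul, Finset.mul_sum]
    refine Finset.sum_congr rfl (fun y _ => ?_); ring

theorem Mfun_one (f : ZMod p × ZMod p → R) : Mfun ψ n 1 f = f := by
  funext x
  rw [Mfun_of_eq ψ n 1 (by simp)]
  simp

/-- multiplication by an upper unitriangular matrix on the right -/
theorem Mfun_mul_xu (g : SL(2, ZMod p)) (t : ZMod p) (f : ZMod p × ZMod p → R) :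
    Mfun ψ n g (Mfun ψ n (xu t) f) = Mfun ψ n (g * xu t) f := by
  funext x
  have hx : ∀ y, Mfun ψ n (xu t) f y = ψ (t * Q n y) * f y := by
    intro y
    rw [Mfun_of_eq ψ n (xu t) (by simp)]
    simp
  have e00 : (g * xu t) 0 0 = g 0 0 := by rw [mul_apply00]; simp
  have e01 : (g * xu t) 0 1 = g 0 0 * t + g 0 1 := by rw [mul_apply01]; simp
  have e10 : (g * xu t) 1 0 = g 1 0 := by rw [mul_apply10]; simp
  have e11 : (g * xu t) 1 1 = g 1 0 * t + g 1 1 := by rw [mul_apply11]; simp
  by_cases h : g 1 0 = 0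
  · rw [Mfun_of_eq ψ n g h, Mfun_of_eq ψ n (g * xu t) (by rw [e10]; exact h), hx, e00, e01,
      ← mul_assoc, ← AddChar.map_add_eq_mul, Q_smul]
    congr 2
    ring
  · rw [Mfun_of_ne ψ n g h, Mfun_of_ne ψ n (g * xu t) (by rw [e10]; exact h)]
    refine Finset.sum_congr rfl (fun y _ => ?_)
    rw [hx, ← mul_assoc, ← AddChar.map_add_eq_mul, e00, e10, e11]
    congr 2
    field_simp
    ring

/-- the Weyl element -/
def wel : SL(2, ZMod p) := ⟨!![0, 1; -1, 0], by simp [Matrix.det_fin_two]⟩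

@[simp] theorem wel00 : (wel : SL(2, ZMod p)) 0 0 = 0 := rfl
@[simp] theorem wel01 : (wel : SL(2, ZMod p)) 0 1 = 1 := rfl
@[simp] theorem wel10 : (wel : SL(2, ZMod p)) 1 0 = -1 := rfl
@[simp] theorem wel11 : (wel : SL(2, ZMod p)) 1 1 = 0 := rfl

theorem Mfun_wel (f : ZMod p × ZMod p → R) (y : ZMod p × ZMod p) :
    Mfun ψ n wel f y = ∑ z, ψ (B n y z) * f z := by
  rw [Mfun_of_ne ψ n wel (by simp)]
  refine Finset.sum_congr rfl (fun z _ => ?_)
  congr 2
  simp

/-- the Weil operators as linear maps -/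
noncomputable def Mlin (g : SL(2, ZMod p)) : Module.End R (ZMod p × ZMod p → R) :=
  { toFun := Mfun ψ n g
    map_add' := Mfun_add ψ n g
    map_smul' := fun r f => Mfun_smul ψ n g r f }

@[simp] theorem Mlin_apply (g : SL(2, ZMod p)) (f : ZMod p × ZMod p → R) :
    Mlin ψ n g f = Mfun ψ n g f := rfl

variable [CharP R 2] [IsDomain R]

/-- multiplication by the Weyl element on the right -/
theorem Mfun_mul_wel (hp : p ≠ 2) (hn : ¬ IsSquare n) (hψ : ∀ t, ψ t = 1 → t = 0)
    (g : SL(2, ZMod p)) (f : ZMod p × ZMod p → R) :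
    Mfun ψ n g (Mfun ψ n wel f) = Mfun ψ n (g * wel) f := by
  classical
  funext x
  have e00 : (g * (wel : SL(2, ZMod p))) 0 0 = - g 0 1 := by rw [mul_apply00]; simp
  have e01 : (g * (wel : SL(2, ZMod p))) 0 1 = g 0 0 := by rw [mul_apply01]; simp
  have e10 : (g * (wel : SL(2, ZMod p))) 1 0 = - g 1 1 := by rw [mul_apply10]; simp
  have e11 : (g * (wel : SL(2, ZMod p))) 1 1 = g 1 0 := by rw [mul_apply11]; simp
  have hdet := sl_det g
  by_cases hc : g 1 0 = 0
  · have hd : g 1 1 ≠ 0 := by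
      intro hd; rw [hc, hd] at hdet; simp at hdet
    rw [Mfun_of_eq ψ n g hc, Mfun_wel, Mfun_of_ne ψ n (g * wel) (by rw [e10]; exact neg_ne_zero.mpr hd),
      Finset.mul_sum]
    refine Finset.sum_congr rfl (fun z _ => ?_)
    rw [← mul_assoc, ← AddChar.map_add_eq_mul, e00, e10, e11, B_smul_left, hc]
    congr 2
    rw [hc] at hdet
    field_simp
    linear_combination (g 0 1 * Q n x + B n x z) * hdet
  · rw [Mfun_of_ne ψ n g hc]
    simp_rw [Mfun_wel, Finset.mul_sum]
    rw [Finset.sum_comm]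
    by_cases hd : g 1 1 = 0
    · -- the product is monomial
      have hI : ∀ z, ∑ y, ψ ((g 0 0 * Q n x - B n x y + g 1 1 * Q n y) / g 1 0) * (ψ (B n y z) * f z)
          = if z = (g 1 0)⁻¹ • x then ψ (g 0 0 * Q n x / g 1 0) * f z else 0 := by
        intro z
        have h1 : ∀ y, ψ ((g 0 0 * Q n x - B n x y + g 1 1 * Q n y) / g 1 0) * (ψ (B n y z) * f z)
            = ψ (B n y (z - (g 1 0)⁻¹ • x)) * (ψ (g 0 0 * Q n x / g 1 0) * f z) := by
          intro y
          rw [← mul_assoc, ← mul_assoc, ← AddChar.map_add_eq_mul, ← AddChar.map_add_eq_mul]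
          congr 2
          rw [B_sub_right, B_smul_right, hd, B_comm n x y]
          field_simp
          ring
        simp_rw [h1]
        rw [← Finset.sum_mul, sum_nondeg ψ n hp hn hψ]
        by_cases hz : z = (g 1 0)⁻¹ • x
        · rw [if_pos hz, if_pos (sub_eq_zero.mpr hz), one_mul]
        · rw [if_neg hz, if_neg (sub_ne_zero.mpr hz), zero_mul]
      simp_rw [hI]
      rw [Finset.sum_ite_eq' Finset.univ, if_pos (Finset.mem_univ _),
        Mfun_of_eq ψ n (g * wel) (by rw [e10, hd, neg_zero]), e00, e01]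
      rw [hd] at hdet
      have hb : - g 0 1 = (g 1 0)⁻¹ := by
        field_simp
        linear_combination hdet
      rw [hb]
      congr 2
      field_simp
    · have hI : ∀ z, ∑ y, ψ ((g 0 0 * Q n x - B n x y + g 1 1 * Q n y) / g 1 0) * (ψ (B n y z) * f z)
          = ψ ((- g 0 1 * Q n x - B n x z + g 1 0 * Q n z) / (- g 1 1)) * f z := by
        intro z
        have h1 : ∀ y, ψ ((g 0 0 * Q n x - B n x y + g 1 1 * Q n y) / g 1 0) * (ψ (B n y z) * f z)
            = ψ ((g 1 1 / g 1 0) * Q n y - B n y ((g 1 0)⁻¹ • x - z)) * (ψ (g 0 0 * Q n x / g 1 0) * f z) := by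
          intro y
          rw [← mul_assoc, ← mul_assoc, ← AddChar.map_add_eq_mul, ← AddChar.map_add_eq_mul]
          congr 2
          rw [B_sub_right, B_smul_right, B_comm n x y]
          field_simp
          ring
        simp_rw [h1]
        rw [← Finset.sum_mul, sum_gauss_shift ψ n hp _ (div_ne_zero hd hc), ← mul_assoc,
          ← AddChar.map_add_eq_mul]
        congr 2
        rw [Q_sub, Q_smul, B_smul_left]
        field_simp
        linear_combination (Q n x) * hdet
      simp_rw [hI]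
      rw [Mfun_of_ne ψ n (g * wel) (by rw [e10]; exact neg_ne_zero.mpr hd), e00, e10, e11]

theorem wel_eq : (wel : SL(2, ZMod p)) = xu 1 * yl (-1) * xu 1 := by
  obtain ⟨n00, n01, n10, n11⟩ := Cfsg.Agent.Lib.helper6.SL2Gen.weyl_entries (F := ZMod p)
  apply sl_ext
  · rw [n00]; rfl
  · rw [n01]; rfl
  · rw [n10]; rfl
  · rw [n11]; rfl

/-- the Weil operators are multiplicative -/
theorem Mfun_mul (hp : p ≠ 2) (hn : ¬ IsSquare n) (hψ : ∀ t, ψ t = 1 → t = 0)
    (g h : SL(2, ZMod p)) (f : ZMod p × ZMod p → R) :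
    Mfun ψ n g (Mfun ψ n h f) = Mfun ψ n (g * h) f := by
  classical
  let S : Submonoid SL(2, ZMod p) :=
    { carrier := {h | ∀ (g : SL(2, ZMod p)) (f : ZMod p × ZMod p → R),
        Mfun ψ n g (Mfun ψ n h f) = Mfun ψ n (g * h) f}
      one_mem' := by
        intro g f
        rw [Mfun_one, mul_one]
      mul_mem' := by
        intro a b ha hb g f
        rw [← hb a f, ha g, hb (g * a) f, mul_assoc] }
  let L : Subgroup SL(2, ZMod p) :=
    { S with
      inv_mem' := by
        intro a ha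
        have h1 : a⁻¹ = a ^ (orderOf a - 1) := by
          apply inv_eq_of_mul_eq_one_right
          rw [← pow_succ', Nat.sub_add_cancel (orderOf_pos a), pow_orderOf_eq_one]
        rw [h1]
        exact S.pow_mem ha _ }
  have hxu : ∀ t : ZMod p, xu t ∈ L := fun t g f => Mfun_mul_xu ψ n g t f
  have hw : (wel : SL(2, ZMod p)) ∈ L := fun g f => Mfun_mul_wel ψ n hp hn hψ g f
  have hyl : ∀ t : ZMod p, yl t ∈ L := by
    intro t
    have h1 := Cfsg.Agent.Lib.helper6.SL2Gen.weyl_conj (F := ZMod p) (-t)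
    rw [neg_neg, ← wel_eq] at h1
    rw [← h1]
    exact L.mul_mem (L.mul_mem hw (hxu _)) (L.inv_mem hw)
  have htop := Cfsg.Agent.Lib.helper6.SL2Gen.top_of_xu_yl L hxu hyl
  have hh : h ∈ L := by rw [htop]; trivial
  exact hh g f

/-- the Weil representation -/
noncomputable def rho (hp : p ≠ 2) (hn : ¬ IsSquare n) (hψ : ∀ t, ψ t = 1 → t = 0) :
    SL(2, ZMod p) →* Module.End R (ZMod p × ZMod p → R) :=
  { toFun := Mlin ψ n
    map_one' := by
      apply LinearMap.ext
      intro f
      rw [Mlin_apply, Mfun_one]; rfl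
    map_mul' := by
      intro g h
      apply LinearMap.ext
      intro f
      rw [Mlin_apply, ← Mfun_mul ψ n hp hn hψ]; rfl }

@[simp] theorem rho_apply (hp : p ≠ 2) (hn : ¬ IsSquare n) (hψ : ∀ t, ψ t = 1 → t = 0)
    (g : SL(2, ZMod p)) (f : ZMod p × ZMod p → R) :
    rho ψ n hp hn hψ g f = Mfun ψ n g f := rfl

end operators

end Cfsg.Agent.Lib.Helper19.Weil
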