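import Mathlib
import Cfsg.Agent.Lib.Helper19.WeilA

set_option autoImplicit false

/-!
# The submodule of even functions vanishing at the origin
-/

namespace Cfsg.Agent.Lib.Helper19.Weil

open Matrix Cfsg.Agent.Lib.helper6.SL2Conc
open scoped MatrixGroups

variable {p : ℕ} [Fact p.Prime]

section

variable {R : Type*} [CommRing R]

/-- even functions vanishing at the origin -/
def Usub (p : ℕ) [Fact p.Prime] (R : Type*) [CommRing R] : Submodule R (ZMod p × ZMod p → R) :=
  { carrier := {f | f 0 = 0 ∧ ∀ x, f (-x) = f x}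
    add_mem' := by
      rintro f f' ⟨h0, h1⟩ ⟨h0', h1'⟩
      exact ⟨by simp [h0, h0'], fun x => by simp [h1 x, h1' x]⟩
    zero_mem' := ⟨rfl, fun _ => rfl⟩
    smul_mem' := by
      rintro r f ⟨h0, h1⟩
      exact ⟨by simp [h0], fun x => by simp [h1 x]⟩ }

theorem mem_Usub (f : ZMod p × ZMod p → R) : f ∈ Usub p R ↔ f 0 = 0 ∧ ∀ x, f (-x) = f x := Iff.rfl

/-- the basic test functions -/
def dl (y0 : ZMod p × ZMod p) : ZMod p × ZMod p → R :=
  fun y => (if y = y0 then 1 else 0) + (if y = -y0 then 1 else 0)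

theorem dl_mem (y0 : ZMod p × ZMod p) (hy : y0 ≠ 0) : (dl y0 : ZMod p × ZMod p → R) ∈ Usub p R := by
  constructor
  · simp only [dl]
    rw [if_neg (Ne.symm hy), if_neg (fun h => hy (neg_eq_zero.mp h.symm)), add_zero]
  · intro x
    simp only [dl, neg_inj]
    rw [add_comm]
    congr 1
    simp only [neg_eq_iff_eq_neg]

theorem sum_mul_dl (k : ZMod p × ZMod p → R) (y0 : ZMod p × ZMod p) :
    ∑ y, k y * dl y0 y = k y0 + k (-y0) := by
  classical
  simp [dl, mul_add, Finset.sum_add_distrib]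

theorem dl_self (hp : p ≠ 2) (y0 : ZMod p × ZMod p) (hy : y0 ≠ 0) : (dl y0 y0 : R) = 1 := by
  have h : y0 ≠ -y0 := fun h => neg_ne_self hp hy h.symm
  simp [dl, h]

end

section

variable {R : Type*} [CommRing R] [CharP R 2] (ψ : AddChar (ZMod p) R) (n : ZMod p)

theorem Mfun_mem_Usub (hp : p ≠ 2) (g : SL(2, ZMod p)) (f : ZMod p × ZMod p → R) (hf : f ∈ Usub p R) :
    Mfun ψ n g f ∈ Usub p R := by
  obtain ⟨h0, h1⟩ := hf
  constructor
  · by_cases hc : g 1 0 = 0
    · rw [Mfun_of_eq ψ n g hc, smul_zero, h0, mul_zero]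
    · rw [Mfun_of_ne ψ n g hc,
        sum_even hp (fun y => ψ ((g 0 0 * Q n 0 - B n 0 y + g 1 1 * Q n y) / g 1 0) * f y)
          (fun y => by simp only [B_zero_left, Q_neg, h1])]
      simp only [h0, mul_zero]
  · intro x
    by_cases hc : g 1 0 = 0
    · rw [Mfun_of_eq ψ n g hc, Mfun_of_eq ψ n g hc, Q_neg, smul_neg, h1]
    · rw [Mfun_of_ne ψ n g hc, Mfun_of_ne ψ n g hc]
      refine Fintype.sum_equiv (Equiv.neg _) _ _ (fun y => ?_)
      simp only [Equiv.neg_apply, Q_neg, B_neg_left, B_neg_right, h1]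

end

section

variable {R : Type*} [CommRing R] [CharP R 2] [IsDomain R] (ψ : AddChar (ZMod p) R) (n : ZMod p)

/-- the Weil representation on `Usub` -/
noncomputable def rhoU (hp : p ≠ 2) (hn : ¬ IsSquare n) (hψ : ∀ t, ψ t = 1 → t = 0) :
    SL(2, ZMod p) →* Module.End R (Usub p R) :=
  { toFun := fun g => (rho ψ n hp hn hψ g).restrict (fun f hf => Mfun_mem_Usub ψ n hp g f hf)
    map_one' := by
      apply LinearMap.ext
      intro f
      apply Subtype.ext
      simp [LinearMap.restrict_apply]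
    map_mul' := by
      intro g h
      apply LinearMap.ext
      intro f
      apply Subtype.ext
      show Mfun ψ n (g * h) f = Mfun ψ n g (Mfun ψ n h f)
      rw [Mfun_mul ψ n hp hn hψ] }

theorem rhoU_apply (hp : p ≠ 2) (hn : ¬ IsSquare n) (hψ : ∀ t, ψ t = 1 → t = 0)
    (g : SL(2, ZMod p)) (f : Usub p R) :
    ((rhoU ψ n hp hn hψ g f : Usub p R) : ZMod p × ZMod p → R) = Mfun ψ n g f := rfl

omit [CharP R 2] in
theorem psi_inj (hψ : ∀ t, ψ t = 1 → t = 0) {s t : ZMod p} (h : ψ s = ψ t) : s = t := by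
  have h1 : ψ (s - t) * ψ t = 1 * ψ t := by
    rw [← AddChar.map_add_eq_mul, sub_add_cancel, one_mul, h]
  have h2 : ψ t ≠ 0 := by
    intro h0
    have : ψ (t + -t) = 1 := by rw [add_neg_cancel, AddChar.map_zero_eq_one]
    rw [AddChar.map_add_eq_mul, h0, zero_mul] at this
    exact zero_ne_one this
  exact sub_eq_zero.mp (hψ _ (mul_right_cancel₀ h2 h1))

omit [CharP R 2] [IsDomain R] in
/-- `-1` acts trivially on even functions -/
theorem Mfun_neg_one (f : ZMod p × ZMod p → R) (hf : f ∈ Usub p R) :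
    Mfun ψ n (-1) f = f := by
  funext x
  have h10 : (-1 : SL(2, ZMod p)) 1 0 = 0 := neg_one_apply10
  rw [Mfun_of_eq ψ n (-1) h10, neg_one_apply00, neg_one_apply01]
  simp [hf.2 x]

theorem rhoU_neg_one (hp : p ≠ 2) (hn : ¬ IsSquare n) (hψ : ∀ t, ψ t = 1 → t = 0) :
    rhoU ψ n hp hn hψ (-1) = 1 := by
  apply LinearMap.ext
  intro f
  apply Subtype.ext
  rw [rhoU_apply, Mfun_neg_one ψ n f f.2]
  rfl

omit [CharP R 2] in
/-- nontrivial unipotent elements act without nonzero fixed points -/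
theorem fpf_xu (hn : ¬ IsSquare n) (hψ : ∀ t, ψ t = 1 → t = 0) (t : ZMod p) (ht : t ≠ 0)
    (f : ZMod p × ZMod p → R) (hf : f ∈ Usub p R) (hfix : Mfun ψ n (xu t) f = f) : f = 0 := by
  funext x
  by_cases hx : x = 0
  · rw [hx, hf.1]; rfl
  · have h1 := congrFun hfix x
    rw [Mfun_of_eq ψ n (xu t) (by simp)] at h1
    simp only [xu00, xu01, one_mul, one_smul] at h1
    have h2 : (ψ (t * Q n x) - 1) * f x = 0 := by rw [sub_mul, h1, one_mul, sub_self]
    rcases mul_eq_zero.mp h2 with h3 | h3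
    · exfalso
      have h4 := hψ _ (sub_eq_zero.mp h3)
      rcases mul_eq_zero.mp h4 with h5 | h5
      · exact ht h5
      · exact hx (Q_eq_zero hn h5)
    · exact h3

/-- faithfulness modulo `±1` -/
theorem eq_of_Mfun_dl (hp : p ≠ 2) (hp3 : p ≠ 3) (hψ : ∀ t, ψ t = 1 → t = 0) (g : SL(2, ZMod p))
    (h : Mfun ψ n g (dl ((1 : ZMod p), (0 : ZMod p))) = (dl ((1 : ZMod p), (0 : ZMod p)) : _ → R)) :
    g = 1 ∨ g = -1 := by
  have h2 := two_ne_zero' (p := p) hp
  have h3 : (3 : ZMod p) ≠ 0 := by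
    intro h
    have h3 : ((3 : ℕ) : ZMod p) = 0 := by exact_mod_cast h
    rw [ZMod.natCast_eq_zero_iff] at h3
    have := (Nat.prime_dvd_prime_iff_eq (Fact.out : p.Prime) Nat.prime_three).mp h3
    exact hp3 this
  set y0 : ZMod p × ZMod p := ((1 : ZMod p), (0 : ZMod p)) with hy0
  have hy0ne : y0 ≠ 0 := by
    intro h; have := congrArg Prod.fst h; simp [hy0] at this
  have hdet := sl_det g
  by_cases hc : g 1 0 = 0
  · have h1 := congrFun h y0
    rw [Mfun_of_eq ψ n g hc, dl_self hp y0 hy0ne] at h1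
    have hQ : Q n y0 = 1 := by simp [Q, hy0]
    rw [hQ, mul_one] at h1
    have hsm : g 0 0 • y0 = (g 0 0, (0 : ZMod p)) := by simp [hy0]
    rw [hc] at hdet
    by_cases ha1 : g 0 0 = 1
    · left
      have hdl : (dl y0 (g 0 0 • y0) : R) = 1 := by rw [ha1, one_smul, dl_self hp y0 hy0ne]
      rw [hdl, mul_one, ha1, one_mul] at h1
      have hb := hψ _ h1
      apply sl_ext
      · rw [ha1]; rfl
      · rw [hb]; rfl
      · rw [hc]; rfl
      · rw [ha1] at hdet
        have : g 1 1 = 1 := by linear_combination hdet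
        rw [this]; rfl
    · by_cases ha2 : g 0 0 = -1
      · right
        have hdl : (dl y0 (g 0 0 • y0) : R) = 1 := by
          rw [ha2, neg_one_smul]
          have := (dl_mem (R := R) y0 hy0ne).2 y0
          rw [this, dl_self hp y0 hy0ne]
        rw [hdl, mul_one, ha2] at h1
        have hb := hψ _ h1
        have hb' : g 0 1 = 0 := by linear_combination -hb
        apply sl_ext
        · rw [ha2, neg_one_apply00]
        · rw [hb', neg_one_apply01]
        · rw [hc, neg_one_apply10]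
        · rw [ha2] at hdet
          have : g 1 1 = -1 := by linear_combination -hdet
          rw [this, neg_one_apply11]
      · exfalso
        have hdl : (dl y0 (g 0 0 • y0) : R) = 0 := by
          rw [hsm]
          simp only [dl, hy0, Prod.neg_mk, neg_zero, Prod.mk.injEq, and_true]
          rw [if_neg ha1, if_neg ha2, add_zero]
        rw [hdl, mul_zero] at h1
        exact zero_ne_one h1
  · exfalso
    set x : ZMod p × ZMod p := ((2 : ZMod p), (0 : ZMod p)) with hx
    have h1 := congrFun h x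
    rw [Mfun_of_ne ψ n g hc, sum_mul_dl] at h1
    have hdl : (dl y0 x : R) = 0 := by
      simp only [dl, hy0, hx, Prod.neg_mk, neg_zero, Prod.mk.injEq, and_true]
      rw [if_neg, if_neg, add_zero]
      · intro h; apply h3; linear_combination h
      · intro h; apply one_ne_zero (α := ZMod p); linear_combination h
    rw [hdl, CharTwo.add_eq_zero] at h1
    have h4 := psi_inj ψ hψ h1
    rw [Q_neg, B_neg_right] at h4
    have hB : B n x y0 = 4 := by simp [B, hx, hy0]; norm_num
    rw [hB] at h4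
    field_simp at h4
    have h5 : (2 : ZMod p) ^ 3 = 0 := by linear_combination -h4
    exact h2 (pow_eq_zero_iff (by norm_num) |>.mp h5)

end

end Cfsg.Agent.Lib.Helper19.Weil
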