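import Mathlib
import Cfsg.Agent.Lib.Helper19.WeilB

set_option autoImplicit false

/-!
# The nonsplit torus acting in the Weil representation
-/

namespace Cfsg.Agent.Lib.Helper19.Weil

open Matrix Cfsg.Agent.Lib.helper6.SL2Conc
open scoped MatrixGroups

variable {p : ℕ} [Fact p.Prime] (n : ZMod p)

/-- the regular representation of the quadratic algebra -/
def torM : QuadraticAlgebra (ZMod p) n 0 →* Matrix (Fin 2) (Fin 2) (ZMod p) :=
  { toFun := fun w => !![w.re, n * w.im; w.im, w.re]
    map_one' := by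
      rw [Matrix.one_fin_two]
      simp [QuadraticAlgebra.re_one, QuadraticAlgebra.im_one]
    map_mul' := by
      intro z w
      rw [Matrix.mul_fin_two]
      simp only [QuadraticAlgebra.re_mul, QuadraticAlgebra.im_mul]
      congr 1
      · ext i j
        fin_cases i <;> fin_cases j <;> simp <;> ring }

theorem torM_apply (w : QuadraticAlgebra (ZMod p) n 0) :
    torM n w = !![w.re, n * w.im; w.im, w.re] := rfl

theorem det_torM (w : QuadraticAlgebra (ZMod p) n 0) :
    (torM n w).det = QuadraticAlgebra.norm w := by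
  rw [torM_apply, Matrix.det_fin_two_of, QuadraticAlgebra.norm_def]
  ring

/-- elements of norm one give elements of `SL₂` -/
def tor (w : QuadraticAlgebra (ZMod p) n 0) (hw : QuadraticAlgebra.norm w = 1) : SL(2, ZMod p) :=
  ⟨torM n w, by rw [det_torM, hw]⟩

@[simp] theorem tor00 (w : QuadraticAlgebra (ZMod p) n 0) (hw : QuadraticAlgebra.norm w = 1) :
    (tor n w hw) 0 0 = w.re := rfl
@[simp] theorem tor01 (w : QuadraticAlgebra (ZMod p) n 0) (hw : QuadraticAlgebra.norm w = 1) :
    (tor n w hw) 0 1 = n * w.im := rfl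
@[simp] theorem tor10 (w : QuadraticAlgebra (ZMod p) n 0) (hw : QuadraticAlgebra.norm w = 1) :
    (tor n w hw) 1 0 = w.im := rfl
@[simp] theorem tor11 (w : QuadraticAlgebra (ZMod p) n 0) (hw : QuadraticAlgebra.norm w = 1) :
    (tor n w hw) 1 1 = w.re := rfl

theorem tor_pow (w : QuadraticAlgebra (ZMod p) n 0) (hw : QuadraticAlgebra.norm w = 1) (i : ℕ) :
    (tor n w hw) ^ i = tor n (w ^ i) (by rw [map_pow, hw, one_pow]) := by
  apply Subtype.ext
  rw [Matrix.SpecialLinearGroup.coe_pow]
  show (torM n w) ^ i = torM n (w ^ i)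
  rw [map_pow]

theorem tor_eq_one_iff (w : QuadraticAlgebra (ZMod p) n 0) (hw : QuadraticAlgebra.norm w = 1) :
    tor n w hw = 1 ↔ w = 1 := by
  constructor
  · intro h
    have h0 := congrArg (fun g : SL(2, ZMod p) => g 0 0) h
    have h1 := congrArg (fun g : SL(2, ZMod p) => g 1 0) h
    simp only [tor00, tor10] at h0 h1
    apply QuadraticAlgebra.ext
    · rw [h0]; rfl
    · rw [h1]; rfl
  · rintro rfl
    apply sl_ext
    · rfl
    · show n * (0 : ZMod p) = 0
      rw [mul_zero]
    · rfl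
    · rfl

theorem exists_torus_gen [Fact (∀ r : ZMod p, r ^ 2 ≠ n + 0 * r)] :
    ∃ z : QuadraticAlgebra (ZMod p) n 0, QuadraticAlgebra.norm z = 1 ∧ orderOf z = p + 1 := by
  classical
  let _ : Fintype (QuadraticAlgebra (ZMod p) n 0) :=
    Fintype.ofEquiv _ (QuadraticAlgebra.equivProd n 0).symm
  have hcard : Fintype.card (QuadraticAlgebra (ZMod p) n 0) = p * p := by
    rw [Fintype.card_congr (QuadraticAlgebra.equivProd n 0), Fintype.card_prod, ZMod.card]
  obtain ⟨θ, hθ⟩ := IsCyclic.exists_generator (α := (QuadraticAlgebra (ZMod p) n 0)ˣ)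
  have hord : orderOf θ = p * p - 1 := by
    rw [orderOf_eq_card_of_forall_mem_zpowers hθ, Nat.card_eq_fintype_card, Fintype.card_units, hcard]
  have hp2 := (Fact.out : p.Prime).two_le
  have hpp : p * p - 1 = (p - 1) * (p + 1) := by
    have : p * p = (p - 1) * (p + 1) + 1 := by
      obtain ⟨k, rfl⟩ : ∃ k, p = k + 1 := ⟨p - 1, by omega⟩
      simp only [Nat.add_sub_cancel]; ring
    omega
  refine ⟨((θ ^ (p - 1) : (QuadraticAlgebra (ZMod p) n 0)ˣ) : QuadraticAlgebra (ZMod p) n 0), ?_, ?_⟩
  · rw [Units.val_pow_eq_pow_val, map_pow]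
    apply ZMod.pow_card_sub_one_eq_one
    intro h0
    have h1 : QuadraticAlgebra.norm ((θ : QuadraticAlgebra (ZMod p) n 0)) *
        QuadraticAlgebra.norm ((θ⁻¹ : (QuadraticAlgebra (ZMod p) n 0)ˣ) : QuadraticAlgebra (ZMod p) n 0) = 1 := by
      rw [← map_mul, ← Units.val_mul, mul_inv_cancel, Units.val_one, map_one]
    rw [h0, zero_mul] at h1
    exact zero_ne_one h1
  · rw [orderOf_units, orderOf_pow' θ (by omega), hord, hpp, Nat.gcd_eq_right (Dvd.intro _ rfl)]
    exact Nat.mul_div_cancel_left _ (by omega)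

/-- the form `Q` represents every element -/
theorem exists_Q_eq (hp : p ≠ 2) (hn0 : n ≠ 0) (r : ZMod p) : ∃ v : ZMod p × ZMod p, Q n v = r := by
  classical
  have hodd : p % 2 = 1 := by
    rcases (Fact.out : p.Prime).eq_two_or_odd with h | h
    · exact absurd h hp
    · exact h
  have hf : (Polynomial.X ^ 2 - Polynomial.C r : Polynomial (ZMod p)).degree = 2 :=
    Polynomial.degree_X_pow_sub_C (by norm_num) r
  have hg : (Polynomial.C (-n) * Polynomial.X ^ 2 : Polynomial (ZMod p)).degree = 2 := by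
    rw [Polynomial.degree_C_mul_X_pow 2 (neg_ne_zero.mpr hn0)]; rfl
  obtain ⟨a, b, hab⟩ := FiniteField.exists_root_sum_quadratic hf hg (by rw [ZMod.card]; exact hodd)
  refine ⟨(a, b), ?_⟩
  simp only [Polynomial.eval_sub, Polynomial.eval_pow, Polynomial.eval_X, Polynomial.eval_C,
    Polynomial.eval_mul] at hab
  simp only [Q]
  linear_combination hab

/-- the rational parametrisation of the conic -/
theorem param_identity (hp : p ≠ 2) (hn0 : n ≠ 0) (s t : ZMod p) (hst : s * s + 0 * s * t - n * t * t = 1) (ht : t ≠ 0) :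
    1 + s ≠ 0 ∧ (s * (1 + n) - (1 - n)) / (2 * t) = n * (t / (1 + s) + (t / (1 + s))⁻¹) / 2 := by
  have h2 := two_ne_zero' (p := p) hp
  have hs : 1 + s ≠ 0 := by
    intro h
    have hs' : s = -1 := by linear_combination h
    rw [hs'] at hst
    have h3 : n * t * t = 0 := by linear_combination -hst
    rcases mul_eq_zero.mp h3 with h4 | h4
    · rcases mul_eq_zero.mp h4 with h5 | h5
      · exact hn0 h5
      · exact ht h5
    · exact ht h4
  refine ⟨hs, ?_⟩
  rw [inv_div]
  field_simp
  linear_combination (1) * hst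

/-- injectivity of the parameter -/
theorem lam_inj (hn : ¬ IsSquare n) (s t s' t' : ZMod p)
    (h : s * s + 0 * s * t - n * t * t = 1) (h' : s' * s' + 0 * s' * t' - n * t' * t' = 1)
    (hs : 1 + s ≠ 0) (hs' : 1 + s' ≠ 0) (hl : t / (1 + s) = t' / (1 + s')) : s = s' ∧ t = t' := by
  obtain ⟨l, hl0⟩ : ∃ l, l = t / (1 + s) := ⟨_, rfl⟩
  have ht : t = l * (1 + s) := by rw [hl0]; field_simp
  have ht' : t' = l * (1 + s') := by rw [hl0, hl]; field_simp
  subst ht ht'
  have e1 : (1 + s) * ((s - 1) - n * l ^ 2 * (1 + s)) = 0 := by linear_combination h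
  have e2 : (1 + s') * ((s' - 1) - n * l ^ 2 * (1 + s')) = 0 := by linear_combination h'
  have e1' := (mul_eq_zero.mp e1).resolve_left hs
  have e2' := (mul_eq_zero.mp e2).resolve_left hs'
  have hnl : 1 - n * l ^ 2 ≠ 0 := by
    intro h0
    apply hn
    have hl1 : l ≠ 0 := by
      rintro rfl
      simp at h0
    refine ⟨l⁻¹, ?_⟩
    field_simp
    linear_combination -h0
  have e3 : (s - s') * (1 - n * l ^ 2) = 0 := by linear_combination e1' - e2'
  have e4 : s = s' := sub_eq_zero.mp ((mul_eq_zero.mp e3).resolve_right hnl)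
  exact ⟨e4, by rw [e4]⟩

theorem ne_zero_of_not_isSquare {n : ZMod p} (hn : ¬ IsSquare n) : n ≠ 0 := by
  rintro rfl
  exact hn ⟨0, by simp⟩

theorem ne_one_of_not_isSquare {n : ZMod p} (hn : ¬ IsSquare n) : n ≠ 1 := by
  rintro rfl
  exact hn ⟨1, by simp⟩

section normone

variable {n}

theorem im_ne_zero_of_norm (w : QuadraticAlgebra (ZMod p) n 0) (hw : QuadraticAlgebra.norm w = 1)
    (h1 : w ≠ 1) (h2 : w ≠ -1) : w.im ≠ 0 := by
  intro h
  rw [QuadraticAlgebra.norm_def, h] at hw
  have h3 : (w.re - 1) * (w.re + 1) = 0 := by linear_combination hw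
  rcases mul_eq_zero.mp h3 with h4 | h4
  · apply h1
    apply QuadraticAlgebra.ext
    · rw [sub_eq_zero.mp h4]; rfl
    · rw [h]; rfl
  · apply h2
    apply QuadraticAlgebra.ext
    · rw [QuadraticAlgebra.re_neg]
      have : w.re = -1 := by linear_combination h4
      rw [this]; rfl
    · rw [QuadraticAlgebra.im_neg, h]
      show (0 : ZMod p) = -0
      rw [neg_zero]

theorem one_add_re_ne_zero (hn0 : n ≠ 0) (w : QuadraticAlgebra (ZMod p) n 0)
    (hw : QuadraticAlgebra.norm w = 1) (h2 : w ≠ -1) : 1 + w.re ≠ 0 := by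
  intro h
  have hs : w.re = -1 := by linear_combination h
  rw [QuadraticAlgebra.norm_def, hs] at hw
  have h3 : n * w.im * w.im = 0 := by linear_combination -hw
  have him : w.im = 0 := by
    rcases mul_eq_zero.mp h3 with h4 | h4
    · rcases mul_eq_zero.mp h4 with h5 | h5
      · exact absurd h5 hn0
      · exact h5
    · exact h4
  apply h2
  apply QuadraticAlgebra.ext
  · rw [QuadraticAlgebra.re_neg, hs]; rfl
  · rw [QuadraticAlgebra.im_neg, him]
    show (0 : ZMod p) = -0
    rw [neg_zero]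

end normone

section

variable {R : Type*} [CommRing R] (ψ : AddChar (ZMod p) R)

/-- the summand of the Kloosterman sum -/
noncomputable def phi (l : ZMod p) : R := ψ (n * (l + l⁻¹) / 2)

/-- the parameter of a point of the conic -/
noncomputable def lam (w : QuadraticAlgebra (ZMod p) n 0) : ZMod p := w.im / (1 + w.re)

open Classical in
/-- the contribution of a torus element -/
noncomputable def Gf (w : QuadraticAlgebra (ZMod p) n 0) : R :=
  if w = 1 ∨ w = -1 then 0 else phi n ψ (lam n w)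

theorem tor_neg_one (h : QuadraticAlgebra.norm (-1 : QuadraticAlgebra (ZMod p) n 0) = 1) :
    tor n (-1) h = -1 := by
  apply sl_ext
  · rw [tor00, neg_one_apply00]; rfl
  · rw [tor01, neg_one_apply01]
    show n * (-0 : ZMod p) = 0
    rw [neg_zero, mul_zero]
  · rw [tor10, neg_one_apply10]
    show (-0 : ZMod p) = 0
    rw [neg_zero]
  · rw [tor11, neg_one_apply11]; rfl

theorem Mfun_tor_dl (hp : p ≠ 2) (hn : ¬ IsSquare n) (w : QuadraticAlgebra (ZMod p) n 0)
    (hw : QuadraticAlgebra.norm w = 1) (x y0 : ZMod p × ZMod p) (hplus : Q n (x + y0) = 1)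
    (hminus : Q n (x - y0) = n) :
    Mfun ψ n (tor n w hw) (dl y0) x = Gf n ψ w + Gf n ψ (-w) := by
  have hn0 := ne_zero_of_not_isSquare hn
  have hn1 := ne_one_of_not_isSquare hn
  have h2 := two_ne_zero' (p := p) hp
  have hy0 : y0 ≠ 0 := by
    rintro rfl
    rw [add_zero] at hplus
    rw [sub_zero, hplus] at hminus
    exact hn1 hminus.symm
  have hx1 : x ≠ y0 := by
    rintro rfl
    rw [sub_self, Q_zero] at hminus
    exact hn0 hminus.symm
  have hx2 : x ≠ -y0 := by
    rintro rfl
    rw [neg_add_cancel, Q_zero] at hplus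
    exact zero_ne_one hplus
  have hdl : (dl y0 x : R) = 0 := by
    simp only [dl]
    rw [if_neg hx1, if_neg hx2, add_zero]
  have hneg1 : (-1 : QuadraticAlgebra (ZMod p) n 0) ≠ 1 := by
    intro h
    have := congrArg QuadraticAlgebra.re h
    rw [QuadraticAlgebra.re_neg] at this
    have h3 : (-1 : ZMod p) = 1 := this
    apply h2
    linear_combination -h3
  by_cases h1 : w = 1
  · subst h1
    rw [(tor_eq_one_iff n 1 hw).mpr rfl, Mfun_one, hdl, Gf, Gf, if_pos (Or.inl rfl),
      if_pos (Or.inr rfl), add_zero]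
  by_cases hm1 : w = -1
  · subst hm1
    rw [tor_neg_one, Mfun_neg_one ψ n _ (dl_mem y0 hy0), hdl, Gf, Gf, if_pos (Or.inr rfl),
      if_pos (Or.inl (neg_neg 1)), add_zero]
  have hw' : QuadraticAlgebra.norm (-w) = 1 := by rw [QuadraticAlgebra.norm_neg, hw]
  have hnw1 : -w ≠ 1 := fun h => hm1 (by rw [← h, neg_neg])
  have hnw2 : -w ≠ -1 := fun h => h1 (neg_inj.mp h)
  have ht := im_ne_zero_of_norm w hw h1 hm1
  rw [Gf, Gf, if_neg (not_or.mpr ⟨h1, hm1⟩), if_neg (not_or.mpr ⟨hnw1, hnw2⟩)]
  rw [Mfun_of_ne ψ n _ (by rw [tor10]; exact ht), sum_mul_dl, tor00, tor10, tor11]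
  have hA : Q n x + Q n y0 + B n x y0 = 1 := by rw [← Q_add]; exact hplus
  have hB : Q n x + Q n y0 - B n x y0 = n := by rw [← Q_sub]; exact hminus
  rw [QuadraticAlgebra.norm_def] at hw hw'
  congr 1
  · rw [phi, lam, ← (param_identity n hp hn0 _ _ hw ht).2]
    congr 1
    field_simp
    linear_combination (w.re - 1) * hA + (w.re + 1) * hB
  · rw [phi, lam, ← (param_identity n hp hn0 _ _ hw' (by rw [QuadraticAlgebra.im_neg]; exact neg_ne_zero.mpr ht)).2]
    congr 1
    rw [Q_neg, B_neg_right, QuadraticAlgebra.re_neg, QuadraticAlgebra.im_neg]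
    field_simp
    linear_combination (w.re + 1) * hA + (w.re - 1) * hB

/-- the Kloosterman sum in characteristic two -/
theorem sum_phi [CharP R 2] (hp : p ≠ 2) :
    ∑ l ∈ (Finset.univ.erase (0 : ZMod p)), phi n ψ l = ψ n + ψ (-n) := by
  classical
  have h2 := two_ne_zero' (p := p) hp
  have h1m : (1 : ZMod p) ≠ -1 := by
    intro h
    apply h2
    linear_combination h
  have hmem1 : (1 : ZMod p) ∈ Finset.univ.erase (0 : ZMod p) :=
    Finset.mem_erase.mpr ⟨one_ne_zero, Finset.mem_univ _⟩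
  have hmem2 : (-1 : ZMod p) ∈ (Finset.univ.erase (0 : ZMod p)).erase 1 :=
    Finset.mem_erase.mpr ⟨fun h => h1m h.symm,
      Finset.mem_erase.mpr ⟨neg_ne_zero.mpr one_ne_zero, Finset.mem_univ _⟩⟩
  rw [← Finset.add_sum_erase _ _ hmem1, ← Finset.add_sum_erase _ _ hmem2]
  have hrest : ∑ l ∈ ((Finset.univ.erase (0 : ZMod p)).erase 1).erase (-1), phi n ψ l = 0 := by
    refine Finset.sum_involution (fun l _ => l⁻¹) ?_ ?_ ?_ ?_
    · intro l _
      have : phi n ψ l⁻¹ = phi n ψ l := by
        rw [phi, phi, inv_inv, add_comm]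
      rw [this]
      exact CharTwo.add_self_eq_zero _
    · intro l hl _ hfix
      simp only [Finset.mem_erase, Finset.mem_univ, and_true] at hl
      obtain ⟨hl1, hl2, hl0⟩ := hl
      have h3 : l * l = 1 := by
        have := mul_inv_cancel₀ hl0
        rw [hfix] at this
        exact this
      rcases mul_self_eq_one_iff.mp h3 with h | h
      · exact hl2 h
      · exact hl1 h
    · intro l hl
      simp only [Finset.mem_erase, Finset.mem_univ, and_true] at hl ⊢
      obtain ⟨hl1, hl2, hl0⟩ := hl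
      refine ⟨?_, ?_, inv_ne_zero hl0⟩
      · intro h
        apply hl1
        rw [← inv_inv l, h]
        norm_num
      · intro h
        apply hl2
        rw [← inv_inv l, h, inv_one]
    · intro l _
      exact inv_inv l
  rw [hrest, add_zero]
  congr 1
  · rw [phi]
    congr 1
    field_simp
    norm_num
  · rw [phi]
    congr 1
    field_simp
    norm_num

theorem nonsplit_norm [CharP R 2] (hp : p ≠ 2) (hn : ¬ IsSquare n)
    [Fact (∀ r : ZMod p, r ^ 2 ≠ n + 0 * r)]
    (z : QuadraticAlgebra (ZMod p) n 0) (hz : QuadraticAlgebra.norm z = 1) (hord : orderOf z = p + 1)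
    (x y0 : ZMod p × ZMod p) (hplus : Q n (x + y0) = 1) (hminus : Q n (x - y0) = n) :
    (∑ i ∈ Finset.range ((p + 1) / 2), Mfun ψ n ((tor n z hz) ^ i) (dl y0)) x = ψ n + ψ (-n) := by
  classical
  have hn0 := ne_zero_of_not_isSquare hn
  have hodd : p % 2 = 1 := by
    rcases (Fact.out : p.Prime).eq_two_or_odd with h | h
    · exact absurd h hp
    · exact h
  have hp2 := (Fact.out : p.Prime).two_le
  set e := (p + 1) / 2 with he
  have h2e : e + e = p + 1 := by omega
  have hepos : 0 < e := by omega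
  -- `z ^ e = -1`
  have hze : z ^ e = -1 := by
    have h1 : z ^ e * z ^ e = 1 := by rw [← pow_add, h2e, ← hord, pow_orderOf_eq_one]
    rcases mul_self_eq_one_iff.mp h1 with h | h
    · exfalso
      have := orderOf_dvd_of_pow_eq_one h
      rw [hord] at this
      have := Nat.le_of_dvd hepos this
      omega
    · exact h
  have hpow1 : ∀ j, j < e + e → (z ^ j = 1 ↔ j = 0) := by
    intro j hj
    constructor
    · intro h
      have := orderOf_dvd_of_pow_eq_one h
      rw [hord, ← h2e] at this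
      rcases Nat.eq_zero_or_pos j with h0 | h0
      · exact h0
      · have := Nat.le_of_dvd h0 this
        omega
    · rintro rfl; exact pow_zero z
  have hpowm1 : ∀ j, j < e + e → (z ^ j = -1 ↔ j = e) := by
    intro j hj
    constructor
    · intro h
      rw [← hze] at h
      exact pow_injOn_Iio_orderOf (x := z) (by rw [Set.mem_Iio, hord]; omega)
        (by rw [Set.mem_Iio, hord]; omega) h
    · rintro rfl; exact hze
  have hnormpow : ∀ j, QuadraticAlgebra.norm (z ^ j) = 1 := by
    intro j; rw [map_pow, hz, one_pow]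
  rw [Finset.sum_apply]
  have step1 : ∀ i ∈ Finset.range e,
      Mfun ψ n ((tor n z hz) ^ i) (dl y0) x = Gf n ψ (z ^ i) + Gf n ψ (z ^ (e + i)) := by
    intro i _
    rw [tor_pow, Mfun_tor_dl n ψ hp hn _ _ x y0 hplus hminus, pow_add, hze, neg_one_mul]
  rw [Finset.sum_congr rfl step1, Finset.sum_add_distrib,
    ← Finset.sum_range_add (fun j => Gf n ψ (z ^ j)) e e]
  -- restrict to the indices with `z ^ j ≠ ± 1`
  set J : Finset ℕ := ((Finset.range (e + e)).erase 0).erase e with hJ
  have hJmem : ∀ j, j ∈ J ↔ j < e + e ∧ j ≠ 0 ∧ j ≠ e := by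
    intro j
    simp only [hJ, Finset.mem_erase, Finset.mem_range]
    tauto
  have hsumJ : ∑ j ∈ Finset.range (e + e), Gf n ψ (z ^ j) = ∑ j ∈ J, phi n ψ (lam n (z ^ j)) := by
    have hsub : J ⊆ Finset.range (e + e) := by
      intro j hj
      rw [Finset.mem_range]
      exact ((hJmem j).mp hj).1
    rw [← Finset.sum_subset hsub]
    · refine Finset.sum_congr rfl (fun j hj => ?_)
      obtain ⟨h1, h2, h3⟩ := (hJmem j).mp hj
      rw [Gf, if_neg]
      rw [hpow1 j h1, hpowm1 j h1]
      tauto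
    · intro j hj hjJ
      rw [Finset.mem_range] at hj
      rw [Gf, if_pos]
      rw [hpow1 j hj, hpowm1 j hj]
      by_contra hcon
      apply hjJ
      rw [hJmem]
      tauto
  rw [hsumJ]
  -- reparametrise
  have hinj : Set.InjOn (fun j => lam n (z ^ j)) (J : Set ℕ) := by
    intro j hj j' hj' hjj
    obtain ⟨h1, h2, h3⟩ := (hJmem j).mp hj
    obtain ⟨h1', h2', h3'⟩ := (hJmem j').mp hj'
    have hw1 : z ^ j ≠ -1 := fun h => h3 ((hpowm1 j h1).mp h)
    have hw1' : z ^ j' ≠ -1 := fun h => h3' ((hpowm1 j' h1').mp h)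
    have hn1 := hnormpow j
    have hn1' := hnormpow j'
    have := lam_inj n hn _ _ _ _ (by rw [← QuadraticAlgebra.norm_def]; exact hn1)
      (by rw [← QuadraticAlgebra.norm_def]; exact hn1')
      (one_add_re_ne_zero hn0 _ hn1 hw1) (one_add_re_ne_zero hn0 _ hn1' hw1') hjj
    have hzz : z ^ j = z ^ j' := QuadraticAlgebra.ext this.1 this.2
    exact pow_injOn_Iio_orderOf (x := z) (by rw [Set.mem_Iio, hord]; omega)
      (by rw [Set.mem_Iio, hord]; omega) hzz
  have himage : J.image (fun j => lam n (z ^ j)) = Finset.univ.erase (0 : ZMod p) := by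
    apply Finset.eq_of_subset_of_card_le
    · intro l hl
      rw [Finset.mem_image] at hl
      obtain ⟨j, hj, rfl⟩ := hl
      obtain ⟨h1, h2, h3⟩ := (hJmem j).mp hj
      rw [Finset.mem_erase]
      refine ⟨?_, Finset.mem_univ _⟩
      have hw0 : z ^ j ≠ 1 := fun h => h2 ((hpow1 j h1).mp h)
      have hw1 : z ^ j ≠ -1 := fun h => h3 ((hpowm1 j h1).mp h)
      exact div_ne_zero (im_ne_zero_of_norm _ (hnormpow j) hw0 hw1)
        (one_add_re_ne_zero hn0 _ (hnormpow j) hw1)
    · rw [Finset.card_image_of_injOn hinj, Finset.card_erase_of_mem (Finset.mem_univ _),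
        Finset.card_univ, ZMod.card, hJ, Finset.card_erase_of_mem, Finset.card_erase_of_mem,
        Finset.card_range]
      · omega
      · rw [Finset.mem_range]; omega
      · rw [Finset.mem_erase, Finset.mem_range]; omega
  rw [← sum_phi n ψ hp, ← himage, Finset.sum_image hinj]

end

end Cfsg.Agent.Lib.Helper19.Weil
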