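import Mathlib
import Cfsg.Agent.Lib.helper6.SL2Gen
import Cfsg.Agent.Lib.Helper19.PGL2SpecA

set_option autoImplicit false

/-!
# Elements of `SL₂(p)`: trichotomy
-/

namespace Cfsg.Agent.Lib.Helper19.Weil

open Matrix Cfsg.Agent.Lib.helper6.SL2Conc Cfsg.Agent.Lib.Helper19.PGL2Spec
open scoped MatrixGroups

section

variable {F : Type*} [Field F]

/-- the only involution of `SL₂` in odd characteristic is `-1` -/
theorem eq_one_or_neg_one_of_sq (h2 : (2 : F) ≠ 0) (y : SL(2, F)) (hy : y * y = 1) :
    y = 1 ∨ y = -1 := by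
  have h1 : (y : Matrix (Fin 2) (Fin 2) F) * (y : Matrix (Fin 2) (Fin 2) F) = 1 := by
    rw [← Matrix.SpecialLinearGroup.coe_mul, hy, Matrix.SpecialLinearGroup.coe_one]
  have hch := ch2 (y : Matrix (Fin 2) (Fin 2) F)
  rw [h1, y.2, one_smul, Matrix.trace_fin_two] at hch
  -- `2 = τ y`
  have e00 := congrFun (congrFun hch 0) 0
  have e01 := congrFun (congrFun hch 0) 1
  have e10 := congrFun (congrFun hch 1) 0
  have e11 := congrFun (congrFun hch 1) 1
  simp only [Matrix.one_apply_eq, Matrix.sub_apply, Matrix.smul_apply, smul_eq_mul] at e00 e11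
  simp only [Matrix.sub_apply, Matrix.smul_apply, smul_eq_mul, ne_eq, zero_ne_one,
    not_false_eq_true, one_ne_zero, Matrix.one_apply_ne, sub_zero] at e01 e10
  have hdet := sl_det y
  set a := y 0 0
  set b := y 0 1
  set c := y 1 0
  set d := y 1 1
  have hτ : a + d ≠ 0 := by
    intro h
    rw [h, zero_mul] at e00
    apply h2
    linear_combination e00
  have hb : b = 0 := by
    rcases mul_eq_zero.mp e01.symm with h | h
    · exact absurd h hτ
    · exact h
  have hc : c = 0 := by
    rcases mul_eq_zero.mp e10.symm with h | h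
    · exact absurd h hτ
    · exact h
  rw [hb, zero_mul, sub_zero] at hdet
  have had : a = d := by
    have h3 : (a + d) * (a - d) = 0 := by linear_combination e11 - e00
    rcases mul_eq_zero.mp h3 with h | h
    · exact absurd h hτ
    · exact sub_eq_zero.mp h
  rw [← had] at hdet
  have h4 : (a - 1) * (a + 1) = 0 := by linear_combination hdet
  rcases mul_eq_zero.mp h4 with h | h
  · left
    have ha : a = 1 := sub_eq_zero.mp h
    apply sl_ext
    · exact ha
    · exact hb
    · exact hc
    · show d = 1
      rw [← had, ha]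
  · right
    have ha : a = -1 := by linear_combination h
    apply sl_ext
    · rw [neg_one_apply00]; exact ha
    · rw [neg_one_apply01]; exact hb
    · rw [neg_one_apply10]; exact hc
    · rw [neg_one_apply11]; show d = -1
      rw [← had, ha]

/-- conjugating a nontrivial element of trace two into the upper unitriangular group -/
theorem exists_conj_xu (g : SL(2, F)) (htr : g 0 0 + g 1 1 = 2) (hne : g ≠ 1) :
    ∃ (h : SL(2, F)) (t : F), t ≠ 0 ∧ g = h * xu t * h⁻¹ := by
  have hdet := sl_det g
  by_cases hc : g 1 0 = 0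
  · rw [hc, mul_zero, sub_zero] at hdet
    have ha : g 0 0 = 1 := by
      have h3 : (g 0 0 - 1) ^ 2 = 0 := by
        have : g 1 1 = 2 - g 0 0 := by linear_combination htr
        rw [this] at hdet
        linear_combination -hdet
      exact sub_eq_zero.mp (pow_eq_zero_iff (by norm_num) |>.mp h3)
    have hd : g 1 1 = 1 := by rw [ha] at hdet; linear_combination hdet
    have hg : g = xu (g 0 1) := by
      apply sl_ext
      · rw [ha]; rfl
      · rfl
      · rw [hc]; rfl
      · rw [hd]; rfl
    refine ⟨1, g 0 1, ?_, ?_⟩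
    · intro hb
      apply hne
      rw [hg, hb, xu_zero]
    · rw [one_mul, inv_one, mul_one]; exact hg
  · let h : SL(2, F) := ⟨!![g 0 0 - 1, -(g 1 0)⁻¹; g 1 0, 0], by
      rw [Matrix.det_fin_two_of]; field_simp; ring⟩
    have h00 : h 0 0 = g 0 0 - 1 := rfl
    have h01 : h 0 1 = -(g 1 0)⁻¹ := rfl
    have h10 : h 1 0 = g 1 0 := rfl
    have h11 : h 1 1 = 0 := rfl
    refine ⟨h, -(g 1 0)⁻¹, ?_, ?_⟩
    · exact neg_ne_zero.mpr (inv_ne_zero hc)
    · have hd : g 1 1 = 2 - g 0 0 := by linear_combination htr
      rw [hd] at hdet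
      apply sl_ext
      · rw [mul_apply00, mul_apply00, mul_apply01, inv_apply00, inv_apply10, h00, h01, h10, h11]
        simp only [xu00, xu01, xu10, xu11]
        field_simp
        ring
      · rw [mul_apply01, mul_apply00, mul_apply01, inv_apply01, inv_apply11, h00, h01]
        simp only [xu00, xu01, xu10, xu11]
        field_simp
        linear_combination (-(g 1 0)) * hdet
      · rw [mul_apply10, mul_apply10, mul_apply11, inv_apply00, inv_apply10, h10, h11]
        simp only [xu00, xu01, xu10, xu11]
        field_simp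
        ring
      · rw [mul_apply11, mul_apply10, mul_apply11, inv_apply01, inv_apply11, h00, h01, h10, h11, hd]
        simp only [xu00, xu01, xu10, xu11]
        field_simp
        ring

end

section

variable {p : ℕ} [Fact p.Prime]

theorem two_ne_zero_zmod (hp : p ≠ 2) : (2 : ZMod p) ≠ 0 := by
  intro h
  have h3 : ((2 : ℕ) : ZMod p) = 0 := by exact_mod_cast h
  rw [ZMod.natCast_eq_zero_iff] at h3
  have := Nat.le_of_dvd (by norm_num) h3
  have := (Fact.out : p.Prime).two_le
  omega

theorem odd_of_ne_two (hp : p ≠ 2) : p % 2 = 1 := by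
  rcases (Fact.out : p.Prime).eq_two_or_odd with h | h
  · exact absurd h hp
  · exact h

/-- every element of `SL₂(p)` is, up to sign, of order dividing `(p-1)/2`, `(p+1)/2`, or unipotent -/
theorem trichotomy (hp : p ≠ 2) (g : SL(2, ZMod p)) :
    (g ^ ((p - 1) / 2) = 1 ∨ g ^ ((p - 1) / 2) = -1) ∨
      (g ^ ((p + 1) / 2) = 1 ∨ g ^ ((p + 1) / 2) = -1) ∨
      (g 0 0 + g 1 1 = 2 ∨ g 0 0 + g 1 1 = -2) := by
  have h2 := two_ne_zero_zmod hp
  have hodd := odd_of_ne_two hp
  set M : Matrix (Fin 2) (Fin 2) (ZMod p) := (g : Matrix (Fin 2) (Fin 2) (ZMod p)) with hM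
  have hdetM : M.det = 1 := g.2
  have htrM : M.trace = g 0 0 + g 1 1 := Matrix.trace_fin_two M
  by_cases hroot : ∃ α : ZMod p, α ^ 2 - M.trace * α + M.det = 0
  · obtain ⟨α, hα⟩ := hroot
    set β := M.trace - α with hβ
    have htr : M.trace = α + β := by rw [hβ]; ring
    have hdt : M.det = α * β := by rw [hβ]; linear_combination hα
    by_cases hne : α = β
    · right; right
      rw [← hne, hdetM] at hdt
      have h4 : (α - 1) * (α + 1) = 0 := by linear_combination -hdt
      rw [← htrM, htr, ← hne]
      rcases mul_eq_zero.mp h4 with h | h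
      · left
        have : α = 1 := sub_eq_zero.mp h
        rw [this]; norm_num
      · right
        have : α = -1 := by linear_combination h
        rw [this]; norm_num
    · left
      have hα0 : α ≠ 0 := by rintro rfl; rw [hdetM, zero_mul] at hdt; exact one_ne_zero hdt
      have hβ0 : β ≠ 0 := by intro h; rw [hdetM, h, mul_zero] at hdt; exact one_ne_zero hdt
      have h1 := pow_of_split M α β 1 hne htr hdt (p - 1)
        (ZMod.pow_card_sub_one_eq_one hα0) (ZMod.pow_card_sub_one_eq_one hβ0)
      have h3 : g ^ (p - 1) = 1 := by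
        apply Subtype.ext
        rw [Matrix.SpecialLinearGroup.coe_pow, Matrix.SpecialLinearGroup.coe_one, ← hM, h1, one_smul]
      apply eq_one_or_neg_one_of_sq h2
      rw [← pow_add, ← h3]
      congr 1
      omega
  · right; left
    push Not at hroot
    have h1 := pow_card_succ_of_noroot M hroot
    rw [ZMod.card, hdetM, one_smul] at h1
    have h3 : g ^ (p + 1) = 1 := by
      apply Subtype.ext
      rw [Matrix.SpecialLinearGroup.coe_pow, Matrix.SpecialLinearGroup.coe_one, ← hM, h1]
    apply eq_one_or_neg_one_of_sq h2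
    rw [← pow_add, ← h3]
    congr 1
    omega

/-- unipotent elements have order dividing `p` -/
theorem pow_prime_of_trace_two (g : SL(2, ZMod p)) (htr : g 0 0 + g 1 1 = 2) : g ^ p = 1 := by
  by_cases hne : g = 1
  · rw [hne, one_pow]
  · obtain ⟨h, t, _, hg⟩ := exists_conj_xu g htr hne
    rw [hg, conj_pow, ← xu_nsmul]
    have : p • t = 0 := by
      rw [nsmul_eq_mul, ZMod.natCast_self, zero_mul]
    rw [this, xu_zero, mul_one, mul_inv_cancel]

end

end Cfsg.Agent.Lib.Helper19.Weil
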