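import Mathlib
import Cfsg.Agent.Lib.Helper19.WeilB

set_option autoImplicit false

/-!
# The split torus acting in the Weil representation
-/

namespace Cfsg.Agent.Lib.Helper19.Weil

open Matrix Cfsg.Agent.Lib.helper6.SL2Conc
open scoped MatrixGroups

variable {p : ℕ} [Fact p.Prime]

/-- the diagonal matrices -/
def hdFun (a : (ZMod p)ˣ) : SL(2, ZMod p) :=
  ⟨!![(a : ZMod p), 0; 0, ((a⁻¹ : (ZMod p)ˣ) : ZMod p)], by
    rw [Matrix.det_fin_two_of, zero_mul, sub_zero, ← Units.val_mul, mul_inv_cancel, Units.val_one]⟩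

@[simp] theorem hdFun00 (a : (ZMod p)ˣ) : (hdFun a) 0 0 = (a : ZMod p) := rfl
@[simp] theorem hdFun01 (a : (ZMod p)ˣ) : (hdFun a) 0 1 = 0 := rfl
@[simp] theorem hdFun10 (a : (ZMod p)ˣ) : (hdFun a) 1 0 = 0 := rfl
@[simp] theorem hdFun11 (a : (ZMod p)ˣ) : (hdFun a) 1 1 = ((a⁻¹ : (ZMod p)ˣ) : ZMod p) := rfl

/-- the diagonal torus -/
def hd : (ZMod p)ˣ →* SL(2, ZMod p) :=
  { toFun := hdFun
    map_one' := by
      apply sl_ext
      · rw [hdFun00]; rfl
      · rw [hdFun01]; rfl
      · rw [hdFun10]; rfl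
      · rw [hdFun11, inv_one]; rfl
    map_mul' := by
      intro a b
      apply sl_ext
      · simp only [mul_apply00, hdFun00, hdFun01, hdFun10, Units.val_mul, mul_zero, add_zero]
      · simp only [mul_apply01, hdFun00, hdFun01, hdFun11, mul_zero, zero_mul, add_zero]
      · simp only [mul_apply10, hdFun00, hdFun10, hdFun11, mul_zero, zero_mul, add_zero]
      · simp only [mul_apply11, hdFun01, hdFun10, hdFun11, mul_zero, zero_add]
        rw [← Units.val_mul, ← _root_.mul_inv_rev, mul_comm] }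

@[simp] theorem hd00 (a : (ZMod p)ˣ) : (hd a) 0 0 = (a : ZMod p) := rfl
@[simp] theorem hd01 (a : (ZMod p)ˣ) : (hd a) 0 1 = 0 := rfl
@[simp] theorem hd10 (a : (ZMod p)ˣ) : (hd a) 1 0 = 0 := rfl
@[simp] theorem hd11 (a : (ZMod p)ˣ) : (hd a) 1 1 = ((a⁻¹ : (ZMod p)ˣ) : ZMod p) := rfl

theorem hd_injective : Function.Injective (hd : (ZMod p)ˣ →* SL(2, ZMod p)) := by
  intro a b h
  have := congrArg (fun g : SL(2, ZMod p) => g 0 0) h
  exact Units.ext this

section

variable {R : Type*} [CommRing R] (ψ : AddChar (ZMod p) R) (n : ZMod p)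

theorem Mfun_hd (a : (ZMod p)ˣ) (f : ZMod p × ZMod p → R) (x : ZMod p × ZMod p) :
    Mfun ψ n (hd a) f x = f ((a : ZMod p) • x) := by
  rw [Mfun_of_eq ψ n (hd a) (hd10 a)]
  simp

/-- the norm of a generator of the split torus (modulo `±1`) does not vanish on `Usub` -/
theorem split_norm (hp : p ≠ 2) (γ : (ZMod p)ˣ) (hγ : orderOf γ = p - 1) :
    (∑ i ∈ Finset.range ((p - 1) / 2), Mfun ψ n ((hd γ) ^ i) (dl ((1 : ZMod p), (0 : ZMod p))))
      ((1 : ZMod p), (0 : ZMod p)) = (1 : R) := by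
  have hodd : p % 2 = 1 := by
    rcases (Fact.out : p.Prime).eq_two_or_odd with h | h
    · exact absurd h hp
    · exact h
  have hp3 : 3 ≤ p := by
    have := (Fact.out : p.Prime).two_le
    omega
  set y0 : ZMod p × ZMod p := ((1 : ZMod p), (0 : ZMod p)) with hy0
  have hy0ne : y0 ≠ 0 := by
    intro h; have := congrArg Prod.fst h; simp [hy0] at this
  rw [Finset.sum_apply]
  rw [Finset.sum_eq_single 0]
  · rw [pow_zero, Mfun_one, dl_self hp y0 hy0ne]
  · intro i hi hi0
    rw [← map_pow, Mfun_hd]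
    have hsm : ((γ ^ i : (ZMod p)ˣ) : ZMod p) • y0 = (((γ ^ i : (ZMod p)ˣ) : ZMod p), (0 : ZMod p)) := by
      simp [hy0]
    rw [hsm]
    simp only [dl, hy0, Prod.neg_mk, neg_zero, Prod.mk.injEq, and_true]
    rw [Finset.mem_range] at hi
    have h1 : ((γ ^ i : (ZMod p)ˣ) : ZMod p) ≠ 1 := by
      intro h
      have h' : γ ^ i = 1 := Units.ext h
      have := orderOf_dvd_of_pow_eq_one h'
      rw [hγ] at this
      have := Nat.le_of_dvd (Nat.pos_of_ne_zero hi0) this
      omega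
    have h2 : ((γ ^ i : (ZMod p)ˣ) : ZMod p) ≠ -1 := by
      intro h
      have h' : γ ^ (2 * i) = 1 := by
        apply Units.ext
        rw [mul_comm, pow_mul, Units.val_pow_eq_pow_val, h]
        simp
      have := orderOf_dvd_of_pow_eq_one h'
      rw [hγ] at this
      have := Nat.le_of_dvd (by omega) this
      omega
    rw [if_neg h1, if_neg h2, add_zero]
  · intro h
    exfalso
    apply h
    rw [Finset.mem_range]
    omega

end

end Cfsg.Agent.Lib.Helper19.Weil
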