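import Mathlib
import Cfsg.Agent.Lib.Helper19.WeilC
import Cfsg.Agent.Lib.Helper19.WeilD
import Cfsg.Agent.Lib.Helper19.WeilT
import Cfsg.Agent.Lib.Helper19.WeilSdp

set_option autoImplicit false

/-!
# Assembly: groups isospectral to `PGL₂(p)`
-/

namespace Cfsg.Agent.Lib.Helper19.Weil

open Matrix Cfsg.Agent.Lib.helper6.SL2Conc
open scoped MatrixGroups

variable {p : ℕ} [Fact p.Prime]

section

variable {R : Type*} [CommRing R] [CharP R 2] [IsDomain R] (ψ : AddChar (ZMod p) R) (n : ZMod p)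
  (hp : p ≠ 2) (hn : ¬ IsSquare n) (hψ : ∀ t, ψ t = 1 → t = 0)

theorem rhoU_of_sq (y : SL(2, ZMod p)) (hy : y * y = 1) : rhoU ψ n hp hn hψ y = 1 := by
  rcases eq_one_or_neg_one_of_sq (two_ne_zero_zmod hp) y hy with h | h
  · rw [h, map_one]
  · rw [h, rhoU_neg_one]

theorem rhoU_neg (s : SL(2, ZMod p)) : rhoU ψ n hp hn hψ (-s) = rhoU ψ n hp hn hψ s := by
  rw [← neg_one_mul, map_mul, rhoU_neg_one, one_mul]

/-- the basic vector of `Usub` -/
noncomputable def dlU (y0 : ZMod p × ZMod p) (hy : y0 ≠ 0) : Usub p R := ⟨dl y0, dl_mem y0 hy⟩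

theorem rhoU_ker (hp3 : p ≠ 3) (y : SL(2, ZMod p)) (hy : rhoU ψ n hp hn hψ y = 1) :
    y = 1 ∨ y = -1 := by
  have hy0 : ((1 : ZMod p), (0 : ZMod p)) ≠ 0 := by
    intro h; have := congrArg Prod.fst h; simp at this
  apply eq_of_Mfun_dl ψ n hp hp3 hψ
  have h1 : rhoU ψ n hp hn hψ y (dlU _ hy0) = dlU _ hy0 := by rw [hy]; rfl
  have h2 := congrArg (fun u : Usub p R => (u : ZMod p × ZMod p → R)) h1
  exact h2

theorem rhoU_sq_of_ker (hp3 : p ≠ 3) (y : SL(2, ZMod p)) (hy : rhoU ψ n hp hn hψ y = 1) :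
    y * y = 1 := by
  rcases rhoU_ker ψ n hp hn hψ hp3 y hy with h | h
  · rw [h, one_mul]
  · rw [h, neg_mul_neg, one_mul]

/-- elements of trace two act without fixed points -/
theorem rhoU_fpf_of_trace_two (s : SL(2, ZMod p)) (htr : s 0 0 + s 1 1 = 2) (hne : s ≠ 1)
    (u : Usub p R) (hu : rhoU ψ n hp hn hψ s u = u) : u = 0 := by
  obtain ⟨h, t, ht, hs⟩ := exists_conj_xu s htr hne
  set ρ := rhoU ψ n hp hn hψ with hρ
  have h1 : ρ (xu t) (ρ h⁻¹ u) = ρ h⁻¹ u := by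
    have h2 : ρ h⁻¹ (ρ s u) = ρ h⁻¹ u := by rw [hu]
    rw [hs] at h2
    have h3 : ρ h⁻¹ (ρ (h * xu t * h⁻¹) u) = ρ (h⁻¹ * (h * xu t * h⁻¹)) u := by
      rw [map_mul ρ h⁻¹]; rfl
    rw [h3] at h2
    have h4 : h⁻¹ * (h * xu t * h⁻¹) = xu t * h⁻¹ := by group
    rw [h4, map_mul] at h2
    exact h2
  have h5 : ((ρ h⁻¹ u : Usub p R) : ZMod p × ZMod p → R) = 0 := by
    apply fpf_xu ψ n hn hψ t ht _ (ρ h⁻¹ u).2
    exact congrArg (fun u : Usub p R => (u : ZMod p × ZMod p → R)) h1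
  have h6 : ρ h⁻¹ u = 0 := Subtype.ext h5
  have h7 : ρ h (ρ h⁻¹ u) = u := by
    have : ρ h (ρ h⁻¹ u) = ρ (h * h⁻¹) u := by rw [map_mul]; rfl
    rw [this, mul_inv_cancel, map_one]; rfl
  rw [← h7, h6, map_zero]

/-- hypothesis `H1` of `spec_of_action` -/
theorem rhoU_H1 (s : SL(2, ZMod p)) :
    rhoU ψ n hp hn hψ (s ^ ((p - 1) / 2)) = 1 ∨ rhoU ψ n hp hn hψ (s ^ ((p + 1) / 2)) = 1 ∨
      (rhoU ψ n hp hn hψ (s ^ p) = 1 ∧ ∀ u : Usub p R, rhoU ψ n hp hn hψ s u = u → u = 0) := by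
  rcases trichotomy hp s with (h | h) | (h | h) | (h | h)
  · left; rw [h, map_one]
  · left; rw [h, rhoU_neg_one]
  · right; left; rw [h, map_one]
  · right; left; rw [h, rhoU_neg_one]
  · by_cases hs : s = 1
    · left; rw [hs, one_pow, map_one]
    · right; right
      refine ⟨?_, rhoU_fpf_of_trace_two ψ n hp hn hψ s h hs⟩
      rw [pow_prime_of_trace_two s h, map_one]
  · have htr : (-s) 0 0 + (-s) 1 1 = 2 := by
      have e0 : (-s) 0 0 = - s 0 0 := by
        rw [Matrix.SpecialLinearGroup.coe_neg]; rfl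
      have e1 : (-s) 1 1 = - s 1 1 := by
        rw [Matrix.SpecialLinearGroup.coe_neg]; rfl
      rw [e0, e1]
      linear_combination -h
    by_cases hs : -s = 1
    · left
      have : s = -1 := by rw [← hs, neg_neg]
      rw [map_pow, this, rhoU_neg_one, one_pow]
    · right; right
      constructor
      · rw [map_pow, ← rhoU_neg, ← map_pow, pow_prime_of_trace_two (-s) htr, map_one]
      · intro u hu
        rw [← rhoU_neg] at hu
        exact rhoU_fpf_of_trace_two ψ n hp hn hψ (-s) htr hs u hu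

theorem y0_ne_zero : ((1 : ZMod p), (0 : ZMod p)) ≠ 0 := by
  intro h; have := congrArg Prod.fst h; simp at this

theorem coe_sum_rhoU (s : SL(2, ZMod p)) (u : Usub p R) (k : ℕ) :
    ((∑ i ∈ Finset.range k, rhoU ψ n hp hn hψ (s ^ i) u : Usub p R) : ZMod p × ZMod p → R)
      = ∑ i ∈ Finset.range k, Mfun ψ n (s ^ i) u := by
  rw [Submodule.coe_sum]
  exact Finset.sum_congr rfl (fun i _ => rfl)

/-- hypothesis `H2` of `spec_of_action` -/
theorem rhoU_H2 (hp3 : p ≠ 3) : ∃ (s : SL(2, ZMod p)) (u : Usub p R),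
    rhoU ψ n hp hn hψ (s ^ ((p - 1) / 2)) = 1 ∧
    (∑ i ∈ Finset.range ((p - 1) / 2), rhoU ψ n hp hn hψ (s ^ i) u ≠ 0) ∧
    ∀ j, rhoU ψ n hp hn hψ (s ^ j) = 1 → (p - 1) / 2 ∣ j := by
  classical
  have hodd := odd_of_ne_two hp
  have hp2 := (Fact.out : p.Prime).two_le
  obtain ⟨γ, hγ⟩ := IsCyclic.exists_generator (α := (ZMod p)ˣ)
  have hord : orderOf γ = p - 1 := by
    rw [orderOf_eq_card_of_forall_mem_zpowers hγ, Nat.card_eq_fintype_card, ZMod.card_units]
  have hords : orderOf (hd γ) = p - 1 := by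
    rw [orderOf_injective hd hd_injective, hord]
  refine ⟨hd γ, dlU _ y0_ne_zero, ?_, ?_, ?_⟩
  · apply rhoU_of_sq
    have h1 : hd γ ^ (p - 1) = 1 := by rw [← hords]; exact pow_orderOf_eq_one _
    rw [← pow_add, ← h1]
    congr 1
    omega
  · intro h
    have h1 := congrArg (fun u : Usub p R => (u : ZMod p × ZMod p → R) ((1 : ZMod p), (0 : ZMod p))) h
    simp only [coe_sum_rhoU] at h1
    have h2 := split_norm (R := R) ψ n hp γ hord
    rw [show ((dlU _ y0_ne_zero : Usub p R) : ZMod p × ZMod p → R) = dl ((1 : ZMod p), (0 : ZMod p))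
      from rfl, h2] at h1
    exact one_ne_zero h1
  · intro j hj
    have h1 := rhoU_sq_of_ker ψ n hp hn hψ hp3 _ hj
    rw [← pow_add] at h1
    have h2 := orderOf_dvd_of_pow_eq_one h1
    rw [hords] at h2
    have h3 : (p - 1) / 2 * 2 ∣ j * 2 := by
      have : (p - 1) / 2 * 2 = p - 1 := by omega
      rw [this]
      have : j * 2 = j + j := by ring
      rw [this]; exact h2
    exact Nat.dvd_of_mul_dvd_mul_right (by norm_num) h3

/-- hypothesis `H3` of `spec_of_action` -/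
theorem rhoU_H3 (hp3 : p ≠ 3) : ∃ (s : SL(2, ZMod p)) (u : Usub p R),
    rhoU ψ n hp hn hψ (s ^ ((p + 1) / 2)) = 1 ∧
    (∑ i ∈ Finset.range ((p + 1) / 2), rhoU ψ n hp hn hψ (s ^ i) u ≠ 0) ∧
    ∀ j, rhoU ψ n hp hn hψ (s ^ j) = 1 → (p + 1) / 2 ∣ j := by
  classical
  have hodd := odd_of_ne_two hp
  have hp2 := (Fact.out : p.Prime).two_le
  have h2 := two_ne_zero' (p := p) hp
  have hn0 := ne_zero_of_not_isSquare hn
  have hn1 := ne_one_of_not_isSquare hn
  have : Fact (∀ r : ZMod p, r ^ 2 ≠ n + 0 * r) := ⟨by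
    intro r hr
    apply hn
    exact ⟨r, by rw [← pow_two, hr]; ring⟩⟩
  obtain ⟨z, hz, hord⟩ := exists_torus_gen n
  have hords : orderOf (tor n z hz) = p + 1 := by
    rw [← hord, orderOf_eq_orderOf_iff]
    intro k
    rw [tor_pow, tor_eq_one_iff]
  obtain ⟨v, hv⟩ := exists_Q_eq n hp hn0 n
  set u1 : ZMod p × ZMod p := ((1 : ZMod p), (0 : ZMod p)) with hu1
  have hQu1 : Q n u1 = 1 := by simp [Q, hu1]
  set x : ZMod p × ZMod p := (2 : ZMod p)⁻¹ • (u1 + v) with hx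
  set y0 : ZMod p × ZMod p := (2 : ZMod p)⁻¹ • (u1 - v) with hy0
  have hxp : x + y0 = u1 := by
    rw [hx, hy0, ← smul_add]
    have : u1 + v + (u1 - v) = (2 : ZMod p) • u1 := by rw [two_smul]; abel
    rw [this, smul_smul, inv_mul_cancel₀ h2, one_smul]
  have hxm : x - y0 = v := by
    rw [hx, hy0, ← smul_sub]
    have : u1 + v - (u1 - v) = (2 : ZMod p) • v := by rw [two_smul]; abel
    rw [this, smul_smul, inv_mul_cancel₀ h2, one_smul]
  have hy0ne : y0 ≠ 0 := by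
    intro h
    rw [h, add_zero] at hxp
    rw [h, sub_zero, hxp] at hxm
    rw [← hxm, hQu1] at hv
    exact hn1 hv.symm
  refine ⟨tor n z hz, dlU y0 hy0ne, ?_, ?_, ?_⟩
  · apply rhoU_of_sq
    have h1 : tor n z hz ^ (p + 1) = 1 := by rw [← hords]; exact pow_orderOf_eq_one _
    rw [← pow_add, ← h1]
    congr 1
    omega
  · intro h
    have h1 := congrArg (fun u : Usub p R => (u : ZMod p × ZMod p → R) x) h
    simp only [coe_sum_rhoU] at h1
    have h3 := nonsplit_norm (R := R) n ψ hp hn z hz hord x y0 (by rw [hxp, hQu1]) (by rw [hxm, hv])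
    rw [show ((dlU y0 hy0ne : Usub p R) : ZMod p × ZMod p → R) = dl y0 from rfl, h3] at h1
    have h4 : ψ n = ψ (-n) := CharTwo.add_eq_zero.mp h1
    have h5 := psi_inj ψ hψ h4
    apply hn0
    have h6 : (2 : ZMod p) * n = 0 := by linear_combination h5
    exact (mul_eq_zero.mp h6).resolve_left h2
  · intro j hj
    have h1 := rhoU_sq_of_ker ψ n hp hn hψ hp3 _ hj
    rw [← pow_add] at h1
    have h2 := orderOf_dvd_of_pow_eq_one h1
    rw [hords] at h2
    have h3 : (p + 1) / 2 * 2 ∣ j * 2 := by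
      have : (p + 1) / 2 * 2 = p + 1 := by omega
      rw [this]
      have : j * 2 = j + j := by ring
      rw [this]; exact h2
    exact Nat.dvd_of_mul_dvd_mul_right (by norm_num) h3

/-- hypothesis `H4` of `spec_of_action` -/
theorem rhoU_H4 : ∃ s : SL(2, ZMod p), rhoU ψ n hp hn hψ (s ^ p) = 1 ∧
    ∃ u : Usub p R, rhoU ψ n hp hn hψ s u ≠ u := by
  refine ⟨xu 1, ?_, dlU _ y0_ne_zero, ?_⟩
  · rw [← xu_nsmul]
    have : p • (1 : ZMod p) = 0 := by
      rw [nsmul_eq_mul, ZMod.natCast_self, zero_mul]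
    rw [this, xu_zero, map_one]
  · intro h
    have h1 := congrArg (fun u : Usub p R => (u : ZMod p × ZMod p → R)) h
    have h2 := fpf_xu ψ n hn hψ 1 one_ne_zero _ (dl_mem (R := R) _ y0_ne_zero) h1
    have h3 := congrFun h2 ((1 : ZMod p), (0 : ZMod p))
    rw [dl_self hp _ y0_ne_zero] at h3
    exact one_ne_zero h3

/-- a finite field of characteristic two with an element of order `p` gives a group with the
spectrum of `PGL₂(p)`, of order at least the size of the field -/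
theorem weil_family_of_field (hp5 : 5 ≤ p) (R : Type) [Field R] [Fintype R] [CharP R 2] (ζ : R)
    (hζ : orderOf ζ = p) :
    ∃ (H : Type) (_ : Group H) (_ : Fintype H), Fintype.card R ≤ Fintype.card H ∧
      Set.range (orderOf : H → ℕ) = {k | k ∣ p - 1 ∨ k ∣ p + 1 ∨ k = p} := by
  classical
  have hpP : p.Prime := Fact.out
  have hp : p ≠ 2 := by omega
  have hp3 : p ≠ 3 := by omega
  have hodd := odd_of_ne_two hp
  obtain ⟨n, hn⟩ := FiniteField.exists_nonsquare (F := ZMod p) (by rw [ZMod.ringChar_zmod_n]; exact hp)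
  have hζp : ζ ^ p = 1 := by rw [← hζ]; exact pow_orderOf_eq_one ζ
  let ψ : AddChar (ZMod p) R := AddChar.zmodChar p hζp
  have hψ : ∀ t, ψ t = 1 → t = 0 := by
    intro t ht
    have h1 : ζ ^ t.val = 1 := by rw [← AddChar.zmodChar_apply hζp]; exact ht
    have h2 := orderOf_dvd_of_pow_eq_one h1
    rw [hζ] at h2
    have h3 : t.val = 0 := Nat.eq_zero_of_dvd_of_lt h2 (ZMod.val_lt t)
    exact (ZMod.val_eq_zero t).mp h3
  let U := Usub p R
  let _ : Fintype U := Fintype.ofFinite U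
  let act : DistribMulAction SL(2, ZMod p) U :=
    DistribMulAction.compHom U (rhoU ψ n hp hn hψ)
  have hact : ∀ (s : SL(2, ZMod p)) (u : U), s • u = rhoU ψ n hp hn hψ s u := fun _ _ => rfl
  have hto : ∀ s : SL(2, ZMod p), rhoU ψ n hp hn hψ s = 1 → ∀ u : U, s • u = u := by
    intro s hs u
    rw [hact, hs]; rfl
  have hfrom : ∀ s : SL(2, ZMod p), (∀ u : U, s • u = u) → rhoU ψ n hp hn hψ s = 1 := by
    intro s hs
    apply LinearMap.ext
    intro u
    exact hs u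
  have h2 : ∀ u : U, u + u = 0 := by
    intro u
    apply Subtype.ext
    funext x
    exact CharTwo.add_self_eq_zero _
  have hm : 0 < (p - 1) / 2 := by omega
  have he : 0 < (p + 1) / 2 := by omega
  obtain ⟨H, hG, hF, hcard, hspec⟩ := Cfsg.Agent.Lib.Helper19.WeilSdp.spec_of_action
    SL(2, ZMod p) U h2 p ((p - 1) / 2) ((p + 1) / 2) hpP hm he
    (by
      intro s
      rcases rhoU_H1 ψ n hp hn hψ s with h | h | ⟨h, hf⟩
      · exact Or.inl (hto _ h)
      · exact Or.inr (Or.inl (hto _ h))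
      · exact Or.inr (Or.inr ⟨hto _ h, hf⟩))
    (by
      obtain ⟨s, u, h1, h3, h4⟩ := rhoU_H2 ψ n hp hn hψ hp3
      exact ⟨s, u, hto _ h1, h3, fun j hj => h4 j (hfrom _ hj)⟩)
    (by
      obtain ⟨s, u, h1, h3, h4⟩ := rhoU_H3 ψ n hp hn hψ hp3
      exact ⟨s, u, hto _ h1, h3, fun j hj => h4 j (hfrom _ hj)⟩)
    (by
      obtain ⟨s, h1, u, hu⟩ := rhoU_H4 ψ n hp hn hψ
      exact ⟨s, hto _ h1, u, hu⟩)
  refine ⟨H, hG, hF, ?_, ?_⟩
  · refine le_trans ?_ hcard
    let u0 : U := dlU _ y0_ne_zero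
    apply Fintype.card_le_of_injective (fun r : R => r • u0)
    intro r r' hrr
    have h1 := congrArg (fun u : U => (u : ZMod p × ZMod p → R) ((1 : ZMod p), (0 : ZMod p))) hrr
    have h3 : ((u0 : U) : ZMod p × ZMod p → R) ((1 : ZMod p), (0 : ZMod p)) = 1 :=
      dl_self hp _ y0_ne_zero
    simp only [Submodule.coe_smul, Pi.smul_apply, smul_eq_mul, h3, mul_one] at h1
    exact h1
  · rw [hspec]
    have e1 : 2 * ((p - 1) / 2) = p - 1 := by omega
    have e2 : 2 * ((p + 1) / 2) = p + 1 := by omega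
    rw [e1, e2]

end

/-- For a prime `p ≥ 5` there are arbitrarily large finite groups with the spectrum of `PGL₂(p)`. -/
theorem weil_family (hp5 : 5 ≤ p) (N : ℕ) :
    ∃ (H : Type) (_ : Group H) (_ : Fintype H), N < Fintype.card H ∧
      Set.range (orderOf : H → ℕ) = {k | k ∣ p - 1 ∨ k ∣ p + 1 ∨ k = p} := by
  classical
  have hpP : p.Prime := Fact.out
  have hp2 : p ≠ 2 := by omega
  set m := (p - 1) * (N + 1) with hm
  have hm0 : m ≠ 0 := by
    rw [hm]
    apply Nat.mul_ne_zero <;> omega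
  let R := GaloisField 2 m
  let _ : Fintype R := Fintype.ofFinite R
  have hcardR : Fintype.card R = 2 ^ m := by
    rw [← Nat.card_eq_fintype_card]; exact GaloisField.card 2 m hm0
  -- an element of order `p`
  have hdvd : p ∣ Fintype.card Rˣ := by
    rw [Fintype.card_units, hcardR, ← ZMod.natCast_eq_zero_iff]
    have h2 : (2 : ZMod p) ≠ 0 := two_ne_zero_zmod hp2
    have h3 : (2 : ZMod p) ^ m = 1 := by
      rw [hm, pow_mul, ZMod.pow_card_sub_one_eq_one h2, one_pow]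
    have h4 : 1 ≤ 2 ^ m := Nat.one_le_two_pow
    rw [Nat.cast_sub h4, Nat.cast_pow, Nat.cast_ofNat, h3, Nat.cast_one, sub_self]
  obtain ⟨ζ, hζ⟩ := exists_prime_orderOf_dvd_card p hdvd
  obtain ⟨H, hG, hF, hcard, hspec⟩ := weil_family_of_field hp5 R (ζ : R) (by rw [orderOf_units]; exact hζ)
  refine ⟨H, hG, hF, ?_, hspec⟩
  refine lt_of_lt_of_le ?_ hcard
  rw [hcardR]
  calc N < N + 1 := Nat.lt_succ_self N
    _ ≤ m := by
        rw [hm]
        exact Nat.le_mul_of_pos_left _ (by omega)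
    _ < 2 ^ m := Nat.lt_two_pow_self

end Cfsg.Agent.Lib.Helper19.Weil
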