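import Mathlib
import Cfsg.Prelude.Def_Transfer
import Cfsg.Agent.Lib.Helper10.LargeXS5
import Cfsg.Agent.Lib.Helper19.TransferParity

set_option autoImplicit false

namespace Cfsg.Agent.Lib.Helper19.XSIndexTwo

open Subgroup Cfsg.Agent.Lib.Helper19 Cfsg.Agent.Lib.Helper10.LargeXS

variable {G : Type*} [Group G]

/-- No nontrivial homomorphism to `ℤˣ` when `O^2(G) = G`. -/
theorem hom_units_trivial (hres : Cfsg.pResidual 2 G = ⊤) (ψ : G →* ℤˣ) (g : G) : ψ g = 1 := by
  have hle : Cfsg.pResidual 2 G ≤ ψ.ker := by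
    unfold Cfsg.pResidual
    rw [Subgroup.closure_le]
    intro x hx
    have hx' : Nat.Coprime (orderOf x) 2 := hx
    rw [SetLike.mem_coe, MonoidHom.mem_ker]
    have h1 : ψ x ^ orderOf x = 1 := by rw [← map_pow, pow_orderOf_eq_one, map_one]
    have h2 : ψ x ^ 2 = 1 := by
      rcases Int.units_eq_one_or (ψ x) with h | h <;> rw [h] <;> decide
    have h3 : orderOf (ψ x) ∣ Nat.gcd (orderOf x) 2 :=
      Nat.dvd_gcd (orderOf_dvd_of_pow_eq_one h1) (orderOf_dvd_of_pow_eq_one h2)
    rw [hx'.gcd_eq_one, Nat.dvd_one, orderOf_eq_one_iff] at h3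
    exact h3
  have : g ∈ ψ.ker := hle (by rw [hres]; exact Subgroup.mem_top g)
  exact this

section IndexTwo

variable {H K : Subgroup G} (hKH : K ≤ H) (hK2 : (K.subgroupOf H).index = 2)
include hK2

theorem mul_mem_iff {x y : G} (hx : x ∈ H) (hy : y ∈ H) : x * y ∈ K ↔ (x ∈ K ↔ y ∈ K) := by
  have := Subgroup.mul_mem_iff_of_index_two hK2 (a := ⟨x, hx⟩) (b := ⟨y, hy⟩)
  simpa [mem_subgroupOf] using this

theorem comm_mem {a b : G} (ha : a ∈ H) (hb : b ∈ H) : a * b * a⁻¹ * b⁻¹ ∈ K := by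
  have h1 : signHomOfIndexTwo H (K.subgroupOf H) hK2
      ⟨a * b * a⁻¹ * b⁻¹, H.mul_mem (H.mul_mem (H.mul_mem ha hb) (H.inv_mem ha)) (H.inv_mem hb)⟩ = 1 := by
    have e : (⟨a * b * a⁻¹ * b⁻¹, H.mul_mem (H.mul_mem (H.mul_mem ha hb) (H.inv_mem ha)) (H.inv_mem hb)⟩ : H) =
        ⟨a, ha⟩ * ⟨b, hb⟩ * ⟨a, ha⟩⁻¹ * ⟨b, hb⟩⁻¹ := rfl
    rw [e, map_mul, map_mul, map_mul, map_inv, map_inv, mul_right_comm, mul_inv_cancel_right,
      mul_inv_cancel]
  rw [signHomOfIndexTwo_apply, mem_subgroupOf] at h1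
  exact h1

end IndexTwo

section XSfacts

variable {E : Subgroup G} {z : G}

/-- The centralizer of an element has index at most two. -/
theorem card_le_two_mul (hxs : XS E z) [Finite G] {y : G} (hy : y ∈ E) :
    Nat.card E ≤ 2 * Nat.card (E ⊓ centralizer {y} : Subgroup G) := by
  classical
  by_cases hc : ∀ e ∈ E, e * y = y * e
  · have : E ⊓ centralizer {y} = E := by
      apply le_antisymm inf_le_left
      intro e he
      exact ⟨he, mem_centralizer_singleton_iff.2 (hc e he)⟩
    rw [this]; omega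
  · push Not at hc
    obtain ⟨q, hq, hqy⟩ := hc
    have hqy' : q * y = z * (y * q) := by
      rcases hxs.comm q hq y hy with h | h
      · exact absurd h hqy
      · exact h
    have hsub : (E : Set G) ⊆ ((E ⊓ centralizer {y} : Subgroup G) : Set G) ∪
        (fun c => q * c) '' ((E ⊓ centralizer {y} : Subgroup G) : Set G) := by
      intro e he
      rcases hxs.comm e he y hy with h | h
      · left
        exact ⟨he, mem_centralizer_singleton_iff.2 h⟩
      · right
        refine ⟨q⁻¹ * e, ⟨E.mul_mem (E.inv_mem hq) he, ?_⟩, by simp⟩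
        show q⁻¹ * e ∈ centralizer {y}
        rw [mem_centralizer_singleton_iff]
        exact hxs.inv_mul_comm hq hqy' h
    have h1 := Set.ncard_le_ncard hsub (Set.toFinite _)
    have h2 := Set.ncard_union_le ((E ⊓ centralizer {y} : Subgroup G) : Set G)
      ((fun c => q * c) '' ((E ⊓ centralizer {y} : Subgroup G) : Set G))
    have h3 := Set.ncard_image_le (f := fun c => q * c)
      (s := ((E ⊓ centralizer {y} : Subgroup G) : Set G)) (Set.toFinite _)
    have e1 : Nat.card E = (E : Set G).ncard := (Nat.card_coe_set_eq _)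
    have e2 : Nat.card (E ⊓ centralizer {y} : Subgroup G) =
        ((E ⊓ centralizer {y} : Subgroup G) : Set G).ncard := (Nat.card_coe_set_eq _)
    omega

/-- In a large enough extraspecial group every centralizer of an element is non-abelian. -/
theorem exists_noncomm_pair (hxs : XS E z) [Finite G] (hcard : 32 ≤ Nat.card E) {y : G} (hy : y ∈ E) :
    ∃ a b : G, a ∈ E ∧ b ∈ E ∧ a * y = y * a ∧ b * y = y * b ∧ a * b = z * (b * a) := by
  classical
  have h1 := card_le_two_mul hxs hy
  set C : Subgroup G := E ⊓ centralizer {y} with hC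
  have hC16 : 16 ≤ Nat.card C := by omega
  -- choose a in C outside a set of four elements
  let S : Finset G := {1, z, y⁻¹, z * y⁻¹}
  have hScard : S.card ≤ 4 := by
    refine (Finset.card_insert_le _ _).trans ?_
    refine Nat.succ_le_succ ((Finset.card_insert_le _ _).trans ?_)
    refine Nat.succ_le_succ ((Finset.card_insert_le _ _).trans ?_)
    simp
  have hlt : (S : Set G).ncard < (C : Set G).ncard := by
    rw [Set.ncard_coe_finset]
    have : Nat.card C = (C : Set G).ncard := (Nat.card_coe_set_eq _)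
    omega
  obtain ⟨a, haC, haS⟩ := Set.exists_mem_notMem_of_ncard_lt_ncard hlt (Set.toFinite _)
  have haE : a ∈ E := haC.1
  have hay : a * y = y * a := mem_centralizer_singleton_iff.1 haC.2
  simp only [S, Finset.coe_insert, Finset.coe_singleton, Set.mem_insert_iff, Set.mem_singleton_iff,
    not_or] at haS
  obtain ⟨ha1, haz, hay1, hay2⟩ := haS
  by_contra hne
  push Not at hne
  have hall : ∀ r ∈ E, r * y = y * r → a * r = r * a := by
    intro r hr hry
    by_contra hnc
    rcases hxs.comm a haE r hr with h | h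
    · exact hnc h
    · exact hne a r haE hr hay hry h
  by_cases hc : ∀ e ∈ E, e * y = y * e
  · have : ∀ e ∈ E, a * e = e * a := fun e he => hall e he (hc e he)
    rcases hxs.center a haE this with h | h
    · exact ha1 h
    · exact haz h
  · push Not at hc
    obtain ⟨q, hq, hqy⟩ := hc
    have hqy' : q * y = z * (y * q) := by
      rcases hxs.comm q hq y hy with h | h
      · exact absurd h hqy
      · exact h
    rcases hxs.double_centralizer hq hy haE hqy' hall with h | h | h | h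
    · exact ha1 h
    · exact haz h
    · exact hay1 (eq_inv_of_mul_eq_one_left h)
    · apply hay2
      rw [← h, mul_inv_cancel_right]

theorem adjust (hxs : XS E z) {H K : Subgroup G} (hEH : E ≤ H) (hK2 : (K.subgroupOf H).index = 2)
    {e0 : G} (he0 : e0 ∈ E) (he0K : e0 ∉ K) (he0z : e0 * e0 = z) {a : G} (ha : a ∈ E)
    (hae : a * e0 = e0 * a) :
    (∃ f ∈ E, f * f = 1 ∧ f ∉ K) ∨
      ∃ a' ∈ E, a' ∈ K ∧ a' * a' = 1 ∧ a' * e0 = e0 * a' ∧ (a' = a ∨ a' = e0 * a) := by
  have hsq : (e0 * a) * (e0 * a) = (e0 * e0) * (a * a) := by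
    calc (e0 * a) * (e0 * a) = e0 * (a * e0) * a := by simp only [mul_assoc]
      _ = e0 * (e0 * a) * a := by rw [hae]
      _ = (e0 * e0) * (a * a) := by simp only [mul_assoc]
  have hmem := mul_mem_iff hK2 (hEH he0) (hEH ha)
  by_cases haK : a ∈ K
  · rcases hxs.sq a ha with h | h
    · exact Or.inr ⟨a, ha, haK, h, hae, Or.inl rfl⟩
    · left
      refine ⟨e0 * a, E.mul_mem he0 ha, ?_, ?_⟩
      · rw [hsq, he0z, h, hxs.z_sq]
      · rw [hmem]
        tauto
  · rcases hxs.sq a ha with h | h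
    · exact Or.inl ⟨a, ha, h, haK⟩
    · right
      refine ⟨e0 * a, E.mul_mem he0 ha, ?_, ?_, ?_, Or.inr rfl⟩
      · rw [hmem]
        tauto
      · rw [hsq, he0z, h, hxs.z_sq]
      · rw [mul_assoc, hae]

theorem exists_invol_not_mem (hxs : XS E z) [Finite G] (hcard : 32 ≤ Nat.card E)
    {H K : Subgroup G} (hEH : E ≤ H) (hK2 : (K.subgroupOf H).index = 2)
    {e0 : G} (he0 : e0 ∈ E) (he0K : e0 ∉ K) : ∃ f ∈ E, f * f = 1 ∧ f ∉ K := by
  rcases hxs.sq e0 he0 with h | h
  · exact ⟨e0, he0, h, he0K⟩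
  obtain ⟨a, b, ha, hb, hae, hbe, hab⟩ := exists_noncomm_pair hxs hcard he0
  have hze : e0 * z = z * e0 := hxs.z_comm e0 he0
  rcases adjust hxs hEH hK2 he0 he0K h ha hae with hdone | ⟨a', ha', ha'K, ha'2, ha'e, ha'eq⟩
  · exact hdone
  have hab' : a' * b = z * (b * a') := by
    rcases ha'eq with rfl | rfl
    · exact hab
    · calc (e0 * a) * b = e0 * (a * b) := by rw [mul_assoc]
        _ = e0 * (z * (b * a)) := by rw [hab]
        _ = z * ((e0 * b) * a) := by rw [← mul_assoc, hze]; simp only [mul_assoc]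
        _ = z * ((b * e0) * a) := by rw [hbe]
        _ = z * (b * (e0 * a)) := by simp only [mul_assoc]
  rcases adjust hxs hEH hK2 he0 he0K h hb hbe with hdone | ⟨b', hb', hb'K, hb'2, hb'e, hb'eq⟩
  · exact hdone
  have ha'b' : a' * b' = z * (b' * a') := by
    rcases hb'eq with rfl | rfl
    · exact hab'
    · calc a' * (e0 * b) = (a' * e0) * b := by rw [mul_assoc]
        _ = e0 * (a' * b) := by rw [ha'e, mul_assoc]
        _ = e0 * (z * (b * a')) := by rw [hab']
        _ = z * ((e0 * b) * a') := by rw [← mul_assoc, hze]; simp only [mul_assoc]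
  refine ⟨e0 * (a' * b'), E.mul_mem he0 (E.mul_mem ha' hb'), ?_, ?_⟩
  · have hcomm : (a' * b') * e0 = e0 * (a' * b') := by
      rw [mul_assoc, hb'e, ← mul_assoc, ha'e, mul_assoc]
    have hsq := hxs.sq_mul ha' hb'2 ha'b'
    calc (e0 * (a' * b')) * (e0 * (a' * b')) = e0 * ((a' * b') * e0) * (a' * b') := by
          simp only [mul_assoc]
      _ = e0 * (e0 * (a' * b')) * (a' * b') := by rw [hcomm]
      _ = (e0 * e0) * ((a' * b') * (a' * b')) := by simp only [mul_assoc]
      _ = 1 := by rw [hsq, ha'2, mul_one, h, hxs.z_sq]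
  · rw [mul_mem_iff hK2 (hEH he0) (H.mul_mem (hEH ha') (hEH hb'))]
    have : a' * b' ∈ K := K.mul_mem ha'K hb'K
    tauto

end XSfacts

section Main

open Cfsg.Agent.Lib.Helper19.TransferParity

/-- Main theorem: a large extraspecial `O_2(C(z))` of width at least two lies in every subgroup
of index two of `C(z)`, when `O^2(G) = G`. -/
theorem main [Finite G] (hres : Cfsg.pResidual 2 G = ⊤) (z : G) (hz : orderOf z = 2)
    (hext : Cfsg.IsExtraspecial 2 ↥(O2C z))
    (hcent : Subgroup.centralizer ((O2C z : Subgroup G) : Set G) ≤ O2C z)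
    (hcard : 32 ≤ Nat.card (O2C z))
    (K : Subgroup G)
    (hK2 : (K.subgroupOf (Subgroup.centralizer ({z} : Set G))).index = 2) :
    O2C z ≤ K := by
  classical
  set H : Subgroup G := Subgroup.centralizer ({z} : Set G) with hH
  have hxs : XS (O2C z) z := xs_of_hyp z hz hext
  have hEH : O2C z ≤ H := O2C_le z
  have hCz : ∀ c : G, (∀ k ∈ O2C z, c * k = k * c) → c ∈ O2C z := by
    intro c hc
    apply hcent
    rw [Subgroup.mem_centralizer_iff]
    intro k hk
    exact (hc k hk).symm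
  by_contra hnot
  obtain ⟨e0, he0, he0K⟩ := SetLike.not_le_iff_exists.1 hnot
  obtain ⟨f, hf, hf2, hfK⟩ := exists_invol_not_mem hxs hcard hEH hK2 he0 he0K
  -- z is a commutator, hence in K
  obtain ⟨a, b, ha, hb, haf, hbf, hab⟩ := exists_noncomm_pair hxs hcard hf
  have hzcomm : z = a * b * a⁻¹ * b⁻¹ := by
    rw [hab]; group
  have hzK : z ∈ K := by
    rw [hzcomm]
    exact comm_mem hK2 (hEH ha) (hEH hb)
  have hf1 : f ≠ 1 := fun h => hfK (h ▸ K.one_mem)
  have hfz : f ≠ z := fun h => hfK (h ▸ hzK)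
  obtain ⟨q, hq, hqf⟩ := hxs.exists_noncomm hf hf1 hfz
  -- the transfer argument
  set X : Subgroup G := O2C z ⊓ Subgroup.centralizer ({f} : Set G) with hX
  have hX2 : IsPGroup 2 X := (O2C_isPGroup z).to_le inf_le_left
  have hXf : ∀ x ∈ X, x * f = f * x := fun x hx => mem_centralizer_singleton_iff.1 hx.2
  have hXH : X ≤ H := inf_le_left.trans hEH
  have htr := hom_units_trivial hres
    (MonoidHom.transfer (signHomOfIndexTwo H (K.subgroupOf H) hK2)) f
  obtain ⟨g, hgH, hg1, hg2, hgX⟩ := exists_bad_fixed H K hK2 f hf2 htr X hX2 hXf hXH (hEH hf) hfK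
  have hgz : g * z ≠ z * g := fun h => hgH (mem_centralizer_singleton_iff.2 h)
  set t : G := g * z * g⁻¹ with ht
  have htX : ∀ x ∈ X, t * x = x * t := by
    intro x hx
    have h1 : (g⁻¹ * x * g) * z = z * (g⁻¹ * x * g) := mem_centralizer_singleton_iff.1 (hgX x hx)
    calc t * x = g * (z * (g⁻¹ * x * g)) * g⁻¹ := by rw [ht]; group
      _ = g * ((g⁻¹ * x * g) * z) * g⁻¹ := by rw [h1]
      _ = x * t := by rw [ht]; group
  have hzX : z ∈ X := ⟨hxs.z_mem, mem_centralizer_singleton_iff.2 (hxs.z_comm f hf).symm⟩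
  have htz : t * z = z * t := htX z hzX
  have ht_cases : t = 1 ∨ t = z ∨ t = f ∨ t = z * f := by
    apply hxs.centralizer_R hq hf hf2 hqf htz
    · intro k hk
      exact O2C_conj_mem htz hk
    · exact hCz
    · intro r hr hrf
      exact htX r ⟨hr, mem_centralizer_singleton_iff.2 hrf⟩
  rcases ht_cases with h | h | h | h
  · -- t = 1
    apply hxs.z_ne
    have : z = g⁻¹ * t * g := by rw [ht]; group
    rw [this, h]; group
  · -- t = z
    apply hgz
    calc g * z = (g * z * g⁻¹) * g := by group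
      _ = z * g := by rw [← ht, h]
  · -- t = f
    apply hg2
    have : g⁻¹ * f * g = z := by rw [← h, ht]; group
    rw [this]; exact hzK
  · -- t = z * f
    apply hg2
    have hqfq : q * f * q⁻¹ = z * f := by
      rw [hqf, mul_assoc, mul_assoc, mul_inv_cancel, mul_one]
    set g' : G := q⁻¹ * g with hg'
    have hg'f : g'⁻¹ * f * g' = z := by
      have h1 : f = q⁻¹ * t * q := by rw [h, ← hqfq]; group
      rw [h1, hg', ht]; group
    have hconjH : ∀ c : G, c * f = f * c → g'⁻¹ * c * g' ∈ H := by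
      intro c hc
      rw [hH, mem_centralizer_singleton_iff, ← hg'f]
      calc g'⁻¹ * c * g' * (g'⁻¹ * f * g') = g'⁻¹ * (c * f) * g' := by group
        _ = g'⁻¹ * (f * c) * g' := by rw [hc]
        _ = g'⁻¹ * f * g' * (g'⁻¹ * c * g') := by group
    have hzconj : g'⁻¹ * z * g' ∈ K := by
      have e : g'⁻¹ * z * g' =
          (g'⁻¹ * a * g') * (g'⁻¹ * b * g') * (g'⁻¹ * a * g')⁻¹ * (g'⁻¹ * b * g')⁻¹ := by
        rw [hzcomm]; group
      rw [e]
      exact comm_mem hK2 (hconjH a haf) (hconjH b hbf)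
    have hqinv : q⁻¹ * f * q = z * f := by
      have h1 : f * q = z * (q * f) := hxs.swap hqf
      calc q⁻¹ * f * q = q⁻¹ * (f * q) := by rw [mul_assoc]
        _ = q⁻¹ * (z * (q * f)) := by rw [h1]
        _ = z * f := by
          rw [← mul_assoc, hxs.z_comm _ ((O2C z).inv_mem hq), mul_assoc, inv_mul_cancel_left]
    have hfin : g⁻¹ * f * g = (g'⁻¹ * z * g') * z := by
      calc g⁻¹ * f * g = g'⁻¹ * (q⁻¹ * f * q) * g' := by rw [hg']; group
        _ = g'⁻¹ * (z * f) * g' := by rw [hqinv]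
        _ = (g'⁻¹ * z * g') * (g'⁻¹ * f * g') := by group
        _ = (g'⁻¹ * z * g') * z := by rw [hg'f]
    rw [hfin]
    exact K.mul_mem hzconj hzK

end Main

end Cfsg.Agent.Lib.Helper19.XSIndexTwo
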