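import Mathlib
import Cfsg.Agent.Lib.Helper28.XsOC
import Cfsg.Agent.Lib.helper15.QuadF2Plus

set_option autoImplicit false
open scoped commutatorElement

/-! The Heisenberg model of the extraspecial group `2^{1+2n}_+` on `VP n × ZMod 2`. -/

namespace Cfsg.Agent.Lib.Helper19.XsHeis

open Cfsg.Agent.Lib.helper15 Cfsg.Agent.Lib.Helper21 Cfsg.Agent.Lib.Helper28.XsO

/-- the bilinear cocycle `Σ u(inl i) v(inr i)` -/
def beta (n : ℕ) (u v : VP n) : ZMod 2 := ∑ i : Fin n, u (.inl i) * v (.inr i)

theorem beta_add_left (n : ℕ) (u u' v : VP n) : beta n (u + u') v = beta n u v + beta n u' v := by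
  unfold beta
  rw [← Finset.sum_add_distrib]
  exact Finset.sum_congr rfl fun i _ => by simp only [Pi.add_apply]; ring

theorem beta_add_right (n : ℕ) (u v v' : VP n) : beta n u (v + v') = beta n u v + beta n u v' := by
  unfold beta
  rw [← Finset.sum_add_distrib]
  exact Finset.sum_congr rfl fun i _ => by simp only [Pi.add_apply]; ring

theorem beta_zero_left (n : ℕ) (v : VP n) : beta n 0 v = 0 := by
  unfold beta; simp

theorem beta_zero_right (n : ℕ) (u : VP n) : beta n u 0 = 0 := by
  unfold beta; simp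

theorem beta_self (n : ℕ) (u : VP n) : beta n u u = QP n u := rfl

theorem BP_eq_beta (n : ℕ) (u v : VP n) : BP n u v = beta n u v + beta n v u := by
  rw [BP_eq]
  unfold beta
  rw [← Finset.sum_add_distrib]

theorem vp_add_self (n : ℕ) (u : VP n) : u + u = 0 := by
  funext i
  exact CharTwo.add_self_eq_zero (u i)

theorem z2_add_self (c : ZMod 2) : c + c = 0 := CharTwo.add_self_eq_zero c

/-- the Heisenberg group -/
@[ext] structure Hs (n : ℕ) where
  v : VP n
  c : ZMod 2

namespace Hs

variable {n : ℕ}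

instance : Mul (Hs n) := ⟨fun x y => ⟨x.v + y.v, x.c + y.c + beta n x.v y.v⟩⟩
instance : One (Hs n) := ⟨⟨0, 0⟩⟩
instance : Inv (Hs n) := ⟨fun x => ⟨x.v, x.c + beta n x.v x.v⟩⟩

@[simp] theorem mul_v (x y : Hs n) : (x * y).v = x.v + y.v := rfl
@[simp] theorem mul_c (x y : Hs n) : (x * y).c = x.c + y.c + beta n x.v y.v := rfl
@[simp] theorem one_v : (1 : Hs n).v = 0 := rfl
@[simp] theorem one_c : (1 : Hs n).c = 0 := rfl
@[simp] theorem inv_v (x : Hs n) : (x⁻¹).v = x.v := rfl
@[simp] theorem inv_c (x : Hs n) : (x⁻¹).c = x.c + beta n x.v x.v := rfl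

instance : Group (Hs n) where
  mul_assoc x y z := by
    ext1
    · simp [add_assoc]
    · simp only [mul_c, mul_v, beta_add_left, beta_add_right]; ring
  one_mul x := by
    ext1
    · simp
    · simp [beta_zero_left]
  mul_one x := by
    ext1
    · simp
    · simp [beta_zero_right]
  inv_mul_cancel x := by
    ext1
    · simp [vp_add_self]
    · simp only [mul_c, inv_c, inv_v, one_c]
      have := z2_add_self x.c
      have h2 := z2_add_self (beta n x.v x.v)
      linear_combination this + h2

/-- the central involution -/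
def zz : Hs n := ⟨0, 1⟩

instance : Fintype (Hs n) :=
  Fintype.ofEquiv (VP n × ZMod 2)
    { toFun := fun p => ⟨p.1, p.2⟩, invFun := fun x => (x.v, x.c), left_inv := fun _ => rfl,
      right_inv := fun _ => rfl }

theorem card_eq : Nat.card (Hs n) = 2 ^ (2 * n + 1) := by
  have e : Hs n ≃ VP n × ZMod 2 :=
    { toFun := fun x => (x.v, x.c), invFun := fun p => ⟨p.1, p.2⟩, left_inv := fun _ => rfl,
      right_inv := fun _ => rfl }
  rw [Nat.card_congr e, Nat.card_prod, Nat.card_eq_fintype_card, Nat.card_eq_fintype_card]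
  simp [ZMod.card, pow_succ, two_mul, pow_add]

theorem zz_ne_one : (zz : Hs n) ≠ 1 := by
  intro h
  have := congrArg Hs.c h
  simp [zz] at this

theorem eq_one_or_zz_of_v (x : Hs n) (hx : x.v = 0) : x = 1 ∨ x = zz := by
  have hc : x.c = 0 ∨ x.c = 1 := by
    generalize x.c = c
    revert c; decide
  rcases hc with hc | hc
  · left; ext1 <;> simp [hx, hc]
  · right; ext1 <;> simp [hx, hc, zz]

theorem comm_v (x y : Hs n) : (⁅x, y⁆).v = 0 := by
  simp only [commutatorElement_def, mul_v, inv_v]
  funext i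
  simp only [Pi.add_apply, Pi.zero_apply]
  have h1 := z2_add_self (x.v i)
  have h2 := z2_add_self (y.v i)
  linear_combination h1 + h2

theorem sq_v (x : Hs n) : (x ^ 2).v = 0 := by
  rw [pow_two, mul_v, vp_add_self]

theorem sq_c (x : Hs n) : (x ^ 2).c = QP n x.v := by
  rw [pow_two, mul_c, z2_add_self, zero_add, beta_self]

theorem mul_comm_iff (x y : Hs n) : x * y = y * x ↔ beta n x.v y.v = beta n y.v x.v := by
  constructor
  · intro h
    have := congrArg Hs.c h
    simp only [mul_c] at this
    linear_combination this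
  · intro h
    ext1
    · simp [add_comm]
    · simp only [mul_c]; linear_combination h

theorem beta_single_inl (i : Fin n) (v : VP n) : beta n (Pi.single (Sum.inl i) 1) v = v (.inr i) := by
  unfold beta
  rw [Finset.sum_eq_single i]
  · simp
  · intro j _ hj; simp [hj]
  · intro h; exact absurd (Finset.mem_univ _) h

theorem beta_single_inl' (i : Fin n) (v : VP n) : beta n v (Pi.single (Sum.inl i) 1) = 0 := by
  unfold beta
  apply Finset.sum_eq_zero
  intro j _
  simp

theorem beta_single_inr (i : Fin n) (v : VP n) : beta n v (Pi.single (Sum.inr i) 1) = v (.inl i) := by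
  unfold beta
  rw [Finset.sum_eq_single i]
  · simp
  · intro j _ hj; simp [hj]
  · intro h; exact absurd (Finset.mem_univ _) h

theorem beta_single_inr' (i : Fin n) (v : VP n) : beta n (Pi.single (Sum.inr i) 1) v = 0 := by
  unfold beta
  apply Finset.sum_eq_zero
  intro j _
  simp

theorem v_eq_zero_of_central (x : Hs n) (hx : ∀ y : Hs n, x * y = y * x) : x.v = 0 := by
  funext p
  rcases p with i | i
  · have := (mul_comm_iff x ⟨Pi.single (Sum.inr i) 1, 0⟩).mp (hx _)
    simp only [beta_single_inr, beta_single_inr'] at this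
    simpa using this
  · have := (mul_comm_iff x ⟨Pi.single (Sum.inl i) 1, 0⟩).mp (hx _)
    simp only [beta_single_inl, beta_single_inl'] at this
    simpa using this.symm

theorem xs2 (hn : 1 ≤ n) : XS2 (Hs n) zz where
  z_ne := zz_ne_one
  z_sq := by ext1 <;> simp [zz, beta_zero_left]; decide
  z_comm g := by
    rw [mul_comm_iff]
    simp [zz, beta_zero_left, beta_zero_right]
  center x hx := eq_one_or_zz_of_v x (v_eq_zero_of_central x hx)
  comm x y := eq_one_or_zz_of_v _ (comm_v x y)
  sq x := eq_one_or_zz_of_v _ (sq_v x)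
  nonab := by
    refine ⟨⟨Pi.single (Sum.inl ⟨0, by omega⟩) 1, 0⟩, ⟨Pi.single (Sum.inr ⟨0, by omega⟩) 1, 0⟩, ?_⟩
    rw [Ne, mul_comm_iff]
    simp only [beta_single_inl, beta_single_inr']
    simp

/-- the coordinate map -/
def cHom : Hs n →* Multiplicative (Fin n ⊕ Fin n → ZMod 2) where
  toFun x := Multiplicative.ofAdd x.v
  map_one' := rfl
  map_mul' _ _ := rfl

theorem cHom_apply (x : Hs n) : (cHom x).toAdd = x.v := rfl

theorem sq_eq_one_iff (x : Hs n) : x ^ 2 = 1 ↔ QP n x.v = 0 := by
  constructor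
  · intro h
    rw [← sq_c, h]; rfl
  · intro h
    ext1
    · exact sq_v x
    · rw [sq_c, h]; rfl

theorem mul_self_eq_one_iff (x : Hs n) : x * x = 1 ↔ QP n x.v = 0 := by
  rw [← pow_two, sq_eq_one_iff]

theorem qE_eq (x : Hs n) : qE x = QP n x.v := by
  have hc : QP n x.v = 0 ∨ QP n x.v = 1 := by
    generalize QP n x.v = c
    revert c; decide
  rcases hc with hc | hc
  · rw [hc, qE_eq_zero_iff, sq_eq_one_iff, hc]
  · rw [hc]
    unfold qE
    apply eps_of_ne
    rw [Ne, sq_eq_one_iff, hc]
    decide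

/-- standard coordinates -/
def coord : Coord (Hs n) zz (QP n) where
  c := cHom
  surj := fun m => ⟨⟨m.toAdd, 0⟩, rfl⟩
  ker := by
    intro x
    constructor
    · intro h
      apply eq_one_or_zz_of_v
      exact congrArg Multiplicative.toAdd h
    · rintro (rfl | rfl) <;> rfl
  sq := fun x => (qE_eq x).symm

end Hs

end Cfsg.Agent.Lib.Helper19.XsHeis
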