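import Mathlib
import Cfsg.Agent.Lib.Helper19.XsHeisA

set_option autoImplicit false

/-! The Schroedinger representation of the Heisenberg group over `ZMod 3`. -/

namespace Cfsg.Agent.Lib.Helper19.XsHeis

open Cfsg.Agent.Lib.helper15

/-- position space -/
abbrev AA (n : ℕ) : Type := Fin n → ZMod 2

/-- the representation space -/
abbrev VV (n : ℕ) : Type := AA n → ZMod 3

/-- the sign character `ZMod 2 → ZMod 3` -/
def sgn (c : ZMod 2) : ZMod 3 := if c = 0 then 1 else -1

theorem sgn_zero : sgn 0 = 1 := by decide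
theorem sgn_one : sgn 1 = -1 := by decide
theorem sgn_add (c d : ZMod 2) : sgn (c + d) = sgn c * sgn d := by revert c d; decide
theorem sgn_mul_self (c : ZMod 2) : sgn c * sgn c = 1 := by revert c; decide
theorem sgn_ne_zero (c : ZMod 2) : sgn c ≠ 0 := by revert c; decide

/-- position part -/
def pos {n : ℕ} (v : VP n) : AA n := fun i => v (.inl i)

/-- momentum pairing -/
def mom {n : ℕ} (y : AA n) (v : VP n) : ZMod 2 := ∑ i : Fin n, y i * v (.inr i)

theorem pos_add {n : ℕ} (u v : VP n) : pos (u + v) = pos u + pos v := rfl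
theorem pos_zero {n : ℕ} : pos (0 : VP n) = 0 := rfl

theorem mom_add_right {n : ℕ} (y : AA n) (u v : VP n) : mom y (u + v) = mom y u + mom y v := by
  unfold mom
  rw [← Finset.sum_add_distrib]
  exact Finset.sum_congr rfl fun i _ => by simp only [Pi.add_apply]; ring

theorem mom_add_left {n : ℕ} (y y' : AA n) (u : VP n) : mom (y + y') u = mom y u + mom y' u := by
  unfold mom
  rw [← Finset.sum_add_distrib]
  exact Finset.sum_congr rfl fun i _ => by simp only [Pi.add_apply]; ring

theorem mom_zero_right {n : ℕ} (y : AA n) : mom y (0 : VP n) = 0 := by unfold mom; simp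

theorem mom_pos {n : ℕ} (u v : VP n) : mom (pos u) v = beta n u v := rfl

/-- the operator of a Heisenberg element -/
def Pmap {n : ℕ} (x : Hs n) : VV n →ₗ[ZMod 3] VV n where
  toFun f := fun y => sgn (x.c + mom y x.v) * f (y + pos x.v)
  map_add' f g := by funext y; simp only [Pi.add_apply]; ring
  map_smul' r f := by funext y; simp only [Pi.smul_apply, smul_eq_mul, RingHom.id_apply]; ring

theorem Pmap_apply {n : ℕ} (x : Hs n) (f : VV n) (y : AA n) :
    Pmap x f y = sgn (x.c + mom y x.v) * f (y + pos x.v) := rfl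

theorem Pmap_mul {n : ℕ} (x x' : Hs n) : Pmap (x * x') = Pmap x ∘ₗ Pmap x' := by
  refine LinearMap.ext fun f => ?_
  funext y
  rw [LinearMap.comp_apply, Pmap_apply, Pmap_apply, Pmap_apply]
  simp only [Hs.mul_c, Hs.mul_v, pos_add, mom_add_right, mom_add_left, mom_pos, sgn_add]
  rw [add_assoc y]
  ring

theorem Pmap_one {n : ℕ} : Pmap (1 : Hs n) = LinearMap.id := by
  refine LinearMap.ext fun f => ?_
  funext y
  rw [Pmap_apply]
  simp [pos_zero, mom_zero_right, sgn_zero]

theorem Pmap_zz {n : ℕ} : Pmap (Hs.zz : Hs n) = -LinearMap.id := by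
  refine LinearMap.ext fun f => ?_
  funext y
  rw [Pmap_apply]
  simp [Hs.zz, pos_zero, mom_zero_right, sgn_one]

/-- the operators as linear automorphisms -/
def Pequiv {n : ℕ} (x : Hs n) : VV n ≃ₗ[ZMod 3] VV n :=
  LinearEquiv.ofLinearMap (Pmap x) (Pmap x⁻¹)
    (by rw [← Pmap_mul, mul_inv_cancel, Pmap_one])
    (by rw [← Pmap_mul, inv_mul_cancel, Pmap_one])

theorem Pequiv_coe {n : ℕ} (x : Hs n) : ((Pequiv x : VV n ≃ₗ[ZMod 3] VV n) : VV n →ₗ[ZMod 3] VV n) = Pmap x := rfl

/-- the Schroedinger representation -/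
def Psi {n : ℕ} : Hs n →* (VV n ≃ₗ[ZMod 3] VV n) where
  toFun := Pequiv
  map_one' := by
    apply LinearEquiv.toLinearMap_injective
    rw [Pequiv_coe, Pmap_one]; rfl
  map_mul' x y := by
    apply LinearEquiv.toLinearMap_injective
    rw [Pequiv_coe, Pmap_mul]; rfl

theorem Psi_coe {n : ℕ} (x : Hs n) : ((Psi x : VV n ≃ₗ[ZMod 3] VV n) : VV n →ₗ[ZMod 3] VV n) = Pmap x := rfl

end Cfsg.Agent.Lib.Helper19.XsHeis
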