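import Mathlib
import Cfsg.Agent.Lib.Helper19.XsHeisB

set_option autoImplicit false

/-! The Heisenberg operators form a basis of `End (VV n)`. -/

namespace Cfsg.Agent.Lib.Helper19.XsHeis

open Cfsg.Agent.Lib.helper15

variable {n : ℕ}

/-- the trace functional, written out -/
def tau : (VV n →ₗ[ZMod 3] VV n) →ₗ[ZMod 3] ZMod 3 where
  toFun A := ∑ y : AA n, A (Pi.single y 1) y
  map_add' A B := by simp [Finset.sum_add_distrib]
  map_smul' r A := by simp [Finset.mul_sum]

theorem tau_apply (A : VV n →ₗ[ZMod 3] VV n) : tau A = ∑ y : AA n, A (Pi.single y 1) y := rfl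

theorem three_zmod (S : ZMod 3) (h : S = -S) : S = 0 := by
  have h3 : (3 : ZMod 3) = 0 := by decide
  linear_combination 2 * h - S * h3

theorem mom_single (i : Fin n) (v : VP n) : mom (Pi.single i (1 : ZMod 2)) v = v (.inr i) := by
  unfold mom
  rw [Finset.sum_eq_single i]
  · simp
  · intro j _ hj; simp [hj]
  · intro h; exact absurd (Finset.mem_univ _) h

theorem sum_sgn_mom (v : VP n) (i : Fin n) (hi : v (.inr i) = 1) :
    ∑ y : AA n, sgn (mom y v) = 0 := by
  apply three_zmod
  have e : ∑ y : AA n, sgn (mom y v) = ∑ y : AA n, sgn (mom (y + Pi.single i 1) v) :=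
    (Fintype.sum_equiv (Equiv.addRight (Pi.single i (1 : ZMod 2)))
      (fun y => sgn (mom (y + Pi.single i 1) v)) (fun y => sgn (mom y v))
      (fun y => by simp only [Equiv.coe_addRight])).symm
  nth_rewrite 1 [e]
  rw [← Finset.sum_neg_distrib]
  apply Finset.sum_congr rfl
  intro y _
  rw [mom_add_left, mom_single, hi, sgn_add, sgn_one]
  ring

theorem tau_Pmap_of_ne (x : Hs n) (hx : x.v ≠ 0) : tau (Pmap x) = 0 := by
  rw [tau_apply]
  by_cases hp : pos x.v = 0
  · -- momentum part nonzero
    have : ∃ i : Fin n, x.v (.inr i) = 1 := by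
      by_contra hne
      apply hx
      funext p
      rcases p with i | i
      · exact congrFun hp i
      · have h1 : x.v (.inr i) ≠ 1 := fun h => hne ⟨i, h⟩
        show x.v (.inr i) = 0
        revert h1
        generalize x.v (.inr i) = c
        revert c; decide
    obtain ⟨i, hi⟩ := this
    have : ∀ y : AA n, Pmap x (Pi.single y 1) y = sgn x.c * sgn (mom y x.v) := by
      intro y
      rw [Pmap_apply, hp, add_zero, Pi.single_eq_same, mul_one, sgn_add]
    simp_rw [this]
    rw [← Finset.mul_sum, sum_sgn_mom x.v i hi, mul_zero]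
  · apply Finset.sum_eq_zero
    intro y _
    rw [Pmap_apply]
    have : y + pos x.v ≠ y := by
      intro h
      exact hp (add_left_cancel (a := y) (by rw [h, add_zero]))
    rw [Pi.single_eq_of_ne this, mul_zero]

theorem tau_Pmap_zero (c : ZMod 2) : tau (Pmap (⟨0, c⟩ : Hs n)) = sgn c * (2 : ZMod 3) ^ n := by
  rw [tau_apply]
  have : ∀ y : AA n, Pmap (⟨0, c⟩ : Hs n) (Pi.single y 1) y = sgn c := by
    intro y
    rw [Pmap_apply]
    simp [pos_zero, mom_zero_right]
  simp_rw [this]
  rw [Finset.sum_const, Finset.card_univ, nsmul_eq_mul, mul_comm]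
  congr 1
  simp [ZMod.card]

theorem two_pow_ne_zero (n : ℕ) : (2 : ZMod 3) ^ n ≠ 0 := by
  apply pow_ne_zero
  decide

/-- the family of operators `P_u` -/
def Pfam (u : VP n) : VV n →ₗ[ZMod 3] VV n := Pmap ⟨u, 0⟩

theorem Pfam_mul (u w : VP n) : Pfam u ∘ₗ Pfam w = Pmap ⟨u + w, beta n u w⟩ := by
  unfold Pfam
  rw [← Pmap_mul]
  congr 1
  ext1 <;> simp

theorem Pfam_linearIndependent : LinearIndependent (ZMod 3) (Pfam : VP n → _) := by
  rw [Fintype.linearIndependent_iff]
  intro g hg w
  have h1 : (∑ u : VP n, g u • Pfam u) * Pfam w = 0 := by rw [hg, zero_mul]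
  have h2 : tau ((∑ u : VP n, g u • Pfam u) * Pfam w) = g w * (sgn (beta n w w) * (2 : ZMod 3) ^ n) := by
    rw [Finset.sum_mul, map_sum]
    rw [Finset.sum_eq_single w]
    · rw [smul_mul_assoc, map_smul, Module.End.mul_eq_comp, Pfam_mul, smul_eq_mul]
      have : (⟨w + w, beta n w w⟩ : Hs n) = ⟨0, beta n w w⟩ := by rw [vp_add_self]
      rw [this, tau_Pmap_zero]
    · intro u _ hu
      rw [smul_mul_assoc, map_smul, Module.End.mul_eq_comp, Pfam_mul, tau_Pmap_of_ne, smul_zero]
      intro h
      apply hu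
      have h' : u + w = 0 := h
      calc u = u + (w + w) := by rw [vp_add_self, add_zero]
        _ = (u + w) + w := by rw [add_assoc]
        _ = w := by rw [h', zero_add]
    · intro h; exact absurd (Finset.mem_univ _) h
  rw [h1, map_zero] at h2
  have h3 := mul_eq_zero.mp h2.symm
  rcases h3 with h3 | h3
  · exact h3
  · exact absurd h3 (mul_ne_zero (sgn_ne_zero _) (two_pow_ne_zero n))

theorem card_VP : Fintype.card (VP n) = 2 ^ (n + n) := by
  simp [ZMod.card]

theorem finrank_End : Module.finrank (ZMod 3) (VV n →ₗ[ZMod 3] VV n) = 2 ^ (n + n) := by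
  rw [Module.finrank_linearMap, Module.finrank_fintype_fun_eq_card]
  simp [ZMod.card, pow_add]

/-- the Heisenberg basis of the endomorphism algebra -/
noncomputable def Pbasis : Module.Basis (VP n) (ZMod 3) (VV n →ₗ[ZMod 3] VV n) :=
  basisOfLinearIndependentOfCardEqFinrank Pfam_linearIndependent (by rw [card_VP, finrank_End])

theorem Pbasis_apply (u : VP n) : Pbasis u = Pfam u := by
  unfold Pbasis
  simp

end Cfsg.Agent.Lib.Helper19.XsHeis
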