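import Mathlib
import Cfsg.Agent.Lib.Helper19.XsHeisC

set_option autoImplicit false

/-! Centralizer of the Heisenberg operators, and realising automorphisms by conjugation. -/

namespace Cfsg.Agent.Lib.Helper19.XsHeis

open Cfsg.Agent.Lib.helper15 Cfsg.Agent.Lib.Helper21 Cfsg.Agent.Lib.Helper28.XsO

variable {n : ℕ}

theorem Pmap_central (c : ZMod 2) : Pmap (⟨0, c⟩ : Hs n) = sgn c • LinearMap.id := by
  refine LinearMap.ext fun f => ?_
  funext y
  rw [Pmap_apply]
  simp [pos_zero, mom_zero_right]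

theorem Hs_split (x : Hs n) : x = ⟨x.v, 0⟩ * ⟨0, x.c⟩ := by
  ext1 <;> simp [beta_zero_right]

theorem Pmap_split (x : Hs n) : Pmap x = sgn x.c • Pfam x.v := by
  conv_lhs => rw [Hs_split x]
  rw [Pmap_mul, Pmap_central]
  unfold Pfam
  rw [LinearMap.comp_smul, LinearMap.comp_id]

/-- an endomorphism commuting with all Heisenberg operators commutes with everything -/
theorem commute_all (T : Module.End (ZMod 3) (VV n))
    (hT : ∀ x : Hs n, T * Pmap x = Pmap x * T) (A : Module.End (ZMod 3) (VV n)) :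
    T * A = A * T := by
  have : LinearMap.mulLeft (ZMod 3) T = LinearMap.mulRight (ZMod 3) T := by
    apply Pbasis.ext
    intro u
    rw [Pbasis_apply]
    exact hT ⟨u, 0⟩
  exact LinearMap.congr_fun this A

theorem scalar_of_commute (T : Module.End (ZMod 3) (VV n))
    (hT : ∀ x : Hs n, T * Pmap x = Pmap x * T) : ∃ a : ZMod 3, T = a • LinearMap.id := by
  have hc : T ∈ Set.center (Module.End (ZMod 3) (VV n)) := by
    rw [Semigroup.mem_center_iff]
    intro A
    exact (commute_all T hT A).symm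
  obtain ⟨a, ha, h⟩ := Module.End.mem_center_iff.mp hc
  exact ⟨a, by rw [h, Module.End.smulLeft_eq]⟩

theorem Psi_injective : Function.Injective (Psi : Hs n →* _) := by
  rw [injective_iff_map_eq_one]
  intro x hx
  have h1 : Pmap x = LinearMap.id := by
    rw [← Psi_coe, hx]; rfl
  -- evaluate on the delta function at 0
  have h2 := congrFun (LinearMap.congr_fun h1 (Pi.single 0 1)) (pos x.v)
  rw [Pmap_apply, LinearMap.id_apply] at h2
  have hv : pos x.v = 0 := by
    by_contra hne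
    rw [Pi.single_eq_of_ne hne] at h2
    have : pos x.v + pos x.v = 0 := by
      funext i; exact CharTwo.add_self_eq_zero _
    rw [this, Pi.single_eq_same, mul_one] at h2
    exact sgn_ne_zero _ h2
  -- now the momentum part
  have h3 : ∀ y : AA n, sgn (x.c + mom y x.v) = 1 := by
    intro y
    have := congrFun (LinearMap.congr_fun h1 (Pi.single y 1)) y
    rw [Pmap_apply, LinearMap.id_apply, hv, add_zero, Pi.single_eq_same, mul_one] at this
    exact this
  have h4 : ∀ c : ZMod 2, sgn c = 1 → c = 0 := by decide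
  have hc : x.c = 0 := by
    have := h4 _ (h3 0)
    unfold mom at this
    simpa using this
  have hm : ∀ i : Fin n, x.v (.inr i) = 0 := by
    intro i
    have := h4 _ (h3 (Pi.single i 1))
    rw [hc, zero_add, mom_single] at this
    exact this
  ext1
  · funext p
    rcases p with i | i
    · exact congrFun hv i
    · exact hm i
  · exact hc

/-- a linear automorphism centralizing the Heisenberg group lies in its centre -/
theorem centralizer_Psi (T : VV n ≃ₗ[ZMod 3] VV n) (hT : ∀ x : Hs n, T * Psi x = Psi x * T) :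
    T = Psi 1 ∨ T = Psi Hs.zz := by
  have h1 : ∀ x : Hs n, (T : VV n →ₗ[ZMod 3] VV n) * Pmap x = Pmap x * (T : VV n →ₗ[ZMod 3] VV n) := by
    intro x
    have := congrArg (fun S : VV n ≃ₗ[ZMod 3] VV n => (S : VV n →ₗ[ZMod 3] VV n)) (hT x)
    exact this
  obtain ⟨a, ha⟩ := scalar_of_commute (T : VV n →ₗ[ZMod 3] VV n) h1
  have ha3 : ∀ b : ZMod 3, b = 0 ∨ b = 1 ∨ b = -1 := by decide
  rcases ha3 a with rfl | rfl | rfl
  · exfalso
    have : (T : VV n →ₗ[ZMod 3] VV n) (Pi.single 0 1) = 0 := by rw [ha]; simp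
    have h2 : (Pi.single 0 1 : VV n) = 0 := T.injective (by rw [map_zero]; exact this)
    have := congrFun h2 0
    simp at this
  · left
    apply LinearEquiv.toLinearMap_injective
    rw [ha, map_one, one_smul]; rfl
  · right
    apply LinearEquiv.toLinearMap_injective
    rw [ha, Psi_coe, Pmap_zz]
    module

/-- the linear extension of an endomorphism of the Heisenberg group -/
noncomputable def PhiLin (α : Hs n →* Hs n) :
    Module.End (ZMod 3) (VV n) →ₗ[ZMod 3] Module.End (ZMod 3) (VV n) :=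
  Pbasis.constr (ZMod 3) (fun u => Pmap (α ⟨u, 0⟩))

theorem PhiLin_Pfam (α : Hs n →* Hs n) (u : VP n) : PhiLin α (Pfam u) = Pmap (α ⟨u, 0⟩) := by
  unfold PhiLin
  rw [← Pbasis_apply, Module.Basis.constr_basis]

theorem alpha_central (α : Hs n →* Hs n) (hα : α Hs.zz = Hs.zz) (c : ZMod 2) :
    α ⟨0, c⟩ = ⟨0, c⟩ := by
  have hc : c = 0 ∨ c = 1 := by revert c; decide
  rcases hc with rfl | rfl
  · exact map_one α
  · exact hα

theorem PhiLin_Pmap (α : Hs n →* Hs n) (hα : α Hs.zz = Hs.zz) (x : Hs n) :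
    PhiLin α (Pmap x) = Pmap (α x) := by
  rw [Pmap_split, map_smul, PhiLin_Pfam]
  conv_rhs => rw [Hs_split x, map_mul, alpha_central α hα, Pmap_mul, Pmap_central]
  rw [LinearMap.comp_smul, LinearMap.comp_id]

theorem PhiLin_mul (α : Hs n →* Hs n) (hα : α Hs.zz = Hs.zz) (A B : Module.End (ZMod 3) (VV n)) :
    PhiLin α (A * B) = PhiLin α A * PhiLin α B := by
  -- first for `A` a Heisenberg operator
  have h1 : ∀ (x : Hs n) (B : Module.End (ZMod 3) (VV n)),
      PhiLin α (Pmap x * B) = PhiLin α (Pmap x) * PhiLin α B := by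
    intro x
    have : PhiLin α ∘ₗ LinearMap.mulLeft (ZMod 3) (Pmap x) =
        LinearMap.mulLeft (ZMod 3) (PhiLin α (Pmap x)) ∘ₗ PhiLin α := by
      apply Pbasis.ext
      intro u
      rw [Pbasis_apply]
      show PhiLin α (Pmap x * Pfam u) = PhiLin α (Pmap x) * PhiLin α (Pfam u)
      unfold Pfam
      rw [Module.End.mul_eq_comp, ← Pmap_mul, PhiLin_Pmap α hα, PhiLin_Pmap α hα, PhiLin_Pmap α hα,
        map_mul, Pmap_mul]
      rfl
    intro B
    exact LinearMap.congr_fun this B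
  have : PhiLin α ∘ₗ LinearMap.mulRight (ZMod 3) B =
      LinearMap.mulRight (ZMod 3) (PhiLin α B) ∘ₗ PhiLin α := by
    apply Pbasis.ext
    intro u
    rw [Pbasis_apply]
    exact h1 ⟨u, 0⟩ B
  exact LinearMap.congr_fun this A

theorem PhiLin_one (α : Hs n →* Hs n) (hα : α Hs.zz = Hs.zz) : PhiLin α 1 = 1 := by
  have : (1 : Module.End (ZMod 3) (VV n)) = Pmap 1 := by rw [Pmap_one]; rfl
  rw [this, PhiLin_Pmap α hα, map_one]

/-- the algebra endomorphism induced by an endomorphism of the Heisenberg group -/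
noncomputable def PhiAlg (α : Hs n →* Hs n) (hα : α Hs.zz = Hs.zz) :
    Module.End (ZMod 3) (VV n) →ₐ[ZMod 3] Module.End (ZMod 3) (VV n) :=
  AlgHom.ofLinearMap (PhiLin α) (PhiLin_one α hα) (PhiLin_mul α hα)

theorem PhiAlg_Pmap (α : Hs n →* Hs n) (hα : α Hs.zz = Hs.zz) (x : Hs n) :
    PhiAlg α hα (Pmap x) = Pmap (α x) := PhiLin_Pmap α hα x

theorem PhiAlg_comp (α β : Hs n →* Hs n) (hα : α Hs.zz = Hs.zz) (hβ : β Hs.zz = Hs.zz)
    (h : ∀ x, α (β x) = x) : (PhiAlg α hα).comp (PhiAlg β hβ) = AlgHom.id _ _ := by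
  apply AlgHom.toLinearMap_injective
  apply Pbasis.ext
  intro u
  rw [Pbasis_apply]
  show PhiAlg α hα (PhiAlg β hβ (Pfam u)) = Pfam u
  unfold Pfam
  rw [PhiAlg_Pmap, PhiAlg_Pmap, h]

/-- every automorphism of the Heisenberg group is induced by conjugation with a linear
automorphism of the representation space -/
theorem exists_conj (hn : 1 ≤ n) (α : Hs n ≃* Hs n) :
    ∃ T : VV n ≃ₗ[ZMod 3] VV n, ∀ x : Hs n, T * Psi x * T⁻¹ = Psi (α x) := by
  have hz : α.toMonoidHom Hs.zz = Hs.zz := Coord.aut_z (Hs.xs2 hn) α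
  have hz' : α.symm.toMonoidHom Hs.zz = Hs.zz := Coord.aut_z (Hs.xs2 hn) α.symm
  let F : Module.End (ZMod 3) (VV n) ≃ₐ[ZMod 3] Module.End (ZMod 3) (VV n) :=
    AlgEquiv.ofAlgHom (PhiAlg α.toMonoidHom hz) (PhiAlg α.symm.toMonoidHom hz')
      (PhiAlg_comp _ _ hz hz' (fun x => α.apply_symm_apply x))
      (PhiAlg_comp _ _ hz' hz (fun x => α.symm_apply_apply x))
  obtain ⟨T, hT⟩ := F.eq_linearEquivConjAlgEquiv
  refine ⟨T, fun x => ?_⟩
  apply LinearEquiv.toLinearMap_injective
  rw [Psi_coe]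
  have h1 : F (Pmap x) = Pmap (α x) := PhiAlg_Pmap α.toMonoidHom hz x
  rw [hT, LinearEquiv.conjAlgEquiv_apply] at h1
  rw [← h1]
  rfl

end Cfsg.Agent.Lib.Helper19.XsHeis
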