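import Mathlib
import Cfsg.Agent.Lib.Helper19.XsHeisD

set_option autoImplicit false

/-! The extension `2^{1+2n}_+ . S` inside `GL(VV n) × GL(VP n)`. -/

namespace Cfsg.Agent.Lib.Helper19.XsHeis

open Cfsg.Agent.Lib.helper15 Cfsg.Agent.Lib.Helper21 Cfsg.Agent.Lib.Helper28.XsO

variable {n : ℕ}

/-- the ambient group -/
abbrev Amb (n : ℕ) : Type := (VV n ≃ₗ[ZMod 3] VV n) × (VP n ≃ₗ[ZMod 2] VP n)

theorem Psi_central_comm (c : ZMod 2) (T : VV n ≃ₗ[ZMod 3] VV n) :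
    T * Psi (⟨0, c⟩ : Hs n) = Psi ⟨0, c⟩ * T := by
  apply LinearEquiv.toLinearMap_injective
  refine LinearMap.ext fun f => ?_
  show T (Pmap ⟨0, c⟩ f) = Pmap ⟨0, c⟩ (T f)
  rw [Pmap_central]
  simp

theorem Hs_eq_mul_central (x y : Hs n) (h : x.v = y.v) : x = y * ⟨0, x.c + y.c⟩ := by
  ext1
  · simp [h]
  · simp only [Hs.mul_c, beta_zero_right, add_zero]
    have := z2_add_self y.c
    linear_combination (-1) * this

/-- the carrier condition -/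
def RRcond (S : Subgroup (VP n ≃ₗ[ZMod 2] VP n)) (p : Amb n) : Prop :=
  p.2 ∈ S ∧ ∀ x : Hs n, ∃ y : Hs n, p.1 * Psi x * p.1⁻¹ = Psi y ∧ y.v = p.2 x.v

/-- the extension group, as a subgroup of the ambient group -/
def RR (S : Subgroup (VP n ≃ₗ[ZMod 2] VP n)) : Subgroup (Amb n) where
  carrier := {p | RRcond S p}
  one_mem' := by
    refine ⟨S.one_mem, fun x => ⟨x, ?_, rfl⟩⟩
    show (1 : VV n ≃ₗ[ZMod 3] VV n) * Psi x * 1⁻¹ = Psi x
    simp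
  mul_mem' := by
    rintro p q ⟨hp1, hp2⟩ ⟨hq1, hq2⟩
    refine ⟨S.mul_mem hp1 hq1, fun x => ?_⟩
    obtain ⟨y2, h2, h2v⟩ := hq2 x
    obtain ⟨y1, h1, h1v⟩ := hp2 y2
    refine ⟨y1, ?_, ?_⟩
    · show (p.1 * q.1) * Psi x * (p.1 * q.1)⁻¹ = Psi y1
      rw [← h1, ← h2]
      group
    · rw [h1v, h2v]; rfl
  inv_mem' := by
    rintro p ⟨hp1, hp2⟩
    refine ⟨S.inv_mem hp1, fun x => ?_⟩
    obtain ⟨y', h', hv'⟩ := hp2 ⟨p.2⁻¹ x.v, 0⟩
    have hv : y'.v = x.v := by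
      rw [hv']
      show p.2 (p.2⁻¹ x.v) = x.v
      rw [← LinearEquiv.mul_apply, mul_inv_cancel]; rfl
    have hx : x = y' * ⟨0, x.c + y'.c⟩ := Hs_eq_mul_central x y' hv.symm
    refine ⟨⟨p.2⁻¹ x.v, 0⟩ * ⟨0, x.c + y'.c⟩, ?_, ?_⟩
    · show p.1⁻¹ * Psi x * (p.1⁻¹)⁻¹ = _
      rw [inv_inv, map_mul]
      conv_lhs => rw [hx, map_mul, ← h']
      have hc := Psi_central_comm (x.c + y'.c) p.1
      calc p.1⁻¹ * (p.1 * Psi ⟨p.2⁻¹ x.v, 0⟩ * p.1⁻¹ * Psi ⟨0, x.c + y'.c⟩) * p.1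
          = Psi ⟨p.2⁻¹ x.v, 0⟩ * (p.1⁻¹ * (Psi ⟨0, x.c + y'.c⟩ * p.1)) := by group
        _ = Psi ⟨p.2⁻¹ x.v, 0⟩ * (p.1⁻¹ * (p.1 * Psi ⟨0, x.c + y'.c⟩)) := by rw [hc]
        _ = _ := by group
    · simp

theorem mem_RR (S : Subgroup (VP n ≃ₗ[ZMod 2] VP n)) (p : Amb n) : p ∈ RR S ↔ RRcond S p := Iff.rfl

theorem conj_v (x y : Hs n) : (x * y * x⁻¹).v = y.v := by
  simp only [Hs.mul_v, Hs.inv_v]
  funext i
  simp only [Pi.add_apply]
  have := z2_add_self (x.v i)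
  linear_combination this

/-- the embedding of the Heisenberg group -/
def iotaQ (S : Subgroup (VP n ≃ₗ[ZMod 2] VP n)) : Hs n →* RR S where
  toFun x := ⟨(Psi x, 1), by
    refine ⟨S.one_mem, fun y => ⟨x * y * x⁻¹, ?_, ?_⟩⟩
    · show Psi x * Psi y * (Psi x)⁻¹ = _
      rw [map_mul, map_mul, map_inv]
    · rw [conj_v]; rfl⟩
  map_one' := by
    apply Subtype.ext
    show ((Psi 1, 1) : Amb n) = 1
    rw [map_one]; rfl
  map_mul' x y := by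
    apply Subtype.ext
    show ((Psi (x * y), 1) : Amb n) = (Psi x, 1) * (Psi y, 1)
    rw [map_mul]
    ext1
    · rfl
    · simp

theorem iotaQ_injective (S : Subgroup (VP n ≃ₗ[ZMod 2] VP n)) : Function.Injective (iotaQ S) := by
  intro x y h
  have := congrArg (fun r : RR S => (r : Amb n).1) h
  exact Psi_injective this

/-- the projection onto `S` -/
def projS (S : Subgroup (VP n ≃ₗ[ZMod 2] VP n)) : RR S →* S where
  toFun p := ⟨(p : Amb n).2, p.2.1⟩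
  map_one' := rfl
  map_mul' _ _ := rfl

theorem projS_apply (S : Subgroup (VP n ≃ₗ[ZMod 2] VP n)) (p : RR S) :
    ((projS S p : S) : VP n ≃ₗ[ZMod 2] VP n) = (p : Amb n).2 := rfl

end Cfsg.Agent.Lib.Helper19.XsHeis
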