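import Mathlib
import Cfsg.Agent.Lib.Helper19.XsHeisE

set_option autoImplicit false

/-! Kernel and image of the projection `RR S → S`. -/

namespace Cfsg.Agent.Lib.Helper19.XsHeis

open Cfsg.Agent.Lib.helper15 Cfsg.Agent.Lib.Helper21 Cfsg.Agent.Lib.Helper28.XsO

variable {n : ℕ}

theorem projS_surjective (hn : 1 ≤ n) (S : Subgroup (VP n ≃ₗ[ZMod 2] VP n))
    (hS : ∀ σ ∈ S, ∀ v, QP n (σ v) = QP n v) : Function.Surjective (projS S) := by
  rintro ⟨σ, hσ⟩
  obtain ⟨α, hα⟩ := Coord.exists_lift (Hs.xs2 hn) Hs.coord σ.toAddEquiv (hS σ hσ)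
  obtain ⟨T, hT⟩ := exists_conj hn α
  have hmem : ((T, σ) : Amb n) ∈ RR S := by
    refine ⟨hσ, fun x => ⟨α x, hT x, ?_⟩⟩
    exact hα x
  exact ⟨⟨(T, σ), hmem⟩, rfl⟩

theorem ker_projS_le (hn : 1 ≤ n) (S : Subgroup (VP n ≃ₗ[ZMod 2] VP n)) :
    (projS S).ker ≤ (iotaQ S).range := by
  rintro ⟨⟨T, τ⟩, hp⟩ hker
  have hτ : τ = 1 := by
    have := congrArg (fun s : S => (s : VP n ≃ₗ[ZMod 2] VP n)) (MonoidHom.mem_ker.mp hker)
    exact this
  subst hτ
  have hp2 : ∀ x : Hs n, ∃ y : Hs n, T * Psi x * T⁻¹ = Psi y ∧ y.v = x.v := hp.2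
  choose f hf hfv using hp2
  have hmul : ∀ x y, f (x * y) = f x * f y := by
    intro x y
    apply Psi_injective
    rw [map_mul, ← hf, ← hf, ← hf, map_mul]
    group
  have hinj : Function.Injective f := by
    intro x y hxy
    apply Psi_injective
    have h1 : T * Psi x * T⁻¹ = T * Psi y * T⁻¹ := by rw [hf, hf, hxy]
    exact mul_left_cancel (mul_right_cancel h1)
  have hbij : Function.Bijective f := Finite.injective_iff_bijective.mp hinj
  let α : Hs n ≃* Hs n := MulEquiv.ofBijective (MonoidHom.mk' f hmul) hbij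
  have hα : ∀ x, α x = f x := fun x => rfl
  have h1 : Hs.coord.glHom (Hs.xs2 hn) α = 1 := by
    rw [Coord.glHom_eq_one_iff]
    intro x
    show Multiplicative.ofAdd (α x).v = Multiplicative.ofAdd x.v
    rw [hα, hfv]
  have h2 : α ∈ Cfsg.Inn (Hs n) := by
    rw [← Coord.glHom_ker (Hs.xs2 hn) Hs.coord]
    exact h1
  obtain ⟨g, hg⟩ := h2
  have hg' : ∀ x, f x = g * x * g⁻¹ := by
    intro x
    rw [← hα, ← hg]; rfl
  -- the quotient centralizes
  have hcen : ∀ x : Hs n, ((Psi g)⁻¹ * T) * Psi x = Psi x * ((Psi g)⁻¹ * T) := by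
    intro x
    have h3 : T * Psi x * T⁻¹ = Psi g * Psi x * (Psi g)⁻¹ := by
      rw [hf, hg', map_mul, map_mul, map_inv]
    have h4 : T * Psi x = Psi g * Psi x * (Psi g)⁻¹ * T := by
      rw [← h3]; group
    calc (Psi g)⁻¹ * T * Psi x = (Psi g)⁻¹ * (T * Psi x) := by group
      _ = (Psi g)⁻¹ * (Psi g * Psi x * (Psi g)⁻¹ * T) := by rw [h4]
      _ = _ := by group
  rcases centralizer_Psi _ hcen with h5 | h5
  · refine ⟨g, ?_⟩
    apply Subtype.ext
    show ((Psi g, 1) : Amb n) = (T, 1)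
    have : T = Psi g := by
      have := congrArg (fun X => Psi g * X) h5
      simp only [map_one, mul_one] at this
      rw [← this]; group
    rw [this]
  · refine ⟨g * Hs.zz, ?_⟩
    apply Subtype.ext
    show ((Psi (g * Hs.zz), 1) : Amb n) = (T, 1)
    have : T = Psi (g * Hs.zz) := by
      rw [map_mul, ← h5]; group
    rw [this]

theorem range_iotaQ_le (S : Subgroup (VP n ≃ₗ[ZMod 2] VP n)) :
    (iotaQ S).range ≤ (projS S).ker := by
  rintro _ ⟨x, rfl⟩
  rw [MonoidHom.mem_ker]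
  apply Subtype.ext
  rfl

theorem ker_projS (hn : 1 ≤ n) (S : Subgroup (VP n ≃ₗ[ZMod 2] VP n)) :
    (projS S).ker = (iotaQ S).range :=
  le_antisymm (ker_projS_le hn S) (range_iotaQ_le S)

end Cfsg.Agent.Lib.Helper19.XsHeis
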