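import Mathlib
import Cfsg.Agent.Lib.Helper19.XsHeisF

set_option autoImplicit false
open scoped commutatorElement

/-! The extension theorem in standard coordinates. -/

namespace Cfsg.Agent.Lib.Helper19.XsHeis

open Cfsg.Agent.Lib.helper15 Cfsg.Agent.Lib.Helper21 Cfsg.Agent.Lib.Helper28.XsO

/-- transport of the extraspecial axioms along an isomorphism -/
theorem xs2_of_mulEquiv {E E' : Type*} [Group E] [Group E'] {z : E} (h : XS2 E z) (e : E ≃* E') :
    XS2 E' (e z) where
  z_ne := by
    intro h1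
    apply h.z_ne
    apply e.injective
    rw [h1, map_one]
  z_sq := by rw [← map_mul, h.z_sq, map_one]
  z_comm g := by
    have := h.z_comm (e.symm g)
    have h2 := congrArg e this
    rwa [map_mul, map_mul, e.apply_symm_apply] at h2
  center x hx := by
    have : ∀ y : E, e.symm x * y = y * e.symm x := by
      intro y
      apply e.injective
      rw [map_mul, map_mul, e.apply_symm_apply]
      exact hx (e y)
    rcases h.center _ this with h1 | h1
    · left
      have := congrArg e h1
      rwa [e.apply_symm_apply, map_one] at this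
    · right
      have := congrArg e h1
      rwa [e.apply_symm_apply] at this
  comm x y := by
    have : ⁅x, y⁆ = e ⁅e.symm x, e.symm y⁆ := by
      rw [map_commutatorElement, e.apply_symm_apply, e.apply_symm_apply]
    rw [this]
    rcases h.comm (e.symm x) (e.symm y) with h1 | h1
    · left; rw [h1, map_one]
    · right; rw [h1]
  sq x := by
    have : x ^ 2 = e ((e.symm x) ^ 2) := by rw [map_pow, e.apply_symm_apply]
    rw [this]
    rcases h.sq (e.symm x) with h1 | h1
    · left; rw [h1, map_one]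
    · right; rw [h1]
  nonab := by
    obtain ⟨x, y, hxy⟩ := h.nonab
    refine ⟨e x, e y, ?_⟩
    intro h1
    apply hxy
    apply e.injective
    rw [map_mul, map_mul, h1]

variable {n : ℕ}

instance finite_glVV : Finite (VV n ≃ₗ[ZMod 3] VV n) :=
  Finite.of_injective (fun f => (f : VV n → VV n)) DFunLike.coe_injective

instance finite_glVP : Finite (VP n ≃ₗ[ZMod 2] VP n) :=
  Finite.of_injective (fun f => (f : VP n → VP n)) DFunLike.coe_injective

/-- the extension theorem for the standard hyperbolic quadratic space -/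
theorem std_model (hn : 1 ≤ n) (S : Subgroup (VP n ≃ₗ[ZMod 2] VP n))
    (hS : ∀ σ ∈ S, ∀ v, QP n (σ v) = QP n v) :
    ∃ (R : Type) (_ : Group R) (_ : Finite R) (Q : Subgroup R) (hN : Q.Normal) (e : R ⧸ Q ≃* S)
      (χ : ↥Q →* Multiplicative (VP n)),
      Cfsg.IsExtraspecial 2 ↥Q ∧ Nat.card ↥Q = 2 ^ (2 * n + 1) ∧ Function.Surjective χ ∧
      χ.ker = Subgroup.center ↥Q ∧
      (∀ (r : R) (a : ↥Q), χ ⟨r * a * r⁻¹, hN.conj_mem (a : R) a.2 r⟩ =
        Multiplicative.ofAdd (((e (r : R ⧸ Q) : S) : VP n ≃ₗ[ZMod 2] VP n)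
          (Multiplicative.toAdd (χ a)))) ∧
      ∀ a : ↥Q, a * a = 1 ↔ QP n (Multiplicative.toAdd (χ a)) = 0 := by
  have hker := ker_projS hn S
  have hN : ((iotaQ S).range).Normal := hker ▸ MonoidHom.normal_ker (projS S)
  let eQ : Hs n ≃* (iotaQ S).range := MonoidHom.ofInjective (iotaQ_injective S)
  have heQ : ∀ x : Hs n, ((eQ x : (iotaQ S).range) : RR S) = iotaQ S x := fun x =>
    MonoidHom.ofInjective_apply (iotaQ_injective S)
  let χ : (iotaQ S).range →* Multiplicative (VP n) := Hs.cHom.comp eQ.symm.toMonoidHom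
  have hχ : ∀ x : Hs n, χ (eQ x) = Multiplicative.ofAdd x.v := by
    intro x
    show Hs.cHom (eQ.symm (eQ x)) = _
    rw [eQ.symm_apply_apply]; rfl
  have := hN
  let e : RR S ⧸ (iotaQ S).range ≃* S :=
    (QuotientGroup.quotientMulEquivOfEq hker.symm).trans
      (QuotientGroup.quotientKerEquivOfSurjective (projS S) (projS_surjective hn S hS))
  have he : ∀ r : RR S, e (r : RR S ⧸ (iotaQ S).range) = projS S r := fun r => rfl
  have hxs : XS2 ↥(iotaQ S).range (eQ Hs.zz) := xs2_of_mulEquiv (Hs.xs2 hn) eQ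
  refine ⟨RR S, inferInstance, inferInstance, (iotaQ S).range, hN, e, χ, hxs.isExtraspecial, ?_,
    ?_, ?_, ?_, ?_⟩
  · rw [← Hs.card_eq (n := n)]
    exact Nat.card_congr eQ.symm.toEquiv
  · intro m
    refine ⟨eQ ⟨m.toAdd, 0⟩, ?_⟩
    rw [hχ]; rfl
  · ext a
    obtain ⟨x, rfl⟩ := eQ.surjective a
    rw [MonoidHom.mem_ker, hχ, hxs.mem_center_iff]
    constructor
    · intro h
      have hv : x.v = 0 := congrArg Multiplicative.toAdd h
      rcases Hs.eq_one_or_zz_of_v x hv with rfl | rfl
      · left; exact map_one eQ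
      · right; rfl
    · rintro (h | h)
      · have : x = 1 := eQ.injective (by rw [h, map_one])
        rw [this]; rfl
      · have : x = Hs.zz := eQ.injective h
        rw [this]; rfl
  · intro r a
    obtain ⟨x, rfl⟩ := eQ.surjective a
    obtain ⟨⟨T, σ⟩, hr⟩ := r
    obtain ⟨y, hy, hyv⟩ := hr.2 x
    have hconj : (⟨⟨(T, σ), hr⟩ * ((eQ x : (iotaQ S).range) : RR S) * ⟨(T, σ), hr⟩⁻¹,
        hN.conj_mem _ (eQ x).2 _⟩ : (iotaQ S).range) = eQ y := by
      apply Subtype.ext
      rw [heQ y]
      show (⟨(T, σ), hr⟩ : RR S) * ((eQ x : (iotaQ S).range) : RR S) * ⟨(T, σ), hr⟩⁻¹ = iotaQ S y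
      rw [heQ x]
      apply Subtype.ext
      show ((T, σ) : Amb n) * (Psi x, 1) * (T, σ)⁻¹ = (Psi y, 1)
      ext1
      · exact hy
      · show σ * 1 * σ⁻¹ = 1
        group
    rw [hconj, hχ, hχ, he]
    show Multiplicative.ofAdd y.v = Multiplicative.ofAdd (σ x.v)
    rw [hyv]
  · intro a
    obtain ⟨x, rfl⟩ := eQ.surjective a
    rw [hχ, ← map_mul, toAdd_ofAdd, ← Hs.mul_self_eq_one_iff]
    constructor
    · intro h
      exact eQ.injective (by rw [h, map_one])
    · intro h
      rw [h, map_one]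

end Cfsg.Agent.Lib.Helper19.XsHeis
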