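import Mathlib
import Cfsg.Agent.Lib.helper15.QuadF2Plus

set_option autoImplicit false

/-! Witt decomposition over `ZMod 2`: a non-degenerate quadratic space of dimension `2n` with a
totally singular `n`-space is isometric to the standard hyperbolic space. -/

namespace Cfsg.Agent.Lib.Helper19.XsWitt

open Cfsg.Agent.Lib.helper15

variable {U : Type*} [AddCommGroup U] [Module (ZMod 2) U] [Module.Finite (ZMod 2) U]

theorem QP_eq_dot (n : ℕ) (v : VP n) :
    QP n v = (fun i => v (Sum.inr i)) ⬝ᵥ (fun i => v (Sum.inl i)) := by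
  unfold QP Cfsg.quadFormPlus dotProduct
  exact Finset.sum_congr rfl fun i _ => mul_comm _ _

theorem exists_std_coords (n : ℕ) (hn : Module.finrank (ZMod 2) U = 2 * n)
    (q : QuadraticForm (ZMod 2) U) (hnd : (QuadraticMap.polarBilin q).Nondegenerate)
    (hplus : ∃ W : Submodule (ZMod 2) U, Module.finrank (ZMod 2) ↥W = n ∧ ∀ w ∈ W, q w = 0) :
    ∃ θ : U ≃ₗ[ZMod 2] VP n, ∀ u, QP n (θ u) = q u := by
  obtain ⟨W, hW, hq0⟩ := hplus
  let B : LinearMap.BilinForm (ZMod 2) U := QuadraticMap.polarBilin q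
  have hB : B.Nondegenerate := hnd
  have hBapp : ∀ x y, B x y = QuadraticMap.polar q x y := fun x y =>
    QuadraticMap.polarBilin_apply_apply q x y
  have hBsymm : ∀ x y, B x y = B y x := by
    intro x y
    rw [hBapp, hBapp, QuadraticMap.polar_comm]
  have hqadd : ∀ x y, q (x + y) = q x + q y + B x y := by
    intro x y
    rw [hBapp]
    exact QuadraticMap.map_add q x y
  -- the basis of `W`
  let bW : Module.Basis (Fin n) (ZMod 2) W := Module.finBasisOfFinrankEq (ZMod 2) W hW
  let iW : (Fin n → ZMod 2) →ₗ[ZMod 2] U := W.subtype ∘ₗ bW.equivFun.symm.toLinearMap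
  have hiW_mem : ∀ a, iW a ∈ W := fun a => (bW.equivFun.symm a).2
  have hiW_q : ∀ a, q (iW a) = 0 := fun a => hq0 _ (hiW_mem a)
  have hiW_B : ∀ a a', B (iW a) (iW a') = 0 := by
    intro a a'
    have h1 := hqadd (iW a) (iW a')
    rw [← map_add, hiW_q, hiW_q, hiW_q] at h1
    simpa using h1.symm
  have hiW_inj : Function.Injective iW := by
    intro a a' h
    have : bW.equivFun.symm a = bW.equivFun.symm a' := Subtype.ext h
    exact bW.equivFun.symm.injective this
  -- extend the coordinates of `W` to `U`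
  obtain ⟨G, hG⟩ := LinearMap.exists_extend (bW.equivFun.toLinearMap)
  have hG_iW : ∀ a, G (iW a) = a := by
    intro a
    show G (W.subtype (bW.equivFun.symm a)) = a
    rw [← LinearMap.comp_apply, hG]
    exact bW.equivFun.apply_symm_apply a
  -- the dual vectors
  let F : (Fin n → ZMod 2) →ₗ[ZMod 2] Module.Dual (ZMod 2) U :=
    { toFun := fun b =>
        { toFun := fun u => b ⬝ᵥ G u
          map_add' := fun u u' => by rw [map_add, dotProduct_add]
          map_smul' := fun r u => by rw [map_smul, dotProduct_smul]; rfl }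
      map_add' := fun b b' => by
        refine LinearMap.ext fun u => ?_
        exact add_dotProduct b b' (G u)
      map_smul' := fun r b => by
        refine LinearMap.ext fun u => ?_
        show (r • b) ⬝ᵥ G u = r • (b ⬝ᵥ G u)
        rw [smul_dotProduct] }
  have hF : ∀ b u, F b u = b ⬝ᵥ G u := fun b u => rfl
  let iU : (Fin n → ZMod 2) →ₗ[ZMod 2] U := (B.toDual hB).symm.toLinearMap ∘ₗ F
  have hiU : ∀ b u, B (iU b) u = b ⬝ᵥ G u := by
    intro b u
    show B ((B.toDual hB).symm (F b)) u = _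
    rw [LinearMap.BilinForm.apply_toDual_symm_apply, hF]
  -- the correction
  obtain ⟨A', hA'⟩ := LinearMap.BilinMap.toQuadraticMap_surjective (q.comp iU)
  have hA'' : ∀ b, A' b b = q (iU b) := by
    intro b
    rw [← LinearMap.BilinMap.toQuadraticMap_apply, hA', QuadraticMap.comp_apply]
  let ψ : (Fin n → ZMod 2) →ₗ[ZMod 2] (Fin n → ZMod 2) :=
    { toFun := fun b i => A' b (Pi.single i 1)
      map_add' := fun b b' => by funext i; simp
      map_smul' := fun r b => by funext i; simp }
  have hψ : ∀ b, b ⬝ᵥ ψ b = q (iU b) := by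
    intro b
    rw [← hA'']
    have hb : b = ∑ i, b i • (Pi.single i (1 : ZMod 2) : Fin n → ZMod 2) := by
      funext j
      simp [Finset.sum_apply, Pi.single_apply]
    conv_rhs => rw [hb, map_sum]
    unfold dotProduct
    apply Finset.sum_congr rfl
    intro i _
    rw [map_smul, smul_eq_mul, ← hb]
    rfl
  let s : (Fin n → ZMod 2) →ₗ[ZMod 2] U := iU + iW ∘ₗ ψ
  have hs : ∀ b, s b = iU b + iW (ψ b) := fun b => rfl
  have hs_W : ∀ b a, B (s b) (iW a) = b ⬝ᵥ a := by
    intro b a
    rw [hs, map_add, LinearMap.add_apply, hiU, hG_iW, hiW_B, add_zero]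
  have hs_q : ∀ b, q (s b) = 0 := by
    intro b
    rw [hs, hqadd, hiW_q, hiU, hG_iW, hψ, add_zero]
    exact CharTwo.add_self_eq_zero _
  -- the isometry
  let Ξ : VP n →ₗ[ZMod 2] U :=
    iW ∘ₗ (LinearMap.funLeft (ZMod 2) (ZMod 2) Sum.inl) +
      s ∘ₗ (LinearMap.funLeft (ZMod 2) (ZMod 2) Sum.inr)
  have hΞ : ∀ v : VP n, Ξ v = iW (fun i => v (Sum.inl i)) + s (fun i => v (Sum.inr i)) :=
    fun v => rfl
  have hΞq : ∀ v : VP n, q (Ξ v) = QP n v := by
    intro v
    rw [hΞ, hqadd, hiW_q, hs_q, hBsymm, hs_W, QP_eq_dot]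
    simp
  have hΞinj : Function.Injective Ξ := by
    rw [← LinearMap.ker_eq_bot, LinearMap.ker_eq_bot']
    intro v hv
    have hb : (fun i => v (Sum.inr i)) = (0 : Fin n → ZMod 2) := by
      funext i
      have h1 : B (Ξ v) (iW (Pi.single i 1)) = 0 := by rw [hv]; simp
      rw [hΞ, map_add, LinearMap.add_apply, hiW_B, hs_W, zero_add, dotProduct_single, mul_one] at h1
      exact h1
    have ha : (fun i => v (Sum.inl i)) = (0 : Fin n → ZMod 2) := by
      rw [hΞ, hb, map_zero, add_zero] at hv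
      exact hiW_inj (by rw [hv, map_zero])
    funext p
    rcases p with i | i
    · exact congrFun ha i
    · exact congrFun hb i
  have hfr : Module.finrank (ZMod 2) (VP n) = Module.finrank (ZMod 2) U := by
    rw [hn, Module.finrank_fintype_fun_eq_card]
    simp [two_mul]
  let θ' : VP n ≃ₗ[ZMod 2] U := LinearEquiv.ofInjectiveOfFinrankEq Ξ hΞinj hfr
  have hθ' : ∀ v, θ' v = Ξ v := fun v => rfl
  refine ⟨θ'.symm, fun u => ?_⟩
  rw [← hΞq, ← hθ', θ'.apply_symm_apply]

end Cfsg.Agent.Lib.Helper19.XsWitt
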